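import Mathlib

/-!
# Auxiliary group theory for the Brauer–Suzuki–Wall theorem
-/

set_option autoImplicit false
set_option linter.unusedSectionVars false
set_option linter.unreachableTactic false
set_option linter.unusedTactic false

namespace Cfsg.Agent.Lib.Zass.BSWAux

open Subgroup

universe u

/-- A `p`-element of a group where every `Sylow r` (`r ≠ p`) satisfies Burnside's condition lies in
a normal `p`-subgroup. -/
theorem exists_pgroup_of_transfer {Γ : Type u} [Group Γ] [Finite Γ] (p : ℕ) [Fact p.Prime]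
    (h : ∀ (r : ℕ) [Fact r.Prime], r ≠ p → ∀ T : Sylow r Γ,
      normalizer (T : Subgroup Γ) ≤ centralizer ((T : Subgroup Γ) : Set Γ)) :
    ∃ W : Subgroup Γ, IsPGroup p W ∧ ∀ x : Γ, (∃ n : ℕ, x ^ p ^ n = 1) → x ∈ W := by
  classical
  let Pr := {r : ℕ // r.Prime ∧ r ≠ p}
  have hfact : ∀ r : Pr, Fact (r.1).Prime := fun r => ⟨r.2.1⟩
  let φ : ∀ r : Pr, Γ →* (default : Sylow r.1 Γ) := fun r =>
    haveI := hfact r
    MonoidHom.transferSylow (default : Sylow r.1 Γ) (h r.1 r.2.2 default)
  refine ⟨⨅ r : Pr, (φ r).ker, ?_, ?_⟩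
  · rw [IsPGroup.iff_card]
    refine ⟨_, Nat.eq_prime_pow_of_unique_prime_dvd Nat.card_pos.ne' ?_⟩
    intro d hd hdvd
    by_contra hne
    have : Fact d.Prime := ⟨hd⟩
    obtain ⟨x, hx⟩ := exists_prime_orderOf_dvd_card' (G := ↥(⨅ r : Pr, (φ r).ker)) d hdvd
    have hx1 : (x : Γ) ∈ (φ ⟨d, hd, hne⟩).ker := by
      have := x.2
      rw [Subgroup.mem_iInf] at this
      exact this ⟨d, hd, hne⟩
    have hx2 : orderOf (x : Γ) = d := by rw [← Subgroup.orderOf_coe] at hx; exact hx
    have hdvd2 : d ∣ Nat.card (φ ⟨d, hd, hne⟩).ker := by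
      have := Subgroup.orderOf_dvd_natCard _ hx1
      rwa [hx2] at this
    exact MonoidHom.not_dvd_card_ker_transferSylow (default : Sylow d Γ) (h d hne default) hdvd2
  · rintro x ⟨n, hn⟩
    rw [Subgroup.mem_iInf]
    intro r
    have := hfact r
    rw [MonoidHom.mem_ker]
    set y := φ r x with hy
    obtain ⟨m, hm⟩ := (default : Sylow r.1 Γ).isPGroup' y
    have h1 : y ^ p ^ n = 1 := by
      rw [hy, ← map_pow, hn, map_one]
    have hcop : Nat.Coprime (p ^ n) (r.1 ^ m) :=
      Nat.Coprime.pow _ _ ((Nat.coprime_primes (Fact.out) r.2.1).2 (Ne.symm r.2.2))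
    have h2 := pow_gcd_eq_one.2 ⟨h1, hm⟩
    rw [Nat.Coprime.gcd_eq_one hcop, pow_one] at h2
    exact_mod_cast h2

/-- A prime order element with prime not dividing the index lies in a conjugate of the subgroup. -/
theorem exists_conj_mem {G : Type u} [Group G] [Finite G] (S : Subgroup G) {w : G} {r : ℕ}
    (hr : r.Prime) (hw : w ^ r = 1) (hnd : ¬ r ∣ S.index) : ∃ g : G, g⁻¹ * w * g ∈ S := by
  have : Fact r.Prime := ⟨hr⟩
  have hZ : IsPGroup r (zpowers w) := by
    refine IsPGroup.of_card_dvd_pow (n := 1) ?_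
    rw [Nat.card_zpowers, pow_one]
    exact orderOf_dvd_of_pow_eq_one hw
  obtain ⟨c, hc⟩ := hZ.nonempty_fixed_point_of_prime_not_dvd_card (G ⧸ S) hnd
  obtain ⟨g, rfl⟩ := QuotientGroup.mk_surjective c
  refine ⟨g, ?_⟩
  have h1 := hc ⟨w, mem_zpowers w⟩
  have h2 : w • (g : G ⧸ S) = (g : G ⧸ S) := h1
  rw [MulAction.Quotient.smul_coe] at h2
  have h3 := QuotientGroup.eq.1 h2.symm
  simpa [mul_assoc] using h3

/-- A free action: the order of the group divides the order of the set. -/
theorem card_dvd_of_free {M X : Type*} [Group M] [Finite M] [Finite X] [MulAction M X]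
    (hfree : ∀ (m : M) (x : X), m • x = x → m = 1) : Nat.card M ∣ Nat.card X := by
  classical
  have := Fintype.ofFinite X
  have := Fintype.ofFinite M
  have horb : ∀ x : X, Nat.card (MulAction.orbit M x) = Nat.card M := by
    intro x
    refine (Nat.card_congr (Equiv.ofBijective (fun m : M => (⟨m • x, MulAction.mem_orbit x m⟩ :
      MulAction.orbit M x)) ⟨?_, ?_⟩)).symm
    · intro m m' h
      have h1 : m • x = m' • x := congrArg Subtype.val h
      have h2 : (m'⁻¹ * m) • x = x := by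
        rw [mul_smul, h1, inv_smul_smul]
      have h3 := hfree _ _ h2
      have h4 : m = m' * (m'⁻¹ * m) := by group
      rw [h4, h3, mul_one]
    · rintro ⟨y, m, rfl⟩
      exact ⟨m, rfl⟩
  have e := MulAction.selfEquivSigmaOrbits M X
  rw [Nat.card_congr e, Nat.card_sigma]
  refine Finset.dvd_sum fun ω _ => ?_
  rw [horb]

end Cfsg.Agent.Lib.Zass.BSWAux
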