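import Mathlib
import Cfsg.Prelude.Def_LieExceptional
import Cfsg.Prelude.Def_Solvable
import Cfsg.Agent.Lib.Char.FrobeniusKernel
import Cfsg.Agent.Lib.Frobenius.Basic
import Cfsg.Agent.Lib.Frobenius.Invariant
import Cfsg.Agent.S0042

/-!
# Zassenhaus groups: the kernel of a point stabiliser

For a finite Zassenhaus group `G` on `Ω`: the identity and the elements of `G_a` with no further fixed
point form a subgroup `H_a` (Frobenius); it is regular on `Ω ∖ {a}`, normal in `G_a`, nilpotent.
-/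

set_option autoImplicit false

namespace Cfsg.Agent.Lib.Zass.Basic

open MulAction Cfsg
open scoped Pointwise

universe u v

variable {G : Type u} {Ω : Type v} [Group G] [MulAction G Ω]

/-- unpacking: two-transitivity. -/
theorem two_trans (hZ : IsZassenhausGroup G Ω) {x y x' y' : Ω} (hxy : x ≠ y) (hxy' : x' ≠ y') :
    ∃ g : G, g • x = x' ∧ g • y = y' :=
  (MulAction.is_two_pretransitive_iff.mp hZ.2.1) hxy hxy'

/-- unpacking: no non-identity element fixes three points. -/
theorem eq_one_of_three (hZ : IsZassenhausGroup G Ω) {g : G} {a b c : Ω} (hab : a ≠ b) (hbc : b ≠ c)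
    (hac : a ≠ c) (ha : g • a = a) (hb : g • b = b) (hc : g • c = c) : g = 1 :=
  hZ.2.2.1 g a b c hab hbc hac ha hb hc

theorem faithful (hZ : IsZassenhausGroup G Ω) : FaithfulSMul G Ω := hZ.1

/-- A group with a Zassenhaus action on a finite set is finite. -/
theorem finite_of_finite (hZ : IsZassenhausGroup G Ω) [Finite Ω] : Finite G := by
  haveI := hZ.1
  exact Finite.of_injective (MulAction.toPermHom G Ω) (fun x y h => by
    apply hZ.1.eq_of_smul_eq_smul
    intro c
    exact congrArg (fun f : Equiv.Perm Ω => f c) h)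

theorem exists_ne_one_fix (hZ : IsZassenhausGroup G Ω) :
    ∃ g : G, g ≠ 1 ∧ ∃ a b : Ω, a ≠ b ∧ g • a = a ∧ g • b = b := hZ.2.2.2.1

/-- Any two points are fixed by a non-identity element. -/
theorem exists_ne_one_fix' (hZ : IsZassenhausGroup G Ω) {a b : Ω} (hab : a ≠ b) :
    ∃ g : G, g ≠ 1 ∧ g • a = a ∧ g • b = b := by
  obtain ⟨g, hg, a₀, b₀, hab₀, ha₀, hb₀⟩ := exists_ne_one_fix hZ
  obtain ⟨k, hk1, hk2⟩ := two_trans hZ hab₀ hab
  refine ⟨k * g * k⁻¹, ?_, ?_, ?_⟩
  · intro h
    apply hg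
    have : g = k⁻¹ * (k * g * k⁻¹) * k := by group
    rw [this, h]; group
  · rw [← hk1, mul_smul, mul_smul, inv_smul_smul, ha₀]
  · rw [← hk2, mul_smul, mul_smul, inv_smul_smul, hb₀]

/-- There is a third point. -/
theorem exists_third (hZ : IsZassenhausGroup G Ω) {a b : Ω} (hab : a ≠ b) :
    ∃ c : Ω, c ≠ a ∧ c ≠ b := by
  by_contra hcon
  push Not at hcon
  obtain ⟨g, hg, ha, hb⟩ := exists_ne_one_fix' hZ hab
  apply hg
  apply hZ.1.eq_of_smul_eq_smul
  intro c
  rw [one_smul]
  by_cases hca : c = a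
  · rw [hca, ha]
  · rw [hcon c hca, hb]

/-- `G_a` is transitive on the points other than `a`. -/
theorem exists_stab_smul (hZ : IsZassenhausGroup G Ω) {a b c : Ω} (hb : b ≠ a) (hc : c ≠ a) :
    ∃ g : G, g • a = a ∧ g • b = c := by
  obtain ⟨g, h1, h2⟩ := two_trans hZ (x := a) (y := b) (x' := a) (y' := c) hb.symm hc.symm
  exact ⟨g, h1, h2⟩

/-- The two-point stabiliser as a subgroup of the point stabiliser is a Frobenius complement. -/
theorem isFrobeniusComplement (hZ : IsZassenhausGroup G Ω) {a b : Ω} (hab : a ≠ b) :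
    IsFrobeniusComplement ((stabilizer G b).subgroupOf (stabilizer G a)) := by
  refine ⟨?_, ?_, ?_⟩
  · obtain ⟨g, hg, ha, hb⟩ := exists_ne_one_fix' hZ hab
    intro h
    have : (⟨g, ha⟩ : stabilizer G a) ∈ (stabilizer G b).subgroupOf (stabilizer G a) := by
      rw [Subgroup.mem_subgroupOf]; exact hb
    rw [h, Subgroup.mem_bot] at this
    exact hg (congrArg Subtype.val this)
  · intro h
    obtain ⟨c, hca, hcb⟩ := exists_third hZ hab
    obtain ⟨g, hga, hgb⟩ := exists_stab_smul hZ hab.symm hca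
    have : (⟨g, hga⟩ : stabilizer G a) ∈ (stabilizer G b).subgroupOf (stabilizer G a) := by
      rw [h]; trivial
    rw [Subgroup.mem_subgroupOf] at this
    have h2 : g • b = b := this
    rw [h2] at hgb
    exact hcb hgb.symm
  · intro g hg
    rw [eq_bot_iff]
    rintro x ⟨hx1, hx2⟩
    rw [Subgroup.mem_bot]
    have hx1' : (x : G) • b = b := hx1
    have hx3 : (MulAut.conj g)⁻¹ x ∈ (stabilizer G b).subgroupOf (stabilizer G a) := by
      have hx2' : x ∈ MulAut.conj g • (stabilizer G b).subgroupOf (stabilizer G a) := hx2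
      exact Subgroup.mem_pointwise_smul_iff_inv_smul_mem.mp hx2'
    rw [Subgroup.mem_subgroupOf] at hx3
    have hx3' : ((g⁻¹ * x * g : stabilizer G a) : G) • b = b := by
      have : (MulAut.conj g)⁻¹ x = g⁻¹ * x * g := by
        simp [MulAut.conj_apply, MulAut.conj_symm_apply]
      rw [← this]; exact hx3
    have hg' : (g : G) • b ≠ b := by
      intro h
      apply hg
      rw [Subgroup.mem_subgroupOf]
      exact h
    have hx4 : (x : G) • ((g : G) • b) = (g : G) • b := by
      have : ((g⁻¹ * x * g : stabilizer G a) : G) = (g : G)⁻¹ * x * g := by simp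
      rw [this, mul_smul, mul_smul] at hx3'
      exact (inv_smul_eq_iff.mp hx3')
    have hgba : (g : G) • b ≠ a := by
      intro h
      apply hab
      have h3 : (g : G) • a = a := g.2
      have : (g : G) • b = (g : G) • a := by rw [h, h3]
      exact (smul_left_cancel _ this).symm
    apply Subtype.ext
    exact eq_one_of_three hZ hab hg'.symm hgba.symm x.2 hx1' hx4

/-- Membership in the Frobenius kernel of `G_a`. -/
theorem mem_frob_iff (hZ : IsZassenhausGroup G Ω) {a b : Ω} (hab : a ≠ b) (x : stabilizer G a) :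
    x ∈ frobeniusKernel ((stabilizer G b).subgroupOf (stabilizer G a)) ↔
      (x : G) = 1 ∨ ∀ c, (x : G) • c = c → c = a := by
  rw [Cfsg.Agent.Lib.Frobenius.Basic.mem_frobeniusKernel_iff]
  constructor
  · rintro (h1 | h2)
    · left
      simp [h1]
    · right
      intro c hc
      by_contra hca
      obtain ⟨y, hya, hyb⟩ := exists_stab_smul hZ hab.symm hca
      apply h2 ⟨y, hya⟩
      rw [Subgroup.mem_subgroupOf]
      show (y⁻¹ * (x : G) * y) • b = b
      rw [mul_smul, mul_smul, hyb, hc, inv_smul_eq_iff, hyb]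
  · rintro (h1 | h2)
    · left
      exact Subtype.ext h1
    · right
      intro y hy
      rw [Subgroup.mem_subgroupOf] at hy
      have hy' : ((y : G)⁻¹ * x * y) • b = b := hy
      rw [mul_smul, mul_smul, inv_smul_eq_iff] at hy'
      have := h2 _ hy'
      have h3 : (y : G) • a = a := y.2
      apply hab
      have : (y : G) • b = (y : G) • a := by rw [this, h3]
      exact (smul_left_cancel _ this).symm

theorem exists_other (hZ : IsZassenhausGroup G Ω) (a : Ω) : ∃ b : Ω, a ≠ b := by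
  obtain ⟨g₀, hg₀, a₀, b₀, hab₀, -, -⟩ := exists_ne_one_fix hZ
  by_cases h : a = a₀
  · exact ⟨b₀, h ▸ hab₀⟩
  · exact ⟨a₀, h⟩

/-- The kernel of the point stabiliser: existence. -/
theorem exists_kernel (hZ : IsZassenhausGroup G Ω) [Finite Ω] (a : Ω) :
    ∃ H : Subgroup G, ∀ g, g ∈ H ↔ g • a = a ∧ (g = 1 ∨ ∀ c, g • c = c → c = a) := by
  classical
  haveI := finite_of_finite hZ
  obtain ⟨b, hb⟩ := exists_other hZ a
  obtain ⟨N, hN, -, -⟩ := Cfsg.Agent.Lib.Char.FrobeniusKernel.frobenius_theorem _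
    (isFrobeniusComplement hZ hb)
  refine ⟨N.map (stabilizer G a).subtype, ?_⟩
  intro g
  constructor
  · rintro ⟨x, hx, rfl⟩
    refine ⟨x.2, ?_⟩
    have hx' : x ∈ (N : Set (stabilizer G a)) := hx
    rw [hN, mem_frob_iff hZ hb] at hx'
    exact hx'
  · rintro ⟨hga, hg⟩
    refine ⟨⟨g, hga⟩, ?_, rfl⟩
    have : (⟨g, hga⟩ : stabilizer G a) ∈ (N : Set (stabilizer G a)) := by
      rw [hN, mem_frob_iff hZ hb]
      exact hg
    exact this

/-- The Frobenius kernel `H_a` of `G_a`: the identity and the elements whose only fixed point is `a`. -/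
noncomputable def kernel (hZ : IsZassenhausGroup G Ω) [Finite Ω] (a : Ω) : Subgroup G :=
  (exists_kernel hZ a).choose

section Kernel

variable (hZ : IsZassenhausGroup G Ω) [Finite Ω]
include hZ

theorem mem_kernel {a : Ω} {g : G} :
    g ∈ kernel hZ a ↔ g • a = a ∧ (g = 1 ∨ ∀ c, g • c = c → c = a) :=
  (exists_kernel hZ a).choose_spec g

theorem kernel_smul {a : Ω} {u : G} (hu : u ∈ kernel hZ a) : u • a = a :=
  ((mem_kernel hZ).mp hu).1

theorem kernel_le (a : Ω) : kernel hZ a ≤ stabilizer G a := fun _ hu => kernel_smul hZ hu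

theorem kernel_fix {a c : Ω} {u : G} (hu : u ∈ kernel hZ a) (hu1 : u ≠ 1) (hc : u • c = c) : c = a := by
  rcases ((mem_kernel hZ).mp hu).2 with h | h
  · exact absurd h hu1
  · exact h c hc

theorem mem_kernel_of {a : Ω} {u : G} (ha : u • a = a) (hfix : ∀ c, u • c = c → c = a) :
    u ∈ kernel hZ a := (mem_kernel hZ).mpr ⟨ha, Or.inr hfix⟩

/-- The unique fixed point. -/
theorem kernel_eq_of_mem {a c : Ω} {u : G} (hu : u ∈ kernel hZ a) (hu1 : u ≠ 1) (hc : u ∈ kernel hZ c) :
    c = a := kernel_fix hZ hu hu1 (kernel_smul hZ hc)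

theorem conj_mem_kernel (g : G) {a : Ω} {u : G} (hu : u ∈ kernel hZ a) :
    g * u * g⁻¹ ∈ kernel hZ (g • a) := by
  rw [mem_kernel]
  refine ⟨by rw [mul_smul, mul_smul, inv_smul_smul, kernel_smul hZ hu], ?_⟩
  by_cases hu1 : u = 1
  · left; simp [hu1]
  · right
    intro c hc
    have h1 : u • (g⁻¹ • c) = g⁻¹ • c := by
      rw [mul_smul, mul_smul, smul_eq_iff_eq_inv_smul] at hc
      exact hc
    have := kernel_fix hZ hu hu1 h1
    rw [← this, smul_inv_smul]

theorem conj_mem_kernel_of_fix {g : G} {a : Ω} (hg : g • a = a) {u : G} (hu : u ∈ kernel hZ a) :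
    g * u * g⁻¹ ∈ kernel hZ a := by
  have := conj_mem_kernel hZ g hu
  rwa [hg] at this

/-- Factorisation of `G_a`: kernel times two-point stabiliser. -/
theorem exists_decomp {a b : Ω} (hab : a ≠ b) {y : G} (hy : y • a = a) :
    ∃ u ∈ kernel hZ a, ∃ x : G, x • a = a ∧ x • b = b ∧ y = u * x := by
  classical
  haveI := finite_of_finite hZ
  obtain ⟨N, hN, -, hc⟩ := Cfsg.Agent.Lib.Char.FrobeniusKernel.frobenius_theorem _
    (isFrobeniusComplement hZ hab)
  obtain ⟨⟨⟨n, hnN⟩, ⟨h, hH⟩⟩, hnh⟩ := hc.2 (⟨y, hy⟩ : stabilizer G a)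
  have hn : n ∈ (N : Set (stabilizer G a)) := hnN
  rw [hN, mem_frob_iff hZ hab] at hn
  have hh : (h : G) • b = b := Subgroup.mem_subgroupOf.mp hH
  refine ⟨(n : G), (mem_kernel hZ).mpr ⟨n.2, hn⟩, (h : G), h.2, hh, ?_⟩
  have := congrArg Subtype.val hnh
  exact this.symm

/-- The kernel is transitive on the other points. -/
theorem exists_kernel_smul {a c d : Ω} (hc : c ≠ a) (hd : d ≠ a) :
    ∃ u ∈ kernel hZ a, u • c = d := by
  obtain ⟨y, hya, hyc⟩ := exists_stab_smul hZ hc hd
  obtain ⟨u, hu, x, -, hxc, rfl⟩ := exists_decomp hZ hc.symm hya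
  exact ⟨u, hu, by rw [← hyc, mul_smul, hxc]⟩

/-- The kernel is free on the other points. -/
theorem kernel_eq_of_smul_eq {a c : Ω} (hc : c ≠ a) {u v : G} (hu : u ∈ kernel hZ a)
    (hv : v ∈ kernel hZ a) (h : u • c = v • c) : u = v := by
  by_contra hne
  have h1 : v⁻¹ * u ≠ 1 := by
    intro h2
    apply hne
    have : u = v * (v⁻¹ * u) := by group
    rw [this, h2, mul_one]
  have h2 : (v⁻¹ * u) • c = c := by rw [mul_smul, h, inv_smul_smul]
  exact hc (kernel_fix hZ ((kernel hZ a).mul_mem ((kernel hZ a).inv_mem hv) hu) h1 h2)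

theorem smul_ne_of_kernel {a c : Ω} (hc : c ≠ a) {u : G} (hu : u ∈ kernel hZ a) (hu1 : u ≠ 1) :
    u • c ≠ c := fun h => hc (kernel_fix hZ hu hu1 h)

theorem smul_ne_self_of_kernel {a c : Ω} (hc : c ≠ a) {u : G} (hu : u ∈ kernel hZ a) :
    u • c ≠ a := by
  intro h
  apply hc
  have : u • c = u • a := by rw [h, kernel_smul hZ hu]
  exact smul_left_cancel _ this

/-- `|H_a| + 1 = |Ω|`. -/
theorem card_kernel_add_one (a : Ω) : Nat.card (kernel hZ a) + 1 = Nat.card Ω := by
  classical
  obtain ⟨b, hb⟩ := exists_other hZ a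
  haveI := Fintype.ofFinite Ω
  have hbij : Function.Bijective (fun u : kernel hZ a =>
      (⟨(u : G) • b, smul_ne_self_of_kernel hZ hb.symm u.2⟩ : {c : Ω // c ≠ a})) := by
    constructor
    · intro u v huv
      apply Subtype.ext
      exact kernel_eq_of_smul_eq hZ hb.symm u.2 v.2 (congrArg Subtype.val huv)
    · rintro ⟨d, hd⟩
      obtain ⟨u, hu, hud⟩ := exists_kernel_smul hZ hb.symm hd
      exact ⟨⟨u, hu⟩, Subtype.ext hud⟩
  rw [Nat.card_congr (Equiv.ofBijective _ hbij)]
  rw [Nat.card_eq_fintype_card, Nat.card_eq_fintype_card]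
  have h1 : Fintype.card {c : Ω // c ≠ a} = Fintype.card Ω - 1 := by
    rw [Fintype.card_subtype_compl, Fintype.card_subtype_eq]
  have h2 : 0 < Fintype.card Ω := Fintype.card_pos_iff.mpr ⟨a⟩
  omega

/-- Any subgroup with the properties of `H_a` equals it. -/
theorem eq_kernel {a : Ω} (H : Subgroup G) (hHa : H ≤ stabilizer G a)
    (hHcard : Nat.card H + 1 = Nat.card Ω) (hHfix : ∀ u ∈ H, u ≠ 1 → ∀ c : Ω, u • c = c → c = a) :
    H = kernel hZ a := by
  haveI := finite_of_finite hZ
  apply Subgroup.eq_of_le_of_card_ge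
  · intro u hu
    rw [mem_kernel]
    refine ⟨hHa hu, ?_⟩
    by_cases hu1 : u = 1
    · exact Or.inl hu1
    · exact Or.inr (hHfix u hu hu1)
  · have := card_kernel_add_one hZ a
    omega

/-- `H_a` is nilpotent. -/
theorem kernel_nilpotent (a : Ω) : Group.IsNilpotent (kernel hZ a) := by
  classical
  haveI := finite_of_finite hZ
  obtain ⟨b, hb⟩ := exists_other hZ a
  obtain ⟨N, hN, -, hnil⟩ := Cfsg.Agent.S0042.result _ (isFrobeniusComplement hZ hb)
  have heq : kernel hZ a = N.map (stabilizer G a).subtype := by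
    ext g
    rw [mem_kernel]
    constructor
    · rintro ⟨hga, hg⟩
      refine ⟨⟨g, hga⟩, ?_, rfl⟩
      have : (⟨g, hga⟩ : stabilizer G a) ∈ (N : Set (stabilizer G a)) := by
        rw [hN, mem_frob_iff hZ hb]
        exact hg
      exact this
    · rintro ⟨x, hx, rfl⟩
      refine ⟨x.2, ?_⟩
      have hx' : x ∈ (N : Set (stabilizer G a)) := hx
      rw [hN, mem_frob_iff hZ hb] at hx'
      exact hx'
  rw [heq]
  exact nilpotent_of_mulEquiv (N.equivMapOfInjective _ (Subgroup.subtype_injective _))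

/-- The kernel is nontrivial. -/
theorem kernel_ne_bot (a : Ω) : kernel hZ a ≠ ⊥ := by
  intro h
  obtain ⟨b, hb⟩ := exists_other hZ a
  obtain ⟨c, hca, hcb⟩ := exists_third hZ hb
  obtain ⟨u, hu, huc⟩ := exists_kernel_smul hZ hb.symm hca
  rw [h, Subgroup.mem_bot] at hu
  rw [hu, one_smul] at huc
  exact hcb huc.symm

/-- `H_{g a} = g H_a g⁻¹`. -/
theorem kernel_smul_eq (g : G) (a : Ω) :
    kernel hZ (g • a) = (kernel hZ a).map (MulAut.conj g).toMonoidHom := by
  ext u
  constructor
  · intro hu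
    refine ⟨g⁻¹ * u * g, ?_, by simp [MulAut.conj_apply]; group⟩
    have := conj_mem_kernel hZ g⁻¹ hu
    rwa [inv_smul_smul, inv_inv] at this
  · rintro ⟨v, hv, rfl⟩
    exact conj_mem_kernel hZ g hv

end Kernel

/-! ### The order formula -/

section Card

variable (hZ : IsZassenhausGroup G Ω) [Finite Ω]
include hZ

/-- `|G_a| = |H_a| · |G_{ab}|`. -/
theorem card_stabilizer {a b : Ω} (hab : a ≠ b) :
    Nat.card (stabilizer G a) =
      Nat.card (kernel hZ a) * Nat.card ↥(stabilizer G a ⊓ stabilizer G b) := by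
  classical
  haveI := finite_of_finite hZ
  -- the map `H_a × G_{ab} → G_a`
  have hbij : Function.Bijective (fun p : kernel hZ a × ↥(stabilizer G a ⊓ stabilizer G b) =>
      (⟨(p.1 : G) * (p.2 : G), by
        show ((p.1 : G) * (p.2 : G)) • a = a
        rw [mul_smul, p.2.2.1, kernel_smul hZ p.1.2]⟩ : stabilizer G a)) := by
    constructor
    · rintro ⟨u, x⟩ ⟨v, y⟩ h
      have h' : (u : G) * x = v * y := congrArg Subtype.val h
      have hxb : (x : G) • b = b := x.2.2
      have hyb : (y : G) • b = b := y.2.2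
      have huv : (u : G) = v := by
        apply kernel_eq_of_smul_eq hZ hab.symm u.2 v.2
        have := congrArg (fun g : G => g • b) h'
        simp only [mul_smul, hxb, hyb] at this
        exact this
      have hxy : (x : G) = y := by
        rw [huv] at h'
        exact mul_left_cancel h'
      exact Prod.ext (Subtype.ext huv) (Subtype.ext hxy)
    · rintro ⟨y, hy⟩
      obtain ⟨u, hu, x, hxa, hxb, rfl⟩ := exists_decomp hZ hab hy
      exact ⟨(⟨u, hu⟩, ⟨x, hxa, hxb⟩), Subtype.ext rfl⟩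
  rw [← Nat.card_prod, Nat.card_congr (Equiv.ofBijective _ hbij)]

omit [Finite Ω] in
theorem pretransitive : IsPretransitive G Ω := by
  refine ⟨fun x y => ?_⟩
  by_cases hxy : x = y
  · exact ⟨1, by rw [one_smul, hxy]⟩
  · obtain ⟨c, hc, hc'⟩ := exists_third hZ hxy
    obtain ⟨g, h1, -⟩ := two_trans hZ (x := x) (y := c) (x' := y) (y' := c) hc.symm hc'.symm
    exact ⟨g, h1⟩

/-- `|G| = |Ω| · |G_a|`. -/
theorem card_group_eq (a : Ω) :
    Nat.card G = Nat.card Ω * Nat.card (stabilizer G a) := by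
  classical
  haveI := finite_of_finite hZ
  haveI := pretransitive hZ
  rw [← Subgroup.index_mul_card (stabilizer G a), index_stabilizer_of_transitive]

/-- `|G| = (h + 1) h e`. -/
theorem card_group_eq' {a b : Ω} (hab : a ≠ b) :
    Nat.card G = (Nat.card (kernel hZ a) + 1) * (Nat.card (kernel hZ a) *
      Nat.card ↥(stabilizer G a ⊓ stabilizer G b)) := by
  rw [card_group_eq hZ a, card_stabilizer hZ hab, card_kernel_add_one]

/-- All kernels have the same order. -/
theorem card_kernel_eq (a c : Ω) : Nat.card (kernel hZ a) = Nat.card (kernel hZ c) := by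
  have h1 := card_kernel_add_one hZ a
  have h2 := card_kernel_add_one hZ c
  omega

/-- All two-point stabilisers have the same order. -/
theorem card_two_point_eq {a b c d : Ω} (hab : a ≠ b) (hcd : c ≠ d) :
    Nat.card ↥(stabilizer G a ⊓ stabilizer G b) = Nat.card ↥(stabilizer G c ⊓ stabilizer G d) := by
  obtain ⟨g, h1, h2⟩ := two_trans hZ hab hcd
  refine Nat.card_congr ?_
  refine ((MulAut.conj g).subgroupMap _).toEquiv.trans (Equiv.setCongr ?_)
  ext x
  simp only [Subgroup.mem_inf, mem_stabilizer_iff, SetLike.mem_coe, Subgroup.mem_map]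
  constructor
  · rintro ⟨y, ⟨hya, hyb⟩, rfl⟩
    change (g * y * g⁻¹) • c = c ∧ (g * y * g⁻¹) • d = d
    constructor
    · rw [← h1, mul_smul, mul_smul, inv_smul_smul, hya]
    · rw [← h2, mul_smul, mul_smul, inv_smul_smul, hyb]
  · rintro ⟨hxc, hxd⟩
    refine ⟨g⁻¹ * x * g, ⟨?_, ?_⟩, by simp [MulAut.conj_apply]; group⟩
    · rw [mul_smul, mul_smul, h1, hxc, inv_smul_eq_iff, h1]
    · rw [mul_smul, mul_smul, h2, hxd, inv_smul_eq_iff, h2]

/-- The two-point stabiliser is nontrivial. -/
theorem two_point_ne_bot {a b : Ω} (hab : a ≠ b) :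
    stabilizer G a ⊓ stabilizer G b ≠ ⊥ := by
  obtain ⟨g, hg, h1, h2⟩ := exists_ne_one_fix' hZ hab
  intro h
  have : g ∈ stabilizer G a ⊓ stabilizer G b := ⟨h1, h2⟩
  rw [h, Subgroup.mem_bot] at this
  exact hg this

/-- A non-identity element of a two-point stabiliser commuting with `u ∈ H_a` forces `u = 1`. -/
theorem eq_one_of_commute {a b : Ω} (hab : a ≠ b) {x u : G} (hxa : x • a = a) (hxb : x • b = b)
    (hx1 : x ≠ 1) (hu : u ∈ kernel hZ a) (hc : x * u = u * x) : u = 1 := by
  by_contra hu1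
  apply hx1
  refine eq_one_of_three hZ (a := a) (b := b) (c := u • b) (g := x) hab ?_ ?_ hxa hxb ?_
  · exact (smul_ne_of_kernel hZ hab.symm hu hu1).symm
  · exact (smul_ne_self_of_kernel hZ hab.symm hu).symm
  · rw [← mul_smul, hc, mul_smul, hxb]

/-- `e ∣ h - 1`. -/
theorem card_two_point_dvd {a b : Ω} (hab : a ≠ b) :
    Nat.card ↥(stabilizer G a ⊓ stabilizer G b) ∣ Nat.card (kernel hZ a) - 1 := by
  classical
  haveI := finite_of_finite hZ
  have hn : stabilizer G a ⊓ stabilizer G b ≤ Subgroup.normalizer (kernel hZ a : Set G) := by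
    intro x hx
    rw [Subgroup.mem_normalizer_iff]
    intro u
    constructor
    · intro hu
      exact conj_mem_kernel_of_fix hZ hx.1 hu
    · intro hu
      have := conj_mem_kernel_of_fix hZ (g := x⁻¹) (by rw [inv_smul_eq_iff]; exact hx.1.symm) hu
      simpa [mul_assoc] using this
  have := Cfsg.Agent.Lib.Frobenius.Invariant.card_dvd_card_sub_one hn (by
    intro e he he1 k hk hc
    exact eq_one_of_commute hZ hab he.1 he.2 he1 hk hc)
  exact this

end Card

end Cfsg.Agent.Lib.Zass.Basic
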