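import Mathlib

/-!
# Coherence as integer linear algebra

Vectors `C i : X → ℤ` (`i : ι`) with Gram matrix `δ + β f fᵀ`, and with a positive degree functional
vanishing on the vectors `f j C i - f i C j`.  If there are at least two coordinates with `f = 1` and
every coordinate of larger `f` has enough mass below it, then the family is coherent:
`f j C i - f i C j = ε (f j e(Φ i) - f i e(Φ j))` for an injection `Φ`.
-/

set_option autoImplicit false

namespace Cfsg.Agent.Lib.Zass.CohAbs

open Finset

variable {X : Type*} [Fintype X] [DecidableEq X]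

/-- The standard basis vector. -/
def unit (x : X) : X → ℤ := fun y => if y = x then 1 else 0

/-- The standard inner product. -/
def ip (u v : X → ℤ) : ℤ := ∑ x, u x * v x

omit [DecidableEq X] in
theorem ip_comm (u v : X → ℤ) : ip u v = ip v u := by
  unfold ip
  exact Finset.sum_congr rfl fun x _ => mul_comm _ _

omit [DecidableEq X] in
theorem ip_add_left (u v w : X → ℤ) : ip (u + v) w = ip u w + ip v w := by
  unfold ip
  rw [← Finset.sum_add_distrib]
  exact Finset.sum_congr rfl fun x _ => by simp only [Pi.add_apply]; ring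

omit [DecidableEq X] in
theorem ip_sub_left (u v w : X → ℤ) : ip (u - v) w = ip u w - ip v w := by
  unfold ip
  rw [← Finset.sum_sub_distrib]
  exact Finset.sum_congr rfl fun x _ => by simp only [Pi.sub_apply]; ring

omit [DecidableEq X] in
theorem ip_smul_left (a : ℤ) (u w : X → ℤ) : ip (a • u) w = a * ip u w := by
  unfold ip
  rw [Finset.mul_sum]
  exact Finset.sum_congr rfl fun x _ => by simp only [Pi.smul_apply, smul_eq_mul]; ring

omit [DecidableEq X] in
theorem ip_add_right (u v w : X → ℤ) : ip u (v + w) = ip u v + ip u w := by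
  rw [ip_comm, ip_add_left, ip_comm v, ip_comm w]

omit [DecidableEq X] in
theorem ip_sub_right (u v w : X → ℤ) : ip u (v - w) = ip u v - ip u w := by
  rw [ip_comm, ip_sub_left, ip_comm v, ip_comm w]

omit [DecidableEq X] in
theorem ip_smul_right (a : ℤ) (u w : X → ℤ) : ip u (a • w) = a * ip u w := by
  rw [ip_comm, ip_smul_left, ip_comm]

theorem ip_unit_right (u : X → ℤ) (x : X) : ip u (unit x) = u x := by
  unfold ip unit
  rw [Finset.sum_eq_single x]
  · simp
  · intro y _ hy
    simp [hy]
  · simp

theorem ip_unit_left (u : X → ℤ) (x : X) : ip (unit x) u = u x := by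
  rw [ip_comm, ip_unit_right]

theorem ip_unit_unit (x y : X) : ip (unit x) (unit y) = if x = y then 1 else 0 := by
  rw [ip_unit_right]
  simp [unit, eq_comm]

omit [DecidableEq X] in
theorem ip_self_nonneg (u : X → ℤ) : 0 ≤ ip u u :=
  Finset.sum_nonneg fun x _ => mul_self_nonneg _

theorem ip_sub_smul_unit (y : X → ℤ) (a : ℤ) (x : X) :
    ip (y - a • unit x) (y - a • unit x) = ip y y - 2 * a * y x + a * a := by
  rw [ip_sub_left, ip_sub_right, ip_sub_right, ip_smul_right, ip_smul_left, ip_smul_right,
    ip_smul_left, ip_unit_right, ip_unit_left, ip_unit_unit, if_pos rfl]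
  ring

/-- A vector of norm one is a signed unit vector. -/
theorem eq_signed_unit_of_norm_one {u : X → ℤ} (h : ip u u = 1) :
    ∃ x, (u = unit x ∨ u = - unit x) := by
  classical
  have hne : ∃ x, u x ≠ 0 := by
    by_contra hcon
    push Not at hcon
    have : ip u u = 0 := Finset.sum_eq_zero fun x _ => by rw [hcon x]; ring
    omega
  obtain ⟨x, hx⟩ := hne
  have hrest : u x * u x + ∑ y ∈ univ.erase x, u y * u y = 1 := by
    have h0 := Finset.add_sum_erase univ (fun y => u y * u y) (mem_univ x)
    have h1 : ip u u = ∑ y, u y * u y := rfl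
    omega
  have hnn : 0 ≤ ∑ y ∈ univ.erase x, u y * u y := Finset.sum_nonneg fun y _ => mul_self_nonneg _
  have hx1 : 1 ≤ u x * u x := by
    have : 0 < u x * u x := mul_self_pos.mpr hx
    omega
  have hxe : u x * u x = 1 := by omega
  have hz : ∑ y ∈ univ.erase x, u y * u y = 0 := by omega
  have hzero : ∀ y, y ≠ x → u y = 0 := by
    intro y hy
    have := (Finset.sum_eq_zero_iff_of_nonneg (fun y _ => mul_self_nonneg (u y))).mp hz y
      (mem_erase.mpr ⟨hy, mem_univ y⟩)
    exact mul_self_eq_zero.mp this
  have hx2 : u x = 1 ∨ u x = -1 := by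
    have : (u x - 1) * (u x + 1) = 0 := by linarith
    rcases mul_eq_zero.mp this with h1 | h1
    · left; omega
    · right; omega
  refine ⟨x, ?_⟩
  rcases hx2 with h1 | h1
  · left
    funext y
    by_cases hy : y = x
    · subst hy; simp [unit, h1]
    · simp [unit, hy, hzero y hy]
  · right
    funext y
    by_cases hy : y = x
    · subst hy; simp [unit, h1]
    · simp [unit, hy, hzero y hy]

/-- A vector of norm two and degree zero is a difference of two distinct unit vectors. -/
theorem eq_unit_sub_unit_of_norm_two {u : X → ℤ} (deg : X → ℤ) (hdeg : ∀ x, 0 < deg x)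
    (h : ip u u = 2) (h0 : ∑ x, u x * deg x = 0) :
    ∃ x y, x ≠ y ∧ u = unit x - unit y := by
  classical
  -- a positive entry
  have hpos : ∃ x, 0 < u x := by
    by_contra hcon
    push Not at hcon
    have hall : ∀ x, u x = 0 := by
      intro x
      by_contra hx
      have hlt : u x < 0 := lt_of_le_of_ne (hcon x) hx
      have hs : ∑ y, u y * deg y < 0 := by
        apply Finset.sum_neg'
        · intro y _
          exact mul_nonpos_of_nonpos_of_nonneg (hcon y) (hdeg y).le
        · exact ⟨x, mem_univ x, mul_neg_of_neg_of_pos hlt (hdeg x)⟩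
      omega
    have : ip u u = 0 := Finset.sum_eq_zero fun x _ => by rw [hall x]; ring
    omega
  obtain ⟨x, hx⟩ := hpos
  have hneg : ∃ y, u y < 0 := by
    by_contra hcon
    push Not at hcon
    have hs : 0 < ∑ y, u y * deg y := by
      apply Finset.sum_pos'
      · intro y _
        exact mul_nonneg (hcon y) (hdeg y).le
      · exact ⟨x, mem_univ x, mul_pos hx (hdeg x)⟩
    omega
  obtain ⟨y, hy⟩ := hneg
  have hxy : x ≠ y := by
    rintro rfl
    omega
  have hsum : u x * u x + u y * u y + ∑ z ∈ (univ.erase x).erase y, u z * u z = 2 := by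
    have h1 := Finset.add_sum_erase univ (fun z => u z * u z) (mem_univ x)
    have h2 := Finset.add_sum_erase (univ.erase x) (fun z => u z * u z)
      (mem_erase.mpr ⟨hxy.symm, mem_univ y⟩)
    have h3 : ip u u = ∑ z, u z * u z := rfl
    linarith
  have hnn : 0 ≤ ∑ z ∈ (univ.erase x).erase y, u z * u z :=
    Finset.sum_nonneg fun z _ => mul_self_nonneg _
  have h1 : 1 ≤ u x * u x := by nlinarith
  have h2 : 1 ≤ u y * u y := by nlinarith
  have hx1 : u x * u x = 1 := by omega
  have hy1 : u y * u y = 1 := by omega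
  have hz : ∑ z ∈ (univ.erase x).erase y, u z * u z = 0 := by omega
  have hzero : ∀ z, z ≠ x → z ≠ y → u z = 0 := by
    intro z hzx hzy
    have := (Finset.sum_eq_zero_iff_of_nonneg (fun z _ => mul_self_nonneg (u z))).mp hz z
      (mem_erase.mpr ⟨hzy, mem_erase.mpr ⟨hzx, mem_univ z⟩⟩)
    exact mul_self_eq_zero.mp this
  have hx2 : u x = 1 := by nlinarith
  have hy2 : u y = -1 := by nlinarith
  refine ⟨x, y, hxy, ?_⟩
  funext z
  by_cases hzx : z = x
  · subst hzx; simp [unit, hxy, hx2]
  · by_cases hzy : z = y
    · subst hzy; simp [unit, hzx, hy2]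
    · simp [unit, hzx, hzy, hzero z hzx hzy]

section Coherent

variable {ι : Type*} [DecidableEq ι]

/-- `T` with sign `ε` and map `Φ` is coherent. -/
structure IsCoh (C : ι → X → ℤ) (f : ι → ℤ) (T : Finset ι) (ε : ℤ) (Φ : ι → X) : Prop where
  sign : ε = 1 ∨ ε = -1
  inj : Set.InjOn Φ T
  rel : ∀ i ∈ T, ∀ j ∈ T, f j • C i - f i • C j = ε • (f j • unit (Φ i) - f i • unit (Φ j))

theorem sq_sign {ε : ℤ} (h : ε = 1 ∨ ε = -1) : ε * ε = 1 := by
  rcases h with rfl | rfl <;> norm_num

/-- Bessel. -/
theorem bessel_image {κ : Type*} (S : Finset κ) (Φ : κ → X) (hΦ : Set.InjOn Φ S) (y : X → ℤ) :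
    ∑ k ∈ S, y (Φ k) * y (Φ k) ≤ ip y y := by
  classical
  rw [← Finset.sum_image (f := fun x => y x * y x) hΦ]
  exact Finset.sum_le_sum_of_subset_of_nonneg (Finset.subset_univ _) fun x _ _ => mul_self_nonneg _

/-- The arithmetic of the extension step. -/
theorem arith_eq (F M B : ℤ) (hF : 1 ≤ F) (hM : 2 * F < M)
    (h : B * B + M * ((B - F) * (B - F)) ≤ F * F + 1) : B = F := by
  by_contra hne
  rcases lt_or_gt_of_ne hne with hlt | hgt
  · -- `B < F`
    obtain ⟨t, ht, rfl⟩ : ∃ t : ℤ, 1 ≤ t ∧ B = F - t := ⟨F - B, by omega, by ring⟩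
    have h1 : (F - t) * (F - t) + M * (t * t) ≤ F * F + 1 := by
      have : (F - t - F) * (F - t - F) = t * t := by ring
      rw [this] at h
      exact h
    have h2 : (2 * F + 1) * (t * t) ≤ M * (t * t) :=
      mul_le_mul_of_nonneg_right (by omega) (mul_self_nonneg t)
    have h3 : t ≤ t * t := by nlinarith
    have h4 : F * t ≤ F * (t * t) := mul_le_mul_of_nonneg_left h3 (by omega)
    nlinarith
  · have h1 : (F + 1) * (F + 1) ≤ B * B := by nlinarith
    have h2 : 0 ≤ M * ((B - F) * (B - F)) :=
      mul_nonneg (by omega) (mul_self_nonneg _)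
    nlinarith

variable [Fintype ι]

/-- The extension step. -/
theorem extend_step (C : ι → X → ℤ) (f : ι → ℤ) (deg : X → ℤ) (β : ℤ)
    (hgram : ∀ i j, ip (C i) (C j) = (if i = j then 1 else 0) + β * f i * f j)
    (hdeg : ∀ i j, ∑ x, (f j • C i - f i • C j) x * deg x = 0)
    (hdegpos : ∀ x, 0 < deg x) (hf : ∀ i, 0 < f i)
    {T : Finset ι} {ε : ℤ} {Φ : ι → X} (hcoh : IsCoh C f T ε Φ) {l : ι} (hl : l ∈ T) (hl1 : f l = 1)
    {i₀ : ι} (hi₀ : i₀ ∉ T) (hM : 2 * f i₀ < ∑ j ∈ T.erase l, f j * f j) :
    ∃ Φ' : ι → X, IsCoh C f (insert i₀ T) ε Φ' ∧ ∀ j ∈ T, Φ' j = Φ j := by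
  classical
  set F := f i₀ with hF
  have hFpos : 1 ≤ F := hf i₀
  have hne : i₀ ≠ l := fun h => hi₀ (h ▸ hl)
  set y : X → ℤ := F • C l - C i₀ with hy
  have hε := sq_sign hcoh.sign
  -- norm of y
  have hyy : ip y y = F * F + 1 := by
    rw [hy, ip_sub_left, ip_sub_right, ip_sub_right, ip_smul_left, ip_smul_right, ip_smul_left,
      ip_smul_right, hgram l l, hgram l i₀, hgram i₀ l, hgram i₀ i₀, if_pos rfl, if_pos rfl,
      if_neg hne.symm, if_neg hne, hl1, ← hF]
    ring
  -- pairing with T
  have hpair : ∀ j ∈ T, j ≠ l → y (Φ j) = f j * (y (Φ l) - ε * F) := by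
    intro j hj hjl
    have hji : j ≠ i₀ := fun h => hi₀ (h ▸ hj)
    have hrel := hcoh.rel j hj l hl
    rw [hl1] at hrel
    have h1 : ip y ((1 : ℤ) • C j - f j • C l) = - (F * f j) := by
      rw [hy, one_smul, ip_sub_left, ip_sub_right, ip_sub_right, ip_smul_left, ip_smul_left,
        ip_smul_right, ip_smul_right, hgram l j, hgram l l, hgram i₀ j, hgram i₀ l, if_pos rfl,
        if_neg hjl.symm, if_neg hji.symm, if_neg hne, hl1, ← hF]
      ring
    rw [hrel, ip_smul_right, ip_sub_right, one_smul, ip_smul_right, ip_unit_right, ip_unit_right] at h1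
    have h2 : ε * (ε * (y (Φ j) - f j * y (Φ l))) = ε * (-(F * f j)) := by rw [h1]
    have h3 : ε * (ε * (y (Φ j) - f j * y (Φ l))) = y (Φ j) - f j * y (Φ l) := by
      rw [← mul_assoc, hε, one_mul]
    rw [h3] at h2
    linear_combination h2
  -- Bessel
  set A := y (Φ l) with hA
  set M := ∑ j ∈ T.erase l, f j * f j with hMdef
  have hbes : A * A + M * ((A - ε * F) * (A - ε * F)) ≤ F * F + 1 := by
    have h1 := bessel_image T Φ hcoh.inj y
    rw [hyy, ← Finset.add_sum_erase T _ hl] at h1
    have h2 : ∑ k ∈ T.erase l, y (Φ k) * y (Φ k) = M * ((A - ε * F) * (A - ε * F)) := by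
      rw [hMdef, Finset.sum_mul]
      apply Finset.sum_congr rfl
      intro j hj
      rw [hpair j (Finset.mem_of_mem_erase hj) (Finset.ne_of_mem_erase hj)]
      ring
    rw [h2] at h1
    exact h1
  have hB : ε * A = F := by
    apply arith_eq F M (ε * A) hFpos hM
    have h1 : (ε * A) * (ε * A) = A * A := by
      calc (ε * A) * (ε * A) = (ε * ε) * (A * A) := by ring
        _ = A * A := by rw [hε, one_mul]
    have h2 : (ε * A - F) * (ε * A - F) = (A - ε * F) * (A - ε * F) := by
      have : (ε * A - F) * (ε * A - F) = (ε * ε) * (A * A) - 2 * (ε * A) * F + F * F := by ring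
      rw [this, hε]
      have : (A - ε * F) * (A - ε * F) = A * A - 2 * (ε * A) * F + (ε * ε) * (F * F) := by ring
      rw [this, hε]
      ring
    rw [h1, h2]
    exact hbes
  have hAe : A = ε * F := by
    have : ε * (ε * A) = ε * F := by rw [hB]
    rwa [← mul_assoc, hε, one_mul] at this
  have hy0 : ∀ j ∈ T, j ≠ l → y (Φ j) = 0 := by
    intro j hj hjl
    rw [hpair j hj hjl, hAe]
    ring
  -- the remainder has norm one
  set Δ : X → ℤ := y - (ε * F) • unit (Φ l) with hΔ
  have hΔΔ : ip Δ Δ = 1 := by
    rw [hΔ, ip_sub_smul_unit, hyy, ← hA, hAe]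
    have h1 : 2 * (ε * F) * (ε * F) = 2 * ((ε * ε) * (F * F)) := by ring
    have h2 : ε * F * (ε * F) = (ε * ε) * (F * F) := by ring
    rw [h1, h2, hε]
    ring
  obtain ⟨x₀, hx₀⟩ := eq_signed_unit_of_norm_one hΔΔ
  -- `Δ` vanishes on `Φ T`
  have hΔT : ∀ j ∈ T, Δ (Φ j) = 0 := by
    intro j hj
    by_cases hjl : j = l
    · subst hjl
      simp only [hΔ, Pi.sub_apply, Pi.smul_apply, smul_eq_mul, unit, if_true, mul_one]
      rw [← hA, hAe]
      ring
    · have hne' : Φ j ≠ Φ l := fun h => hjl (hcoh.inj hj hl h)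
      simp only [hΔ, Pi.sub_apply, Pi.smul_apply, smul_eq_mul, unit, if_neg hne', mul_zero, sub_zero]
      exact hy0 j hj hjl
  have hx₀T : ∀ j ∈ T, Φ j ≠ x₀ := by
    intro j hj hjx
    have h1 := hΔT j hj
    rw [hjx] at h1
    rcases hx₀ with h2 | h2
    · rw [h2] at h1
      simp [unit] at h1
    · rw [h2] at h1
      simp [unit] at h1
  -- degree
  have hdegy : ∑ x, y x * deg x = 0 := by
    have h1 := hdeg l i₀
    rw [← h1]
    apply Finset.sum_congr rfl
    intro x _
    simp only [hy, Pi.sub_apply, Pi.smul_apply, smul_eq_mul, hl1, ← hF]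
    ring
  have hsumunit : ∀ x : X, ∑ z, unit x z * deg z = deg x := by
    intro x
    rw [Finset.sum_eq_single x]
    · simp [unit]
    · intro z _ hz
      simp [unit, hz]
    · simp
  have hyΔ : y = Δ + (ε * F) • unit (Φ l) := by
    rw [hΔ]
    abel
  have hdeg2 : ∑ x, Δ x * deg x + (ε * F) * deg (Φ l) = 0 := by
    rw [← hsumunit (Φ l), Finset.mul_sum, ← Finset.sum_add_distrib, ← hdegy]
    apply Finset.sum_congr rfl
    intro x _
    rw [hyΔ]
    simp only [Pi.add_apply, Pi.smul_apply, smul_eq_mul]
    ring
  -- the sign of Δ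
  have hΔsign : Δ = - (ε • unit x₀) := by
    have hpos1 := hdegpos x₀
    have hpos2 := hdegpos (Φ l)
    have hFd : 0 < F * deg (Φ l) := mul_pos (by omega) hpos2
    rcases hx₀ with h2 | h2
    · have h3 : ∑ x, Δ x * deg x = deg x₀ := by
        rw [h2, hsumunit]
      rw [h3] at hdeg2
      rcases hcoh.sign with h4 | h4
      · rw [h4] at hdeg2
        nlinarith
      · rw [h4, h2]
        funext z
        simp
    · have h3 : ∑ x, Δ x * deg x = - deg x₀ := by
        rw [h2, ← hsumunit x₀, ← Finset.sum_neg_distrib]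
        apply Finset.sum_congr rfl
        intro x _
        simp
      rw [h3] at hdeg2
      rcases hcoh.sign with h4 | h4
      · rw [h4, h2]
        funext z
        simp
      · rw [h4] at hdeg2
        nlinarith
  -- define the extension
  refine ⟨fun j => if j = i₀ then x₀ else Φ j, ?_, ?_⟩
  · have hval : ∀ j ∈ T, (if j = i₀ then x₀ else Φ j) = Φ j := by
      intro j hj
      rw [if_neg (fun h : j = i₀ => hi₀ (h ▸ hj))]
    have hval0 : (if i₀ = i₀ then x₀ else Φ i₀) = x₀ := if_pos rfl
    -- the relation with l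
    have hC : C i₀ = F • C l - y := by
      rw [hy]
      abel
    have hrelo : ∀ j ∈ T, f j • C i₀ - F • C j = ε • (f j • unit x₀ - F • unit (Φ j)) := by
      intro j hj
      have hrel := hcoh.rel j hj l hl
      rw [hl1, one_smul, one_smul] at hrel
      have hCj : C j = f j • C l + ε • (unit (Φ j) - f j • unit (Φ l)) := by
        rw [← hrel]
        abel
      rw [hC, hyΔ, hΔsign, hCj]
      funext z
      simp only [Pi.sub_apply, Pi.add_apply, Pi.neg_apply, Pi.smul_apply, smul_eq_mul]
      ring
    refine ⟨hcoh.sign, ?_, ?_⟩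
    · intro u hu w hw huw
      simp only [Finset.coe_insert, Set.mem_insert_iff, Finset.mem_coe] at hu hw
      beta_reduce at huw
      rcases hu with rfl | hu
      · rcases hw with rfl | hw
        · rfl
        · rw [hval0, hval w hw] at huw
          exact absurd huw.symm (hx₀T w hw)
      · rcases hw with rfl | hw
        · rw [hval0, hval u hu] at huw
          exact absurd huw (hx₀T u hu)
        · rw [hval u hu, hval w hw] at huw
          exact hcoh.inj hu hw huw
    · intro u hu w hw
      simp only [Finset.mem_insert] at hu hw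
      beta_reduce
      rcases hu with rfl | hu
      · rcases hw with rfl | hw
        · rw [if_pos rfl]
          funext z
          simp only [Pi.sub_apply, Pi.smul_apply, smul_eq_mul]
          ring
        · rw [hval0, hval w hw]
          exact hrelo w hw
      · rcases hw with rfl | hw
        · rw [hval0, hval u hu]
          have := hrelo u hu
          funext z
          have h2 := congrFun this z
          simp only [Pi.sub_apply, Pi.smul_apply, smul_eq_mul] at h2 ⊢
          linear_combination -h2
        · rw [hval u hu, hval w hw]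
          exact hcoh.rel u hu w hw
  · intro j hj
    exact if_neg (fun h : j = i₀ => hi₀ (h ▸ hj))

/-- Extending by a finite set of coordinates. -/
theorem extend_many (C : ι → X → ℤ) (f : ι → ℤ) (deg : X → ℤ) (β : ℤ)
    (hgram : ∀ i j, ip (C i) (C j) = (if i = j then 1 else 0) + β * f i * f j)
    (hdeg : ∀ i j, ∑ x, (f j • C i - f i • C j) x * deg x = 0)
    (hdegpos : ∀ x, 0 < deg x) (hf : ∀ i, 0 < f i)
    {T : Finset ι} {ε : ℤ} {Φ : ι → X} (hcoh : IsCoh C f T ε Φ) {l : ι} (hl : l ∈ T) (hl1 : f l = 1)
    (S : Finset ι) (hS : Disjoint S T)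
    (hM : ∀ i ∈ S, 2 * f i < ∑ j ∈ T.erase l, f j * f j) :
    ∃ Φ' : ι → X, IsCoh C f (S ∪ T) ε Φ' := by
  classical
  induction S using Finset.induction_on with
  | empty => exact ⟨Φ, by simpa using hcoh⟩
  | insert i₀ S hi₀ ih =>
    have hdis : Disjoint S T := (Finset.disjoint_insert_left.mp hS).2
    have hi₀T : i₀ ∉ T := (Finset.disjoint_insert_left.mp hS).1
    obtain ⟨Φ', hΦ'⟩ := ih hdis (fun i hi => hM i (Finset.mem_insert_of_mem hi))
    have hi₀' : i₀ ∉ S ∪ T := by
      simp [hi₀, hi₀T]
    have hle : ∑ j ∈ T.erase l, f j * f j ≤ ∑ j ∈ (S ∪ T).erase l, f j * f j := by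
      apply Finset.sum_le_sum_of_subset_of_nonneg
      · exact Finset.erase_subset_erase _ Finset.subset_union_right
      · intro j _ _
        exact mul_self_nonneg _
    obtain ⟨Φ'', hΦ'', -⟩ := extend_step C f deg β hgram hdeg hdegpos hf hΦ'
      (Finset.mem_union_right _ hl) hl1 hi₀' (lt_of_lt_of_le (hM i₀ (Finset.mem_insert_self _ _)) hle)
    refine ⟨Φ'', ?_⟩
    have : insert i₀ S ∪ T = insert i₀ (S ∪ T) := by
      rw [Finset.insert_union]
    rw [this]
    exact hΦ''

/-- The linear coordinates are coherent. -/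
theorem coh_linear (C : ι → X → ℤ) (f : ι → ℤ) (deg : X → ℤ) (β : ℤ)
    (hgram : ∀ i j, ip (C i) (C j) = (if i = j then 1 else 0) + β * f i * f j)
    (hdeg : ∀ i j, ∑ x, (f j • C i - f i • C j) x * deg x = 0)
    (hdegpos : ∀ x, 0 < deg x) {l l' : ι} (hl : f l = 1) (hl' : f l' = 1) (hne : l ≠ l') :
    ∃ (ε : ℤ) (Φ : ι → X), IsCoh C f (univ.filter fun i => f i = 1) ε Φ := by
  classical
  -- for each linear `j ≠ l` a decomposition
  have hdec : ∀ j, f j = 1 → j ≠ l → ∃ p q, p ≠ q ∧ C l - C j = unit p - unit q := by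
    intro j hj hjl
    apply eq_unit_sub_unit_of_norm_two deg hdegpos
    · rw [ip_sub_left, ip_sub_right, ip_sub_right, hgram l l, hgram l j, hgram j l, hgram j j,
        if_pos rfl, if_pos rfl, if_neg hjl.symm, if_neg hjl, hl, hj]
      ring
    · have := hdeg l j
      rw [← this]
      apply Finset.sum_congr rfl
      intro x _
      simp only [Pi.sub_apply, Pi.smul_apply, smul_eq_mul, hl, hj, one_mul]
  haveI : Nonempty X := ⟨(hdec l' hl' hne.symm).choose⟩
  choose! p q hpq hrel using hdec
  -- the key dichotomy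
  have hdich : ∀ j k, f j = 1 → f k = 1 → j ≠ l → k ≠ l → j ≠ k →
      (p j = p k ∧ q j ≠ q k) ∨ (q j = q k ∧ p j ≠ p k) := by
    intro j k hj hk hjl hkl hjk
    have h1 : ip (unit (p j) - unit (q j)) (unit (p k) - unit (q k)) = 1 := by
      rw [← hrel j hj hjl, ← hrel k hk hkl, ip_sub_left, ip_sub_right, ip_sub_right, hgram l l, hgram l k,
        hgram j l, hgram j k, if_pos rfl, if_neg hkl.symm, if_neg hjl, if_neg hjk, hl, hj, hk]
      ring
    rw [ip_sub_left, ip_sub_right, ip_sub_right, ip_unit_unit, ip_unit_unit, ip_unit_unit,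
      ip_unit_unit] at h1
    have hpk := hpq k hk hkl
    have hpj := hpq j hj hjl
    by_cases h2 : p j = p k
    · left
      refine ⟨h2, ?_⟩
      intro h3
      simp only [h2, h3, if_true] at h1
      rw [if_neg hpk, if_neg hpk.symm] at h1
      omega
    · right
      by_cases h3 : q j = q k
      · exact ⟨h3, h2⟩
      · exfalso
        rw [if_neg h2, if_neg h3] at h1
        by_cases h4 : p j = q k
        · by_cases h5 : q j = p k
          · simp only [h4, h5, if_true] at h1
            omega
          · simp only [h4, h5, if_true, if_false] at h1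
            omega
        · by_cases h5 : q j = p k
          · simp only [h4, h5, if_true, if_false] at h1
            omega
          · simp only [h4, h5, if_false] at h1
            omega
  -- common value
  have hcommon : (∀ j k, f j = 1 → f k = 1 → j ≠ l → k ≠ l → p j = p k) ∨
      (∀ j k, f j = 1 → f k = 1 → j ≠ l → k ≠ l → q j = q k) := by
    by_contra hcon
    push Not at hcon
    obtain ⟨⟨j₁, k₁, hj₁, hk₁, hj₁l, hk₁l, hp⟩, ⟨j₂, k₂, hj₂, hk₂, hj₂l, hk₂l, hq⟩⟩ := hcon
    -- `j₁,k₁` have different `p`, so equal `q`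
    have hjk₁ : j₁ ≠ k₁ := fun h => hp (h ▸ rfl)
    have hjk₂ : j₂ ≠ k₂ := fun h => hq (h ▸ rfl)
    have hq₁ : q j₁ = q k₁ := by
      rcases hdich j₁ k₁ hj₁ hk₁ hj₁l hk₁l hjk₁ with h | h
      · exact absurd h.1 hp
      · exact h.1
    have hp₂ : p j₂ = p k₂ := by
      rcases hdich j₂ k₂ hj₂ hk₂ hj₂l hk₂l hjk₂ with h | h
      · exact h.1
      · exact absurd h.1 hq
    -- compare
    have key : ∀ a b c, f a = 1 → f b = 1 → f c = 1 → a ≠ l → b ≠ l → c ≠ l → a ≠ b → a ≠ c → b ≠ c →
        q a = q b → p a ≠ p b → q a = q c := by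
      intro a b c ha hb hc hal hbl hcl hab hac hbc hqab hpab
      rcases hdich a c ha hc hal hcl hac with h | h
      · rcases hdich b c hb hc hbl hcl hbc with h' | h'
        · exact absurd (h.1.trans h'.1.symm) hpab
        · exact absurd (hqab.trans h'.1) h.2
      · exact h.1
    -- j₂ and k₂: at least one differs from j₁ k₁ in a way that gives a contradiction
    have hall : ∀ c, f c = 1 → c ≠ l → q c = q j₁ := by
      intro c hc hcl
      by_cases hc1 : c = j₁
      · rw [hc1]
      by_cases hc2 : c = k₁
      · rw [hc2, hq₁]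
      exact (key j₁ k₁ c hj₁ hk₁ hc hj₁l hk₁l hcl hjk₁ (Ne.symm hc1) (Ne.symm hc2) hq₁ hp).symm
    exact hq ((hall j₂ hj₂ hj₂l).trans (hall k₂ hk₂ hk₂l).symm)
  -- build the data
  have hlin : ∀ i ∈ univ.filter (fun i => f i = 1), f i = 1 := fun i hi => (mem_filter.mp hi).2
  have hl'l : l' ≠ l := hne.symm
  rcases hcommon with hc | hc
  · -- `ε = 1`, `Φ l = p l'`, `Φ j = q j`
    refine ⟨1, fun j => if j = l then p l' else q j, Or.inl rfl, ?_, ?_⟩
    · intro u hu w hw huw
      have hu1 := hlin u hu
      have hw1 := hlin w hw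
      simp only at huw
      by_cases hul : u = l
      · by_cases hwl : w = l
        · rw [hul, hwl]
        · rw [if_pos hul, if_neg hwl] at huw
          exact absurd ((hc l' w hl' hw1 hl'l hwl).symm.trans huw) (hpq w hw1 hwl)
      · by_cases hwl : w = l
        · rw [if_neg hul, if_pos hwl] at huw
          exact absurd ((hc l' u hl' hu1 hl'l hul).symm.trans huw.symm) (hpq u hu1 hul)
        · rw [if_neg hul, if_neg hwl] at huw
          by_contra huw'
          rcases hdich u w hu1 hw1 hul hwl huw' with h | h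
          · exact h.2 huw
          · have h1 := hc u w hu1 hw1 hul hwl
            exact h.2 h1
    · intro u hu w hw
      have hu1 := hlin u hu
      have hw1 := hlin w hw
      rw [hu1, hw1, one_smul, one_smul, one_smul, one_smul, one_smul]
      beta_reduce
      by_cases hul : u = l
      · by_cases hwl : w = l
        · subst hul
          subst hwl
          simp
        · subst hul
          rw [if_pos rfl, if_neg hwl, hrel w hw1 hwl, hc l' w hl' hw1 hl'l hwl]
      · by_cases hwl : w = l
        · subst hwl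
          rw [if_neg hul, if_pos rfl]
          have := hrel u hu1 hul
          funext z
          have h2 := congrFun this z
          simp only [Pi.sub_apply] at h2 ⊢
          rw [hc l' u hl' hu1 hl'l hul]
          linarith
        · rw [if_neg hul, if_neg hwl]
          have h1 := hrel u hu1 hul
          have h2 := hrel w hw1 hwl
          rw [hc u w hu1 hw1 hul hwl] at h1
          funext z
          have h3 := congrFun h1 z
          have h4 := congrFun h2 z
          simp only [Pi.sub_apply] at h3 h4 ⊢
          linarith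
  · -- `ε = -1`, `Φ l = q l'`, `Φ j = p j`
    refine ⟨-1, fun j => if j = l then q l' else p j, Or.inr rfl, ?_, ?_⟩
    · intro u hu w hw huw
      have hu1 := hlin u hu
      have hw1 := hlin w hw
      simp only at huw
      by_cases hul : u = l
      · by_cases hwl : w = l
        · rw [hul, hwl]
        · rw [if_pos hul, if_neg hwl] at huw
          exact absurd ((hc l' w hl' hw1 hl'l hwl).symm.trans huw).symm (hpq w hw1 hwl)
      · by_cases hwl : w = l
        · rw [if_neg hul, if_pos hwl] at huw
          exact absurd ((hc l' u hl' hu1 hl'l hul).symm.trans huw.symm).symm (hpq u hu1 hul)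
        · rw [if_neg hul, if_neg hwl] at huw
          by_contra huw'
          rcases hdich u w hu1 hw1 hul hwl huw' with h | h
          · have h1 := hc u w hu1 hw1 hul hwl
            exact h.2 h1
          · exact h.2 huw
    · intro u hu w hw
      have hu1 := hlin u hu
      have hw1 := hlin w hw
      rw [hu1, hw1, one_smul, one_smul, one_smul, one_smul]
      beta_reduce
      by_cases hul : u = l
      · by_cases hwl : w = l
        · subst hul
          subst hwl
          simp
        · subst hul
          rw [if_pos rfl, if_neg hwl, hrel w hw1 hwl, hc l' w hl' hw1 hl'l hwl]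
          funext z
          simp only [Pi.sub_apply, Pi.smul_apply, smul_eq_mul]
          ring
      · by_cases hwl : w = l
        · subst hwl
          rw [if_neg hul, if_pos rfl]
          have := hrel u hu1 hul
          funext z
          have h2 := congrFun this z
          simp only [Pi.sub_apply, Pi.smul_apply, smul_eq_mul] at h2 ⊢
          rw [hc l' u hl' hu1 hl'l hul]
          linarith
        · rw [if_neg hul, if_neg hwl]
          have h1 := hrel u hu1 hul
          have h2 := hrel w hw1 hwl
          rw [hc u w hu1 hw1 hul hwl] at h1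
          funext z
          have h3 := congrFun h1 z
          have h4 := congrFun h2 z
          simp only [Pi.sub_apply, Pi.smul_apply, smul_eq_mul] at h3 h4 ⊢
          linarith

/-- The whole family is coherent. -/
theorem exists_coherent (C : ι → X → ℤ) (f : ι → ℤ) (deg : X → ℤ) (β : ℤ)
    (hgram : ∀ i j, ip (C i) (C j) = (if i = j then 1 else 0) + β * f i * f j)
    (hdeg : ∀ i j, ∑ x, (f j • C i - f i • C j) x * deg x = 0)
    (hdegpos : ∀ x, 0 < deg x) (hf : ∀ i, 0 < f i) {l l' : ι} (hl : f l = 1) (hl' : f l' = 1)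
    (hne : l ≠ l')
    (hM : ∀ i, 1 < f i → 2 * f i + 1 < ∑ j ∈ univ.filter (fun j => f j < f i), f j * f j) :
    ∃ (ε : ℤ) (Φ : ι → X), IsCoh C f univ ε Φ := by
  classical
  obtain ⟨ε, Φ₀, h₀⟩ := coh_linear C f deg β hgram hdeg hdegpos hl hl' hne
  -- induction on the degree bound
  have hind : ∀ d : ℕ, ∃ Φ : ι → X, IsCoh C f (univ.filter fun i => f i ≤ (d : ℤ) + 1) ε Φ := by
    intro d
    induction d with
    | zero =>
      refine ⟨Φ₀, ?_⟩
      have : (univ.filter fun i => f i ≤ ((0 : ℕ) : ℤ) + 1) = univ.filter fun i => f i = 1 := by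
        ext i
        simp only [mem_filter, mem_univ, true_and]
        have := hf i
        constructor
        · intro h
          norm_num at h
          omega
        · intro h
          norm_num
          omega
      rw [this]
      exact h₀
    | succ d ih =>
      obtain ⟨Φ, hΦ⟩ := ih
      set T := univ.filter fun i => f i ≤ (d : ℤ) + 1 with hT
      set S := univ.filter fun i => f i = (d : ℤ) + 2 with hS
      have hlT : l ∈ T := by
        simp only [hT, mem_filter, mem_univ, true_and, hl]
        omega
      have hdis : Disjoint S T := by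
        rw [Finset.disjoint_left]
        intro i hi hi'
        simp only [hS, mem_filter, mem_univ, true_and] at hi
        simp only [hT, mem_filter, mem_univ, true_and] at hi'
        omega
      obtain ⟨Φ', hΦ'⟩ := extend_many C f deg β hgram hdeg hdegpos hf hΦ hlT hl S hdis (by
        intro i hi
        simp only [hS, mem_filter, mem_univ, true_and] at hi
        have hlt : 1 < f i := by omega
        have h1 := hM i hlt
        have hsub : (univ.filter fun j => f j < f i) = T := by
          ext j
          simp only [hT, mem_filter, mem_univ, true_and, hi]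
          omega
        rw [hsub] at h1
        have h2 := Finset.add_sum_erase T (fun j => f j * f j) hlT
        simp only [hl] at h2
        omega)
      refine ⟨Φ', ?_⟩
      have : (univ.filter fun i => f i ≤ ((d + 1 : ℕ) : ℤ) + 1) = S ∪ T := by
        ext i
        simp only [hS, hT, mem_filter, mem_univ, true_and, mem_union]
        push_cast
        omega
      rw [this]
      exact hΦ'
  -- a bound
  obtain ⟨d, hd⟩ : ∃ d : ℕ, ∀ i, f i ≤ (d : ℤ) + 1 := by
    refine ⟨(∑ i, f i).toNat, fun i => ?_⟩
    have h1 : f i ≤ ∑ i, f i :=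
      Finset.single_le_sum (f := f) (fun j _ => (hf j).le) (mem_univ i)
    have h2 : 0 ≤ ∑ i, f i := Finset.sum_nonneg fun j _ => (hf j).le
    rw [Int.toNat_of_nonneg h2]
    omega
  obtain ⟨Φ, hΦ⟩ := hind d
  refine ⟨ε, Φ, ?_⟩
  have : (univ.filter fun i => f i ≤ (d : ℤ) + 1) = univ := by
    ext i
    simp [hd i]
  rw [this] at hΦ
  exact hΦ

end Coherent

section Structure

variable {ι : Type*} [DecidableEq ι] [Fintype ι]

/-- The structure of a coherent family: there is a pure column for every linear coordinate as soon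
as there are at least `|ι| + β` columns. -/
theorem exists_pure_column (C : ι → X → ℤ) (f : ι → ℤ) (β : ℤ)
    (hgram : ∀ i j, ip (C i) (C j) = (if i = j then 1 else 0) + β * f i * f j)
    (hC : ∀ i x, 0 ≤ C i x) {l : ι} (hl : f l = 1) (hL : 3 ≤ ∑ i, f i * f i)
    (hcard : (Fintype.card ι : ℤ) + β ≤ Fintype.card X) (hrow : ∀ x, ∃ i, C i x ≠ 0)
    {ε : ℤ} {Φ : ι → X} (hcoh : IsCoh C f univ ε Φ) :
    ∀ i, C i (Φ l) = if i = l then 1 else 0 := by
  classical
  have hε := sq_sign hcoh.sign
  have hinj : Function.Injective Φ := fun i j hij =>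
    hcoh.inj (by simp) (by simp) hij
  -- the vector `a`
  set a : X → ℤ := fun x => C l x - ε * unit (Φ l) x with ha
  have hCa : ∀ i x, C i x = f i * a x + ε * unit (Φ i) x := by
    intro i x
    have h1 := congrFun (hcoh.rel i (mem_univ _) l (mem_univ _)) x
    simp only [Pi.sub_apply, Pi.smul_apply, smul_eq_mul, hl, one_mul] at h1
    simp only [ha]
    linear_combination h1
  -- the Gram relation
  set A := ip a a with hA
  have hip : ∀ i j, f i * f j * A + ε * (f i * a (Φ j) + f j * a (Φ i)) = β * f i * f j := by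
    intro i j
    have h1 := hgram i j
    have h2 : C i = f i • a + ε • unit (Φ i) := by
      funext x
      simp only [Pi.add_apply, Pi.smul_apply, smul_eq_mul, hCa]
    have h3 : C j = f j • a + ε • unit (Φ j) := by
      funext x
      simp only [Pi.add_apply, Pi.smul_apply, smul_eq_mul, hCa]
    rw [h2, h3, ip_add_left, ip_add_right, ip_add_right, ip_smul_left, ip_smul_left, ip_smul_right,
      ip_smul_right, ip_smul_left, ip_smul_right, ip_smul_left, ip_smul_right, ip_unit_right,
      ip_unit_left, ip_unit_unit, ← hA] at h1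
    have h4 : (if Φ i = Φ j then (1 : ℤ) else 0) = if i = j then 1 else 0 := by
      by_cases hij : i = j
      · simp [hij]
      · rw [if_neg hij, if_neg (fun h => hij (hinj h))]
    rw [h4] at h1
    have h5 : ε * (ε * (if i = j then (1 : ℤ) else 0)) = if i = j then 1 else 0 := by
      rw [← mul_assoc, hε, one_mul]
    rw [h5] at h1
    linear_combination h1
  -- the value at `Φ l`
  set b := a (Φ l) with hb
  have hll := hip l l
  rw [hl] at hll
  have hAb : A = β - 2 * (ε * b) := by linear_combination hll
  have hval : ∀ i, a (Φ i) = f i * b := by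
    intro i
    have h1 := hip i l
    rw [hl, ← hb] at h1
    have h2 : ε * a (Φ i) = f i * (ε * b) := by
      have : f i * 1 * A + ε * (f i * b + 1 * a (Φ i)) = β * f i * 1 := h1
      rw [hAb] at this
      linear_combination this
    have h3 : ε * (ε * a (Φ i)) = ε * (f i * (ε * b)) := by rw [h2]
    have h4 : ε * (ε * a (Φ i)) = a (Φ i) := by rw [← mul_assoc, hε, one_mul]
    have h5 : ε * (f i * (ε * b)) = f i * b := by
      calc ε * (f i * (ε * b)) = (ε * ε) * (f i * b) := by ring
        _ = f i * b := by rw [hε, one_mul]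
    rw [h4, h5] at h3
    exact h3
  -- split the sum
  set S := univ.image Φ with hS
  have hScard : S.card = Fintype.card ι := by
    rw [hS, Finset.card_image_of_injective _ hinj, Finset.card_univ]
  have hsplit : A = ∑ i, f i * f i * (b * b) + ∑ x ∈ Sᶜ, a x * a x := by
    have h1 : A = ∑ x, a x * a x := rfl
    rw [h1, ← Finset.sum_add_sum_compl S]
    congr 1
    rw [hS, Finset.sum_image (fun i _ j _ h => hinj h)]
    refine Finset.sum_congr rfl fun i _ => ?_
    rw [hval i]
    ring
  have hrest : (Sᶜ.card : ℤ) ≤ ∑ x ∈ Sᶜ, a x * a x := by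
    have h1 : (Sᶜ.card : ℤ) = ∑ x ∈ Sᶜ, (1 : ℤ) := by simp
    rw [h1]
    refine Finset.sum_le_sum fun x hx => ?_
    have hxS : x ∉ S := by simpa using hx
    have hxΦ : ∀ i, x ≠ Φ i := fun i h => hxS (by rw [hS, h]; exact mem_image_of_mem _ (mem_univ _))
    obtain ⟨i, hi⟩ := hrow x
    have h2 : C i x = f i * a x := by
      rw [hCa, unit, if_neg (hxΦ i)]
      ring
    have h3 : a x ≠ 0 := by
      intro h0
      apply hi
      rw [h2, h0, mul_zero]
    have h4 : 0 < a x * a x := mul_self_pos.mpr h3
    omega
  have hcompl : (Sᶜ.card : ℤ) = Fintype.card X - Fintype.card ι := by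
    rw [Finset.card_compl, hScard]
    have : Fintype.card ι ≤ Fintype.card X := by
      rw [← hScard]
      exact Finset.card_le_univ S
    rw [Nat.cast_sub this]
  set L := ∑ i, f i * f i with hLdef
  have hsum : ∑ i, f i * f i * (b * b) = L * (b * b) := by
    rw [hLdef, Finset.sum_mul]
  rw [hsum] at hsplit
  have hkey : L * (b * b) + 2 * (ε * b) ≤ 0 := by
    have h1 : β ≤ ∑ x ∈ Sᶜ, a x * a x := by
      have : β ≤ (Sᶜ.card : ℤ) := by rw [hcompl]; omega
      omega
    omega
  have hb0 : b = 0 := by
    by_contra hne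
    have h1 : 1 ≤ b * b := by
      have : 0 < b * b := mul_self_pos.mpr hne
      omega
    have h2 : 3 * (b * b) ≤ L * (b * b) := mul_le_mul_of_nonneg_right hL (mul_self_nonneg b)
    have h3 : -(b * b) ≤ ε * b := by
      rcases hcoh.sign with h | h <;> rw [h] <;> nlinarith
    nlinarith
  have hεpos : ε = 1 := by
    have h1 := hC l (Φ l)
    have h2 : C l (Φ l) = ε := by
      rw [hCa, ← hb, hb0, unit, if_pos rfl]
      ring
    rw [h2] at h1
    rcases hcoh.sign with h | h
    · exact h
    · omega
  intro i
  rw [hCa, hval, hb0, unit, hεpos]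
  by_cases hi : i = l
  · subst hi
    simp
  · rw [if_neg (fun h => hi (hinj h).symm) , if_neg hi]
    simp

end Structure

end Cfsg.Agent.Lib.Zass.CohAbs
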