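import Mathlib
import Cfsg.Prelude.Def_Characters
import Cfsg.Agent.Lib.Char.Induced
import Cfsg.Agent.Lib.Char.IndRep
import Cfsg.Agent.Lib.Char.Ortho
import Cfsg.Agent.Lib.Char.Complete
import Cfsg.Agent.Lib.Char.CompleteCor
import Cfsg.Agent.Lib.Char.Basic
import Cfsg.Agent.Lib.Char.IndNormal

/-!
# Characters of a Zassenhaus group, part 1: induction from the kernel

We work with subgroups `H ≤ B`, `D ≤ B` of a finite group with `B = H ⋊ D` where `H` behaves as the
kernel of a point stabiliser in a Zassenhaus group.  The values of the characters induced from `H`,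
and the Gram matrix of these characters.
-/

set_option autoImplicit false
set_option linter.unusedSectionVars false
set_option linter.style.haveILetI false

namespace Cfsg.Agent.Lib.Zass.Rows1

open Cfsg Cfsg.Agent.Lib.Char.Induced
open scoped ComplexConjugate

universe u

variable {G : Type u} [Group G]

/-- The purely group-theoretic package used for the character computations. -/
structure ZChar (H B D : Subgroup G) : Prop where
  H_le : H ≤ B
  D_le : D ≤ B
  conj_mem : ∀ b ∈ B, ∀ u ∈ H, b * u * b⁻¹ ∈ H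
  mem_of_conj : ∀ u ∈ H, u ≠ 1 → ∀ x : G, x⁻¹ * u * x ∈ H → x ∈ B
  decomp : ∀ x ∈ B, ∃ w ∈ H, ∃ d ∈ D, x = w * d
  inter : ∀ x ∈ H, x ∈ D → x = 1
  comm : ∀ y ∈ B, ∀ u ∈ H, u ≠ 1 → y * u = u * y → y ∈ H
  card : Nat.card G = (Nat.card H + 1) * (Nat.card H * Nat.card D)

variable {H B D : Subgroup G}

/-- The conjugate of a function on `H` by `d` (as a function on `H`). -/
noncomputable def cj (H : Subgroup G) (θ : H → ℂ) (d : G) : H → ℂ :=
  fun u => extendByZero H θ (d⁻¹ * u * d)

/-- Conjugation by an element of `B` as an endomorphism of `H`. -/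
def conjHom (hz : ZChar H B D) (d : G) (hd : d ∈ B) : H →* H where
  toFun u := ⟨d⁻¹ * u * d, by
    have := hz.conj_mem d⁻¹ (B.inv_mem hd) u u.2
    simpa using this⟩
  map_one' := by
    apply Subtype.ext
    simp
  map_mul' u v := by
    apply Subtype.ext
    simp only [Subgroup.coe_mul]
    group

@[simp] theorem conjHom_coe (hz : ZChar H B D) (d : G) (hd : d ∈ B) (u : H) :
    ((conjHom hz d hd u : H) : G) = d⁻¹ * u * d := rfl

theorem conjHom_bijective (hz : ZChar H B D) (d : G) (hd : d ∈ B) :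
    Function.Bijective (conjHom hz d hd) := by
  constructor
  · intro u v huv
    have h := congrArg (fun x : H => (x : G)) huv
    simp only [conjHom_coe] at h
    apply Subtype.ext
    exact mul_left_cancel (mul_right_cancel h)
  · intro v
    refine ⟨⟨d * v * d⁻¹, hz.conj_mem d hd v v.2⟩, ?_⟩
    apply Subtype.ext
    simp only [conjHom_coe]
    group

theorem cj_eq_comp (hz : ZChar H B D) (θ : H → ℂ) (d : G) (hd : d ∈ B) :
    cj H θ d = fun u => θ (conjHom hz d hd u) := by
  funext u
  rw [cj, ← conjHom_coe hz d hd u, extendByZero_coe]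

theorem cj_isIrr (hz : ZChar H B D) {θ : H → ℂ} (hθ : IsIrrCharacter H θ) {d : G} (hd : d ∈ B) :
    IsIrrCharacter H (cj H θ d) := by
  rw [cj_eq_comp hz θ d hd]
  exact Cfsg.Agent.Lib.Char.Basic.isIrrCharacter_comp_surjective hθ _ (conjHom_bijective hz d hd).2

theorem cj_one_apply (hz : ZChar H B D) (θ : H → ℂ) {d : G} (hd : d ∈ B) : cj H θ d 1 = θ 1 := by
  rw [cj_eq_comp hz θ d hd]
  simp

theorem cj_cj (hz : ZChar H B D) (θ : H → ℂ) {d d' : G} (hd : d ∈ B) (hd' : d' ∈ B) :
    cj H (cj H θ d) d' = cj H θ (d' * d) := by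
  funext u
  have h1 : d'⁻¹ * (u : G) * d' = ((conjHom hz d' hd' u : H) : G) := rfl
  rw [cj, h1, extendByZero_coe, cj]
  simp only [conjHom_coe]
  congr 1
  group

theorem cj_self_one (θ : H → ℂ) : cj H θ 1 = θ := by
  funext u
  simp [cj]

/-- A class function on `H`, extended by zero, is invariant under conjugation by `H`. -/
theorem extendByZero_conj_of_mem (θ : H → ℂ) (hθ : IsClassFunction H θ) {y : G} (hy : y ∈ H) (z : G) :
    extendByZero H θ (y⁻¹ * z * y) = extendByZero H θ z := by
  by_cases hz : z ∈ H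
  · have h1 : y⁻¹ * z * y ∈ H := H.mul_mem (H.mul_mem (H.inv_mem hy) hz) hy
    rw [extendByZero_of_mem H θ h1, extendByZero_of_mem H θ hz]
    have := hθ ⟨z, hz⟩ (⟨y, hy⟩ : H)⁻¹
    rw [← this]
    congr 1
    apply Subtype.ext
    simp
  · have h1 : y⁻¹ * z * y ∉ H := by
      intro hm
      apply hz
      have : z = y * (y⁻¹ * z * y) * y⁻¹ := by group
      rw [this]
      exact H.mul_mem (H.mul_mem hy hm) (H.inv_mem hy)
    rw [extendByZero_of_notMem H θ h1, extendByZero_of_notMem H θ hz]

/-- The value of the induced function on a non-identity element of `H`. -/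
theorem indFun_apply_of_ne [Fintype G] [Fintype H] [Fintype D] (hz : ZChar H B D) (θ : H → ℂ)
    (hθ : IsClassFunction H θ) {u : G} (hu : u ∈ H) (hu1 : u ≠ 1) :
    indFun H θ u = ∑ d : D, extendByZero H θ ((d : G)⁻¹ * u * d) := by
  classical
  have hH : (Nat.card H : ℂ) ≠ 0 := natCard_ne_zero_complex
  rw [indFun_apply]
  -- the sum over `G` is a sum over `H × D`
  have hsum : ∑ x : G, extendByZero H θ (x⁻¹ * u * x)
      = ∑ p : H × D, extendByZero H θ (((p.1 : G) * (p.2 : G))⁻¹ * u * ((p.1 : G) * (p.2 : G))) := by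
    symm
    refine Fintype.sum_of_injective (fun p : H × D => (p.1 : G) * (p.2 : G)) ?_ _ _ ?_ ?_
    · rintro ⟨w, d⟩ ⟨w', d'⟩ h
      simp only at h
      have h1 : (w' : G)⁻¹ * w = d' * (d : G)⁻¹ := by
        have : (w : G) = w' * d' * (d : G)⁻¹ := by rw [← h]; group
        rw [this]; group
      have h2 : (w' : G)⁻¹ * w = 1 := hz.inter _ (H.mul_mem (H.inv_mem w'.2) w.2) (by
        rw [h1]; exact D.mul_mem d'.2 (D.inv_mem d.2))
      have h3 : (w : G) = w' := by
        have := congrArg (fun t => (w' : G) * t) h2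
        simpa using this
      have h4 : (d : G) = d' := by
        rw [h3] at h
        exact mul_left_cancel h
      rw [Prod.mk.injEq]
      exact ⟨Subtype.ext h3, Subtype.ext h4⟩
    · intro x hx
      have hxB : x ∉ B := by
        intro hxB
        obtain ⟨w, hw, d, hd, rfl⟩ := hz.decomp x hxB
        exact hx ⟨(⟨w, hw⟩, ⟨d, hd⟩), rfl⟩
      apply extendByZero_of_notMem
      intro hm
      exact hxB (hz.mem_of_conj u hu hu1 x hm)
    · intro p
      rfl
  rw [hsum, Fintype.sum_prod_type]
  have hinner : ∀ w : H, ∑ d : D, extendByZero H θ (((w : G) * (d : G))⁻¹ * u * ((w : G) * (d : G)))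
      = ∑ d : D, extendByZero H θ ((d : G)⁻¹ * u * d) := by
    intro w
    refine Finset.sum_congr rfl fun d _ => ?_
    -- conjugate by `d⁻¹ w d`
    have hy : (d : G)⁻¹ * w * d ∈ H := by
      have := hz.conj_mem (d : G)⁻¹ (B.inv_mem (hz.D_le d.2)) w w.2
      simpa using this
    have h1 : ((w : G) * (d : G))⁻¹ * u * ((w : G) * (d : G))
        = ((d : G)⁻¹ * w * d)⁻¹ * ((d : G)⁻¹ * u * d) * ((d : G)⁻¹ * w * d) := by group
    rw [h1, extendByZero_conj_of_mem θ hθ hy]
  simp_rw [hinner]
  rw [Finset.sum_const, Finset.card_univ, nsmul_eq_mul, ← Nat.card_eq_fintype_card]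
  field_simp

/-- The index of `H`. -/
theorem index_eq [Finite G] (hz : ZChar H B D) : H.index = (Nat.card H + 1) * Nat.card D := by
  have h1 : Nat.card G = Nat.card H * H.index := (Subgroup.card_mul_index H).symm
  have h2 := hz.card
  have hH : 0 < Nat.card H := Nat.card_pos
  rw [h1] at h2
  apply Nat.eq_of_mul_eq_mul_left hH
  rw [h2]
  ring

/-- The function `ρ_H`. -/
noncomputable def rho (H : Subgroup G) : H → ℂ := by
  classical
  exact fun u => if u = 1 then (Nat.card H : ℂ) else 0

theorem rho_one : rho H 1 = (Nat.card H : ℂ) := by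
  classical
  simp [rho]

theorem rho_of_ne {u : H} (hu : u ≠ 1) : rho H u = 0 := by
  classical
  simp [rho, hu]

theorem classInner_rho [Fintype H] (θ : H → ℂ) : classInner θ (rho H) = θ 1 := by
  classical
  rw [classInner_def, Finset.sum_eq_single (1 : H)]
  · rw [rho_one]
    have hH : (Nat.card H : ℂ) ≠ 0 := natCard_ne_zero_complex
    rw [Complex.conj_natCast]
    field_simp
  · intro u _ hu
    rw [rho_of_ne hu]
    simp
  · simp

/-- The restriction to `H` of a character induced from `H`. -/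
theorem res_indFun [Fintype G] [Fintype H] [Fintype D] (hz : ZChar H B D) (θ : H → ℂ)
    (hθ : IsClassFunction H θ) :
    (fun u : H => indFun H θ u) = ∑ d : D, cj H θ d + ((Nat.card D : ℂ) * θ 1) • rho H := by
  classical
  funext u
  simp only [Pi.add_apply, Pi.smul_apply, smul_eq_mul, Finset.sum_apply]
  by_cases hu : u = 1
  · subst hu
    have h1 : ∀ d : D, cj H θ d 1 = θ 1 := fun d => cj_one_apply hz θ (hz.D_le d.2)
    simp_rw [h1]
    rw [rho_one, Finset.sum_const, Finset.card_univ, nsmul_eq_mul, ← Nat.card_eq_fintype_card]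
    have h2 : ((1 : H) : G) = 1 := rfl
    rw [h2, indFun_one, index_eq hz]
    push_cast
    ring
  · have hu' : (u : G) ≠ 1 := fun h => hu (Subtype.ext h)
    rw [rho_of_ne hu, indFun_apply_of_ne hz θ hθ u.2 hu', mul_zero, add_zero]
    rfl

/-- The Gram matrix of the induced characters, first form. -/
theorem classInner_indFun_indFun [Fintype G] [Fintype H] [Fintype D] (hz : ZChar H B D) (θ θ' : H → ℂ)
    (hθ' : IsClassFunction H θ') (hθ1 : conj (θ' 1) = θ' 1) :
    classInner (indFun H θ) (indFun H θ') =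
      ∑ d : D, classInner θ (cj H θ' d) + (Nat.card D : ℂ) * θ' 1 * θ 1 := by
  classical
  rw [frobenius_reciprocity H θ _ (indFun_isClassFunction H θ'), res_indFun hz θ' hθ',
    Cfsg.Agent.Lib.Char.Ortho.classInner_add_right, Cfsg.Agent.Lib.Char.Ortho.classInner_sum_right,
    Cfsg.Agent.Lib.Char.Ortho.classInner_smul_right, classInner_rho]
  congr 2
  simp [hθ1]

/-! ### The action on irreducible characters is free -/

section Free

variable {A : Type*} [Group A] [Finite A]

/-- An automorphism moving every nontrivial class fixes no nonprincipal irreducible character. -/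
theorem irr_fixed_eq_principal_of_hom (σ : A →* A) (hs : Function.Surjective σ) (hσ : ∀ n : A, n ≠ 1 → ¬ IsConj n (σ n))
    (τ : A → ℂ) (hτ : IsIrrCharacter A τ) (hfix : (fun x => τ (σ x)) = τ) : τ = fun _ => 1 := by
  classical
  haveI := Fintype.ofFinite A
  have hAc : (Nat.card A : ℂ) ≠ 0 := natCard_ne_zero_complex
  have hcount : ∑ ψ : IrrCharacter A, classInner (ψ : A → ℂ) (fun x => (ψ : A → ℂ) (σ x)) = 1 := by
    simp only [classInner_def]
    rw [← Finset.mul_sum, Finset.sum_comm]
    have hterm : ∀ n : A, ∑ ψ : IrrCharacter A, (ψ : A → ℂ) n * conj ((ψ : A → ℂ) (σ n))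
        = if n = 1 then (Nat.card A : ℂ) else 0 := by
      intro n
      split_ifs with hn
      · subst hn
        rw [map_one]
        have h1 := Cfsg.Agent.Lib.Char.CompleteCor.column_orth_conj (G := A) (g := 1) (h := 1)
          (IsConj.refl 1)
        rw [h1]
        congr 1
        have : Subgroup.centralizer ({(1 : A)} : Set A) = ⊤ := by
          ext x
          simp [Subgroup.mem_centralizer_iff]
        rw [this]
        exact Nat.card_congr Subgroup.topEquiv.toEquiv
      · exact Cfsg.Agent.Lib.Char.CompleteCor.column_orth_not_conj (hσ n hn)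
    simp_rw [hterm]
    rw [Finset.sum_ite_eq' Finset.univ (1 : A) (fun _ => (Nat.card A : ℂ))]
    simp only [Finset.mem_univ, if_true]
    exact inv_mul_cancel₀ hAc
  have hone : ∑ ψ : IrrCharacter A, classInner (ψ : A → ℂ) (fun x => (ψ : A → ℂ) (σ x))
      = ∑ ψ : IrrCharacter A, if (ψ : A → ℂ) = (fun x => (ψ : A → ℂ) (σ x)) then (1 : ℂ) else 0 := by
    refine Finset.sum_congr rfl fun ψ _ => ?_
    exact Cfsg.Agent.Lib.Char.Ortho.classInner_irr ψ.2
      (Cfsg.Agent.Lib.Char.Basic.isIrrCharacter_comp_surjective ψ.2 σ hs)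
  rw [hone, Finset.sum_boole] at hcount
  have hcard : (Finset.univ.filter (fun ψ : IrrCharacter A =>
      (ψ : A → ℂ) = (fun x => (ψ : A → ℂ) (σ x)))).card = 1 := by exact_mod_cast hcount
  obtain ⟨ψ0, hψ0⟩ := Finset.card_eq_one.1 hcard
  let p : IrrCharacter A := ⟨fun _ => 1, Cfsg.Agent.Lib.Char.IndNormal.isIrrCharacter_principal⟩
  have hp : p ∈ Finset.univ.filter (fun ψ : IrrCharacter A =>
      (ψ : A → ℂ) = (fun x => (ψ : A → ℂ) (σ x))) := by
    refine Finset.mem_filter.2 ⟨Finset.mem_univ _, ?_⟩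
    rfl
  have ht : (⟨τ, hτ⟩ : IrrCharacter A) ∈ Finset.univ.filter (fun ψ : IrrCharacter A =>
      (ψ : A → ℂ) = (fun x => (ψ : A → ℂ) (σ x))) :=
    Finset.mem_filter.2 ⟨Finset.mem_univ _, hfix.symm⟩
  rw [hψ0, Finset.mem_singleton] at hp ht
  have := ht.trans hp.symm
  exact congrArg Subtype.val this

end Free

/-- `D` moves nontrivial classes of `H`. -/
theorem not_isConj_conjHom (hz : ZChar H B D) {d : G} (hdD : d ∈ D) (hd1 : d ≠ 1) (n : H) (hn : n ≠ 1) :
    ¬ IsConj n (conjHom hz d (hz.D_le hdD) n) := by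
  intro hc
  obtain ⟨w, hw⟩ := isConj_iff.1 hc
  have hw' : (w : G) * n * (w : G)⁻¹ = d⁻¹ * n * d := congrArg Subtype.val hw
  have hn' : (n : G) ≠ 1 := fun h => hn (Subtype.ext h)
  have hy : d * w ∈ H := by
    apply hz.comm (d * w) (B.mul_mem (hz.D_le hdD) (hz.H_le w.2)) n n.2 hn'
    have : (w : G) * n = d⁻¹ * n * d * w := by
      rw [← hw']; group
    calc d * w * n = d * (w * n) := by group
      _ = d * (d⁻¹ * n * d * w) := by rw [this]
      _ = n * (d * w) := by group
  have hd : d ∈ H := by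
    have : d = d * w * (w : G)⁻¹ := by group
    rw [this]
    exact H.mul_mem hy (H.inv_mem w.2)
  exact hd1 (hz.inter d hd hdD)

/-- The free action on irreducible characters. -/
theorem cj_fixed (hz : ZChar H B D) [Finite H] {θ : H → ℂ} (hθ : IsIrrCharacter H θ) {d : G} (hdD : d ∈ D)
    (hd1 : d ≠ 1) (hfix : cj H θ d = θ) : θ = fun _ => 1 := by
  refine irr_fixed_eq_principal_of_hom (conjHom hz d (hz.D_le hdD)) (conjHom_bijective hz d _).2
    (fun n hn => not_isConj_conjHom hz hdD hd1 n hn) θ hθ ?_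
  rw [← cj_eq_comp hz θ d (hz.D_le hdD)]
  exact hfix

/-- If `θ` is a nonprincipal irreducible character, the conjugates are distinct. -/
theorem cj_injective (hz : ZChar H B D) [Finite H] {θ : H → ℂ} (hθ : IsIrrCharacter H θ)
    (hθ1 : θ ≠ fun _ => 1) {d d' : G} (hd : d ∈ D) (hd' : d' ∈ D) (h : cj H θ d = cj H θ d') : d = d' := by
  by_contra hne
  have h1 : cj H (cj H θ d) d⁻¹ = cj H (cj H θ d') d⁻¹ := by rw [h]
  rw [cj_cj hz θ (hz.D_le hd) (B.inv_mem (hz.D_le hd)), cj_cj hz θ (hz.D_le hd') (B.inv_mem (hz.D_le hd)),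
    inv_mul_cancel, cj_self_one] at h1
  apply hθ1
  refine cj_fixed hz hθ (D.mul_mem (D.inv_mem hd) hd') ?_ h1.symm
  intro h2
  apply hne
  have : d' = d * (d⁻¹ * d') := by group
  rw [this, h2, mul_one]

/-- The Gram matrix for irreducible `θ, θ'`: `θ` nonprincipal. -/
theorem classInner_indFun_indFun_irr [Fintype G] [Fintype H] [Fintype D] (hz : ZChar H B D)
    {θ θ' : H → ℂ} (hθ : IsIrrCharacter H θ) (hθ' : IsIrrCharacter H θ') :
    classInner (indFun H θ) (indFun H θ') =
      ∑ d : D, (if θ = cj H θ' d then (1 : ℂ) else 0) + (Nat.card D : ℂ) * θ' 1 * θ 1 := by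
  classical
  have hclass : IsClassFunction H θ' := Cfsg.Agent.Lib.Char.CompleteCor.isIrr_classFunction hθ'
  have h1 : conj (θ' 1) = θ' 1 := Cfsg.Agent.Lib.Char.CompleteCor.conj_apply_one hθ'
  rw [classInner_indFun_indFun hz θ θ' hclass h1]
  congr 1
  refine Finset.sum_congr rfl fun d _ => ?_
  exact Cfsg.Agent.Lib.Char.Ortho.classInner_irr hθ (cj_isIrr hz hθ' (hz.D_le d.2))

end Cfsg.Agent.Lib.Zass.Rows1
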