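import Mathlib
import Cfsg.Agent.Lib.Zass.Rows1

/-!
# Characters of a Zassenhaus group, part 2: multiplicities and the Gram matrix

`mul θ χ` is the multiplicity of `χ` in the character induced from `θ`.
-/

set_option autoImplicit false
set_option linter.unusedSectionVars false
set_option linter.style.haveILetI false

namespace Cfsg.Agent.Lib.Zass.Rows2

open Cfsg Cfsg.Agent.Lib.Char.Induced Cfsg.Agent.Lib.Zass.Rows1
open Cfsg.Agent.Lib.Char.Ortho (classInner_irr fintype_irr)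
open scoped ComplexConjugate
open Finset

universe u

variable {G : Type u} [Group G] [Fintype G] {H B D : Subgroup G} [Fintype H] [Fintype D]

/-- A natural number read off a complex number. -/
noncomputable def toN (z : ℂ) : ℕ := ⌊z.re⌋₊

@[simp] theorem toN_natCast (n : ℕ) : toN (n : ℂ) = n := by
  simp [toN]

/-- The degree of a function, as a natural number. -/
noncomputable def dg {A : Type*} [Group A] (θ : A → ℂ) : ℕ := toN (θ 1)

theorem dg_coe {A : Type*} [Group A] [Finite A] {θ : A → ℂ} (hθ : IsIrrCharacter A θ) :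
    (dg θ : ℂ) = θ 1 := by
  obtain ⟨n, _, hn⟩ := Cfsg.Agent.Lib.Char.Ortho.irr_degree_pos hθ
  rw [dg, hn, toN_natCast]

theorem dg_pos {A : Type*} [Group A] [Finite A] {θ : A → ℂ} (hθ : IsIrrCharacter A θ) : 0 < dg θ := by
  obtain ⟨n, hn0, hn⟩ := Cfsg.Agent.Lib.Char.Ortho.irr_degree_pos hθ
  rw [dg, hn, toN_natCast]
  exact hn0

/-- Multiplicity of `χ` in the character induced from `θ`. -/
noncomputable def mul (θ : H → ℂ) (χ : G → ℂ) : ℕ := toN (classInner (indFun H θ) χ)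

theorem isChar_ind {θ : H → ℂ} (hθ : IsIrrCharacter H θ) : IsCharacter G (indFun H θ) :=
  Cfsg.Agent.Lib.Char.IndRep.isCharacter_indFun H
    (Cfsg.Agent.Lib.Char.Basic.isCharacter_of_isIrrCharacter hθ)

theorem mul_coe {θ : H → ℂ} (hθ : IsIrrCharacter H θ) {χ : G → ℂ} (hχ : IsCharacter G χ) :
    (mul θ χ : ℂ) = classInner (indFun H θ) χ := by
  obtain ⟨n, hn⟩ := Cfsg.Agent.Lib.Char.Ortho.exists_nat_classInner_of_isCharacter (isChar_ind hθ) hχ
  rw [mul, hn, toN_natCast]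

theorem mul_coe' {θ : H → ℂ} (hθ : IsIrrCharacter H θ) {χ : G → ℂ} (hχ : IsCharacter G χ) :
    (mul θ χ : ℂ) = classInner χ (indFun H θ) := by
  have h1 := mul_coe hθ hχ
  have h2 := Cfsg.Agent.Lib.Char.Ortho.classInner_conj_symm (indFun H θ) χ
  rw [← h2, ← h1, Complex.conj_natCast]

/-- Frobenius reciprocity for the multiplicities. -/
theorem mul_coe_res {θ : H → ℂ} (hθ : IsIrrCharacter H θ) {χ : G → ℂ} (hχ : IsCharacter G χ) :
    (mul θ χ : ℂ) = classInner θ (fun u : H => χ u) := by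
  rw [mul_coe hθ hχ, frobenius_reciprocity H θ χ
    (Cfsg.Agent.Lib.Char.Basic.isClassFunction_of_isCharacter hχ)]

/-- The principal character of a group, as an element of the type of irreducible characters. -/
noncomputable def one (A : Type*) [Group A] [Fintype A] : IrrCharacter A :=
  ⟨fun _ => 1, Cfsg.Agent.Lib.Char.IndNormal.isIrrCharacter_principal⟩

/-- Total Gram matrix. -/
theorem sum_mul_mul (hz : ZChar H B D) {θ θ' : H → ℂ} (hθ : IsIrrCharacter H θ)
    (hθ' : IsIrrCharacter H θ') :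
    ∑ χ : IrrCharacter G, mul θ χ * mul θ' χ =
      (∑ d : D, if θ = cj H θ' d then 1 else 0) + Nat.card D * dg θ' * dg θ := by
  classical
  have h1 := classInner_indFun_indFun_irr hz hθ hθ'
  have h2 := Cfsg.Agent.Lib.Char.Ortho.classInner_eq_sum_mul (isChar_ind (G := G) hθ) (isChar_ind hθ')
  have h3 : ∀ i : IrrCharacter G, classInner (indFun H θ) i * classInner (i : G → ℂ) (indFun H θ')
      = (mul θ i : ℂ) * (mul θ' i : ℂ) := by
    intro i
    have hi := Cfsg.Agent.Lib.Char.Basic.isCharacter_of_isIrrCharacter i.2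
    rw [mul_coe hθ hi, mul_coe' hθ' hi]
  simp_rw [h3] at h2
  rw [h1] at h2
  have h4 : ((∑ χ : IrrCharacter G, mul θ χ * mul θ' χ : ℕ) : ℂ) =
      (((∑ d : D, if θ = cj H θ' d then 1 else 0) + Nat.card D * dg θ' * dg θ : ℕ) : ℂ) := by
    push_cast
    rw [← h2, dg_coe hθ, dg_coe hθ']
  exact_mod_cast h4

/-- Degree of an induced character as a sum over irreducibles. -/
theorem sum_mul_dg (hz : ZChar H B D) {θ : H → ℂ} (hθ : IsIrrCharacter H θ) :
    ∑ χ : IrrCharacter G, mul θ χ * dg (χ : G → ℂ) =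
      (Nat.card H + 1) * Nat.card D * dg θ := by
  classical
  have h1 := Cfsg.Agent.Lib.Char.Ortho.decomp_eq_sum_classInner (isChar_ind (G := G) hθ)
  have h2 := congrFun h1 1
  rw [indFun_one, index_eq hz] at h2
  simp only [Finset.sum_apply, Pi.smul_apply, smul_eq_mul] at h2
  have h3 : ∀ ψ : IrrCharacter G, classInner (indFun H θ) (ψ : G → ℂ) * (ψ : G → ℂ) 1
      = ((mul θ ψ * dg (ψ : G → ℂ) : ℕ) : ℂ) := by
    intro ψ
    push_cast
    rw [mul_coe hθ (Cfsg.Agent.Lib.Char.Basic.isCharacter_of_isIrrCharacter ψ.2), dg_coe ψ.2]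
  simp_rw [h3] at h2
  rw [← dg_coe hθ] at h2
  exact_mod_cast h2.symm

/-- Restriction to `H` as a sum of irreducibles. -/
theorem res_eq_sum {χ : G → ℂ} (hχ : IsCharacter G χ) :
    (fun u : H => χ u) = ∑ θ : IrrCharacter H, (mul (θ : H → ℂ) χ : ℂ) • (θ : H → ℂ) := by
  classical
  have hr : IsCharacter H (fun u : H => χ u) := Cfsg.Agent.Lib.Char.Basic.isCharacter_restrict hχ H
  have h1 := Cfsg.Agent.Lib.Char.Ortho.decomp_eq_sum_classInner hr
  conv_lhs => rw [h1]
  refine Finset.sum_congr rfl fun θ _ => ?_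
  have h2 := mul_coe_res (θ := (θ : H → ℂ)) θ.2 hχ
  have h3 := Cfsg.Agent.Lib.Char.Ortho.classInner_conj_symm (θ : H → ℂ) (fun u : H => χ u)
  have h4 : classInner (fun u : H => χ u) (θ : H → ℂ) = (mul (θ : H → ℂ) χ : ℂ) := by
    rw [← h3, ← h2, Complex.conj_natCast]
  rw [h4]

/-- The degree of `χ` from the restriction to `H`. -/
theorem dg_eq_sum {χ : G → ℂ} (hχ : IsIrrCharacter G χ) :
    dg χ = ∑ θ : IrrCharacter H, mul (θ : H → ℂ) χ * dg (θ : H → ℂ) := by
  classical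
  have h1 := congrFun (res_eq_sum (H := H)
    (Cfsg.Agent.Lib.Char.Basic.isCharacter_of_isIrrCharacter hχ)) 1
  simp only [Finset.sum_apply, Pi.smul_apply, smul_eq_mul, OneMemClass.coe_one] at h1
  have h2 : ((dg χ : ℕ) : ℂ) = ((∑ θ : IrrCharacter H, mul (θ : H → ℂ) χ * dg (θ : H → ℂ) : ℕ) : ℂ) := by
    push_cast
    rw [dg_coe hχ, h1]
    refine Finset.sum_congr rfl fun θ _ => ?_
    rw [dg_coe θ.2]
  exact_mod_cast h2

/-- The norm of a restriction. -/
theorem norm_res_eq_sum {χ : G → ℂ} (hχ : IsCharacter G χ) :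
    classInner (fun u : H => χ u) (fun u : H => χ u) =
      ((∑ θ : IrrCharacter H, mul (θ : H → ℂ) χ * mul (θ : H → ℂ) χ : ℕ) : ℂ) := by
  classical
  have hr : IsCharacter H (fun u : H => χ u) := Cfsg.Agent.Lib.Char.Basic.isCharacter_restrict hχ H
  rw [Cfsg.Agent.Lib.Char.Ortho.classInner_eq_sum_mul hr hr]
  push_cast
  refine Finset.sum_congr rfl fun θ _ => ?_
  have h2 := mul_coe_res (θ := (θ : H → ℂ)) θ.2 hχ
  have h3 := Cfsg.Agent.Lib.Char.Ortho.classInner_conj_symm (θ : H → ℂ) (fun u : H => χ u)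
  have h4 : classInner (fun u : H => χ u) (θ : H → ℂ) = (mul (θ : H → ℂ) χ : ℂ) := by
    rw [← h3, ← h2, Complex.conj_natCast]
  rw [h4, ← h2]

/-! ### Invariance -/

theorem classInner_cj (hz : ZChar H B D) (θ : H → ℂ) {χ : G → ℂ} (hχ : IsClassFunction G χ) {d : G}
    (hd : d ∈ B) : classInner (cj H θ d) (fun u : H => χ u) = classInner θ (fun u : H => χ u) := by
  classical
  rw [classInner_def, classInner_def, cj_eq_comp hz θ d hd]
  congr 1
  have hb := conjHom_bijective hz d hd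
  refine Fintype.sum_bijective _ hb _ _ ?_
  intro u
  congr 2
  have h1 : ((conjHom hz d hd u : H) : G) = d⁻¹ * u * d := rfl
  rw [h1]
  have := hχ u d⁻¹
  simpa using this.symm

theorem mul_cj (hz : ZChar H B D) {θ : H → ℂ} (hθ : IsIrrCharacter H θ) {χ : G → ℂ}
    (hχ : IsCharacter G χ) {d : G} (hd : d ∈ B) : mul (cj H θ d) χ = mul θ χ := by
  have h1 := mul_coe_res (cj_isIrr hz hθ hd) hχ
  have h2 := mul_coe_res hθ hχ
  rw [classInner_cj hz θ (Cfsg.Agent.Lib.Char.Basic.isClassFunction_of_isCharacter hχ) hd] at h1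
  have h3 : (mul (cj H θ d) χ : ℂ) = mul θ χ := by rw [h1, h2]
  exact_mod_cast h3

theorem dg_cj (hz : ZChar H B D) (θ : H → ℂ) {d : G} (hd : d ∈ B) : dg (cj H θ d) = dg θ := by
  rw [dg, dg, cj_one_apply hz θ hd]

/-! ### The columns with `H`-fixed vectors -/

/-- The classification of the irreducible characters with `H`-fixed vectors. -/
structure YData (H : Subgroup G) [Fintype H] (χ₁ : IrrCharacter G) : Prop where
  one_val : (χ₁ : G → ℂ) 1 = (Nat.card H : ℂ)
  val : ∀ u ∈ H, u ≠ 1 → (χ₁ : G → ℂ) u = 0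
  classify : ∀ χ : IrrCharacter G, mul ((one H : IrrCharacter H) : H → ℂ) (χ : G → ℂ) ≠ 0 →
    χ = one G ∨ χ = χ₁ ∨ ((χ : G → ℂ) 1 = (Nat.card H : ℂ) + 1 ∧ ∀ u ∈ H, u ≠ 1 → (χ : G → ℂ) u = 1)

/-- multiplicities in the principal character -/
theorem mul_one_G {θ : H → ℂ} (hθ : IsIrrCharacter H θ) :
    mul θ ((one G : IrrCharacter G) : G → ℂ) = if θ = fun _ => 1 then 1 else 0 := by
  classical
  have h1 := mul_coe_res hθ (Cfsg.Agent.Lib.Char.Basic.isCharacter_of_isIrrCharacter (one G).2)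
  have h2 : (fun u : H => ((one G : IrrCharacter G) : G → ℂ) u) = fun _ => 1 := rfl
  rw [h2, classInner_irr hθ Cfsg.Agent.Lib.Char.IndNormal.isIrrCharacter_principal] at h1
  split_ifs at h1 ⊢ with h
  · exact_mod_cast h1
  · exact_mod_cast h1

/-- The inner product with the function `ρ`. -/
theorem mul_of_res_eq_rho {θ : H → ℂ} (hθ : IsIrrCharacter H θ) {χ : G → ℂ} (hχ : IsCharacter G χ)
    (h1 : χ 1 = (Nat.card H : ℂ)) (hval : ∀ u ∈ H, u ≠ 1 → χ u = 0) : mul θ χ = dg θ := by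
  classical
  have hres : (fun u : H => χ u) = rho H := by
    funext u
    by_cases hu : u = 1
    · subst hu
      rw [rho_one]
      exact h1
    · rw [rho_of_ne hu]
      exact hval u u.2 (fun h => hu (Subtype.ext h))
  have h2 := mul_coe_res hθ hχ
  rw [hres, classInner_rho, ← dg_coe hθ] at h2
  exact_mod_cast h2

theorem mul_of_res_eq_one_add_rho {θ : H → ℂ} (hθ : IsIrrCharacter H θ) {χ : G → ℂ}
    (hχ : IsCharacter G χ) (h1 : χ 1 = (Nat.card H : ℂ) + 1) (hval : ∀ u ∈ H, u ≠ 1 → χ u = 1) :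
    mul θ χ = dg θ + if θ = fun _ => 1 then 1 else 0 := by
  classical
  have hres : (fun u : H => χ u) = (fun _ => 1) + rho H := by
    funext u
    by_cases hu : u = 1
    · subst hu
      simp only [Pi.add_apply]
      rw [rho_one, add_comm]
      exact h1
    · simp only [Pi.add_apply]
      rw [rho_of_ne hu, add_zero]
      exact hval u u.2 (fun h => hu (Subtype.ext h))
  have h2 := mul_coe_res hθ hχ
  rw [hres, Cfsg.Agent.Lib.Char.Ortho.classInner_add_right, classInner_rho,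
    classInner_irr hθ Cfsg.Agent.Lib.Char.IndNormal.isIrrCharacter_principal, ← dg_coe hθ] at h2
  split_ifs at h2 ⊢ with h
  · have h3 : (mul θ χ : ℂ) = ((dg θ + 1 : ℕ) : ℂ) := by
      rw [h2]; push_cast; ring
    exact_mod_cast h3
  · have h3 : (mul θ χ : ℂ) = ((dg θ + 0 : ℕ) : ℂ) := by
      rw [h2]; push_cast; ring
    exact_mod_cast h3

section Y

variable {χ₁ : IrrCharacter G} (hz : ZChar H B D) (hY : YData H χ₁)

/-- Irreducible characters without `H`-fixed vectors. -/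
abbrev XT (H : Subgroup G) [Fintype H] : Type u :=
  {χ : IrrCharacter G // mul ((one H : IrrCharacter H) : H → ℂ) (χ : G → ℂ) = 0}

/-- The other characters with `H`-fixed vectors. -/
noncomputable def Ks (H : Subgroup G) [Fintype H] (χ₁ : IrrCharacter G) : Finset (IrrCharacter G) := by
  classical
  exact univ.filter fun χ => mul ((one H : IrrCharacter H) : H → ℂ) (χ : G → ℂ) ≠ 0 ∧ χ ≠ one G ∧ χ ≠ χ₁

include hY in
theorem chi1_ne_one (hH : 1 < Nat.card H) : χ₁ ≠ one G := by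
  intro h
  have h1 := hY.one_val
  rw [h] at h1
  have h2 : (1 : ℂ) = (Nat.card H : ℂ) := h1
  have h3 : 1 = Nat.card H := by exact_mod_cast h2
  omega

include hY in
/-- `χ₁` has `H`-fixed vectors with multiplicity `1`. -/
theorem mul_one_chi1 : mul ((one H : IrrCharacter H) : H → ℂ) (χ₁ : G → ℂ) = 1 := by
  rw [mul_of_res_eq_rho (one H).2 (Cfsg.Agent.Lib.Char.Basic.isCharacter_of_isIrrCharacter χ₁.2)
    hY.one_val hY.val]
  have := toN_natCast 1
  simpa [dg, one] using this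

theorem mul_one_one : mul ((one H : IrrCharacter H) : H → ℂ) ((one G : IrrCharacter G) : G → ℂ) = 1 := by
  rw [mul_one_G (one H).2]
  exact if_pos rfl

theorem dg_one_H : dg ((one H : IrrCharacter H) : H → ℂ) = 1 := by
  have := toN_natCast 1
  simpa [dg, one] using this

include hY in
/-- Properties of `Ks`. -/
theorem Ks_spec {χ : IrrCharacter G} (hχ : χ ∈ Ks H χ₁) :
    (χ : G → ℂ) 1 = (Nat.card H : ℂ) + 1 ∧ ∀ u ∈ H, u ≠ 1 → (χ : G → ℂ) u = 1 := by
  classical
  have h1 : mul ((one H : IrrCharacter H) : H → ℂ) (χ : G → ℂ) ≠ 0 ∧ χ ≠ one G ∧ χ ≠ χ₁ := by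
    simpa [Ks] using hχ
  rcases hY.classify χ h1.1 with h | h | h
  · exact absurd h h1.2.1
  · exact absurd h h1.2.2
  · exact h

include hY in
/-- The splitting of a sum over all the irreducible characters. -/
theorem sum_irr_split (hH : 1 < Nat.card H) {M : Type*} [AddCommMonoid M] (g : IrrCharacter G → M) :
    ∑ χ : IrrCharacter G, g χ = ∑ x : XT H, g x.1 + (g (one G) + (g χ₁ + ∑ χ ∈ Ks H χ₁, g χ)) := by
  classical
  -- `one` and `χ₁` are not in `XT`
  have hne1 : one G ≠ χ₁ := (chi1_ne_one hY hH).symm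
  have h1 : (univ : Finset (IrrCharacter G)) =
      (univ.filter fun χ : IrrCharacter G => mul ((one H : IrrCharacter H) : H → ℂ) (χ : G → ℂ) = 0) ∪
        (insert (one G) (insert χ₁ (Ks H χ₁))) := by
    ext χ
    simp only [mem_univ, mem_union, mem_filter, true_and, mem_insert, true_iff]
    by_cases h0 : mul ((one H : IrrCharacter H) : H → ℂ) (χ : G → ℂ) = 0
    · exact Or.inl h0
    · right
      by_cases h2 : χ = one G
      · exact Or.inl h2
      · by_cases h3 : χ = χ₁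
        · exact Or.inr (Or.inl h3)
        · refine Or.inr (Or.inr ?_)
          simp only [Ks, mem_filter, mem_univ, true_and]
          exact ⟨h0, h2, h3⟩
  have hd : Disjoint (univ.filter fun χ : IrrCharacter G =>
      mul ((one H : IrrCharacter H) : H → ℂ) (χ : G → ℂ) = 0) (insert (one G) (insert χ₁ (Ks H χ₁))) := by
    rw [Finset.disjoint_left]
    intro χ hχ hχ'
    simp only [mem_filter, mem_univ, true_and] at hχ
    simp only [mem_insert] at hχ'
    rcases hχ' with rfl | rfl | h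
    · rw [mul_one_one] at hχ
      omega
    · rw [mul_one_chi1 hY] at hχ
      omega
    · simp only [Ks, mem_filter, mem_univ, true_and] at h
      exact h.1 hχ
  rw [h1, Finset.sum_union hd, Finset.sum_insert, Finset.sum_insert]
  · congr 1
    rw [Finset.sum_subtype (univ.filter fun χ : IrrCharacter G =>
      mul ((one H : IrrCharacter H) : H → ℂ) (χ : G → ℂ) = 0) (p := fun χ : IrrCharacter G =>
      mul ((one H : IrrCharacter H) : H → ℂ) (χ : G → ℂ) = 0) (by simp)]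
  · simp [Ks]
  · simp only [mem_insert, not_or]
    refine ⟨hne1, ?_⟩
    simp [Ks]

include hz hY in
/-- Counting `Ks`: `4 |Ks| + 2 = 2 e`. -/
theorem card_Ks (hH : 1 < Nat.card H) : 4 * (Ks H χ₁).card + 2 = 2 * Nat.card D := by
  classical
  have h1 := sum_mul_mul hz (one H).2 (one H).2
  have h2 : ∀ d : D, (((one H : IrrCharacter H) : H → ℂ) = cj H ((one H : IrrCharacter H) : H → ℂ) d) := by
    intro d
    rw [cj_eq_comp hz _ _ (hz.D_le d.2)]
    rfl
  have h2' : ∀ d : D, (if ((one H : IrrCharacter H) : H → ℂ) = cj H ((one H : IrrCharacter H) : H → ℂ) d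
      then 1 else 0) = 1 := fun d => if_pos (h2 d)
  rw [Finset.sum_congr rfl (fun d _ => h2' d)] at h1
  simp only [Finset.sum_const, Finset.card_univ, smul_eq_mul, mul_one] at h1
  rw [dg_one_H, ← Nat.card_eq_fintype_card, mul_one] at h1
  rw [sum_irr_split hY hH] at h1
  have h3 : ∑ x : XT H, mul ((one H : IrrCharacter H) : H → ℂ) (x.1 : G → ℂ) *
      mul ((one H : IrrCharacter H) : H → ℂ) (x.1 : G → ℂ) = 0 := by
    refine Finset.sum_eq_zero fun x _ => ?_
    rw [x.2]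
    simp
  have h4 : ∑ χ ∈ Ks H χ₁, mul ((one H : IrrCharacter H) : H → ℂ) (χ : G → ℂ) *
      mul ((one H : IrrCharacter H) : H → ℂ) (χ : G → ℂ) = 4 * (Ks H χ₁).card := by
    rw [Finset.sum_congr rfl (g := fun _ => 4)]
    · simp [mul_comm]
    · intro χ hχ
      obtain ⟨h5, h6⟩ := Ks_spec hY hχ
      rw [mul_of_res_eq_one_add_rho (one H).2 (Cfsg.Agent.Lib.Char.Basic.isCharacter_of_isIrrCharacter χ.2)
        h5 h6, dg_one_H]
      have h7 : (if ((one H : IrrCharacter H) : H → ℂ) = (fun _ => 1) then 1 else 0) = 1 := if_pos rfl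
      rw [h7]
  rw [h3, h4, mul_one_one, mul_one_chi1 hY] at h1
  omega

include hY in
/-- On `Ks` and `χ₁` the columns are `v`. -/
theorem mul_of_mem_Ks {θ : H → ℂ} (hθ : IsIrrCharacter H θ) (hθ1 : θ ≠ fun _ => 1) {χ : IrrCharacter G}
    (hχ : χ ∈ Ks H χ₁) : mul θ (χ : G → ℂ) = dg θ := by
  obtain ⟨h5, h6⟩ := Ks_spec hY hχ
  rw [mul_of_res_eq_one_add_rho hθ (Cfsg.Agent.Lib.Char.Basic.isCharacter_of_isIrrCharacter χ.2)
    h5 h6, if_neg hθ1, add_zero]

include hY in
theorem mul_chi1 {θ : H → ℂ} (hθ : IsIrrCharacter H θ) : mul θ (χ₁ : G → ℂ) = dg θ :=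
  mul_of_res_eq_rho hθ (Cfsg.Agent.Lib.Char.Basic.isCharacter_of_isIrrCharacter χ₁.2) hY.one_val hY.val

theorem mul_one' {θ : H → ℂ} (hθ : IsIrrCharacter H θ) (hθ1 : θ ≠ fun _ => 1) :
    mul θ ((one G : IrrCharacter G) : G → ℂ) = 0 := by
  rw [mul_one_G hθ, if_neg hθ1]

include hz hY in
/-- The Gram matrix on `XT`. -/
theorem gram_X (hH : 1 < Nat.card H) {θ θ' : H → ℂ} (hθ : IsIrrCharacter H θ) (hθ' : IsIrrCharacter H θ')
    (hθ1 : θ ≠ fun _ => 1) (hθ1' : θ' ≠ fun _ => 1) :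
    ∑ x : XT H, mul θ (x.1 : G → ℂ) * mul θ' (x.1 : G → ℂ) + (1 + (Ks H χ₁).card) * (dg θ * dg θ') =
      (∑ d : D, if θ = cj H θ' d then 1 else 0) + Nat.card D * dg θ' * dg θ := by
  classical
  have hK : ∑ χ ∈ Ks H χ₁, mul θ (χ : G → ℂ) * mul θ' (χ : G → ℂ) = (Ks H χ₁).card * (dg θ * dg θ') := by
    rw [Finset.sum_congr rfl (g := fun _ => dg θ * dg θ')
      (fun χ hχ => by rw [mul_of_mem_Ks hY hθ hθ1 hχ, mul_of_mem_Ks hY hθ' hθ1' hχ])]
    simp
  rw [← sum_mul_mul hz hθ hθ', sum_irr_split hY hH, mul_one' hθ hθ1, mul_chi1 hY hθ, mul_chi1 hY hθ', hK]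
  simp only [zero_mul, zero_add]
  ring

include hz hY in
/-- The degree functional. -/
theorem deg_X (hH : 1 < Nat.card H) {θ θ' : H → ℂ} (hθ : IsIrrCharacter H θ) (hθ' : IsIrrCharacter H θ')
    (hθ1 : θ ≠ fun _ => 1) (hθ1' : θ' ≠ fun _ => 1) :
    ∑ x : XT H, ((dg θ' : ℤ) * mul θ (x.1 : G → ℂ) - (dg θ : ℤ) * mul θ' (x.1 : G → ℂ)) * dg (x.1 : G → ℂ) = 0 := by
  classical
  have h1 := sum_mul_dg hz hθ
  have h2 := sum_mul_dg hz hθ'
  have h3 : ∑ χ : IrrCharacter G, ((dg θ' : ℤ) * mul θ (χ : G → ℂ) - (dg θ : ℤ) * mul θ' (χ : G → ℂ))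
      * dg (χ : G → ℂ) = 0 := by
    have h4 : ∀ χ : IrrCharacter G, ((dg θ' : ℤ) * mul θ (χ : G → ℂ) - (dg θ : ℤ) * mul θ' (χ : G → ℂ))
      * dg (χ : G → ℂ) = (dg θ' : ℤ) * ((mul θ (χ : G → ℂ) * dg (χ : G → ℂ) : ℕ) : ℤ) -
        (dg θ : ℤ) * ((mul θ' (χ : G → ℂ) * dg (χ : G → ℂ) : ℕ) : ℤ) := by
      intro χ
      push_cast
      ring
    simp_rw [h4]
    rw [Finset.sum_sub_distrib, ← Finset.mul_sum, ← Finset.mul_sum, ← Nat.cast_sum, ← Nat.cast_sum, h1, h2]
    push_cast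
    ring
  rw [sum_irr_split hY hH, mul_one' hθ hθ1, mul_one' hθ' hθ1', mul_chi1 hY hθ, mul_chi1 hY hθ'] at h3
  have h5 : ∑ χ ∈ Ks H χ₁, ((dg θ' : ℤ) * mul θ (χ : G → ℂ) - (dg θ : ℤ) * mul θ' (χ : G → ℂ))
      * dg (χ : G → ℂ) = 0 := by
    refine Finset.sum_eq_zero fun χ hχ => ?_
    rw [mul_of_mem_Ks hY hθ hθ1 hχ, mul_of_mem_Ks hY hθ' hθ1' hχ]
    ring
  rw [h5] at h3
  simp only [Nat.cast_zero, mul_zero, sub_self, zero_mul, zero_add, add_zero] at h3
  have h6 : ((dg θ' : ℤ) * (dg θ : ℤ) - (dg θ : ℤ) * (dg θ' : ℤ)) * dg (χ₁ : G → ℂ) = 0 := by ring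
  rw [h6, add_zero] at h3
  exact h3

/-- An element of `XT` has a nonzero row. -/
theorem exists_row (x : XT H) : ∃ θ : IrrCharacter H, (θ : H → ℂ) ≠ (fun _ => 1) ∧
    mul (θ : H → ℂ) (x.1 : G → ℂ) ≠ 0 := by
  classical
  by_contra hcon
  push Not at hcon
  have h1 := dg_eq_sum (H := H) x.1.2
  have h2 : ∑ θ : IrrCharacter H, mul (θ : H → ℂ) (x.1 : G → ℂ) * dg (θ : H → ℂ) = 0 := by
    refine Finset.sum_eq_zero fun θ _ => ?_
    by_cases hθ : (θ : H → ℂ) = fun _ => 1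
    · have hθ' : θ = one H := Subtype.ext hθ
      rw [hθ', x.2]
      simp
    · rw [hcon θ hθ]
      simp
  have h3 := dg_pos x.1.2
  omega

end Y

end Cfsg.Agent.Lib.Zass.Rows2
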