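import Mathlib
import Cfsg.Agent.Lib.Zass.Rows2
import Cfsg.Agent.Lib.Zass.CohAbs

/-!
# Characters of a Zassenhaus group, part 3: the coordinates and coherence

The coordinates are the orbits of `D` on the nonprincipal irreducible characters of `H`.
-/

set_option autoImplicit false
set_option linter.unusedSectionVars false
set_option linter.style.haveILetI false

namespace Cfsg.Agent.Lib.Zass.Rows3

open Cfsg Cfsg.Agent.Lib.Char.Induced Cfsg.Agent.Lib.Zass.Rows1 Cfsg.Agent.Lib.Zass.Rows2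
open Cfsg.Agent.Lib.Char.Ortho (classInner_irr fintype_irr)
open scoped ComplexConjugate
open Finset
open scoped Classical

universe u

variable {G : Type u} [Group G] [Fintype G] {H B D : Subgroup G} [Fintype H] [Fintype D]

/-- Nonprincipal irreducible characters. -/
abbrev IT (H : Subgroup G) [Fintype H] : Type u := {θ : IrrCharacter H // θ ≠ one H}

theorem IT_ne (θ : IT H) : ((θ.1 : IrrCharacter H) : H → ℂ) ≠ fun _ => 1 := fun h =>
  θ.2 (Subtype.ext h)

/-- The relation "conjugate under `D`". -/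
def rowSetoid (hz : ZChar H B D) : Setoid (IT H) where
  r θ θ' := ∃ d ∈ D, ((θ'.1 : IrrCharacter H) : H → ℂ) = cj H ((θ.1 : IrrCharacter H) : H → ℂ) d
  iseqv := by
    refine ⟨fun θ => ⟨1, D.one_mem, (cj_self_one _).symm⟩, ?_, ?_⟩
    · rintro θ θ' ⟨d, hd, h⟩
      refine ⟨d⁻¹, D.inv_mem hd, ?_⟩
      rw [h, cj_cj hz _ (hz.D_le hd) (B.inv_mem (hz.D_le hd)), inv_mul_cancel, cj_self_one]
    · rintro θ θ' θ'' ⟨d, hd, h⟩ ⟨d', hd', h'⟩
      refine ⟨d' * d, D.mul_mem hd' hd, ?_⟩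
      rw [h', h, cj_cj hz _ (hz.D_le hd) (hz.D_le hd')]

/-- The coordinates. -/
abbrev RT (hz : ZChar H B D) : Type u := Quotient (rowSetoid hz)

noncomputable instance (hz : ZChar H B D) : Fintype (RT hz) := by
  classical
  exact Fintype.ofFinite _

/-- Chosen representative of a coordinate. -/
noncomputable def rep (hz : ZChar H B D) (i : RT hz) : IT H := Quotient.out i

theorem rep_rel (hz : ZChar H B D) (θ : IT H) :
    (rowSetoid hz).r θ (rep hz (Quotient.mk (rowSetoid hz) θ)) := by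
  have h := Quotient.mk_out (s := rowSetoid hz) θ
  exact (rowSetoid hz).symm h

theorem mk_rep (hz : ZChar H B D) (i : RT hz) : Quotient.mk (rowSetoid hz) (rep hz i) = i :=
  Quotient.out_eq i

theorem rel_mul (hz : ZChar H B D) {θ θ' : IT H} (h : (rowSetoid hz).r θ θ') {χ : G → ℂ}
    (hχ : IsCharacter G χ) :
    mul ((θ'.1 : IrrCharacter H) : H → ℂ) χ = mul ((θ.1 : IrrCharacter H) : H → ℂ) χ := by
  obtain ⟨d, hd, hh⟩ := h
  rw [hh, mul_cj hz θ.1.2 hχ (hz.D_le hd)]

theorem rel_dg (hz : ZChar H B D) {θ θ' : IT H} (h : (rowSetoid hz).r θ θ') :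
    dg ((θ'.1 : IrrCharacter H) : H → ℂ) = dg ((θ.1 : IrrCharacter H) : H → ℂ) := by
  obtain ⟨d, hd, hh⟩ := h
  rw [hh, dg_cj hz _ (hz.D_le hd)]

/-- The sum over `D` of the Kronecker symbols. -/
theorem sum_D_if (hz : ZChar H B D) (θ θ' : IT H) :
    (∑ d : D, if ((θ.1 : IrrCharacter H) : H → ℂ) = cj H ((θ'.1 : IrrCharacter H) : H → ℂ) d then 1 else 0)
      = if Quotient.mk (rowSetoid hz) θ = Quotient.mk (rowSetoid hz) θ' then 1 else 0 := by
  classical
  split_ifs with h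
  · have h1 : (rowSetoid hz).r θ' θ := Quotient.exact h.symm
    obtain ⟨d₀, hd₀, hh⟩ := h1
    rw [Finset.sum_eq_single (⟨d₀, hd₀⟩ : D)]
    · exact if_pos hh
    · intro d _ hd
      rw [if_neg]
      intro h2
      apply hd
      apply Subtype.ext
      have := cj_injective hz θ'.1.2 (IT_ne θ') d.2 hd₀ (h2.symm.trans hh)
      exact this
    · simp
  · apply Finset.sum_eq_zero
    intro d _
    rw [if_neg]
    intro h2
    apply h
    apply Quotient.sound
    exact (rowSetoid hz).symm ⟨d, d.2, h2⟩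

/-- A conjugate of a nonprincipal character is nonprincipal. -/
theorem cj_ne_one (hz : ZChar H B D) (θ : IT H) {d : G} (hd : d ∈ D) :
    (⟨cj H ((θ.1 : IrrCharacter H) : H → ℂ) d, cj_isIrr hz θ.1.2 (hz.D_le hd)⟩ : IrrCharacter H) ≠ one H := by
  intro h
  apply θ.2
  apply Subtype.ext
  have h1 : cj H ((θ.1 : IrrCharacter H) : H → ℂ) d = fun _ => 1 := congrArg Subtype.val h
  have h2 : cj H (cj H ((θ.1 : IrrCharacter H) : H → ℂ) d) d⁻¹ =
      ((θ.1 : IrrCharacter H) : H → ℂ) := by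
    rw [cj_cj hz _ (hz.D_le hd) (B.inv_mem (hz.D_le hd)), inv_mul_cancel, cj_self_one]
  rw [← h2, h1, cj_eq_comp hz _ _ (B.inv_mem (hz.D_le hd))]
  rfl

/-- The conjugate as an element of `IT H`. -/
noncomputable def cjIT (hz : ZChar H B D) (θ : IT H) (d : D) : IT H :=
  ⟨⟨cj H ((θ.1 : IrrCharacter H) : H → ℂ) (d : G), cj_isIrr hz θ.1.2 (hz.D_le d.2)⟩, cj_ne_one hz θ d.2⟩

/-- The size of a fibre of the quotient map. -/
theorem card_fiber (hz : ZChar H B D) (i : RT hz) :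
    (univ.filter fun θ : IT H => Quotient.mk (rowSetoid hz) θ = i).card = Nat.card D := by
  rw [Nat.card_eq_fintype_card, ← Finset.card_univ]
  symm
  refine Finset.card_bij (fun d _ => cjIT hz (rep hz i) d) ?_ ?_ ?_
  · intro d _
    simp only [mem_filter, mem_univ, true_and]
    exact (Quotient.sound (s := rowSetoid hz) ((rowSetoid hz).symm ⟨d, d.2, rfl⟩)).trans (mk_rep hz i)
  · intro d _ d' _ h
    have h1 := congrArg (fun t : IT H => ((t.1 : IrrCharacter H) : H → ℂ)) h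
    apply Subtype.ext
    exact cj_injective hz (rep hz i).1.2 (IT_ne _) d.2 d'.2 h1
  · intro θ hθ
    simp only [mem_filter, mem_univ, true_and] at hθ
    have h1 : (rowSetoid hz).r (rep hz i) θ := by
      apply Quotient.exact
      rw [mk_rep, hθ]
    obtain ⟨d, hd, hh⟩ := h1
    refine ⟨⟨d, hd⟩, mem_univ _, ?_⟩
    apply Subtype.ext
    apply Subtype.ext
    exact hh.symm

/-- Sums over nonprincipal characters are sums over coordinates. -/
theorem sum_IT (hz : ZChar H B D) {M : Type*} [AddCommMonoid M] (g : IT H → M)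
    (hg : ∀ θ θ', (rowSetoid hz).r θ θ' → g θ' = g θ) :
    ∑ θ : IT H, g θ = Nat.card D • ∑ i : RT hz, g (rep hz i) := by
  classical
  rw [← Finset.sum_fiberwise (s := univ) (g := fun θ : IT H => Quotient.mk (rowSetoid hz) θ) (f := g),
    Finset.smul_sum]
  refine Finset.sum_congr rfl fun i _ => ?_
  rw [Finset.sum_congr rfl (g := fun _ => g (rep hz i))]
  · rw [Finset.sum_const, card_fiber]
  · intro θ hθ
    simp only [mem_filter, mem_univ, true_and] at hθ
    apply hg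
    apply Quotient.exact
    rw [mk_rep, hθ]

/-- Sum of squares of degrees over the nonprincipal characters. -/
theorem sum_sq_IT [Finite H] : ∑ θ : IT H, dg ((θ.1 : IrrCharacter H) : H → ℂ) * dg ((θ.1 : IrrCharacter H) : H → ℂ) + 1
    = Nat.card H := by
  classical
  have h1 := Cfsg.Agent.Lib.Char.CompleteCor.sum_sq_degrees (G := H)
  have h2 : ((∑ θ : IrrCharacter H, dg (θ : H → ℂ) * dg (θ : H → ℂ) : ℕ) : ℂ) = (Nat.card H : ℂ) := by
    rw [← h1]
    push_cast
    refine Finset.sum_congr rfl fun θ _ => ?_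
    rw [dg_coe θ.2, sq]
  have h3 : ∑ θ : IrrCharacter H, dg (θ : H → ℂ) * dg (θ : H → ℂ) = Nat.card H := by exact_mod_cast h2
  rw [← h3, ← Finset.sum_erase_add univ _ (mem_univ (one H))]
  congr 1
  · symm
    refine Finset.sum_subtype _ (p := fun θ : IrrCharacter H => θ ≠ one H) (by simp) _
  · rw [dg_one_H]

section Coh

variable {χ₁ : IrrCharacter G} (hz : ZChar H B D)

/-- The coefficient matrix. -/
noncomputable def cC (hz : ZChar H B D) (i : RT hz) (x : XT H) : ℤ :=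
  (mul (((rep hz i).1 : IrrCharacter H) : H → ℂ) ((x.1 : IrrCharacter G) : G → ℂ) : ℤ)

/-- The degree vector. -/
noncomputable def cf (hz : ZChar H B D) (i : RT hz) : ℤ :=
  (dg (((rep hz i).1 : IrrCharacter H) : H → ℂ) : ℤ)

/-- The degrees of the characters. -/
noncomputable def cdeg (x : XT H) : ℤ := (dg ((x.1 : IrrCharacter G) : G → ℂ) : ℤ)

theorem cf_pos (i : RT hz) : 0 < cf hz i := by
  have := dg_pos (rep hz i).1.2
  rw [cf]
  omega

theorem cdeg_pos (x : XT H) : 0 < cdeg x := by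
  have := dg_pos x.1.2
  rw [cdeg]
  omega

include hz in
theorem e_eq (hH : 1 < Nat.card H) (hY : YData H χ₁) : Nat.card D = 2 * (Ks H χ₁).card + 1 := by
  have := card_Ks hz hY hH
  omega

theorem hgram (hH : 1 < Nat.card H) (hY : YData H χ₁) (i j : RT hz) :
    CohAbs.ip (cC hz i) (cC hz j) = (if i = j then 1 else 0) + ((Ks H χ₁).card : ℤ) * cf hz i * cf hz j := by
  classical
  have h1 := gram_X hz hY hH (rep hz i).1.2 (rep hz j).1.2 (IT_ne _) (IT_ne _)
  rw [sum_D_if hz (rep hz i) (rep hz j), mk_rep, mk_rep, e_eq hz hH hY] at h1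
  have h2 : CohAbs.ip (cC hz i) (cC hz j) = ((∑ x : XT H, mul (((rep hz i).1 : IrrCharacter H) : H → ℂ)
      ((x.1 : IrrCharacter G) : G → ℂ) * mul (((rep hz j).1 : IrrCharacter H) : H → ℂ)
      ((x.1 : IrrCharacter G) : G → ℂ) : ℕ) : ℤ) := by
    push_cast
    rfl
  rw [h2]
  have h3 := congrArg (fun n : ℕ => (n : ℤ)) h1
  beta_reduce at h3
  push_cast at h3
  simp only [cf]
  split_ifs at h3 ⊢ with hij
  · push_cast at h3 ⊢
    linear_combination h3
  · push_cast at h3 ⊢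
    linear_combination h3

theorem hdeg (hH : 1 < Nat.card H) (hY : YData H χ₁) (i j : RT hz) :
    ∑ x, (cf hz j • cC hz i - cf hz i • cC hz j) x * cdeg x = 0 := by
  have h1 := deg_X hz hY hH (rep hz i).1.2 (rep hz j).1.2 (IT_ne _) (IT_ne _)
  exact h1

/-- Two coordinates of degree one, from a count of linear characters. -/
theorem exists_two_linear (hlin : Nat.card D < (univ.filter fun θ : IT H =>
    dg ((θ.1 : IrrCharacter H) : H → ℂ) = 1).card) :
    ∃ l l' : RT hz, cf hz l = 1 ∧ cf hz l' = 1 ∧ l ≠ l' := by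
  classical
  have hne : (univ.filter fun θ : IT H => dg ((θ.1 : IrrCharacter H) : H → ℂ) = 1).Nonempty := by
    rw [← Finset.card_pos]
    omega
  obtain ⟨θ₀, hθ₀⟩ := hne
  simp only [mem_filter, mem_univ, true_and] at hθ₀
  set l := Quotient.mk (rowSetoid hz) θ₀ with hl
  -- another linear character in another fibre
  have hex : ∃ θ₁ : IT H, dg ((θ₁.1 : IrrCharacter H) : H → ℂ) = 1 ∧ Quotient.mk (rowSetoid hz) θ₁ ≠ l := by
    by_contra hcon
    push Not at hcon
    have hsub : (univ.filter fun θ : IT H => dg ((θ.1 : IrrCharacter H) : H → ℂ) = 1) ⊆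
        univ.filter fun θ : IT H => Quotient.mk (rowSetoid hz) θ = l := by
      intro θ hθ
      simp only [mem_filter, mem_univ, true_and] at hθ ⊢
      exact hcon θ hθ
    have := Finset.card_le_card hsub
    rw [card_fiber] at this
    omega
  obtain ⟨θ₁, hθ₁, hne⟩ := hex
  refine ⟨l, Quotient.mk (rowSetoid hz) θ₁, ?_, ?_, hne.symm⟩
  · rw [cf, rel_dg hz (rep_rel hz θ₀), hθ₀]
    rfl
  · rw [cf, rel_dg hz (rep_rel hz θ₁), hθ₁]
    rfl

/-- The condition of the extension theorem from the sum over characters. -/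
theorem hM_of (hM : ∀ θ : IT H, 1 < dg ((θ.1 : IrrCharacter H) : H → ℂ) →
    Nat.card D * (2 * dg ((θ.1 : IrrCharacter H) : H → ℂ) + 1) < ∑ θ' ∈ univ.filter (fun θ' : IT H =>
      dg ((θ'.1 : IrrCharacter H) : H → ℂ) < dg ((θ.1 : IrrCharacter H) : H → ℂ)),
        dg ((θ'.1 : IrrCharacter H) : H → ℂ) * dg ((θ'.1 : IrrCharacter H) : H → ℂ))
    (i : RT hz) (hi : 1 < cf hz i) :
    2 * cf hz i + 1 < ∑ j ∈ univ.filter (fun j => cf hz j < cf hz i), cf hz j * cf hz j := by
  classical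
  have hi' : 1 < dg (((rep hz i).1 : IrrCharacter H) : H → ℂ) := by
    rw [cf] at hi
    omega
  have h1 := hM (rep hz i) hi'
  set F := dg (((rep hz i).1 : IrrCharacter H) : H → ℂ) with hF
  rw [Finset.sum_filter] at h1
  have h2 := sum_IT hz (fun θ : IT H => if dg ((θ.1 : IrrCharacter H) : H → ℂ) < F then
    dg ((θ.1 : IrrCharacter H) : H → ℂ) * dg ((θ.1 : IrrCharacter H) : H → ℂ) else 0) (by
      intro θ θ' h
      beta_reduce
      rw [rel_dg hz h])
  rw [h2, smul_eq_mul] at h1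
  have hD : 0 < Nat.card D := Nat.card_pos
  have h3 := Nat.lt_of_mul_lt_mul_left h1
  rw [Finset.sum_filter]
  have h4 : ((2 * F + 1 : ℕ) : ℤ) < ((∑ j : RT hz, if dg (((rep hz j).1 : IrrCharacter H) : H → ℂ) < F then
      dg (((rep hz j).1 : IrrCharacter H) : H → ℂ) * dg (((rep hz j).1 : IrrCharacter H) : H → ℂ) else 0 : ℕ) : ℤ) := by
    exact_mod_cast h3
  push_cast at h4
  have h5 : cf hz i = (F : ℤ) := rfl
  rw [h5]
  refine lt_of_lt_of_eq h4 ?_
  refine Finset.sum_congr rfl fun j _ => ?_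
  have h6 : cf hz j = (dg (((rep hz j).1 : IrrCharacter H) : H → ℂ) : ℤ) := rfl
  rw [h6]
  simp only [Nat.cast_lt]

/-- `L ≥ 3`. -/
theorem hL (hlt : 2 * Nat.card D + 1 < Nat.card H) : 3 ≤ ∑ i : RT hz, cf hz i * cf hz i := by
  classical
  have h1 := sum_sq_IT (H := H)
  have h2 := sum_IT hz (fun θ : IT H => dg ((θ.1 : IrrCharacter H) : H → ℂ) * dg ((θ.1 : IrrCharacter H) : H → ℂ)) (by
    intro θ θ' h
    beta_reduce
    rw [rel_dg hz h])
  rw [h2, smul_eq_mul] at h1
  have h3 : 3 ≤ ∑ i : RT hz, dg (((rep hz i).1 : IrrCharacter H) : H → ℂ) * dg (((rep hz i).1 : IrrCharacter H) : H → ℂ) := by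
    by_contra hcon
    push Not at hcon
    have h4 : ∑ i : RT hz, dg (((rep hz i).1 : IrrCharacter H) : H → ℂ) * dg (((rep hz i).1 : IrrCharacter H) : H → ℂ) ≤ 2 := by omega
    have h5 := Nat.mul_le_mul_left (Nat.card D) h4
    omega
  have h6 : ((3 : ℕ) : ℤ) ≤ ((∑ i : RT hz, dg (((rep hz i).1 : IrrCharacter H) : H → ℂ) * dg (((rep hz i).1 : IrrCharacter H) : H → ℂ) : ℕ) : ℤ) := by
    exact_mod_cast h3
  push_cast at h6
  exact h6

/-- The rows are nonzero. -/
theorem hrow (x : XT H) : ∃ i : RT hz, cC hz i x ≠ 0 := by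
  classical
  obtain ⟨θ, hθ, hne⟩ := exists_row x
  have hθ' : θ ≠ one H := fun h => hθ (congrArg Subtype.val h)
  refine ⟨Quotient.mk (rowSetoid hz) ⟨θ, hθ'⟩, ?_⟩
  rw [cC, rel_mul hz (rep_rel hz ⟨θ, hθ'⟩)
    (Cfsg.Agent.Lib.Char.Basic.isCharacter_of_isIrrCharacter x.1.2)]
  exact_mod_cast hne

/-- The existence of a pure column. -/
theorem exists_pure (hH : 1 < Nat.card H) (hY : YData H χ₁)
    (hlt : 2 * Nat.card D + 1 < Nat.card H)
    (hcard : (Fintype.card (RT hz) : ℤ) + (Ks H χ₁).card ≤ Fintype.card (XT H))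
    (hlin : Nat.card D < (univ.filter fun θ : IT H =>
      dg ((θ.1 : IrrCharacter H) : H → ℂ) = 1).card)
    (hM : ∀ θ : IT H, 1 < dg ((θ.1 : IrrCharacter H) : H → ℂ) →
      Nat.card D * (2 * dg ((θ.1 : IrrCharacter H) : H → ℂ) + 1) < ∑ θ' ∈ univ.filter (fun θ' : IT H =>
        dg ((θ'.1 : IrrCharacter H) : H → ℂ) < dg ((θ.1 : IrrCharacter H) : H → ℂ)),
          dg ((θ'.1 : IrrCharacter H) : H → ℂ) * dg ((θ'.1 : IrrCharacter H) : H → ℂ)) :
    ∃ (l : RT hz) (x : XT H), cf hz l = 1 ∧ ∀ i, cC hz i x = if i = l then 1 else 0 := by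
  classical
  obtain ⟨l, l', hl, hl', hne⟩ := exists_two_linear hz hlin
  obtain ⟨ε, Φ, hcoh⟩ := CohAbs.exists_coherent (cC hz) (cf hz) cdeg ((Ks H χ₁).card : ℤ)
    (hgram hz hH hY) (hdeg hz hH hY) cdeg_pos (cf_pos hz) hl hl' hne (hM_of hz hM)
  refine ⟨l, Φ l, hl, ?_⟩
  exact CohAbs.exists_pure_column (cC hz) (cf hz) ((Ks H χ₁).card : ℤ) (hgram hz hH hY)
    (fun i x => by rw [cC]; omega) hl (hL hz hlt) hcard (hrow hz) hcoh

end Coh

end Cfsg.Agent.Lib.Zass.Rows3
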