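import Mathlib
import Cfsg.Agent.Lib.Zass.Rows3

/-!
# Characters of a Zassenhaus group, part 4: a pure column bounds `h`; the count of columns
-/

set_option autoImplicit false
set_option linter.unusedSectionVars false
set_option linter.style.haveILetI false

namespace Cfsg.Agent.Lib.Zass.Rows4

open Cfsg Cfsg.Agent.Lib.Char.Induced Cfsg.Agent.Lib.Zass.Rows1 Cfsg.Agent.Lib.Zass.Rows2
  Cfsg.Agent.Lib.Zass.Rows3
open Cfsg.Agent.Lib.Char.Ortho (classInner_irr fintype_irr)
open scoped ComplexConjugate
open Finset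
open scoped Classical

universe u

variable {G : Type u} [Group G] [Fintype G] {H B D : Subgroup G} [Fintype H] [Fintype D]

/-- Sums over the irreducible characters of `H`. -/
theorem sum_irr_H {M : Type*} [AddCommMonoid M] (g : IrrCharacter H → M) :
    ∑ θ : IrrCharacter H, g θ = g (one H) + ∑ θ : IT H, g θ.1 := by
  rw [← Finset.add_sum_erase univ _ (mem_univ (one H))]
  congr 1
  refine Finset.sum_subtype _ (p := fun θ : IrrCharacter H => θ ≠ one H) (by simp) _

section Bound

variable {χ₁ : IrrCharacter G} (hz : ZChar H B D)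

/-- Multiplicities of a pure column on `IT H`. -/
theorem mul_pure {l : RT hz} {x : XT H} (hx : ∀ i, cC hz i x = if i = l then 1 else 0) (θ : IT H) :
    mul ((θ.1 : IrrCharacter H) : H → ℂ) ((x.1 : IrrCharacter G) : G → ℂ) =
      if Quotient.mk (rowSetoid hz) θ = l then 1 else 0 := by
  have h1 := hx (Quotient.mk (rowSetoid hz) θ)
  rw [cC, rel_mul hz (rep_rel hz θ) (Cfsg.Agent.Lib.Char.Basic.isCharacter_of_isIrrCharacter x.1.2)] at h1
  split_ifs at h1 ⊢ <;> exact_mod_cast h1

theorem norm_pure {l : RT hz} {x : XT H} (hx : ∀ i, cC hz i x = if i = l then 1 else 0) :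
    ∑ θ : IrrCharacter H, mul (θ : H → ℂ) ((x.1 : IrrCharacter G) : G → ℂ) *
      mul (θ : H → ℂ) ((x.1 : IrrCharacter G) : G → ℂ) = Nat.card D := by
  rw [sum_irr_H, x.2]
  simp only [mul_zero, zero_add]
  rw [← card_fiber hz l, Finset.card_filter]
  refine Finset.sum_congr rfl fun θ _ => ?_
  rw [mul_pure hz hx θ]
  split_ifs <;> simp

theorem dg_pure {l : RT hz} {x : XT H} (hl : cf hz l = 1) (hx : ∀ i, cC hz i x = if i = l then 1 else 0) :
    dg ((x.1 : IrrCharacter G) : G → ℂ) = Nat.card D := by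
  rw [dg_eq_sum (H := H) x.1.2, sum_irr_H, x.2]
  simp only [zero_mul, zero_add]
  rw [← card_fiber hz l, Finset.card_filter]
  refine Finset.sum_congr rfl fun θ _ => ?_
  rw [mul_pure hz hx θ]
  split_ifs with h
  · have h1 : (rowSetoid hz).r θ (rep hz l) := by
      rw [← h]
      exact rep_rel hz θ
    have h2 := rel_dg hz h1
    have h3 : dg (((rep hz l).1 : IrrCharacter H) : H → ℂ) = 1 := by
      rw [cf] at hl
      exact_mod_cast hl
    rw [one_mul, ← h2, h3]
  · simp

/-- Key inequality on the degree of a character with `H`-fixed vectors. -/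
theorem dg_ge_of_ne_one (hH : 1 < Nat.card H) (hY : YData H χ₁) {χ : IrrCharacter G} (hχ : χ ≠ one G) :
    (Nat.card H + 1) * mul ((one H : IrrCharacter H) : H → ℂ) (χ : G → ℂ) ≤ 2 * dg (χ : G → ℂ) := by
  by_cases h0 : mul ((one H : IrrCharacter H) : H → ℂ) (χ : G → ℂ) = 0
  · rw [h0]
    simp
  rcases hY.classify χ h0 with h | h | h
  · exact absurd h hχ
  · subst h
    rw [mul_one_chi1 hY]
    have : dg (χ : G → ℂ) = Nat.card H := by
      rw [dg, hY.one_val, toN_natCast]
    rw [this]
    omega
  · obtain ⟨h5, h6⟩ := h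
    rw [mul_of_res_eq_one_add_rho (one H).2 (Cfsg.Agent.Lib.Char.Basic.isCharacter_of_isIrrCharacter χ.2)
      h5 h6, dg_one_H]
    have h7 : (if ((one H : IrrCharacter H) : H → ℂ) = (fun _ => 1) then 1 else 0) = 1 := if_pos rfl
    rw [h7]
    have : dg (χ : G → ℂ) = Nat.card H + 1 := by
      have : (χ : G → ℂ) 1 = ((Nat.card H + 1 : ℕ) : ℂ) := by
        rw [h5]
        push_cast
        ring
      rw [dg, this, toN_natCast]
    rw [this]
    omega

/-- A pure column bounds `h`. -/
theorem bound_of_pure (hH : 1 < Nat.card H) (hY : YData H χ₁) (he : 1 < Nat.card D) {l : RT hz} {x : XT H}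
    (hl : cf hz l = 1) (hx : ∀ i, cC hz i x = if i = l then 1 else 0) :
    Nat.card H ≤ 2 * Nat.card D + 1 := by
  set ξ : G → ℂ := ((x.1 : IrrCharacter G) : G → ℂ) with hξ
  have hξi : IsIrrCharacter G ξ := x.1.2
  have hξc : IsCharacter G ξ := Cfsg.Agent.Lib.Char.Basic.isCharacter_of_isIrrCharacter hξi
  set Ξ : G → ℂ := fun g => ξ g * conj (ξ g) with hΞ
  have hΞc : IsCharacter G Ξ :=
    Cfsg.Agent.Lib.Char.Basic.isCharacter_mul hξc (Cfsg.Agent.Lib.Char.Ortho.isCharacter_conj hξc)
  -- multiplicities of `ξ ξ̄`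
  have hm : ∀ χ : IrrCharacter G, ∃ n : ℕ, classInner Ξ (χ : G → ℂ) = n := fun χ =>
    Cfsg.Agent.Lib.Char.Ortho.exists_nat_classInner hΞc χ
  choose m hm using hm
  -- the degree relation
  have h1 : ∑ χ : IrrCharacter G, m χ * dg (χ : G → ℂ) = Nat.card D * Nat.card D := by
    have h2 := congrFun (Cfsg.Agent.Lib.Char.Ortho.decomp_eq_sum_classInner hΞc) 1
    simp only [Finset.sum_apply, Pi.smul_apply, smul_eq_mul] at h2
    have h3 : Ξ 1 = ((Nat.card D * Nat.card D : ℕ) : ℂ) := by
      have h4 : ξ 1 = (Nat.card D : ℂ) := by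
        rw [← dg_coe hξi, hξ, dg_pure hz hl hx]
      rw [hΞ]
      simp only
      rw [h4, Complex.conj_natCast]
      push_cast
      ring
    have h5 : ((∑ χ : IrrCharacter G, m χ * dg (χ : G → ℂ) : ℕ) : ℂ) = ((Nat.card D * Nat.card D : ℕ) : ℂ) := by
      rw [← h3, h2]
      push_cast
      refine Finset.sum_congr rfl fun χ _ => ?_
      rw [hm χ, dg_coe χ.2]
    exact_mod_cast h5
  -- the multiplicity relation
  have h2 : ∑ χ : IrrCharacter G, m χ * mul ((one H : IrrCharacter H) : H → ℂ) (χ : G → ℂ) = Nat.card D := by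
    have h3 := Cfsg.Agent.Lib.Char.Ortho.classInner_eq_sum_mul hΞc (isChar_ind (G := G) (one H).2)
    have h4 : classInner Ξ (indFun H ((one H : IrrCharacter H) : H → ℂ)) =
        classInner (fun u : H => ξ u) (fun u : H => ξ u) := by
      have h5 := Cfsg.Agent.Lib.Char.Ortho.classInner_conj_symm (indFun H ((one H : IrrCharacter H) : H → ℂ)) Ξ
      rw [← h5, frobenius_reciprocity H _ Ξ
        (Cfsg.Agent.Lib.Char.Basic.isClassFunction_of_isCharacter hΞc), classInner_def, classInner_def]
      rw [map_mul, map_sum]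
      simp only [map_inv₀, Complex.conj_natCast, map_mul, Complex.conj_conj, map_one]
      congr 1
      refine Finset.sum_congr rfl fun u _ => ?_
      simp [one, hΞ]
    rw [h4, norm_res_eq_sum hξc, norm_pure hz hx] at h3
    have h6 : ((∑ χ : IrrCharacter G, m χ * mul ((one H : IrrCharacter H) : H → ℂ) (χ : G → ℂ) : ℕ) : ℂ)
        = (Nat.card D : ℂ) := by
      rw [h3]
      push_cast
      refine Finset.sum_congr rfl fun χ _ => ?_
      rw [hm χ, mul_coe' (one H).2 (Cfsg.Agent.Lib.Char.Basic.isCharacter_of_isIrrCharacter χ.2)]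
    exact_mod_cast h6
  -- the principal character
  have h3 : m (one G) = 1 := by
    have h4 := hm (one G)
    have h5 : classInner Ξ ((one G : IrrCharacter G) : G → ℂ) = classInner ξ ξ := by
      rw [classInner_def, classInner_def]
      simp [one, hΞ]
    rw [h5, Cfsg.Agent.Lib.Char.Ortho.classInner_irr_self hξi] at h4
    have h6 : ((m (one G) : ℕ) : ℂ) = ((1 : ℕ) : ℂ) := by
      rw [← h4]
      simp
    exact_mod_cast h6
  have h4 : dg ((one G : IrrCharacter G) : G → ℂ) = 1 := by
    have := toN_natCast 1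
    simpa [dg, one] using this
  have h5 := mul_one_one (H := H) (G := G)
  -- splitting off the principal character
  rw [← Finset.add_sum_erase univ _ (mem_univ (one G)), h3, h4] at h1
  rw [← Finset.add_sum_erase univ _ (mem_univ (one G)), h3, h5] at h2
  have hineq : (Nat.card H + 1) * ∑ χ ∈ univ.erase (one G), m χ * mul ((one H : IrrCharacter H) : H → ℂ) (χ : G → ℂ)
      ≤ 2 * ∑ χ ∈ univ.erase (one G), m χ * dg (χ : G → ℂ) := by
    rw [Finset.mul_sum, Finset.mul_sum]
    refine Finset.sum_le_sum fun χ hχ => ?_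
    have h6 := dg_ge_of_ne_one hH hY (Finset.ne_of_mem_erase hχ)
    nlinarith [Nat.mul_le_mul_left (m χ) h6]
  set A := ∑ χ ∈ univ.erase (one G), m χ * mul ((one H : IrrCharacter H) : H → ℂ) (χ : G → ℂ) with hA
  set Bb := ∑ χ ∈ univ.erase (one G), m χ * dg (χ : G → ℂ) with hBb
  set e := Nat.card D with he'
  set h := Nat.card H with hh'
  have hAe : A = e - 1 := by omega
  have hBe : Bb = e * e - 1 := by omega
  have hAe' : A + 1 = e := by omega
  have hBe' : Bb + 1 = e * e := by omega
  -- conclude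
  have hAp : 0 < A := by omega
  have h7 : e * e = (A + 1) * (A + 1) := by rw [hAe']
  have h8 : Bb = A * (A + 2) := by
    have : Bb + 1 = A * (A + 2) + 1 := by rw [hBe', h7]; ring
    omega
  rw [h8] at hineq
  have h9 : (h + 1) * A ≤ 2 * (A + 2) * A := by nlinarith
  have h10 : h + 1 ≤ 2 * (A + 2) := Nat.le_of_mul_le_mul_right h9 hAp
  omega

end Bound

section Count

variable {χ₁ : IrrCharacter G} (hz : ZChar H B D)

include hz in
/-- Fibres of the map from classes of `H` to classes of `G`. -/
theorem card_fiber_classes (c : ConjClasses G) :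
    ((univ.erase (ConjClasses.mk (1 : H))).filter fun y : ConjClasses H =>
      ConjClasses.map H.subtype y = c).card ≤ Nat.card D := by
  set S := (univ.erase (ConjClasses.mk (1 : H))).filter fun y : ConjClasses H =>
      ConjClasses.map H.subtype y = c with hS
  by_cases hne : S.Nonempty
  · obtain ⟨y₀, hy₀⟩ := hne
    simp only [hS, mem_filter, mem_erase, mem_univ, and_true] at hy₀
    obtain ⟨u₀, rfl⟩ := ConjClasses.mk_surjective y₀
    have hu₀ : (u₀ : G) ≠ 1 := by
      intro h
      apply hy₀.1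
      congr 1
      exact Subtype.ext h
    have hsub : S ⊆ (univ : Finset D).image
        (fun d : D => ConjClasses.mk (conjHom hz (d : G) (hz.D_le d.2) u₀)) := by
      intro y hy
      simp only [hS, mem_filter, mem_erase, mem_univ, and_true] at hy
      obtain ⟨u, rfl⟩ := ConjClasses.mk_surjective y
      have h1 : ConjClasses.map H.subtype (ConjClasses.mk u) = ConjClasses.map H.subtype (ConjClasses.mk u₀) :=
        hy.2.trans hy₀.2.symm
      have h2 : IsConj (u : G) (u₀ : G) := by
        have h3 : ConjClasses.mk (H.subtype u) = ConjClasses.mk (H.subtype u₀) := h1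
        exact ConjClasses.mk_eq_mk_iff_isConj.mp h3
      obtain ⟨x, hx⟩ := isConj_iff.1 h2.symm
      -- `u = x u₀ x⁻¹`
      have hzB : x⁻¹ ∈ B := by
        apply hz.mem_of_conj (u₀ : G) u₀.2 hu₀ x⁻¹
        have : (x⁻¹)⁻¹ * (u₀ : G) * x⁻¹ = u := by rw [inv_inv]; exact hx
        rw [this]
        exact u.2
      obtain ⟨w, hw, d, hd, hzz⟩ := hz.decomp x⁻¹ hzB
      simp only [mem_image, mem_univ, true_and]
      refine ⟨⟨d, hd⟩, ?_⟩
      apply ConjClasses.mk_eq_mk_iff_isConj.mpr
      refine isConj_iff.2 ⟨conjHom hz d (hz.D_le hd) (⟨w, hw⟩ : H)⁻¹, ?_⟩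
      apply Subtype.ext
      simp only [Subgroup.coe_mul, conjHom_coe, InvMemClass.coe_inv]
      have hxe : x = (w * d)⁻¹ := by
        rw [← hzz, inv_inv]
      have hu : (u : G) = (w * d)⁻¹ * u₀ * (w * d) := by
        rw [← hx, hxe, inv_inv]
      rw [hu]
      group
    calc S.card ≤ ((univ : Finset D).image
        (fun d : D => ConjClasses.mk (conjHom hz (d : G) (hz.D_le d.2) u₀))).card := Finset.card_le_card hsub
      _ ≤ (univ : Finset D).card := Finset.card_image_le
      _ = Nat.card D := by rw [Finset.card_univ, Nat.card_eq_fintype_card]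
  · rw [Finset.not_nonempty_iff_eq_empty.mp hne]
    simp

theorem card_IT : Fintype.card (IT H) = Nat.card D * Fintype.card (RT hz) := by
  have h1 := sum_IT hz (fun _ : IT H => (1 : ℕ)) (fun _ _ _ => rfl)
  simpa using h1

/-- The number of classes meeting `H`. -/
theorem card_meet :
    Fintype.card (RT hz) + 1 ≤ (univ.filter fun C : ConjClasses G => ¬ ∀ g : G, ConjClasses.mk g = C → g ∉ H).card := by
  set A' := (univ.erase (ConjClasses.mk (1 : H))) with hA'
  set M := (univ.filter fun C : ConjClasses G => ¬ ∀ g : G, ConjClasses.mk g = C → g ∉ H) with hM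
  set ψ := ConjClasses.map (H.subtype) with hψ
  have hsub : A'.image ψ ⊆ M.erase (ConjClasses.mk 1) := by
    intro c hc
    obtain ⟨y, hy, rfl⟩ := Finset.mem_image.mp hc
    obtain ⟨u, rfl⟩ := ConjClasses.mk_surjective y
    have hu : u ≠ 1 := by
      intro h
      rw [h] at hy
      simp [hA'] at hy
    simp only [mem_erase, hM, mem_filter, mem_univ, true_and]
    constructor
    · intro h
      have h3 : ConjClasses.mk (H.subtype u) = ConjClasses.mk (1 : G) := h
      have h4 := ConjClasses.mk_eq_mk_iff_isConj.mp h3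
      have h5 : (u : G) = 1 := isConj_one_right.mp h4.symm
      exact hu (Subtype.ext h5)
    · intro h
      exact h (u : G) rfl u.2
  have h1 := Finset.card_le_mul_card_image (f := ψ) A' (Nat.card D)
    (fun c _ => card_fiber_classes hz c)
  have h2 : A'.card + 1 = Nat.card (IrrCharacter H) := by
    rw [Cfsg.Agent.Lib.Char.CompleteCor.card_irr_eq_card_conjClasses, hA', Finset.card_erase_of_mem (mem_univ _),
      Finset.card_univ, Nat.card_eq_fintype_card]
    have : 0 < Fintype.card (ConjClasses H) := Fintype.card_pos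
    omega
  have h3 : Nat.card (IrrCharacter H) = Fintype.card (IT H) + 1 := by
    have h4 := sum_irr_H (fun _ : IrrCharacter H => (1 : ℕ))
    rw [Nat.card_eq_fintype_card (α := IrrCharacter H)]
    simp only [Finset.sum_const, Finset.card_univ, smul_eq_mul, mul_one] at h4
    omega
  rw [card_IT hz] at h3
  have h5 : A'.card = Nat.card D * Fintype.card (RT hz) := by omega
  have h6 : (A'.image ψ).card ≤ (M.erase (ConjClasses.mk 1)).card := Finset.card_le_card hsub
  have hmem : ConjClasses.mk (1 : G) ∈ M := by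
    simp only [hM, mem_filter, mem_univ, true_and]
    intro h
    exact h 1 rfl H.one_mem
  rw [Finset.card_erase_of_mem hmem] at h6
  have hD : 0 < Nat.card D := Nat.card_pos
  have h7 : Fintype.card (RT hz) ≤ (A'.image ψ).card := by
    rw [h5] at h1
    exact Nat.le_of_mul_le_mul_left h1 hD
  have hMp : 0 < M.card := Finset.card_pos.mpr ⟨_, hmem⟩
  omega

include hz in
/-- The count of columns. -/
theorem hcard_of_count (hH : 1 < Nat.card H) (hY : YData H χ₁)
    (hcount : Nat.card D ≤ Nat.card {C : ConjClasses G // ∀ g : G, ConjClasses.mk g = C → g ∉ H}) :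
    (Fintype.card (RT hz) : ℤ) + (Ks H χ₁).card ≤ Fintype.card (XT H) := by
  have h1 := sum_irr_split hY hH (fun _ : IrrCharacter G => (1 : ℕ))
  simp only [Finset.sum_const, Finset.card_univ, smul_eq_mul, mul_one] at h1
  have h2 : Nat.card (IrrCharacter G) = Fintype.card (IrrCharacter G) := Nat.card_eq_fintype_card
  rw [Cfsg.Agent.Lib.Char.CompleteCor.card_irr_eq_card_conjClasses, Nat.card_eq_fintype_card] at h2
  have h3 : Fintype.card (ConjClasses G) =
      (univ.filter fun C : ConjClasses G => ∀ g : G, ConjClasses.mk g = C → g ∉ H).card +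
      (univ.filter fun C : ConjClasses G => ¬ ∀ g : G, ConjClasses.mk g = C → g ∉ H).card := by
    rw [← Finset.card_univ, Finset.card_filter_add_card_filter_not]
  have h4 : Nat.card {C : ConjClasses G // ∀ g : G, ConjClasses.mk g = C → g ∉ H} =
      (univ.filter fun C : ConjClasses G => ∀ g : G, ConjClasses.mk g = C → g ∉ H).card := by
    rw [Nat.card_eq_fintype_card, Fintype.card_subtype]
  have h5 := card_meet hz
  have h6 := e_eq hz hH hY
  have h7 : Fintype.card (RT hz) + (Ks H χ₁).card ≤ Fintype.card (XT H) := by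
    rw [h4] at hcount
    omega
  exact_mod_cast h7

include hz in
/-- The main inequality. -/
theorem feit_bound (hH : 1 < Nat.card H) (hY : YData H χ₁) (he : 1 < Nat.card D)
    (hcount : Nat.card D ≤ Nat.card {C : ConjClasses G // ∀ g : G, ConjClasses.mk g = C → g ∉ H})
    (hlin : Nat.card D < (univ.filter fun θ : IT H =>
      dg ((θ.1 : IrrCharacter H) : H → ℂ) = 1).card)
    (hM : ∀ θ : IT H, 1 < dg ((θ.1 : IrrCharacter H) : H → ℂ) →
      Nat.card D * (2 * dg ((θ.1 : IrrCharacter H) : H → ℂ) + 1) < ∑ θ' ∈ univ.filter (fun θ' : IT H =>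
        dg ((θ'.1 : IrrCharacter H) : H → ℂ) < dg ((θ.1 : IrrCharacter H) : H → ℂ)),
          dg ((θ'.1 : IrrCharacter H) : H → ℂ) * dg ((θ'.1 : IrrCharacter H) : H → ℂ)) :
    Nat.card H ≤ 2 * Nat.card D + 1 := by
  by_contra hcon
  push Not at hcon
  obtain ⟨l, x, hl, hx⟩ := exists_pure hz hH hY hcon (hcard_of_count hz hH hY hcount) hlin hM
  exact absurd (bound_of_pure hz hH hY he hl hx) (by omega)

end Count

end Cfsg.Agent.Lib.Zass.Rows4
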