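import Mathlib
import Cfsg.Agent.Lib.Zass.Basic

/-!
# Zassenhaus groups: the subgroup generated by the kernels

`L = ⟨H_c⟩` is perfect and contained in every non-trivial normal subgroup of `G`.
-/

set_option autoImplicit false
set_option linter.style.haveILetI false
set_option linter.unusedSectionVars false

namespace Cfsg.Agent.Lib.Zass.Simple

open MulAction Cfsg Cfsg.Agent.Lib.Zass.Basic
open scoped Pointwise

universe u v

variable {G : Type u} {Ω : Type v} [Group G] [MulAction G Ω]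

/-- A non-trivial normal subgroup of a faithful 2-transitive group is transitive. -/
theorem transitive_of_normal {A : Type*} [Group A] [MulAction A Ω] [FaithfulSMul A Ω]
    (h2 : ∀ x y x' y' : Ω, x ≠ y → x' ≠ y' → ∃ g : A, g • x = x' ∧ g • y = y')
    (T : Subgroup A) (hTn : T.Normal) (hT : T ≠ ⊥) : IsPretransitive T Ω := by
  obtain ⟨⟨n, hn⟩, hn1'⟩ := Subgroup.ne_bot_iff_exists_ne_one.mp hT
  have hn1 : n ≠ 1 := fun h => hn1' (Subtype.ext h)
  obtain ⟨c, hc⟩ : ∃ c : Ω, n • c ≠ c := by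
    by_contra hcon
    push Not at hcon
    apply hn1
    apply FaithfulSMul.eq_of_smul_eq_smul (α := Ω)
    intro c
    rw [hcon c, one_smul]
  refine ⟨fun x y => ?_⟩
  by_cases hxy : x = y
  · exact ⟨1, by rw [one_smul, hxy]⟩
  · obtain ⟨g, h1, h3⟩ := h2 c (n • c) x y hc.symm hxy
    refine ⟨⟨g * n * g⁻¹, hTn.conj_mem n hn g⟩, ?_⟩
    show (g * n * g⁻¹) • x = y
    rw [← h1, mul_smul, mul_smul, inv_smul_smul, h3]

/-- Two-transitivity in the form used here. -/
theorem h2 (hZ : IsZassenhausGroup G Ω) : ∀ x y x' y' : Ω, x ≠ y → x' ≠ y' →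
    ∃ g : G, g • x = x' ∧ g • y = y' := fun _ _ _ _ h h' => two_trans hZ h h'

/-- A non-trivial normal subgroup of a Zassenhaus group is transitive. -/
theorem normal_transitive (hZ : IsZassenhausGroup G Ω) (N : Subgroup G) (hNn : N.Normal)
    (hN : N ≠ ⊥) : IsPretransitive N Ω := by
  haveI := hZ.1
  exact transitive_of_normal (h2 hZ) N hNn hN

section Finite

variable (hZ : IsZassenhausGroup G Ω) [Finite Ω]
include hZ

/-- A non-trivial normal subgroup meets every two-point stabiliser non-trivially. -/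
theorem inf_two_point_ne_bot (N : Subgroup G) (hNn : N.Normal) (hN : N ≠ ⊥) {a b : Ω} (hab : a ≠ b) :
    N ⊓ (stabilizer G a ⊓ stabilizer G b) ≠ ⊥ := by
  classical
  haveI := finite_of_finite hZ
  haveI htr := normal_transitive hZ N hNn hN
  intro hbot
  -- all two-point stabilisers of `N` are trivial
  have hall : ∀ c d : Ω, c ≠ d → ∀ x ∈ N, x • c = c → x • d = d → x = 1 := by
    intro c d hcd x hxN hxc hxd
    obtain ⟨g, h1, h3⟩ := two_trans hZ hcd hab
    have hm : g * x * g⁻¹ ∈ N ⊓ (stabilizer G a ⊓ stabilizer G b) := by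
      refine ⟨hNn.conj_mem x hxN g, ?_, ?_⟩
      · show (g * x * g⁻¹) • a = a
        rw [← h1, mul_smul, mul_smul, inv_smul_smul, hxc]
      · show (g * x * g⁻¹) • b = b
        rw [← h3, mul_smul, mul_smul, inv_smul_smul, hxd]
    rw [hbot, Subgroup.mem_bot] at hm
    have : g * x * g⁻¹ * g = 1 * g := by rw [hm]
    simpa using this
  set A : Subgroup N := stabilizer N a with hA
  by_cases hAbot : A = ⊥
  · -- regular
    obtain ⟨c, hc⟩ := hZ.2.2.2.2 N hNn htr
    apply hc
    rw [eq_bot_iff]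
    intro x hx
    have hx' : x • c = c := hx
    obtain ⟨n, hn⟩ := htr.exists_smul_eq c a
    have : n * x * n⁻¹ ∈ A := by
      show (n * x * n⁻¹) • a = a
      rw [← hn, mul_smul, mul_smul, inv_smul_smul, hx']
    rw [hAbot, Subgroup.mem_bot] at this
    rw [Subgroup.mem_bot]
    have h3 : n * x * n⁻¹ * n = 1 * n := by rw [this]
    simpa using h3
  · -- Frobenius
    have hF : IsFrobeniusComplement A := by
      refine ⟨hAbot, ?_, ?_⟩
      · intro htop
        obtain ⟨n, hn⟩ := htr.exists_smul_eq a b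
        have : n ∈ A := by rw [htop]; trivial
        exact hab ((show n • a = a from this).symm.trans hn)
      · intro g hg
        rw [eq_bot_iff]
        rintro x ⟨hx1, hx2⟩
        have hx1' : x • a = a := hx1
        have hx2' : x ∈ MulAut.conj g • A := hx2
        rw [Cfsg.Agent.Lib.Frobenius.Basic.mem_conj_smul_iff] at hx2'
        have hx3 : (g⁻¹ * x * g) • a = a := hx2'
        rw [mul_smul, mul_smul, inv_smul_eq_iff] at hx3
        have hga : g • a ≠ a := fun h => hg h
        have := hall a (g • a) hga.symm (x : G) x.2 hx1' hx3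
        exact Subtype.ext this
    obtain ⟨K, hK, hKn, hKc⟩ := Cfsg.Agent.Lib.Char.FrobeniusKernel.frobenius_theorem A hF
    -- the elements of `K`
    have hKmem : ∀ x : N, x ∈ K ↔ x = 1 ∨ ∀ c : Ω, x • c ≠ c := by
      intro x
      have : x ∈ K ↔ x ∈ frobeniusKernel A := by rw [← hK]; rfl
      rw [this, Cfsg.Agent.Lib.Frobenius.Basic.mem_frobeniusKernel_iff]
      constructor
      · rintro (h | h)
        · exact Or.inl h
        · right
          intro c hc
          obtain ⟨n, hn⟩ := htr.exists_smul_eq a c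
          apply h n
          show (n⁻¹ * x * n) • a = a
          rw [mul_smul, mul_smul, hn, hc, inv_smul_eq_iff, hn]
      · rintro (h | h)
        · exact Or.inl h
        · right
          intro g hg
          have hg' : (g⁻¹ * x * g) • a = a := hg
          rw [mul_smul, mul_smul, inv_smul_eq_iff] at hg'
          exact h _ hg'
    set K' : Subgroup G := K.map N.subtype with hK'
    have hK'mem : ∀ x : G, x ∈ K' ↔ x ∈ N ∧ (x = 1 ∨ ∀ c : Ω, x • c ≠ c) := by
      intro x
      constructor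
      · rintro ⟨y, hy, rfl⟩
        refine ⟨y.2, ?_⟩
        rcases (hKmem y).mp hy with h | h
        · left; simp [h]
        · exact Or.inr h
      · rintro ⟨hxN, h⟩
        refine ⟨⟨x, hxN⟩, (hKmem _).mpr ?_, rfl⟩
        rcases h with h | h
        · left; exact Subtype.ext h
        · exact Or.inr h
    have hK'n : K'.Normal := by
      refine ⟨fun x hx g => ?_⟩
      rw [hK'mem] at hx ⊢
      refine ⟨hNn.conj_mem x hx.1 g, ?_⟩
      rcases hx.2 with h | h
      · left; simp [h]
      · right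
        intro c hc
        apply h (g⁻¹ • c)
        rw [mul_smul, mul_smul, smul_eq_iff_eq_inv_smul] at hc
        exact hc
    have hK'tr : IsPretransitive K' Ω := by
      have hsurj : ∀ c : Ω, ∃ k ∈ K', k • a = c := by
        intro c
        obtain ⟨n, hn⟩ := htr.exists_smul_eq a c
        obtain ⟨⟨k, α⟩, hka⟩ := hKc.2 n
        refine ⟨((k : N) : G), ⟨k, k.2, rfl⟩, ?_⟩
        have hn' : n = (k : N) * (α : N) := hka.symm
        have hα : (α : N) • a = a := α.2
        rw [hn', mul_smul, hα] at hn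
        exact hn
      refine ⟨fun x y => ?_⟩
      obtain ⟨k1, hk1, h1⟩ := hsurj x
      obtain ⟨k2, hk2, h3⟩ := hsurj y
      refine ⟨⟨k2 * k1⁻¹, K'.mul_mem hk2 (K'.inv_mem hk1)⟩, ?_⟩
      show (k2 * k1⁻¹) • x = y
      rw [mul_smul, ← h1, inv_smul_smul, h3]
    obtain ⟨c, hc⟩ := hZ.2.2.2.2 K' hK'n hK'tr
    apply hc
    rw [eq_bot_iff]
    intro x hx
    have hx' : (x : G) • c = c := hx
    rw [Subgroup.mem_bot]
    rcases ((hK'mem x).mp x.2).2 with h | h
    · exact Subtype.ext h
    · exact absurd hx' (h c)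

end Finite

/-- The subgroup generated by the kernels. -/
noncomputable def joinKernels (hZ : IsZassenhausGroup G Ω) [Finite Ω] : Subgroup G :=
  ⨆ c : Ω, kernel hZ c

section Join

variable (hZ : IsZassenhausGroup G Ω) [Finite Ω]
include hZ

theorem kernel_le_join (c : Ω) : kernel hZ c ≤ joinKernels hZ :=
  le_iSup (fun c : Ω => kernel hZ c) c

theorem join_normal : (joinKernels hZ).Normal := by
  refine ⟨fun x hx g => ?_⟩
  have hle : joinKernels hZ ≤ (joinKernels hZ).comap (MulAut.conj g).toMonoidHom := by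
    refine iSup_le fun c u hu => ?_
    exact kernel_le_join hZ (g • c) (conj_mem_kernel hZ g hu)
  exact hle hx

theorem join_ne_bot : joinKernels hZ ≠ ⊥ := by
  obtain ⟨g₀, -, a, -, -, -, -⟩ := exists_ne_one_fix hZ
  intro h
  apply kernel_ne_bot hZ a
  rw [eq_bot_iff, ← h]
  exact kernel_le_join hZ a

/-- `L` is transitive. -/
theorem join_transitive : IsPretransitive (joinKernels hZ) Ω :=
  normal_transitive hZ _ (join_normal hZ) (join_ne_bot hZ)

/-- `L` is doubly transitive. -/
theorem join_two_trans : ∀ x y x' y' : Ω, x ≠ y → x' ≠ y' →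
    ∃ g : joinKernels hZ, g • x = x' ∧ g • y = y' := by
  intro x y x' y' hxy hxy'
  haveI := join_transitive hZ
  obtain ⟨l, hl⟩ := exists_smul_eq (joinKernels hZ) x x'
  have h1 : l • y ≠ x' := by
    intro h
    apply hxy
    rw [← hl] at h
    exact (smul_left_cancel _ h).symm
  obtain ⟨u, hu, huy⟩ := exists_kernel_smul hZ h1 hxy'.symm
  refine ⟨⟨u, kernel_le_join hZ x' hu⟩ * l, ?_, ?_⟩
  · rw [mul_smul, hl]
    exact kernel_smul hZ hu
  · rw [mul_smul]
    exact huy

/-- `H_c ≤ [L, L]`. -/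
theorem kernel_le_commutator (c : Ω) :
    kernel hZ c ≤ ⁅joinKernels hZ, joinKernels hZ⁆ := by
  classical
  haveI := finite_of_finite hZ
  obtain ⟨d, hd⟩ := exists_other hZ c
  have hne := inf_two_point_ne_bot hZ _ (join_normal hZ) (join_ne_bot hZ) hd
  obtain ⟨⟨x, hxL, hxc, hxd⟩, hx1⟩ := Subgroup.ne_bot_iff_exists_ne_one.mp hne
  have hx1' : x ≠ 1 := fun h => hx1 (Subtype.ext h)
  have hxc' : x • c = c := hxc
  have hxd' : x • d = d := hxd
  -- the commutator map
  let f : kernel hZ c → kernel hZ c := fun u => ⟨(u : G) * x * (u : G)⁻¹ * x⁻¹, by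
    have h1 : x * (u : G)⁻¹ * x⁻¹ ∈ kernel hZ c :=
      conj_mem_kernel_of_fix hZ hxc' ((kernel hZ c).inv_mem u.2)
    have : (u : G) * x * (u : G)⁻¹ * x⁻¹ = u * (x * (u : G)⁻¹ * x⁻¹) := by group
    rw [this]
    exact (kernel hZ c).mul_mem u.2 h1⟩
  have hinj : Function.Injective f := by
    intro u v huv
    have h1 : (u : G) * x * (u : G)⁻¹ * x⁻¹ = (v : G) * x * (v : G)⁻¹ * x⁻¹ :=
      congrArg Subtype.val huv
    have h3 : x * ((v : G)⁻¹ * u) = ((v : G)⁻¹ * u) * x := by
      have h4 : (u : G) * x * (u : G)⁻¹ = (v : G) * x * (v : G)⁻¹ := mul_right_cancel h1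
      calc x * ((v : G)⁻¹ * u) = (v : G)⁻¹ * ((v : G) * x * (v : G)⁻¹) * u := by group
        _ = (v : G)⁻¹ * ((u : G) * x * (u : G)⁻¹) * u := by rw [h4]
        _ = ((v : G)⁻¹ * u) * x := by group
    have h4 := eq_one_of_commute hZ hd hxc' hxd' hx1'
      ((kernel hZ c).mul_mem ((kernel hZ c).inv_mem v.2) u.2) h3
    apply Subtype.ext
    have : (u : G) = v * ((v : G)⁻¹ * u) := by group
    rw [this, h4, mul_one]
  have hsurj : Function.Surjective f := Finite.injective_iff_surjective.mp hinj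
  intro w hw
  obtain ⟨u, hu⟩ := hsurj ⟨w, hw⟩
  have hw' : w = (u : G) * x * (u : G)⁻¹ * x⁻¹ := (congrArg Subtype.val hu).symm
  rw [hw']
  exact Subgroup.commutator_mem_commutator (kernel_le_join hZ c u.2) hxL

/-- `L` is perfect. -/
theorem join_perfect : ⁅joinKernels hZ, joinKernels hZ⁆ = joinKernels hZ := by
  apply le_antisymm
  · rw [Subgroup.commutator_le]
    intro x hx y hy
    exact (joinKernels hZ).mul_mem ((joinKernels hZ).mul_mem
      ((joinKernels hZ).mul_mem hx hy) ((joinKernels hZ).inv_mem hx)) ((joinKernels hZ).inv_mem hy)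
  · exact iSup_le (kernel_le_commutator hZ)

end Join

/-- A perfect nilpotent group is trivial. -/
theorem subsingleton_of_perfect_nilpotent {Q : Type*} [Group Q] [hnil : Group.IsNilpotent Q]
    (hp : commutator Q = ⊤) : Subsingleton Q := by
  obtain ⟨n, hn⟩ := nilpotent_iff_lowerCentralSeries.mp hnil
  have hall : ∀ k, (⊤ : Subgroup Q).lowerCentralSeries k = ⊤ := by
    intro k
    induction k with
    | zero => rfl
    | succ k ih =>
      rw [Subgroup.lowerCentralSeries_succ, ih]
      exact hp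
  rw [hall n] at hn
  refine ⟨fun x y => ?_⟩
  have hx : x ∈ (⊥ : Subgroup Q) := by rw [← hn]; trivial
  have hy : y ∈ (⊥ : Subgroup Q) := by rw [← hn]; trivial
  rw [Subgroup.mem_bot] at hx hy
  rw [hx, hy]

section Main

variable (hZ : IsZassenhausGroup G Ω) [Finite Ω]
include hZ

/-- A non-trivial subgroup of `L` normalised by `L` contains `L`. -/
theorem join_le_of_normalized (T : Subgroup G) (hTL : T ≤ joinKernels hZ)
    (hTn : ∀ l ∈ joinKernels hZ, ∀ t ∈ T, l * t * l⁻¹ ∈ T) (hT : T ≠ ⊥) : joinKernels hZ ≤ T := by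
  classical
  haveI := finite_of_finite hZ
  set L := joinKernels hZ with hL
  haveI hfaith : FaithfulSMul L Ω := by
    refine ⟨fun {x y} hxy => Subtype.ext (hZ.1.eq_of_smul_eq_smul hxy)⟩
  set T' : Subgroup L := T.subgroupOf L with hT'
  have hT'n : T'.Normal := ⟨fun x hx g => by
    rw [hT', Subgroup.mem_subgroupOf] at hx ⊢
    exact hTn g g.2 x hx⟩
  have hT'ne : T' ≠ ⊥ := by
    intro h
    apply hT
    rw [eq_bot_iff]
    intro x hx
    have : (⟨x, hTL hx⟩ : L) ∈ T' := by
      rw [hT', Subgroup.mem_subgroupOf]; exact hx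
    rw [h, Subgroup.mem_bot] at this
    rw [Subgroup.mem_bot]
    exact congrArg Subtype.val this
  haveI htr : IsPretransitive T' Ω := transitive_of_normal (join_two_trans hZ) T' hT'n hT'ne
  -- the quotient
  haveI := hT'n
  let f : L →* L ⧸ T' := QuotientGroup.mk' T'
  have hfsurj : Function.Surjective f := QuotientGroup.mk'_surjective T'
  obtain ⟨g₀, -, a, -, -, -, -⟩ := exists_ne_one_fix hZ
  -- image of `H_a` is everything
  let Ha : Subgroup L := (kernel hZ a).subgroupOf L
  have hHa : ∀ c : Ω, ∀ u ∈ kernel hZ c, ∃ v ∈ kernel hZ a, ∃ hv : v ∈ L, ∃ hu : u ∈ L,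
      f ⟨u, hu⟩ = f ⟨v, hv⟩ := by
    intro c u hu
    obtain ⟨t, ht⟩ := htr.exists_smul_eq a c
    have ht' : ((t : L) : G) • a = c := ht
    have hta : ((t : L) : G)⁻¹ • c = a := by rw [inv_smul_eq_iff]; exact ht'.symm
    have hv : ((t : L) : G)⁻¹ * u * (t : L) ∈ kernel hZ a := by
      have := conj_mem_kernel hZ ((t : L) : G)⁻¹ hu
      rwa [hta, inv_inv] at this
    refine ⟨_, hv, kernel_le_join hZ a hv, kernel_le_join hZ c hu, ?_⟩
    have hk : (⟨_, kernel_le_join hZ a hv⟩ : L) = (t : L)⁻¹ * ⟨u, kernel_le_join hZ c hu⟩ * (t : L) :=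
      Subtype.ext rfl
    rw [hk, map_mul, map_mul]
    have hft : f (t : L) = 1 := (QuotientGroup.eq_one_iff _).mpr t.2
    rw [hft]
    simp [hft]
  have himg : (Ha.map f) = ⊤ := by
    rw [eq_top_iff]
    rintro q -
    obtain ⟨l, rfl⟩ := hfsurj q
    -- `L ≤` the comap
    let S : Subgroup G := ((Ha.map f).comap f).map L.subtype
    have hle : L ≤ S := by
      refine iSup_le fun c u hu => ?_
      obtain ⟨v, hv, hvL, huL, heq⟩ := hHa c u hu
      refine ⟨⟨u, huL⟩, ?_, rfl⟩
      show f ⟨u, huL⟩ ∈ Ha.map f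
      rw [heq]
      exact ⟨⟨v, hvL⟩, Subgroup.mem_subgroupOf.mpr hv, rfl⟩
    obtain ⟨l', hl', hll⟩ := hle l.2
    have : l' = l := Subtype.ext hll
    rw [← this]
    exact hl'
  -- nilpotent quotient
  haveI hQnil : Group.IsNilpotent (L ⧸ T') := by
    haveI hHan := kernel_nilpotent hZ a
    let g : kernel hZ a →* L ⧸ T' := f.comp (Subgroup.inclusion (kernel_le_join hZ a))
    have hg : Function.Surjective g := by
      intro q
      have : q ∈ Ha.map f := by rw [himg]; trivial
      obtain ⟨⟨l, hlL⟩, hl, rfl⟩ := this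
      exact ⟨⟨l, Subgroup.mem_subgroupOf.mp hl⟩, rfl⟩
    exact Group.nilpotent_of_surjective g hg
  -- perfect quotient
  have hLperf : commutator L = ⊤ := by
    apply Subgroup.map_injective L.subtype_injective
    have htop : (⊤ : Subgroup L).map L.subtype = L := by
      rw [← MonoidHom.range_eq_map, Subgroup.range_subtype]
    rw [commutator_def, Subgroup.map_commutator, htop]
    exact join_perfect hZ
  have hQperf : commutator (L ⧸ T') = ⊤ := by
    have htop : (⊤ : Subgroup (L ⧸ T')) = (⊤ : Subgroup L).map f :=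
      (Subgroup.map_top_of_surjective f hfsurj).symm
    rw [commutator_def, htop, ← Subgroup.map_commutator, ← commutator_def, hLperf]
  haveI := subsingleton_of_perfect_nilpotent hQperf
  intro l hl
  have h1 : f ⟨l, hl⟩ = 1 := Subsingleton.elim _ _
  have h2 : (⟨l, hl⟩ : L) ∈ T' := (QuotientGroup.eq_one_iff _).mp h1
  rw [hT', Subgroup.mem_subgroupOf] at h2
  exact h2

/-- If `T` is transitive and commutes with `H_a` then `H_a = 1`, a contradiction. -/
theorem not_commute_of_transitive (K : Subgroup G) (hK : IsPretransitive K Ω)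
    (hc : ∀ k ∈ K, ∀ l ∈ joinKernels hZ, k * l = l * k) : False := by
  obtain ⟨g₀, -, a, b, hab, -, -⟩ := exists_ne_one_fix hZ
  obtain ⟨⟨u, hu⟩, hu1'⟩ := Subgroup.ne_bot_iff_exists_ne_one.mp (kernel_ne_bot hZ a)
  have hu1 : u ≠ 1 := fun h => hu1' (Subtype.ext h)
  obtain ⟨k, hk⟩ := hK.exists_smul_eq a b
  have hk' : (k : G) • a = b := hk
  apply smul_ne_of_kernel hZ hab.symm hu hu1
  rw [← hk', ← mul_smul, ← hc k k.2 u (kernel_le_join hZ a hu), mul_smul, kernel_smul hZ hu]

/-- Two subgroups normalised by each other and meeting trivially commute. -/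
theorem commute_of_inf_bot (K L : Subgroup G) (hK : ∀ l ∈ L, ∀ k ∈ K, l * k * l⁻¹ ∈ K)
    (hL : ∀ k ∈ K, ∀ l ∈ L, k * l * k⁻¹ ∈ L) (hbot : K ⊓ L = ⊥) :
    ∀ k ∈ K, ∀ l ∈ L, k * l = l * k := by
  intro k hk l hl
  have h1 : k * l * k⁻¹ * l⁻¹ ∈ K ⊓ L := by
    constructor
    · have : k * l * k⁻¹ * l⁻¹ = k * (l * k⁻¹ * l⁻¹) := by group
      rw [this]
      exact K.mul_mem hk (hK l hl _ (K.inv_mem hk))
    · exact L.mul_mem (hL k hk l hl) (L.inv_mem hl)
  rw [hbot, Subgroup.mem_bot] at h1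
  have h2 : k * l * k⁻¹ * l⁻¹ * (l * k) = 1 * (l * k) := by rw [h1]
  simpa [mul_assoc] using h2

/-- `L` lies in every non-trivial normal subgroup. -/
theorem join_le_of_normal (N : Subgroup G) (hNn : N.Normal) (hN : N ≠ ⊥) : joinKernels hZ ≤ N := by
  by_cases hbot : N ⊓ joinKernels hZ = ⊥
  · exfalso
    have hLn := join_normal hZ
    exact not_commute_of_transitive hZ N (normal_transitive hZ N hNn hN)
      (commute_of_inf_bot hZ N _ (fun l _ k hk => hNn.conj_mem k hk l)
        (fun k _ l hl => hLn.conj_mem l hl k) hbot)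
  · have := join_le_of_normalized hZ (N ⊓ joinKernels hZ) inf_le_right
      (fun l hl t ht => ⟨hNn.conj_mem t ht.1 l, (join_normal hZ).conj_mem t ht.2 l⟩) hbot
    exact this.trans inf_le_left

/-- A normal subgroup of a normal subgroup, transitive: it contains `L`. -/
theorem join_le_of_normal_normal (N : Subgroup G) (hLN : joinKernels hZ ≤ N) (K : Subgroup G)
    (hKN : K ≤ N) (hKn : ∀ n ∈ N, ∀ k ∈ K, n * k * n⁻¹ ∈ K) (hK : IsPretransitive K Ω) :
    joinKernels hZ ≤ K := by
  by_cases hbot : K ⊓ joinKernels hZ = ⊥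
  · exfalso
    have hLn := join_normal hZ
    exact not_commute_of_transitive hZ K hK
      (commute_of_inf_bot hZ K _ (fun l hl k hk => hKn l (hLN hl) k hk)
        (fun k _ l hl => hLn.conj_mem l hl k) hbot)
  · have := join_le_of_normalized hZ (K ⊓ joinKernels hZ) inf_le_right
      (fun l hl t ht => ⟨hKn l (hLN hl) t ht.1, (join_normal hZ).conj_mem t ht.2 l⟩) hbot
    exact this.trans inf_le_left

/-- A non-trivial normal subgroup is a Zassenhaus group. -/
theorem normal_isZassenhaus (N : Subgroup G) (hNn : N.Normal) (hN : N ≠ ⊥) :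
    IsZassenhausGroup N Ω := by
  have hLN := join_le_of_normal hZ N hNn hN
  haveI htr := normal_transitive hZ N hNn hN
  refine ⟨⟨fun {x y} hxy => Subtype.ext (hZ.1.eq_of_smul_eq_smul hxy)⟩, ?_, ?_, ?_, ?_⟩
  · rw [MulAction.is_two_pretransitive_iff]
    intro x y x' y' hxy hxy'
    obtain ⟨g, h1, h3⟩ := join_two_trans hZ x y x' y' hxy hxy'
    exact ⟨⟨g, hLN g.2⟩, h1, h3⟩
  · intro g a b c hab hbc hac ha hb hc
    exact Subtype.ext (eq_one_of_three hZ hab hbc hac ha hb hc)
  · obtain ⟨g₀, -, a, b, hab, -, -⟩ := exists_ne_one_fix hZ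
    obtain ⟨⟨x, hxN, hxa, hxb⟩, hx1⟩ :=
      Subgroup.ne_bot_iff_exists_ne_one.mp (inf_two_point_ne_bot hZ N hNn hN hab)
    have hx1'' : x ≠ 1 := fun h => hx1 (Subtype.ext h)
    refine ⟨⟨x, hxN⟩, fun h => hx1'' (by simpa using congrArg Subtype.val h), a, b, hab, hxa, hxb⟩
  · intro K hKn hKtr
    obtain ⟨g₀, -, a, b, hab, -, -⟩ := exists_ne_one_fix hZ
    refine ⟨a, ?_⟩
    -- the image of `K` in `G`
    set K' : Subgroup G := K.map N.subtype with hK'
    have hK'tr : IsPretransitive K' Ω := by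
      refine ⟨fun x y => ?_⟩
      obtain ⟨k, hk⟩ := hKtr.exists_smul_eq x y
      exact ⟨⟨((k : N) : G), ⟨k, k.2, rfl⟩⟩, hk⟩
    have hle := join_le_of_normal_normal hZ N hLN K' (Subgroup.map_subtype_le _)
      (by
        rintro n hn _ ⟨k, hk, rfl⟩
        exact ⟨⟨n, hn⟩ * k * ⟨n, hn⟩⁻¹, hKn.conj_mem k hk _, rfl⟩) hK'tr
    obtain ⟨⟨u, hu⟩, hu1'⟩ := Subgroup.ne_bot_iff_exists_ne_one.mp (kernel_ne_bot hZ a)
    have hu1 : u ≠ 1 := fun h => hu1' (Subtype.ext h)
    obtain ⟨k, hk, hku⟩ := hle (kernel_le_join hZ a hu)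
    intro hbot
    have hmem : (⟨k, hk⟩ : K) ∈ stabilizer K a := by
      show ((k : G)) • a = a
      have : (k : G) = u := hku
      rw [this]
      exact kernel_smul hZ hu
    rw [hbot, Subgroup.mem_bot] at hmem
    apply hu1
    rw [← hku]
    have h3 : k = 1 := congrArg Subtype.val hmem
    simp [h3]

end Main

end Cfsg.Agent.Lib.Zass.Simple
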