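import Mathlib
import Cfsg.Agent.Lib.Zass.Simple
import Cfsg.Agent.Lib.Frobenius.Even

/-!
# Zassenhaus groups: involutions
-/

set_option autoImplicit false
set_option linter.style.haveILetI false
set_option linter.unusedSectionVars false

namespace Cfsg.Agent.Lib.Zass.Invol

open MulAction Cfsg Cfsg.Agent.Lib.Zass.Basic Cfsg.Agent.Lib.Zass.Simple
open scoped Pointwise

universe u v

variable {G : Type u} {Ω : Type v} [Group G] [MulAction G Ω]

/-- An element of order at most two on a set of odd cardinality has a fixed point. -/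
theorem exists_fixed_of_sq_eq_one [Finite Ω] (hodd : Odd (Nat.card Ω)) (z : G) (hz : z * z = 1) :
    ∃ c : Ω, z • c = c := by
  classical
  haveI := Fintype.ofFinite Ω
  let f : Function.End Ω := fun c => z • c
  have h1 : f ^ 2 ^ 1 = 1 := by
    simp only [pow_one, pow_two]
    funext c
    show z • (z • c) = c
    rw [← mul_smul, hz, one_smul]
  haveI : Fact (Nat.Prime 2) := ⟨Nat.prime_two⟩
  have h2 := Equiv.Perm.card_fixedPoints_modEq (p := 2) (n := 1) h1
  by_contra hcon
  push Not at hcon
  haveI h3 : IsEmpty (f.fixedPoints) := ⟨fun c => hcon c.1 c.2⟩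
  rw [Fintype.card_eq_zero (α := ↑(Function.fixedPoints f))] at h2
  rw [Nat.card_eq_fintype_card] at hodd
  have h4 : ¬ Even (Fintype.card Ω) := Nat.not_even_iff_odd.mpr hodd
  apply h4
  rw [even_iff_two_dvd]
  exact (Nat.modEq_zero_iff_dvd.mp h2)

section Finite

variable (hZ : IsZassenhausGroup G Ω) [Finite Ω]
include hZ

theorem card_even : Even (Nat.card G) := by
  obtain ⟨a, b, hab⟩ : ∃ a b : Ω, a ≠ b := by
    obtain ⟨g₀, -, a, b, hab, -, -⟩ := exists_ne_one_fix hZ
    exact ⟨a, b, hab⟩
  rw [card_group_eq' hZ hab]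
  have : Even ((Nat.card (kernel hZ a) + 1) * Nat.card (kernel hZ a)) := by
    rw [mul_comm]
    exact Nat.even_mul_succ_self _
  rw [← mul_assoc]
  exact this.mul_right _

theorem exists_involution : ∃ z : G, orderOf z = 2 := by
  haveI := finite_of_finite hZ
  haveI : Fact (Nat.Prime 2) := ⟨Nat.prime_two⟩
  exact exists_prime_orderOf_dvd_card' 2 (card_even hZ).two_dvd

/-- Any two points are interchanged by an involution. -/
theorem exists_swap {a b : Ω} (hab : a ≠ b) : ∃ t : G, t * t = 1 ∧ t • a = b ∧ t • b = a := by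
  obtain ⟨z, hz⟩ := exists_involution hZ
  have hz1 : z ≠ 1 := by
    intro h
    rw [h, orderOf_one] at hz
    omega
  have hzz : z * z = 1 := by
    have := pow_orderOf_eq_one z
    rw [hz, pow_two] at this
    exact this
  obtain ⟨c, hc⟩ : ∃ c : Ω, z • c ≠ c := by
    by_contra hcon
    push Not at hcon
    apply hz1
    apply hZ.1.eq_of_smul_eq_smul
    intro c
    rw [hcon c, one_smul]
  obtain ⟨g, h1, h3⟩ := two_trans hZ (x := c) (y := z • c) (x' := a) (y' := b) hc.symm hab
  refine ⟨g * z * g⁻¹, ?_, ?_, ?_⟩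
  · have : g * z * g⁻¹ * (g * z * g⁻¹) = g * (z * z) * g⁻¹ := by group
    rw [this, hzz]; simp
  · rw [← h1, mul_smul, mul_smul, inv_smul_smul, h3]
  · have h4 : z • (z • c) = c := by rw [← mul_smul, hzz, one_smul]
    rw [← h3, mul_smul, mul_smul, inv_smul_smul, h4, h1]

/-- `x ∈ G_{ab}` and `t` swaps: `t x t⁻¹ ∈ G_{ab}`. -/
theorem swap_conj_mem {a b : Ω} {t x : G} (hta : t • a = b) (htb : t • b = a)
    (hx : x ∈ stabilizer G a ⊓ stabilizer G b) : t * x * t⁻¹ ∈ stabilizer G a ⊓ stabilizer G b := by
  have hxa : x • a = a := hx.1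
  have hxb : x • b = b := hx.2
  constructor
  · show (t * x * t⁻¹) • a = a
    rw [← htb, mul_smul, mul_smul, inv_smul_smul, hxb]
  · show (t * x * t⁻¹) • b = b
    rw [← hta, mul_smul, mul_smul, inv_smul_smul, hxa]

theorem swap_mem_normalizer {a b : Ω} {t : G} (htt : t * t = 1) (hta : t • a = b) (htb : t • b = a) :
    t ∈ Subgroup.normalizer ((stabilizer G a ⊓ stabilizer G b : Subgroup G) : Set G) := by
  rw [Subgroup.mem_normalizer_iff]
  intro x
  constructor
  · exact swap_conj_mem hZ hta htb
  · intro hx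
    have h := swap_conj_mem hZ hta htb hx
    have htinv : t⁻¹ = t := inv_eq_of_mul_eq_one_left htt
    rw [htinv] at h
    have : t * (t * x * t) * t = x := by
      calc t * (t * x * t) * t = (t * t) * x * (t * t) := by group
        _ = x := by rw [htt]; simp
    rw [this] at h
    exact h

/-- `h` even implies `e` odd. -/
theorem odd_two_point_of_even {a b : Ω} (hab : a ≠ b) (hh : Even (Nat.card (kernel hZ a))) :
    Odd (Nat.card ↥(stabilizer G a ⊓ stabilizer G b)) := by
  haveI := finite_of_finite hZ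
  have hd := card_two_point_dvd hZ hab
  have hpos : 0 < Nat.card (kernel hZ a) := Nat.card_pos
  have h1 : Odd (Nat.card (kernel hZ a) - 1) := by
    rcases hh with ⟨k, hk⟩
    exact ⟨k - 1, by omega⟩
  exact Odd.of_dvd_nat h1 hd

/-- If two-point stabilisers have odd order, an element `z` with `z² = 1` fixing `c` lies in `H_c`. -/
theorem mem_kernel_of_sq_eq_one {a b c : Ω} (hab : a ≠ b)
    (hodd : Odd (Nat.card ↥(stabilizer G a ⊓ stabilizer G b))) {z : G} (hz : z * z = 1)
    (hc : z • c = c) : z ∈ kernel hZ c := by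
  haveI := finite_of_finite hZ
  obtain ⟨d, hd⟩ := exists_other hZ c
  obtain ⟨u, hu, x, hxc, hxd, rfl⟩ := exists_decomp hZ hd hc
  have hx2 : x * x = 1 := by
    have h1 : (u * x * u * x⁻¹) * (x * x) = 1 := by
      rw [← hz]; group
    have h2 : u * x * u * x⁻¹ ∈ kernel hZ c := by
      have := conj_mem_kernel_of_fix hZ hxc hu
      have h3 : u * x * u * x⁻¹ = u * (x * u * x⁻¹) := by group
      rw [h3]
      exact (kernel hZ c).mul_mem hu this
    have h3 : u * x * u * x⁻¹ = (x * x)⁻¹ := eq_inv_of_mul_eq_one_left h1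
    rw [h3] at h2
    have hxx : (x * x) • c = c := by rw [mul_smul, hxc, hxc]
    have hxx' : (x * x) • d = d := by rw [mul_smul, hxd, hxd]
    by_contra hne
    apply hd
    have h4 : ((x * x)⁻¹) • d = d := by rw [inv_smul_eq_iff, hxx']
    exact (kernel_fix hZ h2 (inv_ne_one.mpr hne) h4).symm
  have hx1 : x = 1 := by
    have hcard : Odd (Nat.card ↥(stabilizer G c ⊓ stabilizer G d)) := by
      rwa [card_two_point_eq hZ hd hab]
    have hx' : (⟨x, hxc, hxd⟩ : ↥(stabilizer G c ⊓ stabilizer G d)) ^ 2 = 1 := by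
      rw [pow_two]
      exact Subtype.ext hx2
    have h1 := orderOf_dvd_of_pow_eq_one hx'
    have h2 := orderOf_dvd_natCard (⟨x, hxc, hxd⟩ : ↥(stabilizer G c ⊓ stabilizer G d))
    have h3 : orderOf (⟨x, hxc, hxd⟩ : ↥(stabilizer G c ⊓ stabilizer G d)) = 1 := by
      have h4 : Odd (orderOf (⟨x, hxc, hxd⟩ : ↥(stabilizer G c ⊓ stabilizer G d))) :=
        Odd.of_dvd_nat hcard h2
      rcases (Nat.dvd_prime Nat.prime_two).mp h1 with h5 | h5
      · exact h5
      · rw [h5] at h4
        exact absurd h4 (by decide)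
    have h4 := orderOf_eq_one_iff.mp h3
    exact congrArg Subtype.val h4
  rw [hx1, mul_one]
  rw [hx1, mul_one] at hz
  exact hu

end Finite

/-- A Zassenhaus group of odd degree is simple. -/
theorem odd_degree_simple (hZ : IsZassenhausGroup G Ω) [Finite Ω] (hodd : Odd (Nat.card Ω)) :
    IsSimpleGroup G := by
  classical
  haveI := finite_of_finite hZ
  haveI := Fintype.ofFinite Ω
  obtain ⟨g₀, -, a, b, hab, -, -⟩ := exists_ne_one_fix hZ
  have hh : Even (Nat.card (kernel hZ a)) := by
    have := card_kernel_add_one hZ a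
    rw [← this] at hodd
    by_contra hcon
    exact (Nat.not_even_iff_odd.mpr hodd) ((Nat.not_even_iff_odd.mp hcon).add_one)
  have he := odd_two_point_of_even hZ hab hh
  -- every involution lies in `L`
  have hinv : ∀ z : G, z * z = 1 → z ∈ joinKernels hZ := by
    intro z hz
    have hfix : ∃ c : Ω, z • c = c := exists_fixed_of_sq_eq_one hodd z hz
    obtain ⟨c, hc⟩ := hfix
    exact kernel_le_join hZ c (mem_kernel_of_sq_eq_one hZ hab he hz hc)
  obtain ⟨t, htt, hta, htb⟩ := exists_swap hZ hab
  have htL := hinv t htt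
  -- `t` has a unique fixed point
  have htinv : t⁻¹ = t := inv_eq_of_mul_eq_one_left htt
  have hEL : stabilizer G a ⊓ stabilizer G b ≤ joinKernels hZ := by
    intro x hx
    obtain ⟨c, hc⟩ : ∃ c : Ω, t ∈ kernel hZ c := by
      have hfix : ∃ c : Ω, t • c = c := exists_fixed_of_sq_eq_one hodd t htt
      obtain ⟨c, hc⟩ := hfix
      exact ⟨c, mem_kernel_of_sq_eq_one hZ hab he htt hc⟩
    have ht1 : t ≠ 1 := by
      intro h
      rw [h, one_smul] at hta
      exact hab hta
    have hnorm := swap_mem_normalizer hZ htt hta htb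
    have hfpf : ∀ k ∈ stabilizer G a ⊓ stabilizer G b, t * k = k * t → k = 1 := by
      intro k hk hcomm
      have hka : k • a = a := hk.1
      have hkb : k • b = b := hk.2
      have hkc : k • c = c := by
        have h1 : t • (k • c) = k • c := by
          rw [← mul_smul, hcomm, mul_smul, kernel_smul hZ hc]
        exact kernel_fix hZ hc ht1 h1
      have hca : c ≠ a := by
        intro h
        rw [h] at hc
        exact hab ((kernel_smul hZ hc).symm.trans hta)
      have hcb : c ≠ b := by
        intro h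
        rw [h] at hc
        exact hab ((htb.symm.trans (kernel_smul hZ hc)).symm ▸ rfl)
      exact eq_one_of_three hZ hab hcb.symm hca.symm hka hkb hkc
    have hinvert := Cfsg.Agent.Lib.Frobenius.Even.inverts_of_fpf_involution hnorm htt hfpf hx
    rw [htinv] at hinvert
    have hsq : (t * x) * (t * x) = 1 := by
      calc (t * x) * (t * x) = (t * x * t) * x := by group
        _ = 1 := by rw [hinvert]; group
    have h1 := hinv _ hsq
    have : x = t * (t * x) := by
      rw [← mul_assoc, htt, one_mul]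
    rw [this]
    exact (joinKernels hZ).mul_mem htL h1
  have htop : joinKernels hZ = ⊤ := by
    rw [eq_top_iff]
    intro g _
    obtain ⟨l, h1, h3⟩ := join_two_trans hZ a b (g • a) (g • b) hab (fun h => hab (smul_left_cancel _ h))
    have hx : (l : G)⁻¹ * g ∈ stabilizer G a ⊓ stabilizer G b := by
      constructor
      · show ((l : G)⁻¹ * g) • a = a
        rw [mul_smul, inv_smul_eq_iff]
        exact h1.symm
      · show ((l : G)⁻¹ * g) • b = b
        rw [mul_smul, inv_smul_eq_iff]
        exact h3.symm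
    have : g = l * ((l : G)⁻¹ * g) := by group
    rw [this]
    exact (joinKernels hZ).mul_mem l.2 (hEL hx)
  haveI : Nontrivial G := by
    refine ⟨⟨t, 1, ?_⟩⟩
    intro h
    rw [h, one_smul] at hta
    exact hab hta
  refine ⟨fun N hN => ?_⟩
  by_cases hbot : N = ⊥
  · exact Or.inl hbot
  · right
    rw [eq_top_iff, ← htop]
    exact join_le_of_normal hZ N hN hbot

end Cfsg.Agent.Lib.Zass.Invol
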