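import Mathlib
import Cfsg.Agent.Lib.Zass.Invol

/-!
# Zassenhaus groups: counting elements by fixed points

`|G| = (h + 1) h e`; `(h + 1)(h - 1)` elements fix a unique point; `(h + 1) h (e - 1) / 2` fix exactly
two; `h ((h + 1)(e - 1) / 2 + 1)` fix none.
-/

set_option autoImplicit false
set_option linter.style.haveILetI false
set_option linter.unusedSectionVars false

namespace Cfsg.Agent.Lib.Zass.Count

open MulAction Cfsg Cfsg.Agent.Lib.Zass.Basic
open Finset

universe u v

theorem natCard_subtype {α : Type*} [Fintype α] (P : α → Prop) [DecidablePred P] :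
    Nat.card {x // P x} = (univ.filter P).card := by
  rw [Nat.card_eq_fintype_card, Fintype.card_subtype]

/-- Non-identity elements of a finite subgroup. -/
theorem card_subgroup_ne_one {A : Type*} [Group A] [Finite A] (K : Subgroup A) :
    Nat.card {g : A // g ∈ K ∧ g ≠ 1} = Nat.card K - 1 := by
  classical
  haveI := Fintype.ofFinite A
  haveI := Fintype.ofFinite K
  rw [natCard_subtype, Nat.card_eq_fintype_card (α := K)]
  have h1 : (univ.filter (fun g : A => g ∈ K ∧ g ≠ 1)) =
      (univ.filter (fun g : A => g ∈ K)).erase 1 := by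
    ext g
    simp [and_comm]
  rw [h1, card_erase_of_mem (by simp [K.one_mem])]
  rw [← Fintype.card_subtype]

variable {G : Type u} {Ω : Type v} [Group G] [MulAction G Ω]

/-- Fixing exactly one point. -/
def OneFix (hZ : IsZassenhausGroup G Ω) [Finite Ω] (g : G) : Prop := g ≠ 1 ∧ ∃ c, g ∈ kernel hZ c

/-- Fixing exactly two points. -/
def TwoFix (g : G) (Ω : Type v) [MulAction G Ω] : Prop :=
  g ≠ 1 ∧ ∃ c d : Ω, c ≠ d ∧ g • c = c ∧ g • d = d

/-- Fixing no point. -/
def NoFix (g : G) (Ω : Type v) [MulAction G Ω] : Prop := ∀ c : Ω, g • c ≠ c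

section

variable (hZ : IsZassenhausGroup G Ω) [Finite Ω]
include hZ

theorem trichotomy (g : G) (hg : g ≠ 1) : NoFix g Ω ∨ OneFix hZ g ∨ TwoFix g Ω := by
  by_cases h0 : NoFix g Ω
  · exact Or.inl h0
  right
  unfold NoFix at h0
  push Not at h0
  obtain ⟨c, hc⟩ := h0
  by_cases h1 : ∃ d, d ≠ c ∧ g • d = d
  · obtain ⟨d, hd, hgd⟩ := h1
    exact Or.inr ⟨hg, c, d, hd.symm, hc, hgd⟩
  · push Not at h1
    left
    refine ⟨hg, c, mem_kernel_of hZ hc ?_⟩
    intro d hd
    by_contra hdc
    exact h1 d hdc hd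

theorem not_noFix_of_oneFix {g : G} (h : OneFix hZ g) : ¬ NoFix g Ω := by
  obtain ⟨-, c, hc⟩ := h
  intro h0
  exact h0 c (kernel_smul hZ hc)

theorem not_noFix_of_twoFix {g : G} (h : TwoFix g Ω) : ¬ NoFix g Ω := by
  obtain ⟨-, c, -, -, hc, -⟩ := h
  intro h0
  exact h0 c hc

theorem not_twoFix_of_oneFix {g : G} (h : OneFix hZ g) : ¬ TwoFix g Ω := by
  obtain ⟨hg, c, hc⟩ := h
  rintro ⟨-, x, y, hxy, hx, hy⟩
  exact hxy ((kernel_fix hZ hc hg hx).trans (kernel_fix hZ hc hg hy).symm)

/-- `(h + 1)(h - 1)` elements fix exactly one point. -/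
theorem card_oneFix (a : Ω) : Nat.card {g : G // OneFix hZ g} =
    (Nat.card (kernel hZ a) + 1) * (Nat.card (kernel hZ a) - 1) := by
  classical
  haveI := finite_of_finite hZ
  haveI := Fintype.ofFinite G
  haveI := Fintype.ofFinite Ω
  rw [natCard_subtype]
  have hcount := card_mul_eq_card_mul (s := univ.filter (fun g : G => OneFix hZ g))
    (t := (univ : Finset Ω)) (fun g c => g ∈ kernel hZ c) (m := 1)
    (n := Nat.card (kernel hZ a) - 1) ?_ ?_
  · rw [mul_one] at hcount
    rw [hcount, card_univ, ← Nat.card_eq_fintype_card, ← card_kernel_add_one hZ a]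
  · intro g hg
    obtain ⟨hg1, c, hc⟩ := (mem_filter.mp hg).2
    rw [card_eq_one]
    refine ⟨c, ?_⟩
    ext d
    simp only [bipartiteAbove, mem_filter, mem_univ, true_and, mem_singleton]
    constructor
    · intro hd
      exact kernel_eq_of_mem hZ hc hg1 hd
    · rintro rfl
      exact hc
  · intro c _
    have h1 := card_subgroup_ne_one (kernel hZ c)
    rw [card_kernel_eq hZ a c, ← h1, natCard_subtype]
    congr 1
    ext g
    simp only [bipartiteBelow, mem_filter, mem_univ, true_and]
    constructor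
    · rintro ⟨⟨hg1, -⟩, hgc⟩
      exact ⟨hgc, hg1⟩
    · rintro ⟨hgc, hg1⟩
      exact ⟨⟨hg1, c, hgc⟩, hgc⟩

/-- `(h + 1) h (e - 1)` counts twice the elements with exactly two fixed points. -/
theorem card_twoFix {a b : Ω} (hab : a ≠ b) : Nat.card {g : G // TwoFix g Ω} * 2 =
    (Nat.card (kernel hZ a) + 1) * Nat.card (kernel hZ a) *
      (Nat.card ↥(stabilizer G a ⊓ stabilizer G b) - 1) := by
  classical
  haveI := finite_of_finite hZ
  haveI := Fintype.ofFinite G
  haveI := Fintype.ofFinite Ω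
  rw [natCard_subtype]
  have hcount := card_mul_eq_card_mul (s := univ.filter (fun g : G => TwoFix g Ω))
    (t := univ.filter (fun p : Ω × Ω => p.1 ≠ p.2))
    (fun g p => g • p.1 = p.1 ∧ g • p.2 = p.2) (m := 2)
    (n := Nat.card ↥(stabilizer G a ⊓ stabilizer G b) - 1) ?_ ?_
  · rw [hcount]
    congr 1
    have hoff : (univ.filter (fun p : Ω × Ω => p.1 ≠ p.2)).card =
        Fintype.card Ω * (Fintype.card Ω - 1) := by
      have h1 : (univ.filter (fun p : Ω × Ω => p.1 ≠ p.2)) = Finset.offDiag (univ : Finset Ω) := by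
        ext p
        simp
      rw [h1, Finset.offDiag_card, card_univ]
      have h2 : 0 < Fintype.card Ω := Fintype.card_pos_iff.mpr ⟨a⟩
      rw [Nat.mul_sub, mul_one]
    rw [hoff, ← Nat.card_eq_fintype_card, ← card_kernel_add_one hZ a]
    simp
  · intro g hg
    obtain ⟨hg1, c, d, hcd, hc, hd⟩ := (mem_filter.mp hg).2
    rw [card_eq_two]
    refine ⟨(c, d), (d, c), fun h => hcd (congrArg Prod.fst h), ?_⟩
    ext ⟨x, y⟩
    simp only [bipartiteAbove, mem_filter, mem_univ, true_and, mem_insert, mem_singleton,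
      Prod.mk.injEq]
    have hfix : ∀ z, g • z = z → z = c ∨ z = d := by
      intro z hz
      by_contra hcon
      push Not at hcon
      exact hg1 (eq_one_of_three hZ hcd (hcon.2.symm) (hcon.1.symm) hc hd hz)
    constructor
    · rintro ⟨hxy, hx, hy⟩
      rcases hfix x hx with rfl | rfl <;> rcases hfix y hy with rfl | rfl
      · exact absurd rfl hxy
      · exact Or.inl ⟨rfl, rfl⟩
      · exact Or.inr ⟨rfl, rfl⟩
      · exact absurd rfl hxy
    · rintro (⟨rfl, rfl⟩ | ⟨rfl, rfl⟩)
      · exact ⟨hcd, hc, hd⟩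
      · exact ⟨hcd.symm, hd, hc⟩
  · rintro ⟨x, y⟩ hp
    have hxy : x ≠ y := (mem_filter.mp hp).2
    rw [card_two_point_eq hZ hab hxy]
    have h1 := card_subgroup_ne_one (stabilizer G x ⊓ stabilizer G y)
    rw [← h1, natCard_subtype]
    congr 1
    ext g
    simp only [bipartiteBelow, mem_filter, mem_univ, true_and, Subgroup.mem_inf, mem_stabilizer_iff]
    constructor
    · rintro ⟨⟨hg1, -⟩, hx, hy⟩
      exact ⟨⟨hx, hy⟩, hg1⟩
    · rintro ⟨⟨hx, hy⟩, hg1⟩
      exact ⟨⟨hg1, x, y, hxy, hx, hy⟩, hx, hy⟩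

/-- The partition of `G`. -/
theorem card_partition : Nat.card G = 1 + Nat.card {g : G // OneFix hZ g} +
    Nat.card {g : G // TwoFix g Ω} + Nat.card {g : G // NoFix g Ω} := by
  classical
  haveI := finite_of_finite hZ
  haveI := Fintype.ofFinite G
  rw [natCard_subtype, natCard_subtype, natCard_subtype, Nat.card_eq_fintype_card, ← card_univ]
  set S1 := univ.filter (fun g : G => OneFix hZ g) with hS1
  set S2 := univ.filter (fun g : G => TwoFix g Ω) with hS2
  set S3 := univ.filter (fun g : G => NoFix g Ω) with hS3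
  have hone : (1 : G) ∉ S1 := fun h => (mem_filter.mp h).2.1 rfl
  have htwo : (1 : G) ∉ S2 := fun h => (mem_filter.mp h).2.1 rfl
  have hno : (1 : G) ∉ S3 := by
    intro h
    obtain ⟨g₀, -, c, -, -, -, -⟩ := exists_ne_one_fix hZ
    exact (mem_filter.mp h).2 c (one_smul _ _)
  have hU : (univ : Finset G) = {1} ∪ (S1 ∪ (S2 ∪ S3)) := by
    ext g
    simp only [mem_univ, true_iff, mem_union, mem_singleton, hS1, hS2, hS3, mem_filter, true_and]
    by_cases hg : g = 1
    · exact Or.inl hg
    · rcases trichotomy hZ g hg with h | h | h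
      · exact Or.inr (Or.inr (Or.inr h))
      · exact Or.inr (Or.inl h)
      · exact Or.inr (Or.inr (Or.inl h))
  rw [hU, card_union_of_disjoint, card_union_of_disjoint, card_union_of_disjoint, card_singleton]
  · ring
  · rw [Finset.disjoint_left]
    intro g hg hg'
    exact not_noFix_of_twoFix hZ (mem_filter.mp hg).2 (mem_filter.mp hg').2
  · rw [Finset.disjoint_left]
    intro g hg hg'
    rcases mem_union.mp hg' with h | h
    · exact not_twoFix_of_oneFix hZ (mem_filter.mp hg).2 (mem_filter.mp h).2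
    · exact not_noFix_of_oneFix hZ (mem_filter.mp hg).2 (mem_filter.mp h).2
  · rw [Finset.disjoint_singleton_left]
    intro h
    rcases mem_union.mp h with h | h
    · exact hone h
    · rcases mem_union.mp h with h | h
      · exact htwo h
      · exact hno h

/-- The number of fixed point free elements. -/
theorem card_noFix {a b : Ω} (hab : a ≠ b) : 2 * Nat.card {g : G // NoFix g Ω} =
    Nat.card (kernel hZ a) * ((Nat.card (kernel hZ a) + 1) *
      (Nat.card ↥(stabilizer G a ⊓ stabilizer G b) - 1) + 2) := by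
  haveI := finite_of_finite hZ
  have h1 := card_partition hZ
  have h2 := card_oneFix hZ a
  have h3 := card_twoFix hZ hab
  have h4 := card_group_eq' hZ hab
  rw [h2, h4] at h1
  have hpos : 0 < Nat.card (kernel hZ a) := Nat.card_pos
  have hepos : 0 < Nat.card ↥(stabilizer G a ⊓ stabilizer G b) := Nat.card_pos
  generalize Nat.card (kernel hZ a) = h at *
  generalize Nat.card ↥(stabilizer G a ⊓ stabilizer G b) = e at *
  obtain ⟨h', rfl⟩ : ∃ h', h = h' + 1 := ⟨h - 1, by omega⟩
  obtain ⟨e', rfl⟩ : ∃ e', e = e' + 1 := ⟨e - 1, by omega⟩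
  simp only [Nat.add_sub_cancel] at h1 h3 ⊢
  nlinarith

/-- If all fixed point free elements are conjugate we get a contradiction. -/
theorem exists_noFix_not_conj {a b : Ω} (hab : a ≠ b)
    (hodd : Odd (Nat.card ↥(stabilizer G a ⊓ stabilizer G b))) :
    ∃ x y : G, NoFix x Ω ∧ NoFix y Ω ∧ ¬ IsConj x y := by
  classical
  haveI := finite_of_finite hZ
  by_contra hcon
  push Not at hcon
  have hA := card_noFix hZ hab
  have hpos : 0 < Nat.card (kernel hZ a) := Nat.card_pos
  have hh2 : 1 < Nat.card (kernel hZ a) :=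
    (Subgroup.one_lt_card_iff_ne_bot _).mpr (kernel_ne_bot hZ a)
  have he1 : 1 < Nat.card ↥(stabilizer G a ⊓ stabilizer G b) :=
    (Subgroup.one_lt_card_iff_ne_bot _).mpr (two_point_ne_bot hZ hab)
  -- existence of a fixed point free element
  have hex : 0 < Nat.card {g : G // NoFix g Ω} := by
    by_contra h0
    have h1 : Nat.card {g : G // NoFix g Ω} = 0 := by omega
    rw [h1] at hA
    have : 0 < Nat.card (kernel hZ a) * ((Nat.card (kernel hZ a) + 1) *
      (Nat.card ↥(stabilizer G a ⊓ stabilizer G b) - 1) + 2) := by positivity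
    omega
  obtain ⟨w, hw⟩ : ∃ w : G, NoFix w Ω := by
    have := (Nat.card_pos_iff.mp hex).1
    obtain ⟨⟨w, hw⟩⟩ := this
    exact ⟨w, hw⟩
  -- the class of `w`
  have hclass : {g : G | NoFix g Ω} = (ConjClasses.mk w).carrier := by
    ext g
    rw [ConjClasses.mem_carrier_iff_mk_eq, ConjClasses.mk_eq_mk_iff_isConj]
    constructor
    · intro hg
      exact (hcon g w hg hw)
    · intro hg c hc
      obtain ⟨u, hu⟩ := isConj_iff.mp hg
      apply hw (u • c)
      rw [← hu, mul_smul, mul_smul, inv_smul_smul, hc]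
  have hcard : Nat.card {g : G // NoFix g Ω} = (Subgroup.centralizer ({w} : Set G)).index := by
    have h1 : (Subgroup.centralizer ({w} : Set G)).index = (ConjClasses.mk w).carrier.ncard := by
      rw [← ConjAct.orbit_eq_carrier_conjClasses, ← MulAction.index_stabilizer,
        Subgroup.centralizer_eq_comap_stabilizer]
      exact Subgroup.index_comap_of_surjective _ (ConjAct.toConjAct (G := G)).surjective
    rw [h1, ← hclass]
    rfl
  have hdvd : Nat.card {g : G // NoFix g Ω} ∣ Nat.card G := by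
    rw [hcard]
    exact Subgroup.index_dvd_card _
  rw [card_group_eq' hZ hab] at hdvd
  obtain ⟨c, hc⟩ := hdvd
  generalize Nat.card {g : G // NoFix g Ω} = A at *
  generalize Nat.card (kernel hZ a) = h at *
  generalize Nat.card ↥(stabilizer G a ⊓ stabilizer G b) = e at *
  obtain ⟨h', rfl⟩ : ∃ h', h = h' + 2 := ⟨h - 2, by omega⟩
  have he3 : 3 ≤ e := by
    rcases hodd with ⟨k, rfl⟩
    omega
  obtain ⟨e', rfl⟩ : ∃ e', e = e' + 3 := ⟨e - 3, by omega⟩
  have hB : (h' + 2 + 1) * (e' + 3 - 1) + 2 = (h' + 3) * (e' + 2) + 2 := by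
    have : e' + 3 - 1 = e' + 2 := by omega
    rw [this]
  rw [hB] at hA
  -- cancel `h`
  have h1 : ((h' + 3) * (e' + 2) + 2) * c = 2 * ((h' + 3) * (e' + 3)) := by
    have h2 : (h' + 2) * (((h' + 3) * (e' + 2) + 2) * c) = (h' + 2) * (2 * ((h' + 3) * (e' + 3))) := by
      calc (h' + 2) * (((h' + 3) * (e' + 2) + 2) * c)
          = ((h' + 2) * ((h' + 3) * (e' + 2) + 2)) * c := by ring
        _ = 2 * A * c := by rw [hA]
        _ = 2 * (A * c) := by ring
        _ = 2 * ((h' + 2 + 1) * ((h' + 2) * (e' + 3))) := by rw [hc]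
        _ = _ := by ring
    exact Nat.eq_of_mul_eq_mul_left (by omega) h2
  rcases c with _ | _ | _ | c
  · simp at h1
  · nlinarith
  · nlinarith
  · have h5 : ((h' + 3) * (e' + 2) + 2) * (c + 1 + 1 + 1) =
        c * ((h' + 3) * (e' + 2) + 2) + 2 * ((h' + 3) * (e' + 3)) + ((h' + 3) * e' + 6) := by ring
    rw [h5] at h1
    omega

end

end Cfsg.Agent.Lib.Zass.Count
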