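import Mathlib
import Cfsg.Agent.Lib.Zass.Count
import Cfsg.Agent.S0739
import Cfsg.Agent.Lib.Perm.RankOne3

/-!
# Simple Zassenhaus groups with two-point stabilisers of odd order

The two-point stabiliser is cyclic and inverted by every element swapping the points; all involutions
are conjugate; number of involutions; products of two involutions in a point stabiliser.
-/

set_option autoImplicit false
set_option linter.style.haveILetI false
set_option linter.unusedSectionVars false

namespace Cfsg.Agent.Lib.Zass.OddSimple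

open MulAction Cfsg Cfsg.Agent.Lib.Zass.Basic Cfsg.Agent.Lib.Zass.Simple Cfsg.Agent.Lib.Zass.Invol
  Cfsg.Agent.Lib.Zass.Count
open Finset

universe u v

variable {G : Type u} {Ω : Type v} [Group G] [MulAction G Ω]

theorem eq_one_of_mul_self_of_odd [Finite G] {H : Subgroup G} (hodd : Odd (Nat.card H)) {x : G}
    (hx : x ∈ H) (hxx : x * x = 1) : x = 1 := by
  have hx' : (⟨x, hx⟩ : H) ^ 2 = 1 := by
    rw [pow_two]
    exact Subtype.ext hxx
  have h1 := orderOf_dvd_of_pow_eq_one hx'
  have h2 := orderOf_dvd_natCard (⟨x, hx⟩ : H)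
  have h3 : orderOf (⟨x, hx⟩ : H) = 1 := by
    have h4 : Odd (orderOf (⟨x, hx⟩ : H)) := Odd.of_dvd_nat hodd h2
    rcases (Nat.dvd_prime Nat.prime_two).mp h1 with h5 | h5
    · exact h5
    · rw [h5] at h4
      exact absurd h4 (by decide)
  have h4 := orderOf_eq_one_iff.mp h3
  exact congrArg Subtype.val h4

theorem orderOf_eq_two_iff' {z : G} : orderOf z = 2 ↔ z * z = 1 ∧ z ≠ 1 := by
  constructor
  · intro h
    refine ⟨?_, ?_⟩
    · have := pow_orderOf_eq_one z
      rwa [h, pow_two] at this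
    · rintro rfl
      rw [orderOf_one] at h
      omega
  · rintro ⟨h1, h2⟩
    exact orderOf_eq_prime (by rw [pow_two, h1]) h2

section

variable (hZ : IsZassenhausGroup G Ω) [Finite Ω]
include hZ

theorem odd_all {a b : Ω} (hab : a ≠ b)
    (hodd : Odd (Nat.card ↥(stabilizer G a ⊓ stabilizer G b))) :
    ∀ c d : Ω, c ≠ d → Odd (Nat.card ↥(stabilizer G c ⊓ stabilizer G d)) := by
  intro c d hcd
  rwa [← card_two_point_eq hZ hab hcd]

/-- An involution does not fix two points when two-point stabilisers are odd. -/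
theorem invol_not_fix_two (hO : ∀ c d : Ω, c ≠ d → Odd (Nat.card ↥(stabilizer G c ⊓ stabilizer G d)))
    {z : G} (hzz : z * z = 1) (hz1 : z ≠ 1) {c d : Ω} (hcd : c ≠ d) (hc : z • c = c) (hd : z • d = d) :
    False := by
  haveI := finite_of_finite hZ
  exact hz1 (eq_one_of_mul_self_of_odd (hO c d hcd) (x := z) ⟨hc, hd⟩ hzz)

/-- The swapping elements of a pair form a coset of the two-point stabiliser. -/
theorem card_swap {c d : Ω} (hcd : c ≠ d) :
    Nat.card {z : G // z • c = d ∧ z • d = c} = Nat.card ↥(stabilizer G c ⊓ stabilizer G d) := by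
  obtain ⟨t, htt, htc, htd⟩ := exists_swap hZ hcd
  refine Nat.card_congr ⟨fun z => ⟨t * z.1, ?_, ?_⟩, fun x => ⟨t * (x : G), ?_, ?_⟩, ?_, ?_⟩
  · show (t * z.1) • c = c
    rw [mul_smul, z.2.1, htd]
  · show (t * z.1) • d = d
    rw [mul_smul, z.2.2, htc]
  · have : (x : G) • c = c := x.2.1
    rw [mul_smul, this, htc]
  · have : (x : G) • d = d := x.2.2
    rw [mul_smul, this, htd]
  · intro z
    apply Subtype.ext
    show t * (t * z.1) = z.1
    rw [← mul_assoc, htt, one_mul]
  · intro x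
    apply Subtype.ext
    show t * (t * (x : G)) = x
    rw [← mul_assoc, htt, one_mul]

/-- An involution in a point stabiliser. -/
theorem invol_mem_kernel (hO : ∀ c d : Ω, c ≠ d → Odd (Nat.card ↥(stabilizer G c ⊓ stabilizer G d)))
    {z : G} (hzz : z * z = 1) {c : Ω} (hc : z • c = c) : z ∈ kernel hZ c := by
  obtain ⟨d, hd⟩ := exists_other hZ c
  exact mem_kernel_of_sq_eq_one hZ hd (hO c d hd) hzz hc

/-- When `h` is odd an involution has no fixed point. -/
theorem invol_no_fix (hO : ∀ c d : Ω, c ≠ d → Odd (Nat.card ↥(stabilizer G c ⊓ stabilizer G d)))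
    {a : Ω} (hh : ¬ Even (Nat.card (kernel hZ a))) {z : G} (hzz : z * z = 1) (hz1 : z ≠ 1) (c : Ω) :
    z • c ≠ c := by
  haveI := finite_of_finite hZ
  intro hc
  have hm := invol_mem_kernel hZ hO hzz hc
  have hh' : Odd (Nat.card (kernel hZ c)) := by
    rw [← card_kernel_eq hZ a c]
    exact Nat.not_even_iff_odd.mp hh
  exact hz1 (eq_one_of_mul_self_of_odd hh' hm hzz)

/-- When `h` is even an involution lies in some kernel. -/
theorem invol_exists_fix {a : Ω} (hh : Even (Nat.card (kernel hZ a)))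
    (hO : ∀ c d : Ω, c ≠ d → Odd (Nat.card ↥(stabilizer G c ⊓ stabilizer G d)))
    {z : G} (hzz : z * z = 1) : ∃ c, z ∈ kernel hZ c := by
  have hodd : Odd (Nat.card Ω) := by
    rw [← card_kernel_add_one hZ a]
    exact hh.add_one
  obtain ⟨c, hc⟩ := exists_fixed_of_sq_eq_one hodd z hzz
  exact ⟨c, invol_mem_kernel hZ hO hzz hc⟩

end

section Simple

variable (hZ : IsZassenhausGroup G Ω) [Finite Ω] [IsSimpleGroup G]
include hZ

/-- S0739 for simple groups. -/
theorem cyclic_inverted {a b : Ω} (hab : a ≠ b)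
    (hodd : Odd (Nat.card ↥(stabilizer G a ⊓ stabilizer G b))) :
    IsCyclic ↥(stabilizer G a ⊓ stabilizer G b) ∧
      Subgroup.centralizer ((stabilizer G a ⊓ stabilizer G b : Subgroup G) : Set G) =
        stabilizer G a ⊓ stabilizer G b ∧
      ∀ s : G, s • a = b → s • b = a → ∀ h ∈ stabilizer G a ⊓ stabilizer G b, s * h * s⁻¹ = h⁻¹ := by
  classical
  haveI := finite_of_finite hZ
  haveI := Fintype.ofFinite Ω
  refine Cfsg.Agent.S0739.result hZ hab hodd ?_
  rintro q hq hqd ⟨N, hNn, hNi⟩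
  have hqodd : q ≠ 2 := by
    rintro rfl
    exact (Nat.not_even_iff_odd.mpr hodd) (even_iff_two_dvd.mpr hqd)
  rcases IsSimpleGroup.eq_bot_or_eq_top_of_normal N hNn with rfl | rfl
  · rw [Subgroup.index_bot] at hNi
    have h2 := (card_even hZ).two_dvd
    rw [hNi] at h2
    have := (Nat.prime_two.dvd_of_dvd_pow h2)
    exact hqodd ((Nat.prime_dvd_prime_iff_eq Nat.prime_two hq).mp this).symm
  · rw [Subgroup.index_top] at hNi
    have hq' : q ∣ Nat.card G := hqd.trans (Subgroup.card_subgroup_dvd_card _)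
    have hpos : 0 < (Nat.card G).factorization q :=
      hq.factorization_pos_of_dvd Nat.card_pos.ne' hq'
    have : 1 < q ^ (Nat.card G).factorization q := Nat.one_lt_pow hpos.ne' hq.one_lt
    omega

theorem inverted (hO : ∀ c d : Ω, c ≠ d → Odd (Nat.card ↥(stabilizer G c ⊓ stabilizer G d)))
    {c d : Ω} (hcd : c ≠ d) {s x : G} (hsc : s • c = d) (hsd : s • d = c)
    (hx : x ∈ stabilizer G c ⊓ stabilizer G d) : s * x * s⁻¹ = x⁻¹ :=
  (cyclic_inverted hZ hcd (hO c d hcd)).2.2 s hsc hsd x hx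

/-- Elements swapping two points are involutions. -/
theorem swap_sq (hO : ∀ c d : Ω, c ≠ d → Odd (Nat.card ↥(stabilizer G c ⊓ stabilizer G d)))
    {c d : Ω} (hcd : c ≠ d) {s : G} (hsc : s • c = d) (hsd : s • d = c) : s * s = 1 := by
  haveI := finite_of_finite hZ
  have hm : s * s ∈ stabilizer G c ⊓ stabilizer G d := by
    constructor
    · show (s * s) • c = c
      rw [mul_smul, hsc, hsd]
    · show (s * s) • d = d
      rw [mul_smul, hsd, hsc]
  have h1 := inverted hZ hO hcd hsc hsd hm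
  have h2 : s * (s * s) * s⁻¹ = s * s := by group
  rw [h2] at h1
  apply eq_one_of_mul_self_of_odd (hO c d hcd) hm
  nth_rewrite 1 [h1]
  exact inv_mul_cancel _

/-- Involutions mapping `x` to `y`. -/
theorem filter_invol_smul (hO : ∀ c d : Ω, c ≠ d → Odd (Nat.card ↥(stabilizer G c ⊓ stabilizer G d)))
    {x y : Ω} (hxy : x ≠ y) {z : G} : ((z * z = 1 ∧ z ≠ 1) ∧ z • x = y) ↔ (z • x = y ∧ z • y = x) := by
  constructor
  · rintro ⟨⟨hzz, -⟩, hzx⟩
    refine ⟨hzx, ?_⟩
    rw [← hzx, ← mul_smul, hzz, one_smul]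
  · rintro ⟨h1, h3⟩
    refine ⟨⟨swap_sq hZ hO hxy h1 h3, ?_⟩, h1⟩
    rintro rfl
    rw [one_smul] at h1
    exact hxy h1

/-- The number of involutions. -/
theorem card_invol (hO : ∀ c d : Ω, c ≠ d → Odd (Nat.card ↥(stabilizer G c ⊓ stabilizer G d)))
    {a b : Ω} (hab : a ≠ b) :
    (Even (Nat.card (kernel hZ a)) → Nat.card {z : G // z * z = 1 ∧ z ≠ 1} =
        Nat.card ↥(stabilizer G a ⊓ stabilizer G b) * (Nat.card (kernel hZ a) + 1)) ∧
    (¬ Even (Nat.card (kernel hZ a)) → Nat.card {z : G // z * z = 1 ∧ z ≠ 1} =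
        Nat.card ↥(stabilizer G a ⊓ stabilizer G b) * Nat.card (kernel hZ a)) := by
  classical
  haveI := finite_of_finite hZ
  haveI := Fintype.ofFinite G
  haveI := Fintype.ofFinite Ω
  rw [natCard_subtype (fun z : G => z * z = 1 ∧ z ≠ 1)]
  set I := univ.filter (fun z : G => z * z = 1 ∧ z ≠ 1) with hI
  set h := Nat.card (kernel hZ a) with hh
  set e := Nat.card ↥(stabilizer G a ⊓ stabilizer G b) with he
  have hcardΩ : Fintype.card Ω = h + 1 := by
    rw [← Nat.card_eq_fintype_card, ← card_kernel_add_one hZ a]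
  have hpos : 0 < h := Nat.card_pos
  -- for each point
  have hbelow : ∀ x : Ω, (I.filter (fun z => z • x ≠ x)).card = h * e := by
    intro x
    have hmaps : ∀ z ∈ I.filter (fun z => z • x ≠ x), z • x ∈ univ.filter (fun y : Ω => y ≠ x) := by
      intro z hz
      simp only [mem_filter, mem_univ, true_and]
      exact (mem_filter.mp hz).2
    rw [card_eq_sum_card_fiberwise hmaps]
    have hfib : ∀ y ∈ univ.filter (fun y : Ω => y ≠ x),
        ((I.filter (fun z => z • x ≠ x)).filter (fun z => z • x = y)).card = e := by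
      intro y hy
      have hyx : y ≠ x := (mem_filter.mp hy).2
      have h1 : (univ.filter (fun z : G => z • x = y ∧ z • y = x)).card = e := by
        rw [← natCard_subtype]
        exact (card_swap hZ hyx.symm).trans (card_two_point_eq hZ hyx.symm hab)
      refine Eq.trans ?_ h1
      congr 1
      ext z
      simp only [mem_filter, mem_univ, true_and, hI]
      constructor
      · rintro ⟨⟨hz, -⟩, hzx⟩
        exact (filter_invol_smul hZ hO hyx.symm).mp ⟨hz, hzx⟩
      · intro hz
        have := (filter_invol_smul hZ hO hyx.symm).mpr hz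
        refine ⟨⟨this.1, ?_⟩, this.2⟩
        rw [this.2]
        exact hyx
    rw [sum_congr rfl hfib, sum_const, smul_eq_mul]
    congr 1
    have : (univ.filter (fun y : Ω => y ≠ x)) = univ.erase x := by
      ext y
      simp
    rw [this, card_erase_of_mem (mem_univ _), card_univ, hcardΩ]
    simp
  have hdc := sum_card_bipartiteAbove_eq_sum_card_bipartiteBelow (s := I) (t := (univ : Finset Ω))
    (fun z x => z • x ≠ x)
  have hrhs : ∑ x : Ω, (I.bipartiteBelow (fun z x => z • x ≠ x) x).card = (h + 1) * (h * e) := by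
    have : ∀ x : Ω, (I.bipartiteBelow (fun z x => z • x ≠ x) x).card = h * e := hbelow
    rw [sum_congr rfl (fun x _ => this x), sum_const, smul_eq_mul, card_univ, hcardΩ]
  rw [hrhs] at hdc
  constructor
  · intro heven
    have habove : ∀ z ∈ I, ((univ : Finset Ω).bipartiteAbove (fun z x => z • x ≠ x) z).card = h := by
      intro z hz
      obtain ⟨hzz, hz1⟩ := (mem_filter.mp hz).2
      obtain ⟨c, hc⟩ := invol_exists_fix hZ heven hO hzz
      have : (univ : Finset Ω).bipartiteAbove (fun z x => z • x ≠ x) z = univ.erase c := by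
        ext x
        simp only [bipartiteAbove, mem_filter, mem_univ, true_and, mem_erase, and_true, ne_eq]
        constructor
        · intro hx hxc
          rw [hxc, kernel_smul hZ hc] at hx
          exact hx rfl
        · intro hx hzx
          exact hx (kernel_fix hZ hc hz1 hzx)
      rw [this, card_erase_of_mem (mem_univ _), card_univ, hcardΩ]
      simp
    rw [sum_congr rfl habove, sum_const, smul_eq_mul] at hdc
    have : I.card * h = (e * (h + 1)) * h := by rw [hdc]; ring
    exact Nat.eq_of_mul_eq_mul_right hpos this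
  · intro hodd
    have habove : ∀ z ∈ I, ((univ : Finset Ω).bipartiteAbove (fun z x => z • x ≠ x) z).card = h + 1 := by
      intro z hz
      obtain ⟨hzz, hz1⟩ := (mem_filter.mp hz).2
      have : (univ : Finset Ω).bipartiteAbove (fun z x => z • x ≠ x) z = univ := by
        ext x
        simp only [bipartiteAbove, mem_filter, mem_univ, true_and, iff_true]
        exact invol_no_fix hZ hO hodd hzz hz1 x
      rw [this, card_univ, hcardΩ]
    rw [sum_congr rfl habove, sum_const, smul_eq_mul] at hdc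
    have : I.card * (h + 1) = (e * h) * (h + 1) := by rw [hdc]; ring
    exact Nat.eq_of_mul_eq_mul_right (Nat.succ_pos h) this

/-- Two elements swapping the same pair are conjugate. -/
theorem swap_conj (hO : ∀ c d : Ω, c ≠ d → Odd (Nat.card ↥(stabilizer G c ⊓ stabilizer G d)))
    {c d : Ω} (hcd : c ≠ d) {s s' : G} (hsc : s • c = d) (hsd : s • d = c) (hsc' : s' • c = d)
    (hsd' : s' • d = c) : IsConj s s' := by
  haveI := finite_of_finite hZ
  have hss : s * s = 1 := swap_sq hZ hO hcd hsc hsd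
  have hsinv : s⁻¹ = s := inv_eq_of_mul_eq_one_left hss
  set w := s' * s with hw
  have hwm : w ∈ stabilizer G c ⊓ stabilizer G d := by
    constructor
    · show (s' * s) • c = c
      rw [mul_smul, hsc, hsd']
    · show (s' * s) • d = d
      rw [mul_smul, hsd, hsc']
  obtain ⟨m, hm⟩ := hO c d hcd
  have hw1 : w ^ (2 * m + 1) = 1 := by
    have h1 := pow_card_eq_one' (x := (⟨w, hwm⟩ : ↥(stabilizer G c ⊓ stabilizer G d)))
    rw [hm] at h1
    have := congrArg Subtype.val h1
    simpa using this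
  have hy2 : (w ^ (m + 1)) ^ 2 = w := Cfsg.Agent.Lib.Perm.RankOne2.sq_pow_of_odd hw1
  set y := w ^ (m + 1) with hy
  have hym : y ∈ stabilizer G c ⊓ stabilizer G d := Subgroup.pow_mem _ hwm _
  have hinv := inverted hZ hO hcd hsc hsd ((stabilizer G c ⊓ stabilizer G d).inv_mem hym)
  rw [hsinv, inv_inv] at hinv
  rw [isConj_iff]
  refine ⟨y, ?_⟩
  -- `y s y⁻¹ = y (s y⁻¹ s) s = y y s = w s = s'`
  calc y * s * y⁻¹ = y * (s * y⁻¹ * s) * s := by
        simp only [mul_assoc, hss, mul_one]
    _ = y * y * s := by rw [hinv]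
    _ = y ^ 2 * s := by rw [pow_two]
    _ = w * s := by rw [hy2]
    _ = s' := by rw [hw, mul_assoc, hss, mul_one]

/-- All involutions are conjugate. -/
theorem invol_conj (hO : ∀ c d : Ω, c ≠ d → Odd (Nat.card ↥(stabilizer G c ⊓ stabilizer G d)))
    {x y : G} (hx : x * x = 1) (hx1 : x ≠ 1) (hy : y * y = 1) (hy1 : y ≠ 1) : IsConj x y := by
  have hmove : ∀ z : G, z ≠ 1 → ∃ c : Ω, z • c ≠ c := by
    intro z hz
    by_contra hcon
    push Not at hcon
    apply hz
    apply hZ.1.eq_of_smul_eq_smul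
    intro c
    rw [hcon c, one_smul]
  obtain ⟨c, hc⟩ := hmove x hx1
  obtain ⟨d, hd⟩ := hmove y hy1
  obtain ⟨g, h1, h3⟩ := two_trans hZ (x := d) (y := y • d) (x' := c) (y' := x • c) hd.symm hc.symm
  have hxc : x • (x • c) = c := by rw [← mul_smul, hx, one_smul]
  have hyd : y • (y • d) = d := by rw [← mul_smul, hy, one_smul]
  have hcc : c ≠ x • c := hc.symm
  have h4 : IsConj x (g * y * g⁻¹) := by
    have h5 : g⁻¹ • c = d := by rw [inv_smul_eq_iff]; exact h1.symm
    have h6 : g⁻¹ • (x • c) = y • d := by rw [inv_smul_eq_iff]; exact h3.symm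
    apply swap_conj hZ hO hcc rfl hxc
    · rw [mul_smul, mul_smul, h5, h3]
    · rw [mul_smul, mul_smul, h6, hyd, h1]
  exact h4.trans (isConj_iff.mpr ⟨g⁻¹, by group⟩)

end Simple

section Even

variable (hZ : IsZassenhausGroup G Ω) [Finite Ω]
include hZ

/-- The rank-one set-up. -/
theorem rankOneSetup {a b : Ω} (hab : a ≠ b) (heven : Even (Nat.card (kernel hZ a))) {t : G}
    (htt : t * t = 1) (hta : t • a = b) (htb : t • b = a) :
    Cfsg.IsRankOneSetup G Ω a t (kernel hZ a) := by
  have hodd := odd_two_point_of_even hZ hab heven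
  have htab : t • a = b := hta
  refine ⟨hZ.2.1, htt, ?_, ?_, kernel_le hZ a, ?_, ?_, ?_, heven, ?_⟩
  · rintro rfl
    rw [one_smul] at hta
    exact hab hta
  · intro h
    exact hab (h.symm.trans hta)
  · intro h hh x hx
    exact conj_mem_kernel_of_fix hZ hh hx
  · rw [hta, eq_bot_iff]
    rintro x ⟨hx1, hx2⟩
    rw [Subgroup.mem_bot]
    by_contra hx
    exact hab.symm (kernel_fix hZ hx1 hx hx2)
  · rw [hta]
    apply le_antisymm
    · exact sup_le (kernel_le hZ a) inf_le_left
    · intro y hy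
      obtain ⟨u, hu, x, hxa, hxb, rfl⟩ := exists_decomp hZ hab hy
      exact Subgroup.mul_mem_sup hu ⟨hxa, hxb⟩
  · rw [hta]
    exact hodd

/-- Two commuting involutions exist when `h` is even. -/
theorem twoCommuting {a b : Ω} (hab : a ≠ b) (heven : Even (Nat.card (kernel hZ a))) :
    Cfsg.Agent.Lib.Perm.RankOne3.TwoCommuting G := by
  classical
  haveI := finite_of_finite hZ
  haveI : Fact (Nat.Prime 2) := ⟨Nat.prime_two⟩
  haveI hn := kernel_nilpotent hZ a
  obtain ⟨P⟩ : Nonempty (Sylow 2 (kernel hZ a)) := inferInstance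
  have hPn : (P : Subgroup (kernel hZ a)).Normal := inferInstance
  -- `P` is nontrivial
  have hd : 2 ∣ Nat.card (kernel hZ a) := heven.two_dvd
  have hPnt : Nontrivial (P : Subgroup (kernel hZ a)) := by
    have h1 := Sylow.dvd_card_of_dvd_card P hd
    exact Finite.one_lt_card_iff_nontrivial.mp (by
      have h2 : 0 < Nat.card (P : Subgroup (kernel hZ a)) := Nat.card_pos
      have := Nat.le_of_dvd h2 h1
      omega)
  have hcn : Nontrivial (Subgroup.center (P : Subgroup (kernel hZ a))) := P.isPGroup'.center_nontrivial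
  have hcp : IsPGroup 2 (Subgroup.center (P : Subgroup (kernel hZ a))) := P.isPGroup'.to_subgroup _
  have hdc : 2 ∣ Nat.card (Subgroup.center (P : Subgroup (kernel hZ a))) := by
    obtain ⟨n, hn⟩ := IsPGroup.iff_card.mp hcp
    rw [hn]
    have hn0 : n ≠ 0 := by
      rintro rfl
      rw [pow_zero] at hn
      have := Finite.one_lt_card_iff_nontrivial.mpr hcn
      omega
    exact dvd_pow_self _ hn0
  obtain ⟨z, hz⟩ := exists_prime_orderOf_dvd_card' 2 hdc
  -- members of `P`: elements of 2-power order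
  have hmem : ∀ x : kernel hZ a, ∀ k : ℕ, x ^ (2 ^ k) = 1 → x ∈ (P : Subgroup (kernel hZ a)) := by
    intro x k hk
    have hpx : IsPGroup 2 (Subgroup.zpowers x) := by
      rw [IsPGroup.iff_orderOf]
      rintro ⟨y, hy⟩
      have hy1 : y ^ (2 ^ k) = 1 := by
        obtain ⟨n, rfl⟩ := Subgroup.mem_zpowers_iff.mp hy
        rw [← zpow_natCast, ← zpow_mul, mul_comm, zpow_mul, zpow_natCast, hk, one_zpow]
      obtain ⟨j, -, hj⟩ := (Nat.dvd_prime_pow Nat.prime_two).mp (orderOf_dvd_of_pow_eq_one hy1)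
      refine ⟨j, ?_⟩
      rw [Subgroup.orderOf_mk]
      exact hj
    obtain ⟨R, hR⟩ := hpx.exists_le_sylow
    have hRP : R = P := by
      have := Sylow.unique_of_normal P hPn
      exact Subsingleton.elim _ _
    rw [← hRP]
    exact hR (Subgroup.mem_zpowers _)
  set z₀ : G := (((z : (P : Subgroup (kernel hZ a))) : kernel hZ a) : G) with hz₀
  have hz₀k : z₀ ∈ kernel hZ a := ((z : (P : Subgroup (kernel hZ a))) : kernel hZ a).2
  have hz₀2 : z₀ * z₀ = 1 := by
    have : z ^ 2 = 1 := by
      have h4 := pow_orderOf_eq_one z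
      rwa [hz] at h4
    have h3 := congrArg (fun y : Subgroup.center (P : Subgroup (kernel hZ a)) =>
      (((y : (P : Subgroup (kernel hZ a))) : kernel hZ a) : G)) this
    simpa [pow_two, hz₀] using h3
  have hz₀1 : z₀ ≠ 1 := by
    intro h
    have : z = 1 := Subtype.ext (Subtype.ext (Subtype.ext h))
    rw [this, orderOf_one] at hz
    omega
  -- the conjugate
  obtain ⟨x, hxa, hxb, hx1⟩ : ∃ x : G, x • a = a ∧ x • b = b ∧ x ≠ 1 := by
    obtain ⟨g, hg, h1, h3⟩ := exists_ne_one_fix' hZ hab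
    exact ⟨g, h1, h3, hg⟩
  set z₁ : G := x * z₀ * x⁻¹ with hz₁
  have hz₁k : z₁ ∈ kernel hZ a := conj_mem_kernel_of_fix hZ hxa hz₀k
  have hz₁2 : z₁ * z₁ = 1 := by
    calc z₁ * z₁ = x * (z₀ * z₀) * x⁻¹ := by rw [hz₁]; group
      _ = 1 := by rw [hz₀2]; group
  have hz₁P : (⟨z₁, hz₁k⟩ : kernel hZ a) ∈ (P : Subgroup (kernel hZ a)) := by
    apply hmem _ 1
    apply Subtype.ext
    show z₁ ^ (2 ^ 1) = 1
    rw [pow_one, pow_two, hz₁2]
  have hcomm : z₀ * z₁ = z₁ * z₀ := by
    have := (Subgroup.mem_center_iff.mp z.2) ⟨⟨z₁, hz₁k⟩, hz₁P⟩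
    have h3 := congrArg (fun y : (P : Subgroup (kernel hZ a)) => ((y : kernel hZ a) : G)) this
    exact h3.symm
  have hne : z₀ ≠ z₁ := by
    intro h
    have h3 : x * z₀ = z₀ * x := by
      calc x * z₀ = (x * z₀ * x⁻¹) * x := by group
        _ = z₁ * x := by rw [hz₁]
        _ = z₀ * x := by rw [← h]
    exact hz₀1 (eq_one_of_commute hZ hab hxa hxb hx1 hz₀k h3)
  refine ⟨z₀, z₁, hz₀1, ?_, hne, hz₀2, hz₁2, hcomm⟩
  intro h
  apply hz₀1
  rw [hz₁] at h
  have h3 : z₀ = x⁻¹ * (x * z₀ * x⁻¹) * x := by group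
  rw [h3, h]
  group

/-- Products of two involutions in a kernel. -/
theorem orderOf_two_of_mul (hO : ∀ c d : Ω, c ≠ d → Odd (Nat.card ↥(stabilizer G c ⊓ stabilizer G d)))
    {a : Ω} {u x y : G} (hu : u ∈ kernel hZ a) (hu1 : u ≠ 1) (hx : x * x = 1) (hx1 : x ≠ 1)
    (hy : y * y = 1) (hy1 : y ≠ 1) (hxy : x * y = u) : x • a = a ∧ y • a = a ∧ u * u = 1 := by
  classical
  haveI := finite_of_finite hZ
  have hxinv : x⁻¹ = x := inv_eq_of_mul_eq_one_left hx
  have hyinv : y⁻¹ = y := inv_eq_of_mul_eq_one_left hy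
  have hxu : x * u * x = u⁻¹ := by
    rw [← hxy, mul_inv_rev, hxinv, hyinv]
    calc x * (x * y) * x = (x * x) * y * x := by group
      _ = y * x := by rw [hx, one_mul]
  have hxa : x • a = a := by
    have h1 : u⁻¹ • (x • a) = x • a := by
      rw [← hxu, mul_smul, mul_smul, ← mul_smul x x, hx, one_smul, kernel_smul hZ hu]
    exact kernel_fix hZ ((kernel hZ a).inv_mem hu) (inv_ne_one.mpr hu1) h1
  have hya : y • a = a := by
    have : y = x * u := by rw [← hxy, ← mul_assoc, hx, one_mul]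
    rw [this, mul_smul, kernel_smul hZ hu, hxa]
  refine ⟨hxa, hya, ?_⟩
  obtain ⟨b, hab⟩ := exists_other hZ a
  by_cases heven : Even (Nat.card (kernel hZ a))
  · obtain ⟨t, htt, hta, htb⟩ := exists_swap hZ hab
    have hS := rankOneSetup hZ hab heven htt hta htb
    have h2 := twoCommuting hZ hab heven
    have h3 := Cfsg.Agent.Lib.Perm.RankOne3.involution_mul hS h2 (s := x) (s' := y)
      ⟨hxa, hx1, hx⟩ ⟨hya, hy1, hy⟩
    rw [hxy] at h3
    rcases h3 with h3 | h3
    · exact absurd h3 hu1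
    · exact h3.2.2
  · exact absurd hxa (invol_no_fix hZ hO heven hx hx1 a)

end Even

end Cfsg.Agent.Lib.Zass.OddSimple
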