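import Mathlib
import Cfsg.Agent.Lib.Zass.OddSimple
import Cfsg.Agent.Lib.Char.Mackey
import Cfsg.Agent.Lib.Char.IndRep
import Cfsg.Agent.Lib.Char.LinearChars
import Cfsg.Agent.Lib.Char.Ortho
import Cfsg.Agent.Lib.Char.OrthoBasic

/-!
# Simple Zassenhaus groups: characters induced from a point stabiliser
-/

set_option autoImplicit false
set_option linter.style.haveILetI false
set_option linter.unusedSectionVars false

namespace Cfsg.Agent.Lib.Zass.Induced

open MulAction Cfsg Cfsg.Agent.Lib.Zass.Basic Cfsg.Agent.Lib.Zass.Simple Cfsg.Agent.Lib.Zass.Invol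
  Cfsg.Agent.Lib.Zass.Count Cfsg.Agent.Lib.Zass.OddSimple Cfsg.Agent.Lib.Char.Induced
  Cfsg.Agent.Lib.Char.Mackey
open scoped ComplexConjugate

universe u v

variable {G : Type u} {Ω : Type v} [Group G] [MulAction G Ω]

section

variable (hZ : IsZassenhausGroup G Ω) [Finite Ω]
include hZ

/-- `G = G_a ∪ G_a w G_a` for `w • a ≠ a`. -/
theorem two_double_cosets {a : Ω} {w : G} (hw : w • a ≠ a) (x : G) (hx : x ∉ stabilizer G a) :
    ∃ h₁ h₂ : stabilizer G a, x = (h₁ : G) * w * h₂ := by
  have hx' : x • a ≠ a := hx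
  obtain ⟨y, hya, hyc⟩ := exists_stab_smul hZ (a := a) (b := w • a) (c := x • a) hw hx'
  refine ⟨⟨y, hya⟩, ⟨(y * w)⁻¹ * x, ?_⟩, by group⟩
  show ((y * w)⁻¹ * x) • a = a
  rw [mul_smul, inv_smul_eq_iff, mul_smul, hyc]

/-- The value of an induced function at a non-identity kernel element. -/
theorem indFun_kernel [Fintype G] {a : Ω} [Fintype (stabilizer G a)] (θ : stabilizer G a → ℂ)
    {u : G} (hu : u ∈ kernel hZ a) (hu1 : u ≠ 1) :
    indFun (stabilizer G a) θ u = (Nat.card (stabilizer G a) : ℂ)⁻¹ *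
      ∑ x : stabilizer G a, θ ⟨(x : G)⁻¹ * u * x,
        (stabilizer G a).mul_mem ((stabilizer G a).mul_mem ((stabilizer G a).inv_mem x.2)
          (kernel_le hZ a hu)) x.2⟩ := by
  classical
  rw [indFun_apply]
  congr 1
  symm
  refine Fintype.sum_of_injective (fun h : stabilizer G a => (h : G)) Subtype.val_injective _ _ ?_ ?_
  · intro x hx
    have hxa : x ∉ stabilizer G a := fun hmem => hx ⟨⟨x, hmem⟩, rfl⟩
    apply extendByZero_of_notMem
    intro hmem
    apply hxa
    have h1 : (x⁻¹ * u * x) • a = a := hmem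
    rw [mul_smul, mul_smul, inv_smul_eq_iff] at h1
    exact kernel_fix hZ hu hu1 h1
  · intro h
    rw [extendByZero_of_mem]

end

section Simple

variable (hZ : IsZassenhausGroup G Ω) [Finite Ω] [IsSimpleGroup G]
include hZ

/-- **S0881**: irreducibility of the character induced from a non-principal linear character of
`G_a / H_a`. -/
theorem indFun_linear_irr [Fintype G] {a b : Ω} (hab : a ≠ b)
    (hodd : Odd (Nat.card ↥(stabilizer G a ⊓ stabilizer G b)))
    (μ : stabilizer G a → ℂ) (hμ : IsCharacter (stabilizer G a) μ) (hμ1 : μ 1 = 1)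
    (hμH : ∀ u : stabilizer G a, (u : G) ∈ kernel hZ a → μ u = 1) (hμne : μ ≠ fun _ => 1) :
    IsIrrCharacter G (indFun (stabilizer G a) μ) := by
  classical
  haveI := Fintype.ofFinite (stabilizer G a)
  have hO := odd_all hZ hab hodd
  obtain ⟨φ, rfl⟩ := Cfsg.Agent.Lib.Char.LinearChars.exists_hom_of_isCharacter_one hμ hμ1
  set μ : stabilizer G a → ℂ := fun g => ((φ g : ℂˣ) : ℂ) with hμdef
  apply Cfsg.Agent.Lib.Char.Ortho.isIrrCharacter_of_classInner_self_eq_one
    (Cfsg.Agent.Lib.Char.IndRep.isCharacter_indFun _ hμ)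
  obtain ⟨t, htt, hta, htb⟩ := exists_swap hZ hab
  have htinv : t⁻¹ = t := inv_eq_of_mul_eq_one_left htt
  have hcl : IsClassFunction (stabilizer G a) μ := by
    intro g h
    simp only [hμdef, map_mul, map_inv, mul_comm, Units.val_mul, Units.val_inv_eq_inv_val]
    field_simp
  have hconj : ∀ h : stabilizer G a, conj (μ h) = (μ h)⁻¹ := by
    intro h
    apply Cfsg.Agent.Lib.Char.OrthoBasic.conj_eq_inv_of_pow_eq_one (n := Nat.card (stabilizer G a))
      Nat.card_pos
    have : φ h ^ Nat.card (stabilizer G a) = 1 := by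
      rw [← map_pow, pow_card_eq_one', map_one]
    have h2 := congrArg Units.val this
    simpa using h2
  have hne : ∀ h : stabilizer G a, μ h ≠ 0 := fun h => Units.ne_zero _
  rw [classInner_indFun_indFun_two_double (stabilizer G a) μ μ hcl hcl t (fun x hx =>
    two_double_cosets hZ (by rw [hta]; exact hab.symm) x hx)]
  -- the element of `E` on which `μ² ≠ 1`
  obtain ⟨x₀, hx₀E, hx₀⟩ : ∃ x₀ : stabilizer G a, (x₀ : G) • b = b ∧ μ x₀ * μ x₀ ≠ 1 := by
    have h1 : ∃ h : stabilizer G a, μ h ≠ 1 := by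
      by_contra hcon
      push Not at hcon
      exact hμne (funext hcon)
    obtain ⟨h, hh⟩ := h1
    obtain ⟨u, hu, x, hxa', hxb, hdec⟩ := exists_decomp hZ hab h.2
    have hxa : x ∈ stabilizer G a := hxa'
    have hhx : h = ⟨u, kernel_le hZ a hu⟩ * ⟨x, hxa⟩ := Subtype.ext hdec
    have hμh : μ h = μ ⟨x, hxa⟩ := by
      rw [hhx]
      have h9 : ((φ ⟨u, kernel_le hZ a hu⟩ : ℂˣ) : ℂ) = 1 := hμH ⟨u, kernel_le hZ a hu⟩ hu
      simp only [hμdef, map_mul, Units.val_mul]
      rw [h9, one_mul]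
    rw [hμh] at hh
    refine ⟨⟨x, hxa⟩, hxb, ?_⟩
    intro hsq
    apply hh
    -- odd order
    have hxE : x ∈ stabilizer G a ⊓ stabilizer G b := ⟨hxa, hxb⟩
    obtain ⟨m, hm⟩ := hO a b hab
    have h3 : (⟨x, hxE⟩ : ↥(stabilizer G a ⊓ stabilizer G b)) ^ (2 * m + 1) = 1 := by
      rw [← hm]
      exact pow_card_eq_one'
    have h4 : x ^ (2 * m + 1) = 1 := by
      have := congrArg Subtype.val h3
      simpa using this
    have h5 : (⟨x, hxa⟩ : stabilizer G a) ^ (2 * m + 1) = 1 := Subtype.ext (by simpa using h4)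
    have h6 : μ ⟨x, hxa⟩ ^ (2 * m + 1) = 1 := by
      simp only [hμdef]
      rw [← Units.val_pow_eq_pow_val, ← map_pow, h5, map_one, Units.val_one]
    rw [pow_succ, pow_mul, pow_two, hsq, one_pow, one_mul] at h6
    exact h6
  have hsum : mackeySum (stabilizer G a) μ μ t = 0 := by
    have hfix : mackeySum (stabilizer G a) μ μ t =
        (μ x₀ * μ x₀) * mackeySum (stabilizer G a) μ μ t := by
      unfold mackeySum
      conv_lhs =>
        rw [← Equiv.sum_comp (Equiv.mulLeft x₀)]
      rw [Finset.mul_sum]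
      refine Finset.sum_congr rfl fun h _ => ?_
      simp only [Equiv.coe_mulLeft, Subgroup.coe_mul]
      have hinv : t⁻¹ * (x₀ : G) * t = (x₀ : G)⁻¹ := by
        rw [htinv]
        have h1 := inverted hZ hO hab hta htb (x := (x₀ : G)) ⟨x₀.2, hx₀E⟩
        rw [htinv] at h1
        exact h1
      have h1 : t⁻¹ * ((x₀ : G) * h) * t = (x₀ : G)⁻¹ * (t⁻¹ * h * t) := by
        rw [← hinv]; group
      rw [h1]
      have h2 : extendByZero (stabilizer G a) μ ((x₀ : G)⁻¹ * (t⁻¹ * h * t)) =
          (μ x₀)⁻¹ * extendByZero (stabilizer G a) μ (t⁻¹ * h * t) := by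
        by_cases hm : t⁻¹ * (h : G) * t ∈ stabilizer G a
        · have hm' : (x₀ : G)⁻¹ * (t⁻¹ * h * t) ∈ stabilizer G a :=
            (stabilizer G a).mul_mem ((stabilizer G a).inv_mem x₀.2) hm
          rw [extendByZero_of_mem _ _ hm, extendByZero_of_mem _ _ hm']
          have : (⟨(x₀ : G)⁻¹ * (t⁻¹ * h * t), hm'⟩ : stabilizer G a) = x₀⁻¹ * ⟨_, hm⟩ := rfl
          rw [this]
          simp [hμdef]
        · have hm' : (x₀ : G)⁻¹ * (t⁻¹ * h * t) ∉ stabilizer G a := by
            intro h3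
            apply hm
            have := (stabilizer G a).mul_mem x₀.2 h3
            simpa using this
          rw [extendByZero_of_notMem _ _ hm, extendByZero_of_notMem _ _ hm', mul_zero]
      rw [h2, map_mul, map_inv₀, hconj, inv_inv]
      have h3 : μ (x₀ * h) = μ x₀ * μ h := by
        simp [hμdef]
      rw [h3]
      ring
    have h2 : (1 - μ x₀ * μ x₀) * mackeySum (stabilizer G a) μ μ t = 0 := by
      rw [sub_mul, one_mul]
      exact sub_eq_zero.mpr hfix
    rcases mul_eq_zero.mp h2 with h3 | h3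
    · exact absurd (sub_eq_zero.mp h3).symm hx₀
    · exact h3
  rw [hsum, mul_zero, mul_zero, mul_zero, add_zero]
  -- the norm of `μ`
  rw [classInner_def]
  have h1 : ∀ h : stabilizer G a, μ h * conj (μ h) = 1 := by
    intro h
    rw [hconj, mul_inv_cancel₀ (hne h)]
  rw [Finset.sum_congr rfl (fun h _ => h1 h), Finset.sum_const, Finset.card_univ, nsmul_eq_mul, mul_one,
    Nat.card_eq_fintype_card]
  exact inv_mul_cancel₀ (by
    have : 0 < Fintype.card (stabilizer G a) := Fintype.card_pos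
    exact_mod_cast this.ne')

/-- The value of the induced character at kernel elements. -/
theorem indFun_linear_kernel [Fintype G] {a : Ω} (μ : stabilizer G a → ℂ)
    (hμH : ∀ u : stabilizer G a, (u : G) ∈ kernel hZ a → μ u = 1) {u : G} (hu : u ∈ kernel hZ a)
    (hu1 : u ≠ 1) : indFun (stabilizer G a) μ u = 1 := by
  classical
  haveI := Fintype.ofFinite (stabilizer G a)
  rw [indFun_kernel hZ μ hu hu1]
  have h1 : ∀ x : stabilizer G a, μ ⟨(x : G)⁻¹ * u * x,
        (stabilizer G a).mul_mem ((stabilizer G a).mul_mem ((stabilizer G a).inv_mem x.2)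
          (kernel_le hZ a hu)) x.2⟩ = 1 := by
    intro x
    apply hμH
    have := conj_mem_kernel_of_fix hZ (g := (x : G)⁻¹) (by rw [inv_smul_eq_iff]; exact x.2.symm) hu
    simpa using this
  rw [Finset.sum_congr rfl (fun x _ => h1 x), Finset.sum_const, Finset.card_univ, nsmul_eq_mul, mul_one,
    Nat.card_eq_fintype_card]
  exact inv_mul_cancel₀ (by
    have : 0 < Fintype.card (stabilizer G a) := Fintype.card_pos
    exact_mod_cast this.ne')

end Simple

end Cfsg.Agent.Lib.Zass.Induced
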