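import Mathlib
import Cfsg.Agent.Lib.Zass.OddSimple

/-!
# Simple Zassenhaus groups with two-point stabilisers of odd order: conjugacy classes avoiding `H`

Counting pairs of involutions according to the type of their product.
-/

set_option autoImplicit false
set_option linter.style.haveILetI false
set_option linter.unusedSectionVars false
set_option linter.unusedDecidableInType false
set_option linter.unusedFintypeInType false

namespace Cfsg.Agent.Lib.Zass.OddClasses

open MulAction Cfsg Cfsg.Agent.Lib.Zass.Basic Cfsg.Agent.Lib.Zass.Simple Cfsg.Agent.Lib.Zass.Invol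
  Cfsg.Agent.Lib.Zass.Count Cfsg.Agent.Lib.Zass.OddSimple
open Finset
open scoped Classical

universe u v

variable {G : Type u} {Ω : Type v} [Group G] [MulAction G Ω]

section Pairs

variable [Fintype G]

/-- The involutions. -/
noncomputable def invols (G : Type u) [Group G] [Fintype G] : Finset G :=
  univ.filter (fun z : G => z * z = 1 ∧ z ≠ 1)

theorem mem_invols {z : G} : z ∈ invols G ↔ z * z = 1 ∧ z ≠ 1 := by
  simp [invols]

/-- Number of ordered pairs of involutions with product `g`. -/
noncomputable def nPairs (g : G) : ℕ := ((invols G).filter (fun x => x * g ∈ invols G)).card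

theorem sum_nPairs : ∑ g : G, nPairs g = (invols G).card * (invols G).card := by
  have hdc := sum_card_bipartiteAbove_eq_sum_card_bipartiteBelow (s := (univ : Finset G))
    (t := invols G) (fun g x => x * g ∈ invols G)
  have h1 : ∀ g : G, ((invols G).bipartiteAbove (fun g x => x * g ∈ invols G) g).card = nPairs g :=
    fun g => rfl
  simp only [h1] at hdc
  rw [hdc]
  rw [← smul_eq_mul, ← sum_const]
  apply sum_congr rfl
  intro x _
  show ((univ : Finset G).filter (fun g => x * g ∈ invols G)).card = _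
  apply card_bij (fun g _ => x * g)
  · intro g hg
    exact (mem_filter.mp hg).2
  · intro g _ g' _ h
    exact mul_left_cancel h
  · intro z hz
    refine ⟨x⁻¹ * z, ?_, by group⟩
    simp only [mem_filter, mem_univ, true_and]
    rw [mul_inv_cancel_left]
    exact hz

theorem nPairs_one : nPairs (1 : G) = (invols G).card := by
  unfold nPairs
  congr 1
  ext x
  simp

/-- `nPairs g` is at most the order of the centraliser. -/
theorem nPairs_le_cent (g : G) : nPairs g ≤ Nat.card (Subgroup.centralizer ({g} : Set G)) := by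
  unfold nPairs
  by_cases hne : ((invols G).filter (fun x => x * g ∈ invols G)).Nonempty
  · obtain ⟨x₀, hx₀⟩ := hne
    have hinv : ∀ x ∈ (invols G).filter (fun x => x * g ∈ invols G), x * g * x⁻¹ = g⁻¹ := by
      intro x hx
      obtain ⟨hx1, hx2⟩ := mem_filter.mp hx
      have hxx := (mem_invols.mp hx1).1
      have hy := (mem_invols.mp hx2).1
      have hxinv : x⁻¹ = x := inv_eq_of_mul_eq_one_left hxx
      rw [hxinv]
      have : x * g * x * g = 1 := by
        rw [← hy]; group
      exact eq_inv_of_mul_eq_one_left this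
    have h0 := hinv x₀ hx₀
    rw [Nat.card_eq_fintype_card, Fintype.card_subtype]
    apply card_le_card_of_injOn (fun x => x₀⁻¹ * x)
    · intro x hx
      have hx' := hinv x hx
      simp only [coe_filter, Set.mem_ofPred_eq, mem_univ, true_and]
      rw [Subgroup.mem_centralizer_singleton_iff]
      have h2 : x₀⁻¹ * g⁻¹ * x₀ = g := by
        rw [← h0]; group
      have h3 : x * g = g⁻¹ * x := by
        rw [← hx']; group
      calc x₀⁻¹ * x * g = x₀⁻¹ * (x * g) := by group
        _ = x₀⁻¹ * (g⁻¹ * x) := by rw [h3]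
        _ = (x₀⁻¹ * g⁻¹ * x₀) * (x₀⁻¹ * x) := by group
        _ = g * (x₀⁻¹ * x) := by rw [h2]
    · intro x _ y _ h
      exact mul_left_cancel h
  · rw [Finset.not_nonempty_iff_eq_empty] at hne
    rw [hne, card_empty]
    exact Nat.zero_le _

/-- Centraliser times class size. -/
theorem cent_mul_fiber (g : G) : Nat.card (Subgroup.centralizer ({g} : Set G)) *
    ((univ : Finset G).filter (fun g' => ConjClasses.mk g' = ConjClasses.mk g)).card = Nat.card G := by
  have h1 : (Subgroup.centralizer ({g} : Set G)).index = (ConjClasses.mk g).carrier.ncard := by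
    rw [← ConjAct.orbit_eq_carrier_conjClasses, ← MulAction.index_stabilizer,
      Subgroup.centralizer_eq_comap_stabilizer]
    exact Subgroup.index_comap_of_surjective _ (ConjAct.toConjAct (G := G)).surjective
  have h2 : (ConjClasses.mk g).carrier.ncard =
      ((univ : Finset G).filter (fun g' => ConjClasses.mk g' = ConjClasses.mk g)).card := by
    have : (ConjClasses.mk g).carrier = ↑((univ : Finset G).filter
        (fun g' => ConjClasses.mk g' = ConjClasses.mk g)) := by
      ext x
      simp [ConjClasses.mem_carrier_iff_mk_eq]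
    rw [this, Set.ncard_coe_finset]
  rw [← h2, ← h1]
  exact Subgroup.card_mul_index _

/-- Sum of centraliser orders over a class. -/
theorem sum_cent_fiber (C : ConjClasses G) :
    ∑ g ∈ (univ : Finset G).filter (fun g' => ConjClasses.mk g' = C),
      Nat.card (Subgroup.centralizer ({g} : Set G)) = Nat.card G := by
  obtain ⟨g₀, rfl⟩ := ConjClasses.mk_surjective C
  set F := (univ : Finset G).filter (fun g' => ConjClasses.mk g' = ConjClasses.mk g₀) with hF
  have hpos : 0 < F.card := card_pos.mpr ⟨g₀, by simp [hF]⟩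
  have h1 : ∀ g ∈ F, Nat.card (Subgroup.centralizer ({g} : Set G)) * F.card = Nat.card G := by
    intro g hg
    have hg' : ConjClasses.mk g = ConjClasses.mk g₀ := (mem_filter.mp hg).2
    have := cent_mul_fiber g
    rw [hg'] at this
    exact this
  have h2 : (∑ g ∈ F, Nat.card (Subgroup.centralizer ({g} : Set G))) * F.card = Nat.card G * F.card := by
    rw [sum_mul, sum_congr rfl h1, sum_const, smul_eq_mul, mul_comm]
  exact Nat.eq_of_mul_eq_mul_right hpos h2

/-- A class-invariant subset: sum of centraliser orders. -/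
theorem sum_cent_invariant (P : G → Prop) (hP : ∀ g u : G, P g → P (u * g * u⁻¹)) :
    ∑ g ∈ (univ : Finset G).filter P, Nat.card (Subgroup.centralizer ({g} : Set G)) =
      ((univ : Finset (ConjClasses G)).filter (fun C => ∃ g, ConjClasses.mk g = C ∧ P g)).card *
        Nat.card G := by
  have hmaps : ∀ g ∈ (univ : Finset G).filter P, ConjClasses.mk g ∈
      (univ : Finset (ConjClasses G)).filter (fun C => ∃ g, ConjClasses.mk g = C ∧ P g) := by
    intro g hg
    simp only [mem_filter, mem_univ, true_and]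
    exact ⟨g, rfl, (mem_filter.mp hg).2⟩
  rw [← sum_fiberwise_of_maps_to hmaps]
  rw [← smul_eq_mul, ← sum_const]
  apply sum_congr rfl
  intro C hC
  obtain ⟨g₀, rfl, hg₀⟩ := (mem_filter.mp hC).2
  rw [← sum_cent_fiber (ConjClasses.mk g₀)]
  apply sum_congr _ (fun _ _ => rfl)
  ext g
  simp only [mem_filter, mem_univ, true_and]
  constructor
  · rintro ⟨-, h⟩
    exact h
  · intro h
    refine ⟨?_, h⟩
    have h1 : IsConj g₀ g := ConjClasses.mk_eq_mk_iff_isConj.mp h.symm
    obtain ⟨u, hu⟩ := isConj_iff.mp h1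
    rw [← hu]
    exact hP g₀ u hg₀

end Pairs

section Main

variable [Fintype G] [Fintype Ω] (hZ : IsZassenhausGroup G Ω) [IsSimpleGroup G]
include hZ

theorem noFix_conj (g u : G) (h : NoFix g Ω) : NoFix (u * g * u⁻¹) Ω := by
  intro c hc
  apply h (u⁻¹ • c)
  rw [mul_smul, mul_smul, smul_eq_iff_eq_inv_smul] at hc
  exact hc

theorem twoFix_conj (g u : G) (h : TwoFix g Ω) : TwoFix (u * g * u⁻¹) Ω := by
  obtain ⟨hg, c, d, hcd, hc, hd⟩ := h
  refine ⟨?_, u • c, u • d, fun h => hcd (smul_left_cancel _ h), ?_, ?_⟩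
  · intro h
    apply hg
    have : g = u⁻¹ * (u * g * u⁻¹) * u := by group
    rw [this, h]; group
  · rw [mul_smul, mul_smul, inv_smul_smul, hc]
  · rw [mul_smul, mul_smul, inv_smul_smul, hd]

/-- An element with two fixed points: `nPairs g ≤ e`. -/
theorem nPairs_twoFix (hO : ∀ c d : Ω, c ≠ d → Odd (Nat.card ↥(stabilizer G c ⊓ stabilizer G d)))
    {a b : Ω} (hab : a ≠ b) {g : G} (hg : TwoFix g Ω) :
    nPairs g ≤ Nat.card ↥(stabilizer G a ⊓ stabilizer G b) := by
  obtain ⟨hg1, c, d, hcd, hc, hd⟩ := hg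
  have hfix : ∀ z : Ω, g • z = z → z = c ∨ z = d := by
    intro z hz
    by_contra hcon
    push Not at hcon
    exact hg1 (eq_one_of_three hZ hcd (hcon.2.symm) (hcon.1.symm) hc hd hz)
  rw [card_two_point_eq hZ hab hcd, ← card_swap hZ hcd, natCard_subtype]
  unfold nPairs
  apply card_le_card
  intro x hx
  obtain ⟨hx1, hx2⟩ := mem_filter.mp hx
  obtain ⟨hxx, hx0⟩ := mem_invols.mp hx1
  have hy := (mem_invols.mp hx2).1
  simp only [mem_filter, mem_univ, true_and]
  -- `x` inverts `g`
  have hinv : g * x = x * g⁻¹ := by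
    have h1 : x * g * (x * g) = 1 := hy
    have h2 : x⁻¹ = x := inv_eq_of_mul_eq_one_left hxx
    have h3 : g * x * g = x := by
      calc g * x * g = x * (x * g * (x * g)) := by
            simp only [← mul_assoc, hxx, one_mul]
        _ = x := by rw [h1, mul_one]
    rw [eq_mul_inv_iff_mul_eq]
    exact h3
  have hmap : ∀ z : Ω, g • z = z → g • (x • z) = x • z := by
    intro z hz
    rw [← mul_smul, hinv, mul_smul]
    congr 1
    rw [inv_smul_eq_iff, hz]
  have hxc := hfix _ (hmap c hc)
  have hxd := hfix _ (hmap d hd)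
  have hne : x • c ≠ x • d := fun h => hcd (smul_left_cancel _ h)
  rcases hxc with hxc | hxc <;> rcases hxd with hxd | hxd
  · exact absurd (hxc.trans hxd.symm) hne
  · exact (invol_not_fix_two hZ hO hxx hx0 hcd hxc hxd).elim
  · exact ⟨hxc, hxd⟩
  · exact absurd (hxc.trans hxd.symm) hne

/-- Involutions in a kernel, for `h` even. -/
theorem card_invols_kernel (hO : ∀ c d : Ω, c ≠ d → Odd (Nat.card ↥(stabilizer G c ⊓ stabilizer G d)))
    {a b : Ω} (hab : a ≠ b) (heven : Even (Nat.card (kernel hZ a))) (c : Ω) :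
    ((invols G).filter (fun z => z ∈ kernel hZ c)).card = Nat.card ↥(stabilizer G a ⊓ stabilizer G b) := by
  have hle : ∀ p q : Ω, ((invols G).filter (fun z => z ∈ kernel hZ p)).card ≤
      ((invols G).filter (fun z => z ∈ kernel hZ q)).card := by
    intro p q
    obtain ⟨g, hg⟩ := (pretransitive hZ).exists_smul_eq p q
    apply card_le_card_of_injOn (fun z => g * z * g⁻¹)
    · intro z hz
      obtain ⟨hz1, hz2⟩ := mem_filter.mp hz
      obtain ⟨hzz, hz0⟩ := mem_invols.mp hz1
      simp only [coe_filter, Set.mem_ofPred_eq]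
      refine ⟨mem_invols.mpr ⟨?_, ?_⟩, ?_⟩
      · calc g * z * g⁻¹ * (g * z * g⁻¹) = g * (z * z) * g⁻¹ := by group
          _ = 1 := by rw [hzz]; group
      · intro h
        apply hz0
        have : z = g⁻¹ * (g * z * g⁻¹) * g := by group
        rw [this, h]; group
      · have := conj_mem_kernel hZ g hz2
        rwa [hg] at this
    · intro x _ y _ h
      have h2 : g * x * g⁻¹ = g * y * g⁻¹ := h
      simpa using h2
  have heq : ∀ p q : Ω, ((invols G).filter (fun z => z ∈ kernel hZ p)).card =
      ((invols G).filter (fun z => z ∈ kernel hZ q)).card := fun p q =>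
    le_antisymm (hle p q) (hle q p)
  have hcount := card_mul_eq_card_mul (s := invols G) (t := (univ : Finset Ω))
    (fun z c => z ∈ kernel hZ c) (m := 1)
    (n := ((invols G).filter (fun z => z ∈ kernel hZ c)).card) ?_ ?_
  · have hI := (card_invol hZ hO hab).1 heven
    rw [natCard_subtype (fun z : G => z * z = 1 ∧ z ≠ 1)] at hI
    have hI' : (invols G).card = Nat.card ↥(stabilizer G a ⊓ stabilizer G b) *
        (Nat.card (kernel hZ a) + 1) := hI
    rw [mul_one, hI', card_univ, ← Nat.card_eq_fintype_card, ← card_kernel_add_one hZ a] at hcount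
    have hpos : 0 < Nat.card (kernel hZ a) + 1 := Nat.succ_pos _
    rw [mul_comm] at hcount
    exact (Nat.eq_of_mul_eq_mul_left hpos hcount).symm
  · intro z hz
    obtain ⟨hzz, hz0⟩ := mem_invols.mp hz
    obtain ⟨p, hp⟩ := invol_exists_fix hZ heven hO hzz
    rw [card_eq_one]
    refine ⟨p, ?_⟩
    ext q
    simp only [bipartiteAbove, mem_filter, mem_univ, true_and, mem_singleton]
    exact ⟨fun hq => kernel_eq_of_mem hZ hp hz0 hq, fun hq => hq ▸ hp⟩
  · intro q _
    exact heq q c

/-- Elements with one fixed point. -/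
theorem nPairs_oneFix (hO : ∀ c d : Ω, c ≠ d → Odd (Nat.card ↥(stabilizer G c ⊓ stabilizer G d)))
    {a b : Ω} (hab : a ≠ b) {g : G} (hg : OneFix hZ g) :
    (Even (Nat.card (kernel hZ a)) → g ∈ invols G →
      nPairs g + 1 ≤ Nat.card ↥(stabilizer G a ⊓ stabilizer G b)) ∧
    (g ∉ invols G → nPairs g = 0) ∧ (¬ Even (Nat.card (kernel hZ a)) → nPairs g = 0) := by
  obtain ⟨hg1, c, hc⟩ := hg
  have hkey : ∀ x ∈ (invols G).filter (fun x => x * g ∈ invols G),
      x • c = c ∧ g * g = 1 ∧ x ≠ g ∧ x ∈ invols G := by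
    intro x hx
    obtain ⟨hx1, hx2⟩ := mem_filter.mp hx
    obtain ⟨hxx, hx0⟩ := mem_invols.mp hx1
    obtain ⟨hyy, hy0⟩ := mem_invols.mp hx2
    have hxy : x * (x * g) = g := by rw [← mul_assoc, hxx, one_mul]
    obtain ⟨h1, -, h3⟩ := orderOf_two_of_mul hZ hO hc hg1 hxx hx0 hyy hy0 hxy
    refine ⟨h1, h3, ?_, hx1⟩
    rintro rfl
    exact hy0 hxx
  refine ⟨?_, ?_, ?_⟩
  · intro heven hgI
    have h1 := card_invols_kernel hZ hO hab heven c
    rw [← h1]
    have hsub : ((invols G).filter (fun x => x * g ∈ invols G)) ⊆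
        ((invols G).filter (fun z => z ∈ kernel hZ c)).erase g := by
      intro x hx
      obtain ⟨h1, h2, h3, h4⟩ := hkey x hx
      simp only [mem_erase, mem_filter]
      exact ⟨h3, h4, invol_mem_kernel hZ hO (mem_invols.mp h4).1 h1⟩
    have hm : g ∈ (invols G).filter (fun z => z ∈ kernel hZ c) := mem_filter.mpr ⟨hgI, hc⟩
    have := card_le_card hsub
    rw [card_erase_of_mem hm] at this
    have hpos : 0 < ((invols G).filter (fun z => z ∈ kernel hZ c)).card := card_pos.mpr ⟨g, hm⟩
    unfold nPairs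
    omega
  · intro hgI
    unfold nPairs
    rw [card_eq_zero, filter_eq_empty_iff]
    intro x hx hxg
    have := hkey x (mem_filter.mpr ⟨hx, hxg⟩)
    exact hgI (mem_invols.mpr ⟨this.2.1, hg1⟩)
  · intro hodd
    unfold nPairs
    rw [card_eq_zero, filter_eq_empty_iff]
    intro x hx hxg
    have := hkey x (mem_filter.mpr ⟨hx, hxg⟩)
    obtain ⟨hxx, hx0⟩ := mem_invols.mp hx
    exact invol_no_fix hZ hO hodd hxx hx0 c this.1

/-- Conjugate elements of `E`. -/
theorem conj_in_two_point (hO : ∀ c d : Ω, c ≠ d → Odd (Nat.card ↥(stabilizer G c ⊓ stabilizer G d)))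
    {a b : Ω} (hab : a ≠ b) {x y : G} (hx : x ∈ stabilizer G a ⊓ stabilizer G b)
    (hy : y ∈ stabilizer G a ⊓ stabilizer G b) (hy1 : y ≠ 1) (hc : IsConj x y) : y = x ∨ y = x⁻¹ := by
  obtain ⟨g, hg⟩ := isConj_iff.mp hc
  have hya : y • a = a := hy.1
  have hyb : y • b = b := hy.2
  have hxa : x • a = a := hx.1
  have hxb : x • b = b := hx.2
  have hfix : ∀ z : Ω, y • z = z → z = a ∨ z = b := by
    intro z hz
    by_contra hcon
    push Not at hcon
    exact hy1 (eq_one_of_three hZ hab (hcon.2.symm) (hcon.1.symm) hya hyb hz)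
  have h1 : y • (g • a) = g • a := by
    rw [← hg, mul_smul, mul_smul, inv_smul_smul, hxa]
  have h2 : y • (g • b) = g • b := by
    rw [← hg, mul_smul, mul_smul, inv_smul_smul, hxb]
  have hne : g • a ≠ g • b := fun h => hab (smul_left_cancel _ h)
  rcases hfix _ h1 with h3 | h3 <;> rcases hfix _ h2 with h4 | h4
  · exact absurd (h3.trans h4.symm) hne
  · left
    have hgm : g ∈ stabilizer G a ⊓ stabilizer G b := ⟨h3, h4⟩
    haveI := (cyclic_inverted hZ hab (hO a b hab)).1
    have hcomm : ∀ u v : ↥(stabilizer G a ⊓ stabilizer G b), u * v = v * u := mul_comm'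
    have := hcomm ⟨g, hgm⟩ ⟨x, hx⟩
    have h5 : g * x = x * g := congrArg Subtype.val this
    rw [← hg, h5]
    group
  · right
    rw [← hg]
    exact inverted hZ hO hab h3 h4 hx
  · exact absurd (h3.trans h4.symm) hne

/-- At least `(e - 1) / 2` classes of elements with two fixed points. -/
theorem two_fix_classes (hO : ∀ c d : Ω, c ≠ d → Odd (Nat.card ↥(stabilizer G c ⊓ stabilizer G d)))
    {a b : Ω} (hab : a ≠ b) :
    Nat.card ↥(stabilizer G a ⊓ stabilizer G b) ≤ 1 + 2 *
      ((univ : Finset (ConjClasses G)).filter (fun C => ∃ g, ConjClasses.mk g = C ∧ TwoFix g Ω)).card := by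
  set E0 := (univ : Finset G).filter (fun x => x ∈ stabilizer G a ⊓ stabilizer G b ∧ x ≠ 1) with hE0
  have h1 : E0.card = Nat.card ↥(stabilizer G a ⊓ stabilizer G b) - 1 := by
    rw [← card_subgroup_ne_one, natCard_subtype]
  have hpos : 0 < Nat.card ↥(stabilizer G a ⊓ stabilizer G b) := Nat.card_pos
  have h2 := card_le_mul_card_image (f := fun x : G => ConjClasses.mk x) E0 2 (by
    intro C hC
    obtain ⟨x, hx, rfl⟩ := mem_image.mp hC
    obtain ⟨hxm, hx1⟩ := (mem_filter.mp hx).2
    have hsub : E0.filter (fun y => ConjClasses.mk y = ConjClasses.mk x) ⊆ {x, x⁻¹} := by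
      intro y hy
      obtain ⟨hy1, hy2⟩ := mem_filter.mp hy
      obtain ⟨hym, hy0⟩ := (mem_filter.mp hy1).2
      have hc : IsConj x y := ConjClasses.mk_eq_mk_iff_isConj.mp hy2.symm
      simp only [mem_insert, mem_singleton]
      exact conj_in_two_point hZ hO hab hxm hym hy0 hc
    calc _ ≤ ({x, x⁻¹} : Finset G).card := card_le_card hsub
      _ ≤ 2 := card_le_two)
  have h3 : (E0.image (fun x : G => ConjClasses.mk x)).card ≤
      ((univ : Finset (ConjClasses G)).filter (fun C => ∃ g, ConjClasses.mk g = C ∧ TwoFix g Ω)).card := by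
    apply card_le_card
    intro C hC
    obtain ⟨x, hx, rfl⟩ := mem_image.mp hC
    obtain ⟨hxm, hx1⟩ := (mem_filter.mp hx).2
    simp only [mem_filter, mem_univ, true_and]
    exact ⟨x, rfl, hx1, a, b, hab, hxm.1, hxm.2⟩
  have h4 : 2 * (E0.image (fun x : G => ConjClasses.mk x)).card ≤ 2 *
      ((univ : Finset (ConjClasses G)).filter (fun C => ∃ g, ConjClasses.mk g = C ∧ TwoFix g Ω)).card :=
    Nat.mul_le_mul_left 2 h3
  omega

/-- Lower bound for the number of classes of fixed point free elements. -/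
theorem noFix_classes (hO : ∀ c d : Ω, c ≠ d → Odd (Nat.card ↥(stabilizer G c ⊓ stabilizer G d)))
    {a b : Ω} (hab : a ≠ b) (hlt : Nat.card ↥(stabilizer G a ⊓ stabilizer G b) < Nat.card (kernel hZ a)) :
    Nat.card ↥(stabilizer G a ⊓ stabilizer G b) + 1 ≤ 2 *
      ((univ : Finset (ConjClasses G)).filter (fun C => ∃ g, ConjClasses.mk g = C ∧ NoFix g Ω)).card := by
  -- partition of the pair count
  have hsum : ∑ g : G, nPairs g = nPairs (1 : G) +
      ∑ g ∈ (univ : Finset G).filter (fun g => OneFix hZ g), nPairs g +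
      ∑ g ∈ (univ : Finset G).filter (fun g => TwoFix g Ω), nPairs g +
      ∑ g ∈ (univ : Finset G).filter (fun g => NoFix g Ω), nPairs g := by
    set S1 := (univ : Finset G).filter (fun g => OneFix hZ g) with hS1
    set S2 := (univ : Finset G).filter (fun g => TwoFix g Ω) with hS2
    set S3 := (univ : Finset G).filter (fun g => NoFix g Ω) with hS3
    have hone : (1 : G) ∉ S1 := fun h => (mem_filter.mp h).2.1 rfl
    have htwo : (1 : G) ∉ S2 := fun h => (mem_filter.mp h).2.1 rfl
    have hno : (1 : G) ∉ S3 := by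
      intro h
      exact (mem_filter.mp h).2 a (one_smul _ _)
    have hU : (univ : Finset G) = {1} ∪ (S1 ∪ (S2 ∪ S3)) := by
      ext g
      simp only [mem_univ, true_iff, mem_union, mem_singleton, hS1, hS2, hS3, mem_filter, true_and]
      by_cases hg : g = 1
      · exact Or.inl hg
      · rcases trichotomy hZ g hg with h | h | h
        · exact Or.inr (Or.inr (Or.inr h))
        · exact Or.inr (Or.inl h)
        · exact Or.inr (Or.inr (Or.inl h))
    rw [hU, sum_union, sum_union, sum_union, sum_singleton]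
    · ring
    · rw [Finset.disjoint_left]
      intro g hg hg'
      exact not_noFix_of_twoFix hZ (mem_filter.mp hg).2 (mem_filter.mp hg').2
    · rw [Finset.disjoint_left]
      intro g hg hg'
      rcases mem_union.mp hg' with h | h
      · exact not_twoFix_of_oneFix hZ (mem_filter.mp hg).2 (mem_filter.mp h).2
      · exact not_noFix_of_oneFix hZ (mem_filter.mp hg).2 (mem_filter.mp h).2
    · rw [Finset.disjoint_singleton_left]
      intro h
      rcases mem_union.mp h with h | h
      · exact hone h
      · rcases mem_union.mp h with h | h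
        · exact htwo h
        · exact hno h
  rw [sum_nPairs, nPairs_one] at hsum
  -- bounds
  have hTwo : ∑ g ∈ (univ : Finset G).filter (fun g => TwoFix g Ω), nPairs g ≤
      Nat.card {g : G // TwoFix g Ω} * Nat.card ↥(stabilizer G a ⊓ stabilizer G b) := by
    rw [natCard_subtype]
    have := sum_le_card_nsmul ((univ : Finset G).filter (fun g => TwoFix g Ω)) nPairs
      (Nat.card ↥(stabilizer G a ⊓ stabilizer G b)) (fun g hg => nPairs_twoFix hZ hO hab (mem_filter.mp hg).2)
    simpa using this
  have hNo : ∑ g ∈ (univ : Finset G).filter (fun g => NoFix g Ω), nPairs g ≤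
      ((univ : Finset (ConjClasses G)).filter (fun C => ∃ g, ConjClasses.mk g = C ∧ NoFix g Ω)).card *
        Nat.card G := by
    rw [← sum_cent_invariant (fun g => NoFix g Ω) (fun g u h => noFix_conj hZ g u h)]
    exact sum_le_sum (fun g _ => nPairs_le_cent g)
  have htwoCard := card_twoFix hZ hab
  have hG := card_group_eq' hZ hab
  have hinv := card_invol hZ hO hab
  rw [natCard_subtype (fun z : G => z * z = 1 ∧ z ≠ 1)] at hinv
  have hinv' : (Even (Nat.card (kernel hZ a)) → (invols G).card =
        Nat.card ↥(stabilizer G a ⊓ stabilizer G b) * (Nat.card (kernel hZ a) + 1)) ∧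
      (¬ Even (Nat.card (kernel hZ a)) → (invols G).card =
        Nat.card ↥(stabilizer G a ⊓ stabilizer G b) * Nat.card (kernel hZ a)) := hinv
  have hhpos : 0 < Nat.card (kernel hZ a) := Nat.card_pos
  have hepos : 0 < Nat.card ↥(stabilizer G a ⊓ stabilizer G b) := Nat.card_pos
  have heodd := hO a b hab
  by_cases heven : Even (Nat.card (kernel hZ a))
  · -- `h` even
    have hOne : ∑ g ∈ (univ : Finset G).filter (fun g => OneFix hZ g), nPairs g ≤
        (invols G).card * (Nat.card ↥(stabilizer G a ⊓ stabilizer G b) - 1) := by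
      calc ∑ g ∈ (univ : Finset G).filter (fun g => OneFix hZ g), nPairs g
          ≤ ∑ g ∈ (univ : Finset G).filter (fun g => OneFix hZ g),
              (if g ∈ invols G then (Nat.card ↥(stabilizer G a ⊓ stabilizer G b) - 1) else 0) := by
            apply sum_le_sum
            intro g hg
            have h1 := nPairs_oneFix hZ hO hab (mem_filter.mp hg).2
            split_ifs with hgI
            · have := h1.1 heven hgI
              omega
            · exact (h1.2.1 hgI).le
        _ = ((univ : Finset G).filter (fun g => OneFix hZ g) ∩ invols G).card *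
              (Nat.card ↥(stabilizer G a ⊓ stabilizer G b) - 1) := by
            rw [sum_ite_mem, sum_const, smul_eq_mul]
        _ ≤ (invols G).card * (Nat.card ↥(stabilizer G a ⊓ stabilizer G b) - 1) := by
            apply Nat.mul_le_mul_right
            exact card_le_card inter_subset_right
    have hI := hinv'.1 heven
    rw [hG] at hNo
    rw [hI] at hsum hOne
    generalize ((univ : Finset (ConjClasses G)).filter
      (fun C => ∃ g, ConjClasses.mk g = C ∧ NoFix g Ω)).card = A at *
    generalize Nat.card {g : G // TwoFix g Ω} = n₂ at *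
    generalize ∑ g ∈ (univ : Finset G).filter (fun g => OneFix hZ g), nPairs g = s₁ at *
    generalize ∑ g ∈ (univ : Finset G).filter (fun g => TwoFix g Ω), nPairs g = s₂ at *
    generalize ∑ g ∈ (univ : Finset G).filter (fun g => NoFix g Ω), nPairs g = s₃ at *
    generalize Nat.card (kernel hZ a) = h at *
    generalize Nat.card ↥(stabilizer G a ⊓ stabilizer G b) = e at *
    obtain ⟨h', rfl⟩ : ∃ h', h = h' + 1 := ⟨h - 1, by omega⟩
    obtain ⟨e', rfl⟩ : ∃ e', e = e' + 1 := ⟨e - 1, by omega⟩
    simp only [Nat.add_sub_cancel] at hOne htwoCard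
    -- `2 e² (h+1)² ≤ 2 e² (h+1) + e (h+1) h (e-1) + 2 A (h+1) h e`
    have hmain : 2 * ((e' + 1) * (h' + 1 + 1) * ((e' + 1) * (h' + 1 + 1))) ≤
        2 * ((e' + 1) * (h' + 1 + 1)) + 2 * ((e' + 1) * (h' + 1 + 1) * e') +
          (h' + 1 + 1) * (h' + 1) * e' * (e' + 1) + 2 * (A * ((h' + 1 + 1) * ((h' + 1) * (e' + 1)))) := by
      have h5 : 2 * (n₂ * (e' + 1)) = (h' + 1 + 1) * (h' + 1) * e' * (e' + 1) := by
        calc 2 * (n₂ * (e' + 1)) = (n₂ * 2) * (e' + 1) := by ring
          _ = _ := by rw [htwoCard]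
      nlinarith
    have hcancel : 2 * (e' + 1) ≤ e' + 2 * A := by
      have hp : 0 < (e' + 1) * ((h' + 1 + 1) * (h' + 1)) := by positivity
      have h6 : (e' + 1) * ((h' + 1 + 1) * (h' + 1)) * (2 * (e' + 1)) ≤
          (e' + 1) * ((h' + 1 + 1) * (h' + 1)) * (e' + 2 * A) := by
        nlinarith
      exact Nat.le_of_mul_le_mul_left h6 hp
    omega
  · -- `h` odd
    have hOne : ∑ g ∈ (univ : Finset G).filter (fun g => OneFix hZ g), nPairs g = 0 := by
      apply sum_eq_zero
      intro g hg
      exact (nPairs_oneFix hZ hO hab (mem_filter.mp hg).2).2.2 heven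
    have hI := hinv'.2 heven
    rw [hG] at hNo
    rw [hI, hOne] at hsum
    generalize ((univ : Finset (ConjClasses G)).filter
      (fun C => ∃ g, ConjClasses.mk g = C ∧ NoFix g Ω)).card = A at *
    generalize Nat.card {g : G // TwoFix g Ω} = n₂ at *
    generalize ∑ g ∈ (univ : Finset G).filter (fun g => TwoFix g Ω), nPairs g = s₂ at *
    generalize ∑ g ∈ (univ : Finset G).filter (fun g => NoFix g Ω), nPairs g = s₃ at *
    generalize Nat.card (kernel hZ a) = h at *
    generalize Nat.card ↥(stabilizer G a ⊓ stabilizer G b) = e at *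
    obtain ⟨h', rfl⟩ : ∃ h', h = h' + 1 := ⟨h - 1, by omega⟩
    obtain ⟨e', rfl⟩ : ∃ e', e = e' + 1 := ⟨e - 1, by omega⟩
    simp only [Nat.add_sub_cancel] at htwoCard
    have hmain : 2 * ((e' + 1) * (h' + 1) * ((e' + 1) * (h' + 1))) ≤
        2 * ((e' + 1) * (h' + 1)) +
          (h' + 1 + 1) * (h' + 1) * e' * (e' + 1) + 2 * (A * ((h' + 1 + 1) * ((h' + 1) * (e' + 1)))) := by
      have h5 : 2 * (n₂ * (e' + 1)) = (h' + 1 + 1) * (h' + 1) * e' * (e' + 1) := by
        calc 2 * (n₂ * (e' + 1)) = (n₂ * 2) * (e' + 1) := by ring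
          _ = _ := by rw [htwoCard]
      nlinarith
    -- cancel `e h`
    have hcancel : 2 * ((e' + 1) * (h' + 1)) ≤ 2 + (h' + 1 + 1) * e' + 2 * (A * (h' + 1 + 1)) := by
      have hp : 0 < (e' + 1) * (h' + 1) := by positivity
      have h6 : (e' + 1) * (h' + 1) * (2 * ((e' + 1) * (h' + 1))) ≤
          (e' + 1) * (h' + 1) * (2 + (h' + 1 + 1) * e' + 2 * (A * (h' + 1 + 1))) := by
        nlinarith
      exact Nat.le_of_mul_le_mul_left h6 hp
    -- conclude
    by_contra hcon
    push Not at hcon
    have hodd2 : 2 * A ≤ e' := by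
      rcases heodd with ⟨k, hk⟩
      omega
    have hlt' : e' < h' := by omega
    nlinarith

end Main

end Cfsg.Agent.Lib.Zass.OddClasses
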