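import Mathlib
import Cfsg.Agent.Lib.Zass.Rows4
import Cfsg.Agent.Lib.Zass.Basic
import Cfsg.Agent.Lib.Char.PermChar
import Cfsg.Agent.Lib.Char.AbelianQuot
import Cfsg.Agent.S0881
import Cfsg.Agent.S0884
import Cfsg.Agent.S0345

/-!
# Characters of a Zassenhaus group, part 5: instantiation for a Zassenhaus group
-/

set_option autoImplicit false
set_option linter.unusedSectionVars false
set_option linter.style.haveILetI false

namespace Cfsg.Agent.Lib.Zass.Rows5

open MulAction Cfsg Cfsg.Agent.Lib.Char.Induced Cfsg.Agent.Lib.Zass.Rows1 Cfsg.Agent.Lib.Zass.Rows2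
  Cfsg.Agent.Lib.Zass.Rows3 Cfsg.Agent.Lib.Zass.Rows4 Cfsg.Agent.Lib.Zass.Basic
open Cfsg.Agent.Lib.Char.Ortho (classInner_irr fintype_irr)
open scoped ComplexConjugate
open Finset
open scoped Classical

universe u v

variable {G : Type u} {Ω : Type v} [Group G] [MulAction G Ω]

/-- The package for a Zassenhaus group. -/
theorem zchar (hZ : IsZassenhausGroup G Ω) [Finite Ω] {a b : Ω} (hab : a ≠ b) :
    ZChar (kernel hZ a) (stabilizer G a) (stabilizer G a ⊓ stabilizer G b) where
  H_le := kernel_le hZ a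
  D_le := inf_le_left
  conj_mem := fun x hx u hu => conj_mem_kernel_of_fix hZ hx hu
  mem_of_conj := by
    intro u hu hu1 x hx
    have h1 := kernel_smul hZ hx
    have h4 : (x⁻¹ * u * x) • a = a := h1
    have h2 : u • (x • a) = x • a := by
      calc u • (x • a) = (x * (x⁻¹ * u * x)) • a := by
            rw [← mul_smul]
            congr 1
            group
        _ = x • ((x⁻¹ * u * x) • a) := mul_smul _ _ _
        _ = x • a := by rw [h4]
    exact kernel_fix hZ hu hu1 h2
  decomp := by
    intro x hx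
    obtain ⟨w, hw, d, hd1, hd2, h⟩ := exists_decomp hZ hab hx
    exact ⟨w, hw, d, ⟨hd1, hd2⟩, h⟩
  inter := by
    intro x hx hd
    by_contra h1
    exact hab.symm (kernel_fix hZ hx h1 hd.2)
  comm := by
    intro y hy u hu hu1 hc
    by_cases hy1 : y = 1
    · rw [hy1]
      exact Subgroup.one_mem _
    refine mem_kernel_of hZ hy ?_
    intro c hc'
    by_contra hca
    -- `y` fixes `a`, `c`, `u c`
    have h2 : y • (u • c) = u • c := by
      rw [← mul_smul, hc, mul_smul, hc']
    have h3 : u • c ≠ c := fun h => hca (kernel_fix hZ hu hu1 h)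
    have h4 : u • c ≠ a := by
      intro h
      apply hca
      have h5 : u • a = a := kernel_smul hZ hu
      have h6 : u • c = u • a := by rw [h, h5]
      exact smul_left_cancel u h6
    have hy' : y • a = a := hy
    exact hy1 (eq_one_of_three hZ (a := a) (b := c) (c := u • c) (Ne.symm hca) h3.symm h4.symm hy' hc' h2)
  card := by
    haveI := finite_of_finite hZ
    exact card_group_eq' hZ hab

section Perm

variable [Fintype G] [Fintype Ω]

/-- The permutation character of a Zassenhaus group has norm two. -/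
theorem norm_perm (hZ : IsZassenhausGroup G Ω) {a b : Ω} (hab : a ≠ b) :
    classInner (Cfsg.Agent.Lib.Char.PermChar.permChar G Ω) (Cfsg.Agent.Lib.Char.PermChar.permChar G Ω) = 2 := by
  haveI := pretransitive hZ
  rw [Cfsg.Agent.Lib.Char.PermChar.classInner_perm_self a]
  have h2 : Nat.card (orbitRel.Quotient (stabilizer G a) Ω) = 2 := by
    rw [Nat.card_eq_two_iff]
    refine ⟨Quotient.mk'' a, Quotient.mk'' b, ?_, ?_⟩
    · intro h
      have h1 := Quotient.exact' h
      obtain ⟨⟨g, hg⟩, hgb⟩ := h1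
      have hg' : g • a = a := hg
      have hgb' : g • b = a := hgb
      apply hab
      have : g • b = g • a := by rw [hgb', hg']
      exact (smul_left_cancel g this).symm
    · ext q
      simp only [Set.mem_insert_iff, Set.mem_singleton_iff, Set.mem_univ, iff_true]
      obtain ⟨c, rfl⟩ := Quotient.exists_rep q
      by_cases hc : c = a
      · left
        rw [hc]
      · right
        apply Quotient.sound'
        obtain ⟨g, hg1, hg2⟩ := exists_stab_smul hZ (Ne.symm hab) hc
        exact ⟨⟨g, hg1⟩, hg2⟩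
  rw [h2]
  norm_num

/-- The nonprincipal constituent of the permutation character. -/
theorem exists_chi1 (hZ : IsZassenhausGroup G Ω) {a b : Ω} (hab : a ≠ b) :
    ∃ χ₁ : IrrCharacter G, χ₁ ≠ one G ∧
      Cfsg.Agent.Lib.Char.PermChar.permChar G Ω = (one G : IrrCharacter G).1 + (χ₁ : G → ℂ) := by
  haveI := pretransitive hZ
  haveI : Nonempty Ω := ⟨a⟩
  set π := Cfsg.Agent.Lib.Char.PermChar.permChar G Ω with hπ
  have hπc : IsCharacter G π := Cfsg.Agent.Lib.Char.PermChar.isCharacter_perm
  have hm : ∀ χ : IrrCharacter G, ∃ n : ℕ, classInner π (χ : G → ℂ) = n := fun χ =>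
    Cfsg.Agent.Lib.Char.Ortho.exists_nat_classInner hπc χ
  choose m hm using hm
  have h1 : ∑ χ : IrrCharacter G, m χ * m χ = 2 := by
    have h2 := Cfsg.Agent.Lib.Char.Ortho.classInner_eq_sum_mul hπc hπc
    rw [norm_perm hZ hab] at h2
    have h3 : ((∑ χ : IrrCharacter G, m χ * m χ : ℕ) : ℂ) = ((2 : ℕ) : ℂ) := by
      push_cast
      rw [h2]
      refine Finset.sum_congr rfl fun χ _ => ?_
      have h4 := Cfsg.Agent.Lib.Char.Ortho.classInner_conj_symm π (χ : G → ℂ)
      rw [← h4, hm χ, Complex.conj_natCast]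
    exact_mod_cast h3
  have h0 : m (one G) = 1 := by
    have h2 := hm (one G)
    have h3 : classInner π ((one G : IrrCharacter G) : G → ℂ) = 1 :=
      Cfsg.Agent.Lib.Char.PermChar.classInner_perm_one_of_transitive
    rw [h3] at h2
    exact_mod_cast h2.symm
  rw [← Finset.add_sum_erase univ _ (mem_univ (one G)), h0] at h1
  have h2 : ∑ χ ∈ univ.erase (one G), m χ * m χ = 1 := by omega
  -- there is a unique constituent in the erased sum
  have hex : ∃ χ₁ ∈ univ.erase (one G), m χ₁ ≠ 0 := by
    by_contra hcon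
    push Not at hcon
    have : ∑ χ ∈ univ.erase (one G), m χ * m χ = 0 := Finset.sum_eq_zero fun χ hχ => by rw [hcon χ hχ]; simp
    omega
  obtain ⟨χ₁, hχ₁, hm1⟩ := hex
  have hle : m χ₁ * m χ₁ + ∑ χ ∈ (univ.erase (one G)).erase χ₁, m χ * m χ = 1 := by
    rw [Finset.add_sum_erase (univ.erase (one G)) (fun χ => m χ * m χ) hχ₁]
    exact h2
  have hm11 : m χ₁ = 1 := by
    have h3 : 0 < m χ₁ := Nat.pos_of_ne_zero hm1
    have h4 : m χ₁ * m χ₁ ≤ 1 := by omega
    nlinarith
  have hrest : ∀ χ ∈ (univ.erase (one G)).erase χ₁, m χ = 0 := by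
    intro χ hχ
    have h3 : ∑ χ ∈ (univ.erase (one G)).erase χ₁, m χ * m χ = 0 := by
      rw [hm11] at hle
      omega
    have h4 := (Finset.sum_eq_zero_iff_of_nonneg (fun _ _ => Nat.zero_le _)).mp h3 χ hχ
    exact mul_self_eq_zero.mp h4
  refine ⟨χ₁, Finset.ne_of_mem_erase hχ₁, ?_⟩
  have h5 := Cfsg.Agent.Lib.Char.Ortho.decomp_eq_sum_classInner hπc
  rw [h5, ← Finset.add_sum_erase univ _ (mem_univ (one G)), ← Finset.add_sum_erase _ _ hχ₁]
  rw [Finset.sum_eq_zero (s := (univ.erase (one G)).erase χ₁)]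
  · rw [hm (one G), hm χ₁, h0, hm11]
    simp
  · intro χ hχ
    rw [hm χ, hrest χ hχ]
    simp

end Perm

section Y

variable [Fintype G] [Fintype Ω]

/-- The classification of the characters with `H`-fixed vectors. -/
theorem yData (hZ : IsZassenhausGroup G Ω) [IsSimpleGroup G] {a b : Ω} (hab : a ≠ b)
    (hodd : Odd (Nat.card ↥(stabilizer G a ⊓ stabilizer G b : Subgroup G)))
    (hlt : Nat.card ↥(stabilizer G a ⊓ stabilizer G b : Subgroup G) < Fintype.card Ω - 2)
    [Fintype (kernel hZ a)] {χ₁ : IrrCharacter G}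
    (hπ : Cfsg.Agent.Lib.Char.PermChar.permChar G Ω = (one G : IrrCharacter G).1 + (χ₁ : G → ℂ)) :
    YData (kernel hZ a) χ₁ := by
  haveI := pretransitive hZ
  have hcardH : Nat.card (kernel hZ a) + 1 = Fintype.card Ω := by
    rw [card_kernel_add_one, Nat.card_eq_fintype_card]
  have hv : ∀ g : G, Cfsg.Agent.Lib.Char.PermChar.permChar G Ω g = 1 + (χ₁ : G → ℂ) g := by
    intro g
    rw [hπ]
    rfl
  refine ⟨?_, ?_, ?_⟩
  · -- the degree
    have h1 := hv 1
    have h2 : Cfsg.Agent.Lib.Char.PermChar.permChar G Ω 1 = (Nat.card Ω : ℂ) := by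
      have : fixedBy Ω (1 : G) = Set.univ := by
        ext x
        simp [mem_fixedBy]
      simp only [Cfsg.Agent.Lib.Char.PermChar.permChar]
      rw [this, Nat.card_congr (Equiv.Set.univ Ω)]
    rw [h2, Nat.card_eq_fintype_card, ← hcardH] at h1
    push_cast at h1
    linear_combination -h1
  · -- the value on `H`
    intro u hu hu1
    have h1 := hv u
    have h2 : Cfsg.Agent.Lib.Char.PermChar.permChar G Ω u = 1 := by
      have : fixedBy Ω u = {a} := by
        ext x
        simp only [mem_fixedBy, Set.mem_singleton_iff]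
        constructor
        · intro hx
          exact kernel_fix hZ hu hu1 hx
        · rintro rfl
          exact kernel_smul hZ hu
      simp only [Cfsg.Agent.Lib.Char.PermChar.permChar]
      rw [this]
      simp
    rw [h2] at h1
    linear_combination -h1
  · -- the classification
    intro χ hmul
    have hχc := Cfsg.Agent.Lib.Char.Basic.isCharacter_of_isIrrCharacter χ.2
    set H := kernel hZ a with hH
    set B := stabilizer G a with hB
    haveI hN : (H.subgroupOf B).Normal := by
      constructor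
      intro x hx y
      rw [Subgroup.mem_subgroupOf] at hx ⊢
      exact conj_mem_kernel_of_fix hZ y.2 hx
    haveI : Fintype (H.subgroupOf B) := Fintype.ofFinite _
    have h1 := mul_coe (G := G) (H := H) (one H).2 hχc
    have h2 : (mul ((one H : IrrCharacter H) : H → ℂ) (χ : G → ℂ) : ℂ) ≠ 0 := by exact_mod_cast hmul
    rw [h1, ← indFun_trans H B (kernel_le hZ a), frobenius_reciprocity B _ _
      (Cfsg.Agent.Lib.Char.Basic.isClassFunction_of_isCharacter hχc)] at h2
    set R : B → ℂ := indFun (H.subgroupOf B) (fun x => ((one H : IrrCharacter H) : H → ℂ)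
      ⟨(x : B), Subgroup.mem_subgroupOf.mp x.2⟩) with hR
    have hRone : (fun x : H.subgroupOf B => ((one H : IrrCharacter H) : H → ℂ)
      ⟨(x : B), Subgroup.mem_subgroupOf.mp x.2⟩) = fun _ => 1 := rfl
    have hRc : IsCharacter B R := by
      rw [hR, hRone]
      exact Cfsg.Agent.Lib.Char.IndRep.isCharacter_indFun _ Cfsg.Agent.Lib.Char.Basic.isCharacter_one
    have hres : IsCharacter B (fun h : B => (χ : G → ℂ) h) :=
      Cfsg.Agent.Lib.Char.Basic.isCharacter_restrict hχc B
    rw [Cfsg.Agent.Lib.Char.Ortho.classInner_eq_sum_mul hRc hres] at h2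
    obtain ⟨τ, -, hτ⟩ := Finset.exists_ne_zero_of_sum_ne_zero h2
    have hτ1 : classInner R (τ : B → ℂ) ≠ 0 := left_ne_zero_of_mul hτ
    have hτ2 : classInner (τ : B → ℂ) (fun h : B => (χ : G → ℂ) h) ≠ 0 := right_ne_zero_of_mul hτ
    -- `B / H` is abelian
    have hab' : ∀ x y : B, x * y * x⁻¹ * y⁻¹ ∈ H.subgroupOf B := by
      have hcyc := (Cfsg.Agent.S0345.result hZ hab).1
      haveI := hcyc
      have hcomm : ∀ d d' : ↥(stabilizer G a ⊓ stabilizer G b : Subgroup G), d * d' = d' * d :=
        fun d d' => (IsCyclic.commGroup (α := ↥(stabilizer G a ⊓ stabilizer G b : Subgroup G))).mul_comm d d'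
      intro x y
      obtain ⟨w, hw, d, hd1, hd2, hxe⟩ := exists_decomp hZ hab x.2
      obtain ⟨w', hw', d', hd1', hd2', hye⟩ := exists_decomp hZ hab y.2
      rw [← QuotientGroup.eq_one_iff (N := H.subgroupOf B)]
      set q := QuotientGroup.mk' (H.subgroupOf B) with hq
      have hdB : d ∈ B := hd1
      have hdB' : d' ∈ B := hd1'
      have hwB : w ∈ B := kernel_le hZ a hw
      have hwB' : w' ∈ B := kernel_le hZ a hw'
      have hx : x = (⟨w, hwB⟩ : B) * ⟨d, hdB⟩ := Subtype.ext hxe
      have hy : y = (⟨w', hwB'⟩ : B) * ⟨d', hdB'⟩ := Subtype.ext hye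
      have hw1 : q ⟨w, hwB⟩ = 1 := (QuotientGroup.eq_one_iff _).mpr (Subgroup.mem_subgroupOf.mpr hw)
      have hw1' : q ⟨w', hwB'⟩ = 1 := (QuotientGroup.eq_one_iff _).mpr (Subgroup.mem_subgroupOf.mpr hw')
      have hc : (⟨d, hdB⟩ : B) * ⟨d', hdB'⟩ = ⟨d', hdB'⟩ * ⟨d, hdB⟩ := by
        apply Subtype.ext
        have h8 : d * d' = d' * d := congrArg (fun t : ↥(stabilizer G a ⊓ stabilizer G b : Subgroup G) => (t : G))
          (hcomm ⟨d, ⟨hd1, hd2⟩⟩ ⟨d', ⟨hd1', hd2'⟩⟩)
        exact h8
      have hqx : q x = q ⟨d, hdB⟩ := by rw [hx, map_mul, hw1, one_mul]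
      have hqy : q y = q ⟨d', hdB'⟩ := by rw [hy, map_mul, hw1', one_mul]
      have hqc : q ⟨d, hdB⟩ * q ⟨d', hdB'⟩ = q ⟨d', hdB'⟩ * q ⟨d, hdB⟩ := by
        rw [← map_mul, hc, map_mul]
      change q (x * y * x⁻¹ * y⁻¹) = 1
      rw [map_mul, map_mul, map_mul, map_inv, map_inv, hqx, hqy, hqc]
      group
    -- `τ` is linear
    have hτ3 : classInner (fun n : H.subgroupOf B => (τ : B → ℂ) n) (fun _ => 1) ≠ 0 := by
      intro h0
      apply hτ1
      rw [hR, hRone, frobenius_reciprocity _ _ _
        (Cfsg.Agent.Lib.Char.CompleteCor.isIrr_classFunction τ.2)]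
      rw [← Cfsg.Agent.Lib.Char.Ortho.classInner_conj_symm, h0, map_zero]
    obtain ⟨hτN, hτm, hτu⟩ := Cfsg.Agent.Lib.Char.AbelianQuot.linear_of_over_one (H.subgroupOf B) hab' τ.2 hτ3
    have hτone : (τ : B → ℂ) 1 = 1 := by
      have := hτN 1
      simpa using this
    have hτc := Cfsg.Agent.Lib.Char.Basic.isCharacter_of_isIrrCharacter τ.2
    -- the induced character
    have hfr : classInner (indFun B (τ : B → ℂ)) (χ : G → ℂ) ≠ 0 := by
      rw [frobenius_reciprocity B _ _ (Cfsg.Agent.Lib.Char.Basic.isClassFunction_of_isCharacter hχc)]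
      exact hτ2
    by_cases hτt : (τ : B → ℂ) = fun _ => 1
    · -- the permutation character
      rw [hτt, ← Cfsg.Agent.Lib.Char.Induced.natCard_fixedBy_eq_indFun Ω a] at hfr
      change classInner (Cfsg.Agent.Lib.Char.PermChar.permChar G Ω) (χ : G → ℂ) ≠ 0 at hfr
      rw [hπ, Cfsg.Agent.Lib.Char.Ortho.classInner_add_left] at hfr
      by_cases h5 : χ = one G
      · exact Or.inl h5
      · right; left
        by_contra h6
        apply hfr
        rw [classInner_irr (one G).2 χ.2, classInner_irr χ₁.2 χ.2, if_neg, if_neg, add_zero]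
        · intro h7
          exact h6 (Subtype.ext h7.symm)
        · intro h7
          exact h5 (Subtype.ext h7.symm)
    · -- the irreducible one
      have hS := Cfsg.Agent.S0881.result hZ hab hodd hlt H (kernel_le hZ a) hcardH
        (fun u hu hu1 c hc => kernel_fix hZ hu hu1 hc) (τ : B → ℂ) ⟨hτc, hτone⟩
        (fun u hu => hτN ⟨u, Subgroup.mem_subgroupOf.mpr hu⟩) hτt
      right; right
      have heq : indFun B (τ : B → ℂ) = (χ : G → ℂ) := by
        by_contra hne
        exact hfr (by rw [classInner_irr hS.1 χ.2, if_neg hne])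
      rw [← heq]
      refine ⟨?_, hS.2⟩
      rw [indFun_one, hτone, mul_one]
      have h7 : B.index = Nat.card Ω := index_stabilizer_of_transitive G a
      rw [h7, Nat.card_eq_fintype_card, ← hcardH]
      push_cast
      ring

/-- The main theorem on Zassenhaus groups: if the kernel has many linear characters, and mass below
each degree, then `h - 1 ≤ 2 e`. -/
theorem feit_zass (hZ : IsZassenhausGroup G Ω) [IsSimpleGroup G] {a b : Ω} (hab : a ≠ b)
    (hodd : Odd (Nat.card ↥(stabilizer G a ⊓ stabilizer G b : Subgroup G)))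
    (hlin : Nat.card ↥(stabilizer G a ⊓ stabilizer G b : Subgroup G) + 1 < (univ.filter fun θ : IrrCharacter (kernel hZ a) =>
      dg (θ : kernel hZ a → ℂ) = 1).card)
    (hM : ∀ θ : IrrCharacter (kernel hZ a), 1 < dg (θ : kernel hZ a → ℂ) →
      Nat.card ↥(stabilizer G a ⊓ stabilizer G b : Subgroup G) * (2 * dg (θ : kernel hZ a → ℂ) + 1) + 1 <
        ∑ θ' ∈ univ.filter (fun θ' : IrrCharacter (kernel hZ a) => dg (θ' : kernel hZ a → ℂ) < dg (θ : kernel hZ a → ℂ)),
          dg (θ' : kernel hZ a → ℂ) * dg (θ' : kernel hZ a → ℂ)) :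
    Fintype.card Ω - 2 ≤ 2 * Nat.card ↥(stabilizer G a ⊓ stabilizer G b : Subgroup G) := by
  by_contra hcon
  push Not at hcon
  set D := (stabilizer G a ⊓ stabilizer G b : Subgroup G) with hD
  set H := kernel hZ a with hH
  haveI : Fintype H := Fintype.ofFinite _
  haveI : Fintype D := Fintype.ofFinite _
  have hz : ZChar H (stabilizer G a) D := zchar hZ hab
  obtain ⟨χ₁, hne, hπ⟩ := exists_chi1 hZ hab
  have hlt' : Nat.card D < Fintype.card Ω - 2 := by omega
  have hY : YData H χ₁ := yData hZ hab hodd hlt' hπ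
  have hcardH : Nat.card H + 1 = Fintype.card Ω := by
    rw [hH, card_kernel_add_one, Nat.card_eq_fintype_card]
  have hHm : 1 < Nat.card H := by omega
  have he : 1 < Nat.card D := by
    have h1 : 1 ≤ Nat.card D := Nat.card_pos
    rcases hodd with ⟨k, hk⟩
    by_contra h2
    have h3 : Nat.card D = 1 := by omega
    have h4 := two_point_ne_bot hZ hab
    apply h4
    exact Subgroup.eq_bot_of_card_eq D h3
  have hlt2 : 2 * Nat.card D < Nat.card H - 1 := by omega
  have hS : Nat.card D ≤ Nat.card {C : ConjClasses G // ∀ g : G, ConjClasses.mk g = C → g ∉ H} :=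
    Cfsg.Agent.S0884.result hZ hab (Nat.card H) (Nat.card D) hcardH.symm rfl hodd hlt2 H
    (kernel_le hZ a) hcardH (fun u hu hu1 c hc => kernel_fix hZ hu hu1 hc)
  have hb := feit_bound hz hHm hY he hS ?_ ?_
  · omega
  · -- linear characters
    have h1 := sum_irr_H (H := H) (fun θ => if dg (θ : H → ℂ) = 1 then 1 else 0)
    simp only [dg_one_H, if_true] at h1
    rw [Finset.card_filter, h1] at hlin
    rw [Finset.card_filter]
    omega
  · intro θ hθ
    have h1 := hM θ.1 hθ
    have h2 := sum_irr_H (H := H) (fun θ' => if dg (θ' : H → ℂ) < dg ((θ.1 : IrrCharacter H) : H → ℂ) then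
      dg (θ' : H → ℂ) * dg (θ' : H → ℂ) else 0)
    rw [Finset.sum_filter, h2, dg_one_H, if_pos hθ] at h1
    rw [Finset.sum_filter]
    omega

end Y

section Abelian

variable [Fintype G] [Fintype Ω]

/-- An irreducible character of a commutative group has degree one. -/
theorem dg_eq_one_of_comm {A : Type*} [Group A] [Finite A] (hc : ∀ x y : A, x * y = y * x) {θ : A → ℂ}
    (hθ : IsIrrCharacter A θ) : dg θ = 1 := by
  obtain ⟨n, ρ, hρ, rfl⟩ := hθ
  have h1 : Module.finrank ℂ (Fin n → ℂ) = 1 :=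
    Cfsg.Agent.Lib.Char.AbelianQuot.finrank_eq_one_of_commuting ρ (fun x y => by
      have h3 : ρ (x * y) = ρ (y * x) := by rw [hc]
      simpa [map_mul, Module.End.mul_eq_comp] using h3)
  have h2 : n = 1 := by simpa using h1
  subst h2
  have h3 : ρ.character 1 = ((1 : ℕ) : ℂ) := by
    simp [Representation.character]
  rw [dg, h3, toN_natCast]

/-- Feit's inequality for abelian kernels. -/
theorem feit_abelian (hZ : IsZassenhausGroup G Ω) [IsSimpleGroup G] {a b : Ω} (hab : a ≠ b)
    (hodd : Odd (Nat.card ↥(stabilizer G a ⊓ stabilizer G b : Subgroup G)))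
    (hc : ∀ x ∈ kernel hZ a, ∀ y ∈ kernel hZ a, x * y = y * x) :
    Fintype.card Ω - 2 ≤ 2 * Nat.card ↥(stabilizer G a ⊓ stabilizer G b : Subgroup G) := by
  by_contra hcon
  have hc' : ∀ x y : kernel hZ a, x * y = y * x := fun x y => Subtype.ext (hc x x.2 y y.2)
  have hdeg : ∀ θ : IrrCharacter (kernel hZ a), dg (θ : kernel hZ a → ℂ) = 1 := fun θ =>
    dg_eq_one_of_comm hc' θ.2
  apply hcon
  refine feit_zass hZ hab hodd ?_ ?_
  · by_contra hlin
    apply hcon
    have h1 : (univ.filter fun θ : IrrCharacter (kernel hZ a) => dg (θ : kernel hZ a → ℂ) = 1) = univ := by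
      ext θ
      simp [hdeg θ]
    rw [h1, Finset.card_univ, ← Nat.card_eq_fintype_card,
      Cfsg.Agent.Lib.Char.CompleteCor.card_irr_eq_card_conjClasses] at hlin
    have h2 : Nat.card (ConjClasses (kernel hZ a)) = Nat.card (kernel hZ a) := by
      have hbij : Function.Bijective (ConjClasses.mk : kernel hZ a → ConjClasses (kernel hZ a)) := by
        refine ⟨?_, ConjClasses.mk_surjective⟩
        intro x y hxy
        obtain ⟨c, hc2⟩ := isConj_iff.1 (ConjClasses.mk_eq_mk_iff_isConj.mp hxy)
        rw [← hc2, hc' c x]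
        group
      exact (Nat.card_eq_of_bijective _ hbij).symm
    have h3 : Nat.card (kernel hZ a) + 1 = Fintype.card Ω := by
      rw [card_kernel_add_one, Nat.card_eq_fintype_card]
    rw [h2] at hlin
    omega
  · intro θ hθ
    rw [hdeg θ] at hθ
    omega

end Abelian

end Cfsg.Agent.Lib.Zass.Rows5
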