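import Mathlib
import Cfsg.Agent.Lib.Zass.Rows5
import Cfsg.Agent.Lib.Char.LinearChars
import Cfsg.Agent.Lib.Char.CompleteCor

/-!
# Irreducible characters of a commutative group (as a group with a commutativity hypothesis)
-/

set_option autoImplicit false
set_option linter.unusedSectionVars false
set_option linter.unreachableTactic false
set_option linter.unusedTactic false

namespace Cfsg.Agent.Lib.Zass.BSWAb

open Cfsg Cfsg.Agent.Lib.Zass.Rows2 Cfsg.Agent.Lib.Zass.Rows5
open Cfsg.Agent.Lib.Char.Ortho (classInner_irr fintype_irr)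
open Cfsg.Agent.Lib.Char.Induced (classInner_def)
open Cfsg.Agent.Lib.Char.CompleteCor
open scoped ComplexConjugate
open Finset

universe u

variable {A : Type u} [Group A] [Fintype A]

theorem exists_hom (hc : ∀ x y : A, x * y = y * x) (l : IrrCharacter A) :
    ∃ φ : A →* ℂˣ, ∀ x, (l : A → ℂ) x = (φ x : ℂˣ) := by
  have h1 : (l : A → ℂ) 1 = 1 := by
    have h2 := dg_coe l.2
    rw [dg_eq_one_of_comm hc l.2] at h2
    simpa using h2.symm
  obtain ⟨φ, hφ⟩ := Cfsg.Agent.Lib.Char.LinearChars.exists_hom_of_isCharacter_one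
    (Cfsg.Agent.Lib.Char.Basic.isCharacter_of_isIrrCharacter l.2) h1
  exact ⟨φ, fun x => congrFun hφ x⟩

theorem l_one (hc : ∀ x y : A, x * y = y * x) (l : IrrCharacter A) : (l : A → ℂ) 1 = 1 := by
  obtain ⟨φ, hφ⟩ := exists_hom hc l
  rw [hφ]
  simp

theorem l_mul (hc : ∀ x y : A, x * y = y * x) (l : IrrCharacter A) (x y : A) :
    (l : A → ℂ) (x * y) = (l : A → ℂ) x * (l : A → ℂ) y := by
  obtain ⟨φ, hφ⟩ := exists_hom hc l
  simp [hφ]

theorem l_conj (l : IrrCharacter A) (x : A) : conj ((l : A → ℂ) x) = (l : A → ℂ) x⁻¹ :=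
  (Cfsg.Agent.Lib.Char.Ortho.character_inv_of_isCharacter
    (Cfsg.Agent.Lib.Char.Basic.isCharacter_of_isIrrCharacter l.2) x).symm

theorem l_mul_conj (hc : ∀ x y : A, x * y = y * x) (l : IrrCharacter A) (x : A) :
    (l : A → ℂ) x * conj ((l : A → ℂ) x) = 1 := by
  rw [l_conj, ← l_mul hc, mul_inv_cancel, l_one hc]

/-- The complex conjugate of a linear character. -/
noncomputable def cjL (hc : ∀ x y : A, x * y = y * x) (l : IrrCharacter A) : IrrCharacter A :=
  ⟨fun x => conj ((l : A → ℂ) x), by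
    obtain ⟨φ, hφ⟩ := exists_hom hc l
    have h1 := Cfsg.Agent.Lib.Char.LinearChars.isIrr_of_hom (φ⁻¹)
    convert h1 using 2 with x
    rw [l_conj, hφ]
    simp⟩

theorem cjL_apply (hc : ∀ x y : A, x * y = y * x) (l : IrrCharacter A) (x : A) :
    ((cjL hc l : IrrCharacter A) : A → ℂ) x = conj ((l : A → ℂ) x) := rfl

theorem cjL_cjL (hc : ∀ x y : A, x * y = y * x) (l : IrrCharacter A) : cjL hc (cjL hc l) = l := by
  apply Subtype.ext
  funext x
  simp [cjL_apply]

theorem sum_mul_conj (l l' : IrrCharacter A) :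
    ∑ x, (l : A → ℂ) x * conj ((l' : A → ℂ) x) = if l = l' then (Nat.card A : ℂ) else 0 := by
  have h1 := classInner_irr l.2 l'.2
  rw [classInner_def] at h1
  have hne : (Nat.card A : ℂ) ≠ 0 := Nat.cast_ne_zero.mpr Nat.card_pos.ne'
  have h2 : ∑ x, (l : A → ℂ) x * conj ((l' : A → ℂ) x) =
      (Nat.card A : ℂ) * ((Nat.card A : ℂ)⁻¹ * ∑ x, (l : A → ℂ) x * conj ((l' : A → ℂ) x)) := by
    field_simp
  rw [h2, h1]
  by_cases h : l = l'
  · rw [if_pos h, if_pos (congrArg Subtype.val h), mul_one]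
  · rw [if_neg h, if_neg (fun h' => h (Subtype.ext h')), mul_zero]

theorem sum_mul (hc : ∀ x y : A, x * y = y * x) (l l' : IrrCharacter A) :
    ∑ x, (l : A → ℂ) x * (l' : A → ℂ) x = if l = cjL hc l' then (Nat.card A : ℂ) else 0 := by
  rw [← sum_mul_conj l (cjL hc l')]
  refine Finset.sum_congr rfl fun x _ => ?_
  rw [cjL_apply, Complex.conj_conj]

theorem sum_l (l : IrrCharacter A) :
    ∑ x, (l : A → ℂ) x = if l = one A then (Nat.card A : ℂ) else 0 := by
  rw [← sum_mul_conj l (one A)]
  refine Finset.sum_congr rfl fun x _ => ?_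
  simp [one]

theorem sum_conj_l (l : IrrCharacter A) :
    ∑ x, conj ((l : A → ℂ) x) = if l = one A then (Nat.card A : ℂ) else 0 := by
  rw [← map_sum, sum_l]
  split_ifs <;> simp

theorem one_apply (x : A) : ((one A : IrrCharacter A) : A → ℂ) x = 1 := rfl

theorem isConj_iff_eq_of_comm (hc : ∀ x y : A, x * y = y * x) {x y : A} : IsConj x y ↔ x = y := by
  constructor
  · intro h
    obtain ⟨g, hg⟩ := isConj_iff.1 h
    rw [← hg, hc g x]
    group
  · rintro rfl
    exact IsConj.refl _

open scoped Classical in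
theorem col_sum (hc : ∀ x y : A, x * y = y * x) (x y : A) :
    ∑ l : IrrCharacter A, (l : A → ℂ) x * conj ((l : A → ℂ) y) =
      if x = y then (Nat.card A : ℂ) else 0 := by
  by_cases h : x = y
  · subst h
    rw [column_orth_conj (IsConj.refl x), if_pos rfl]
    have : Subgroup.centralizer ({x} : Set A) = ⊤ := by
      rw [eq_top_iff]
      intro g _
      rw [Subgroup.mem_centralizer_singleton_iff]
      exact hc g x
    rw [this]
    simp
  · rw [column_orth_not_conj (fun h' => h ((isConj_iff_eq_of_comm hc).1 h')), if_neg h]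

open scoped Classical in
/-- The sum of all the values of the characters at a non-identity element. -/
theorem sum_irr_apply (hc : ∀ x y : A, x * y = y * x) (x : A) :
    ∑ l : IrrCharacter A, (l : A → ℂ) x = if x = 1 then (Nat.card A : ℂ) else 0 := by
  rw [← col_sum hc x 1]
  refine Finset.sum_congr rfl fun l _ => ?_
  rw [l_one hc]
  simp

theorem card_irr (hc : ∀ x y : A, x * y = y * x) : Fintype.card (IrrCharacter A) = Nat.card A := by
  have h := sum_irr_apply hc (1 : A)
  simp only [l_one hc, Finset.sum_const, Finset.card_univ, nsmul_eq_mul, mul_one] at h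
  rw [if_pos trivial] at h
  exact_mod_cast h

end Cfsg.Agent.Lib.Zass.BSWAb
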