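import Mathlib

/-!
# Brauer–Suzuki–Wall: the group-theoretic configuration

`Conf G` records the hypotheses of the abstract Brauer–Suzuki–Wall theorem.
-/

set_option autoImplicit false
set_option linter.unusedSectionVars false
set_option linter.unreachableTactic false
set_option linter.unusedTactic false

namespace Cfsg.Agent.Lib.Zass.BSWGroup

open Subgroup

universe u

/-- The hypotheses of the abstract Brauer–Suzuki–Wall theorem. -/
structure Conf (G : Type u) [Group G] where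
  t : G
  s : G
  K : Subgroup G
  ht : orderOf t = 2
  hKab : IsMulCommutative ↥K
  hKH : K ≤ centralizer ({t} : Set G)
  htK : t ∈ K
  hs : orderOf s = 2
  hsH : s ∈ centralizer ({t} : Set G)
  hsK : s ∉ K
  hH : K ⊔ zpowers s = centralizer ({t} : Set G)
  hCK : K ⊓ centralizer ({s} : Set G) = zpowers t
  hinv : ∀ x ∈ K, s * x * s⁻¹ = x⁻¹
  hTI : ∀ g : G, g ∉ centralizer ({t} : Set G) → K ⊓ K.map (MulAut.conj g).toMonoidHom = ⊥
  hconj : ∀ x y : G, orderOf x = 2 → orderOf y = 2 → IsConj x y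

theorem mul_self_of_orderOf {G : Type u} [Group G] {x : G} (h : orderOf x = 2) : x * x = 1 := by
  have := pow_orderOf_eq_one x
  rwa [h, pow_two] at this

theorem inv_of_orderOf {G : Type u} [Group G] {x : G} (h : orderOf x = 2) : x⁻¹ = x :=
  inv_eq_of_mul_eq_one_left (mul_self_of_orderOf h)

theorem orderOf_eq_two {G : Type u} [Group G] {x : G} (h : x * x = 1) (h1 : x ≠ 1) : orderOf x = 2 :=
  orderOf_eq_prime (by rwa [pow_two]) h1

open scoped Classical in
/-- The number of involutions `a` with `a y` an involution. -/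
noncomputable def iv {G : Type u} [Group G] [Fintype G] (y : G) : ℕ :=
  (Finset.univ.filter fun a : G => orderOf a = 2 ∧ orderOf (a * y) = 2).card

namespace Conf

variable {G : Type u} [Group G] (C : Conf G)

/-- The centralizer of `t`. -/
abbrev H : Subgroup G := centralizer ({C.t} : Set G)

theorem t2 : C.t * C.t = 1 := mul_self_of_orderOf C.ht
theorem tinv : C.t⁻¹ = C.t := inv_of_orderOf C.ht
theorem s2 : C.s * C.s = 1 := mul_self_of_orderOf C.hs
theorem sinv : C.s⁻¹ = C.s := inv_of_orderOf C.hs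
theorem t_ne : C.t ≠ 1 := by
  intro h
  have := C.ht
  rw [h, orderOf_one] at this
  norm_num at this
theorem s_ne : C.s ≠ 1 := by
  intro h
  have := C.hs
  rw [h, orderOf_one] at this
  norm_num at this

theorem mem_H {g : G} : g ∈ C.H ↔ g * C.t = C.t * g := by
  rw [mem_centralizer_singleton_iff]

theorem comm_K {x y : G} (hx : x ∈ C.K) (hy : y ∈ C.K) : x * y = y * x :=
  congrArg Subtype.val (C.hKab.is_comm.comm ⟨x, hx⟩ ⟨y, hy⟩)

theorem K_le_H : C.K ≤ C.H := C.hKH
theorem s_mem_H : C.s ∈ C.H := C.hsH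
theorem t_mem_H : C.t ∈ C.H := C.K_le_H C.htK

theorem s_conj {x : G} (hx : x ∈ C.K) : C.s * x * C.s = x⁻¹ := by
  have h1 := C.hinv x hx
  rwa [C.sinv] at h1

theorem ks_sq {k : G} (hk : k ∈ C.K) : k * C.s * (k * C.s) = 1 := by
  have h2 : k * C.s * (k * C.s) = k * (C.s * k * C.s) := by group
  rw [h2, C.s_conj hk, mul_inv_cancel]

theorem ks_inv {k : G} (hk : k ∈ C.K) : (k * C.s)⁻¹ = k * C.s :=
  inv_eq_of_mul_eq_one_left (C.ks_sq hk)

/-- Description of `H` as `K ∪ K s`. -/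
theorem mem_H_iff {g : G} : g ∈ C.H ↔ g ∈ C.K ∨ ∃ k ∈ C.K, g = k * C.s := by
  constructor
  · intro hg
    let S : Subgroup G :=
      { carrier := {g | g ∈ C.K ∨ ∃ k ∈ C.K, g = k * C.s}
        one_mem' := Or.inl C.K.one_mem
        mul_mem' := by
          rintro a b (ha | ⟨k, hk, rfl⟩) (hb | ⟨k', hk', rfl⟩)
          · exact Or.inl (C.K.mul_mem ha hb)
          · exact Or.inr ⟨a * k', C.K.mul_mem ha hk', (mul_assoc _ _ _).symm⟩
          · refine Or.inr ⟨k * b⁻¹, C.K.mul_mem hk (C.K.inv_mem hb), ?_⟩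
            rw [← C.s_conj hb]
            have := C.s2
            simp only [mul_assoc, this, mul_one]
          · left
            have h2 : k * C.s * (k' * C.s) = k * (C.s * k' * C.s) := by group
            rw [h2, C.s_conj hk']
            exact C.K.mul_mem hk (C.K.inv_mem hk')
        inv_mem' := by
          rintro a (ha | ⟨k, hk, rfl⟩)
          · exact Or.inl (C.K.inv_mem ha)
          · exact Or.inr ⟨k, hk, C.ks_inv hk⟩ }
    have hle : C.K ⊔ zpowers C.s ≤ S := by
      refine sup_le (fun x hx => Or.inl hx) ?_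
      rw [zpowers_le]
      exact Or.inr ⟨1, C.K.one_mem, by simp⟩
    have hg' : g ∈ C.K ⊔ zpowers C.s := by rw [C.hH]; exact hg
    exact hle hg'
  · rintro (h | ⟨k, hk, rfl⟩)
    · exact C.K_le_H h
    · exact C.H.mul_mem (C.K_le_H hk) C.s_mem_H

theorem ks_not_mem {k : G} (hk : k ∈ C.K) : k * C.s ∉ C.K := fun h => C.hsK (by
  have : C.s = k⁻¹ * (k * C.s) := by group
  rw [this]
  exact C.K.mul_mem (C.K.inv_mem hk) h)

/-- An element of `H` outside `K` has square one and inverts `K`. -/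
theorem H_not_K {g : G} (hg : g ∈ C.H) (hgK : g ∉ C.K) : g * g = 1 ∧ ∀ x ∈ C.K, g * x * g⁻¹ = x⁻¹ := by
  rcases C.mem_H_iff.1 hg with h | ⟨k, hk, rfl⟩
  · exact absurd h hgK
  · refine ⟨C.ks_sq hk, fun x hx => ?_⟩
    rw [C.ks_inv hk]
    have h2 : k * C.s * x * (k * C.s) = k * (C.s * x * C.s) * C.s * (k * C.s) * C.s * C.s := by
      have := C.s2
      simp only [mul_assoc, this, mul_one]
    have h3 : k * C.s * x * (k * C.s) = k * (C.s * x * C.s * (C.s * k * C.s)) := by
      have := C.s2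
      simp only [mul_assoc]
      simp only [← mul_assoc C.s C.s, this, one_mul]
    rw [h3, C.s_conj hx, C.s_conj hk, C.comm_K (C.K.inv_mem hx) (C.K.inv_mem hk)]
    group

theorem orderOf_H_not_K {g : G} (hg : g ∈ C.H) (hgK : g ∉ C.K) : orderOf g = 2 :=
  orderOf_eq_two (C.H_not_K hg hgK).1 (fun h => hgK (h ▸ C.K.one_mem))

/-- `K` is normal in `H`. -/
theorem H_conj_K {g k : G} (hg : g ∈ C.H) (hk : k ∈ C.K) : g * k * g⁻¹ ∈ C.K := by
  by_cases h : g ∈ C.K
  · exact C.K.mul_mem (C.K.mul_mem h hk) (C.K.inv_mem h)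
  · rw [(C.H_not_K hg h).2 k hk]
    exact C.K.inv_mem hk

/-- Elements of order at most two in `K`. -/
theorem K_inv2 {x : G} (hx : x ∈ C.K) (h : x * x = 1) : x = 1 ∨ x = C.t := by
  have h1 : x ∈ C.K ⊓ centralizer ({C.s} : Set G) := by
    refine ⟨hx, mem_centralizer_singleton_iff.2 ?_⟩
    have h2 := C.hinv x hx
    have h3 : x⁻¹ = x := inv_eq_of_mul_eq_one_left h
    rw [h3, C.sinv] at h2
    calc x * C.s = C.s * x * C.s * C.s := by rw [h2]
      _ = C.s * x := by
        have := C.s2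
        simp only [mul_assoc, this, mul_one]
  rw [C.hCK] at h1
  obtain ⟨n, hn⟩ := mem_zpowers_iff.1 h1
  have h4 : C.t ^ n = 1 ∨ C.t ^ n = C.t := by
    rcases Int.even_or_odd n with ⟨m, rfl⟩ | ⟨m, rfl⟩
    · left
      rw [← two_mul, zpow_mul, zpow_two, C.t2, one_zpow]
    · right
      rw [zpow_add, zpow_mul, zpow_two, C.t2, one_zpow, one_mul, zpow_one]
  rw [← hn]
  exact h4

/-- The trivial intersection property. -/
theorem ti {x g : G} (hx : x ∈ C.K) (hx1 : x ≠ 1) (h : g * x * g⁻¹ ∈ C.K) : g ∈ C.H := by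
  by_contra hg
  have h1 := C.hTI g hg
  have h2 : g * x * g⁻¹ ∈ C.K ⊓ C.K.map (MulAut.conj g).toMonoidHom :=
    ⟨h, ⟨x, hx, by simp [MulAut.conj_apply]⟩⟩
  rw [h1, mem_bot] at h2
  apply hx1
  have : x = g⁻¹ * (g * x * g⁻¹) * g := by group
  rw [this, h2]
  group

theorem conj_K {x g : G} (hx : x ∈ C.K) (hx1 : x ≠ 1) (h : g * x * g⁻¹ ∈ C.K) :
    g * x * g⁻¹ = x ∨ g * x * g⁻¹ = x⁻¹ := by
  have hg := C.ti hx hx1 h
  by_cases hgK : g ∈ C.K
  · left
    rw [C.comm_K hgK hx]
    group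
  · exact Or.inr ((C.H_not_K hg hgK).2 x hx)

/-- The centralizer of a non-involution of `K` is `K`. -/
theorem cent_K {x : G} (hx : x ∈ C.K) (hx1 : x ≠ 1) (hxt : x ≠ C.t) :
    centralizer ({x} : Set G) = C.K := by
  ext g
  rw [mem_centralizer_singleton_iff]
  constructor
  · intro h
    have h1 : g * x * g⁻¹ = x := by rw [h]; group
    have hg := C.ti hx hx1 (by rw [h1]; exact hx)
    by_contra hgK
    have h2 := (C.H_not_K hg hgK).2 x hx
    rw [h1] at h2
    rcases C.K_inv2 hx (by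
      calc x * x = x⁻¹ * x := by rw [← h2]
        _ = 1 := inv_mul_cancel x) with h3 | h3
    · exact hx1 h3
    · exact hxt h3
  · intro h
    exact C.comm_K h hx

theorem exists_conj_t {a : G} (ha : orderOf a = 2) : ∃ g, g * C.t * g⁻¹ = a :=
  isConj_iff.1 (C.hconj _ _ C.ht ha)

theorem card_H [Finite G] : Nat.card C.H = 2 * Nat.card C.K := by
  have hset : (C.H : Set G) = (C.K : Set G) ∪ (fun k => k * C.s) '' (C.K : Set G) := by
    ext g
    simp only [SetLike.mem_coe, Set.mem_union, Set.mem_image]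
    rw [C.mem_H_iff]
    constructor
    · rintro (h | ⟨k, hk, rfl⟩)
      · exact Or.inl h
      · exact Or.inr ⟨k, hk, rfl⟩
    · rintro (h | ⟨k, hk, rfl⟩)
      · exact Or.inl h
      · exact Or.inr ⟨k, hk, rfl⟩
  have hdisj : Disjoint (C.K : Set G) ((fun k => k * C.s) '' (C.K : Set G)) := by
    rw [Set.disjoint_left]
    rintro x hx ⟨k, hk, rfl⟩
    exact C.ks_not_mem hk hx
  have h1 : Nat.card C.H = (C.H : Set G).ncard := Nat.card_coe_set_eq _
  have h2 : Nat.card C.K = (C.K : Set G).ncard := Nat.card_coe_set_eq _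
  rw [h1, h2, hset, Set.ncard_union_eq hdisj (Set.toFinite _) (Set.toFinite _),
    Set.ncard_image_of_injective _ (mul_left_injective _)]
  omega

theorem even_card_K [Finite G] : Even (Nat.card C.K) := by
  have h : orderOf (⟨C.t, C.htK⟩ : C.K) = 2 := by
    rw [Subgroup.orderOf_mk, C.ht]
  have h2 := orderOf_dvd_natCard (⟨C.t, C.htK⟩ : C.K)
  rw [h] at h2
  exact even_iff_two_dvd.2 h2

/-- An element that is conjugate into `K`. -/
def InK (y : G) : Prop := ∃ g k, k ∈ C.K ∧ y = g * k * g⁻¹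

/-- The elements that are not conjugate into `K`. -/
def E2 (y : G) : Prop := y ≠ 1 ∧ ¬ C.InK y

theorem InK_of_mem {k : G} (hk : k ∈ C.K) : C.InK k := ⟨1, k, hk, by simp⟩

theorem InK_of_invol {a : G} (ha : orderOf a = 2) : C.InK a := by
  obtain ⟨g, hg⟩ := C.exists_conj_t ha
  exact ⟨g, C.t, C.htK, hg.symm⟩

theorem InK_conj {y : G} (h : C.InK y) (x : G) : C.InK (x * y * x⁻¹) := by
  obtain ⟨g, k, hk, rfl⟩ := h
  exact ⟨x * g, k, hk, by group⟩

theorem E2_conj {y : G} (h : C.E2 y) (x : G) : C.E2 (x * y * x⁻¹) := by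
  refine ⟨fun h1 => h.1 ?_, fun h1 => h.2 ?_⟩
  · have : y = x⁻¹ * (x * y * x⁻¹) * x := by group
    rw [this, h1]
    group
  · have := C.InK_conj h1 x⁻¹
    have h2 : x⁻¹ * (x * y * x⁻¹) * x⁻¹⁻¹ = y := by group
    rwa [h2] at this

theorem E2_not_H {y : G} (h : C.E2 y) : y ∉ C.H := by
  intro hy
  by_cases h1 : y ∈ C.K
  · exact h.2 (C.InK_of_mem h1)
  · exact h.2 (C.InK_of_invol (C.orderOf_H_not_K hy h1))

/-- Elements of `K` do not commute with elements not conjugate into `K`. -/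
theorem E2_comm_K {y c : G} (h : C.E2 y) (hc : c ∈ C.K) (hc1 : c ≠ 1) (hcomm : y * c = c * y) : False := by
  apply C.E2_not_H h
  apply C.ti hc hc1
  rw [hcomm]
  simpa using hc

/-- No involution commutes with an element not conjugate into `K`. -/
theorem E2_no_invol {y a : G} (h : C.E2 y) (ha : orderOf a = 2) (hcomm : a * y = y * a) : False := by
  obtain ⟨g, rfl⟩ := C.exists_conj_t ha
  have h1 : g⁻¹ * y * g ∈ C.H := by
    rw [C.mem_H]
    have h2 : g * C.t * g⁻¹ * y = y * (g * C.t * g⁻¹) := hcomm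
    calc g⁻¹ * y * g * C.t = g⁻¹ * (y * (g * C.t * g⁻¹)) * g := by group
      _ = g⁻¹ * (g * C.t * g⁻¹ * y) * g := by rw [h2]
      _ = C.t * (g⁻¹ * y * g) := by group
  have h3 := C.E2_conj h g⁻¹
  rw [inv_inv] at h3
  exact C.E2_not_H h3 h1

/-- A fixed-point-free involutory automorphism of a finite group inverts it. -/
theorem fpf_inverts {A : Subgroup G} [Finite A] {a : G} (ha : a * a = 1)
    (hn : ∀ x ∈ A, a * x * a⁻¹ ∈ A) (hf : ∀ x ∈ A, a * x * a⁻¹ = x → x = 1) :
    ∀ x ∈ A, a * x * a⁻¹ = x⁻¹ := by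
  have hainv : a⁻¹ = a := inv_eq_of_mul_eq_one_left ha
  let φ : A → A := fun x => ⟨(x : G)⁻¹ * (a * x * a⁻¹), A.mul_mem (A.inv_mem x.2) (hn _ x.2)⟩
  have hinj : Function.Injective φ := by
    intro x y hxy
    have h1 : (x : G)⁻¹ * (a * x * a⁻¹) = (y : G)⁻¹ * (a * y * a⁻¹) := congrArg Subtype.val hxy
    have h2 : a * ((y : G) * (x : G)⁻¹) * a⁻¹ = (y : G) * (x : G)⁻¹ := by
      have h3 : a * (x : G) * a⁻¹ = (x : G) * ((y : G)⁻¹ * (a * y * a⁻¹)) := by
        rw [← h1]; group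
      calc a * ((y : G) * (x : G)⁻¹) * a⁻¹ = (a * y * a⁻¹) * (a * (x : G) * a⁻¹)⁻¹ := by group
        _ = (y : G) * (x : G)⁻¹ := by rw [h3]; group
    have h4 := hf _ (A.mul_mem y.2 (A.inv_mem x.2)) h2
    have h5 : (y : G) = x := by
      have := mul_inv_eq_one.1 h4
      exact this
    exact Subtype.ext h5.symm
  have hsurj : Function.Surjective φ := Finite.injective_iff_surjective.1 hinj
  intro x hx
  obtain ⟨y, hy⟩ := hsurj ⟨x, hx⟩
  have hy' : (y : G)⁻¹ * (a * y * a⁻¹) = x := congrArg Subtype.val hy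
  rw [← hy']
  calc a * ((y : G)⁻¹ * (a * y * a⁻¹)) * a⁻¹ = a * (y : G)⁻¹ * a * y * (a * a) := by
        rw [hainv]; group
    _ = a * (y : G)⁻¹ * a * y := by rw [ha, mul_one]
    _ = ((y : G)⁻¹ * (a * y * a⁻¹))⁻¹ := by
        rw [hainv]
        simp only [mul_inv_rev, inv_inv, hainv, mul_assoc]

/-- Lemma R, part 1: an element not conjugate into `K` inverted by `t`. -/
theorem cent_inverted {z : G} [Finite (centralizer ({z} : Set G))] (hz : C.E2 z)
    (hinv : C.t * z * C.t⁻¹ = z⁻¹) :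
    ∀ c ∈ centralizer ({z} : Set G), C.t * c * C.t⁻¹ = c⁻¹ := by
  refine fpf_inverts C.t2 ?_ ?_
  · intro c hc
    rw [mem_centralizer_singleton_iff] at hc ⊢
    have h1 : C.t * z⁻¹ * C.t⁻¹ = z := by
      calc C.t * z⁻¹ * C.t⁻¹ = (C.t * z * C.t⁻¹)⁻¹ := by group
        _ = z := by rw [hinv, inv_inv]
    have hc' : c * z⁻¹ = z⁻¹ * c := by
      have : z⁻¹ * (c * z) * z⁻¹ = z⁻¹ * (z * c) * z⁻¹ := by rw [hc]
      simpa [mul_assoc] using this.symm
    calc C.t * c * C.t⁻¹ * z = C.t * c * C.t⁻¹ * (C.t * z⁻¹ * C.t⁻¹) := by rw [h1]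
      _ = C.t * (c * z⁻¹) * C.t⁻¹ := by group
      _ = C.t * (z⁻¹ * c) * C.t⁻¹ := by rw [hc']
      _ = (C.t * z⁻¹ * C.t⁻¹) * (C.t * c * C.t⁻¹) := by group
      _ = z * (C.t * c * C.t⁻¹) := by rw [h1]
  · intro c hc hfix
    by_contra hc1
    rw [mem_centralizer_singleton_iff] at hc
    have hcH : c ∈ C.H := by
      rw [C.mem_H]
      calc c * C.t = (C.t * c * C.t⁻¹) * C.t := by rw [hfix]
        _ = C.t * c := by group
    by_cases hcK : c ∈ C.K
    · exact C.E2_comm_K hz hcK hc1 hc.symm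
    · exact C.E2_no_invol hz (C.orderOf_H_not_K hcH hcK) hc

theorem cent_comm {z : G} [Finite (centralizer ({z} : Set G))] (hz : C.E2 z)
    (hinv : C.t * z * C.t⁻¹ = z⁻¹) {c d : G} (hc : c ∈ centralizer ({z} : Set G))
    (hd : d ∈ centralizer ({z} : Set G)) : c * d = d * c := by
  have h1 := C.cent_inverted hz hinv _ (mul_mem hc hd)
  have h2 := C.cent_inverted hz hinv c hc
  have h3 := C.cent_inverted hz hinv d hd
  have h4 : C.t * (c * d) * C.t⁻¹ = (C.t * c * C.t⁻¹) * (C.t * d * C.t⁻¹) := by group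
  rw [h4, h2, h3, mul_inv_rev] at h1
  have h5 : (c⁻¹ * d⁻¹)⁻¹ = (d⁻¹ * c⁻¹)⁻¹ := by rw [h1]
  simpa using h5.symm

theorem cent_odd [Finite G] {z : G} (hz : C.E2 z) : Odd (Nat.card (centralizer ({z} : Set G))) := by
  by_contra h
  rw [Nat.not_odd_iff_even, even_iff_two_dvd] at h
  have : Fact (Nat.Prime 2) := ⟨Nat.prime_two⟩
  obtain ⟨x, hx⟩ := exists_prime_orderOf_dvd_card' (G := centralizer ({z} : Set G)) 2 h
  have h1 : orderOf (x : G) = 2 := by
    rw [← Subgroup.orderOf_coe] at hx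
    exact hx
  have h2 := x.2
  rw [mem_centralizer_singleton_iff] at h2
  exact C.E2_no_invol hz h1 h2

theorem E2_of_mem_cent {z x : G} (hz : C.E2 z) (hx : x ∈ centralizer ({z} : Set G)) (hx1 : x ≠ 1) :
    C.E2 x := by
  refine ⟨hx1, ?_⟩
  rintro ⟨g, k, hk, rfl⟩
  have hk1 : k ≠ 1 := by
    rintro rfl
    apply hx1
    group
  rw [mem_centralizer_singleton_iff] at hx
  have h1 := C.E2_conj hz g⁻¹
  rw [inv_inv] at h1
  refine C.E2_comm_K h1 hk hk1 ?_
  have : g⁻¹ * (g * k * g⁻¹ * z) * g = g⁻¹ * (z * (g * k * g⁻¹)) * g := by rw [hx]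
  calc g⁻¹ * z * g * k = g⁻¹ * (z * (g * k * g⁻¹)) * g := by group
    _ = g⁻¹ * (g * k * g⁻¹ * z) * g := by rw [this]
    _ = k * (g⁻¹ * z * g) := by group

/-- The centralizers of the non-trivial elements of `C(z)`. -/
theorem cent_eq_of_mem [Finite G] {z x : G} (hz : C.E2 z) (hinv : C.t * z * C.t⁻¹ = z⁻¹)
    (hx : x ∈ centralizer ({z} : Set G)) (hx1 : x ≠ 1) :
    centralizer ({x} : Set G) = centralizer ({z} : Set G) := by
  have hEx := C.E2_of_mem_cent hz hx hx1
  have hinvx := C.cent_inverted hz hinv x hx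
  have hzx : z ∈ centralizer ({x} : Set G) := by
    rw [mem_centralizer_singleton_iff] at hx ⊢
    exact hx.symm
  ext c
  constructor
  · intro hc
    have := C.cent_comm hEx hinvx hc hzx
    rw [mem_centralizer_singleton_iff]
    exact this
  · intro hc
    have := C.cent_comm hz hinv hc hx
    rw [mem_centralizer_singleton_iff]
    exact this

theorem t_not_mem_cent [Finite G] {z : G} (hz : C.E2 z) : C.t ∉ centralizer ({z} : Set G) := by
  intro h
  rw [mem_centralizer_singleton_iff] at h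
  exact C.E2_no_invol hz C.ht h

section Count

variable [Fintype G]

theorem invert_of_iv {y a : G} (ha : orderOf a = 2) (hay : orderOf (a * y) = 2) :
    a * y * a⁻¹ = y⁻¹ := by
  have h1 := mul_self_of_orderOf hay
  have h2 := inv_of_orderOf ha
  rw [h2]
  have h3 : a * y * a * y * y⁻¹ = y⁻¹ := by
    rw [show a * y * a * y = a * y * (a * y) by group, h1, one_mul]
  simpa using h3

/-- If `iv y > 0` then some conjugate of `y` is inverted by `t`. -/
theorem exists_conj_inverted {y : G} (h : 0 < iv y) :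
    ∃ g : G, C.t * (g * y * g⁻¹) * C.t⁻¹ = (g * y * g⁻¹)⁻¹ := by
  classical
  obtain ⟨a, ha⟩ := Finset.card_pos.1 h
  obtain ⟨ha1, ha2⟩ := (Finset.mem_filter.1 ha).2
  obtain ⟨g, rfl⟩ := C.exists_conj_t ha1
  refine ⟨g⁻¹, ?_⟩
  have h1 := invert_of_iv ha1 ha2
  calc C.t * (g⁻¹ * y * g⁻¹⁻¹) * C.t⁻¹ = g⁻¹ * ((g * C.t * g⁻¹) * y * (g * C.t * g⁻¹)⁻¹) * g := by
        group
    _ = g⁻¹ * y⁻¹ * g := by rw [h1]
    _ = (g⁻¹ * y * g⁻¹⁻¹)⁻¹ := by group

/-- Lemma R, the count. -/
theorem iv_eq_card_cent {z : G} (hz : C.E2 z) (hinv : C.t * z * C.t⁻¹ = z⁻¹) :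
    iv z = Nat.card (centralizer ({z} : Set G)) := by
  classical
  have hz' : z ∈ centralizer ({z} : Set G) := by
    rw [mem_centralizer_singleton_iff]
  rw [iv, Nat.card_eq_fintype_card, ← Finset.card_univ]
  symm
  refine Finset.card_bij (fun c _ => C.t * (c : G)) ?_ ?_ ?_
  · rintro c -
    have hc := c.2
    have hinvc := C.cent_inverted hz hinv _ hc
    rw [C.tinv] at hinvc
    have hsq : ∀ d ∈ centralizer ({z} : Set G), C.t * d * (C.t * d) = 1 := by
      intro d hd
      have h1 := C.cent_inverted hz hinv d hd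
      rw [C.tinv] at h1
      calc C.t * d * (C.t * d) = (C.t * d * C.t) * d := by group
        _ = 1 := by rw [h1]; group
    have hne : ∀ d ∈ centralizer ({z} : Set G), C.t * d ≠ 1 := by
      intro d hd h1
      apply C.t_not_mem_cent hz
      have : C.t = d⁻¹ := eq_inv_of_mul_eq_one_left h1
      rw [this]
      exact inv_mem hd
    refine Finset.mem_filter.2 ⟨Finset.mem_univ _, orderOf_eq_two (hsq _ hc) (hne _ hc), ?_⟩
    have h2 : C.t * (c : G) * z = C.t * ((c : G) * z) := by group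
    rw [h2]
    exact orderOf_eq_two (hsq _ (mul_mem hc hz')) (hne _ (mul_mem hc hz'))
  · intro c _ d _ h
    exact Subtype.ext (mul_left_cancel h)
  · intro a ha
    obtain ⟨ha1, ha2⟩ := (Finset.mem_filter.1 ha).2
    have h1 := invert_of_iv ha1 ha2
    have hmem : C.t * a ∈ centralizer ({z} : Set G) := by
      rw [mem_centralizer_singleton_iff]
      have h3 := inv_of_orderOf ha1
      rw [h3] at h1
      have h4 := C.tinv
      rw [h4] at hinv
      have ha3 := mul_self_of_orderOf ha1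
      have h5 := C.t2
      calc C.t * a * z = C.t * (a * z * a) * a := by
            simp only [mul_assoc, ha3, mul_one]
        _ = C.t * z⁻¹ * a := by rw [h1]
        _ = (C.t * z⁻¹ * C.t) * C.t * a := by
            simp only [mul_assoc, h5, mul_one]
        _ = z * (C.t * a) := by
            have h6 : C.t * z⁻¹ * C.t = z := by
              calc C.t * z⁻¹ * C.t = (C.t * z * C.t)⁻¹ := by
                    simp only [mul_inv_rev, C.tinv, mul_assoc]
                _ = z := by rw [hinv, inv_inv]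
            rw [h6]
            group
    refine ⟨⟨C.t * a, hmem⟩, Finset.mem_univ _, ?_⟩
    show C.t * (C.t * a) = a
    rw [← mul_assoc, C.t2, one_mul]

/-- Count on `K`: `iv k = |K|` for `1 ≠ k ∈ K`. -/
theorem iv_K {k : G} (hk : k ∈ C.K) (hk1 : k ≠ 1) : iv k = Nat.card C.K := by
  classical
  rw [iv, Nat.card_eq_fintype_card, ← Finset.card_univ]
  symm
  refine Finset.card_bij (fun c _ => (c : G) * C.s) ?_ ?_ ?_
  · rintro c -
    have hc := c.2
    have h1 : (c : G) * C.s ∈ C.H := C.H.mul_mem (C.K_le_H hc) C.s_mem_H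
    have h2 : (c : G) * C.s ∉ C.K := C.ks_not_mem hc
    refine Finset.mem_filter.2 ⟨Finset.mem_univ _, C.orderOf_H_not_K h1 h2, ?_⟩
    have h3 : (c : G) * C.s * k ∈ C.H := C.H.mul_mem h1 (C.K_le_H hk)
    have h4 : (c : G) * C.s * k ∉ C.K := by
      intro h5
      apply h2
      have : (c : G) * C.s = (c : G) * C.s * k * k⁻¹ := by group
      rw [this]
      exact C.K.mul_mem h5 (C.K.inv_mem hk)
    exact C.orderOf_H_not_K h3 h4
  · intro c _ d _ h
    exact Subtype.ext (mul_right_cancel h)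
  · intro a ha
    obtain ⟨ha1, ha2⟩ := (Finset.mem_filter.1 ha).2
    have h1 := invert_of_iv ha1 ha2
    have haH : a ∈ C.H := C.ti hk hk1 (by rw [h1]; exact C.K.inv_mem hk)
    rcases C.mem_H_iff.1 haH with h2 | ⟨c, hc, rfl⟩
    · exfalso
      have h3 : a = C.t := by
        rcases C.K_inv2 h2 (mul_self_of_orderOf ha1) with h4 | h4
        · rw [h4, orderOf_one] at ha1
          norm_num at ha1
        · exact h4
      have h5 : a * k ∈ C.K := C.K.mul_mem h2 hk
      have h6 : a * k = C.t := by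
        rcases C.K_inv2 h5 (mul_self_of_orderOf ha2) with h4 | h4
        · rw [h4, orderOf_one] at ha2
          norm_num at ha2
        · exact h4
      rw [h3] at h6
      exact hk1 (mul_left_cancel (h6.trans (mul_one _).symm))
    · exact ⟨⟨c, hc⟩, Finset.mem_univ _, rfl⟩

/-- The number of conjugating elements. -/
theorem card_conj_eq [DecidableEq G] (w : G) :
    (Finset.univ.filter fun b : G => b * C.t * b⁻¹ = w).card =
      if orderOf w = 2 then Nat.card C.H else 0 := by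
  classical
  split_ifs with hw
  · obtain ⟨g₀, rfl⟩ := C.exists_conj_t hw
    rw [Nat.card_eq_fintype_card, ← Finset.card_univ]
    symm
    refine Finset.card_bij (fun h _ => g₀ * (h : G)) ?_ ?_ ?_
    · rintro h -
      have h1 := h.2
      rw [mem_centralizer_singleton_iff] at h1
      refine Finset.mem_filter.2 ⟨Finset.mem_univ _, ?_⟩
      calc g₀ * (h : G) * C.t * (g₀ * (h : G))⁻¹ = g₀ * ((h : G) * C.t) * (h : G)⁻¹ * g₀⁻¹ := by group
        _ = g₀ * C.t * g₀⁻¹ := by rw [h1]; group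
    · intro a _ b _ h
      exact Subtype.ext (mul_left_cancel h)
    · intro b hb
      have hb' := (Finset.mem_filter.1 hb).2
      have h1 : g₀⁻¹ * b ∈ C.H := by
        rw [mem_centralizer_singleton_iff]
        have h2 : b * C.t = g₀ * C.t * g₀⁻¹ * b := by rw [← hb']; group
        calc g₀⁻¹ * b * C.t = g₀⁻¹ * (b * C.t) := by group
          _ = g₀⁻¹ * (g₀ * C.t * g₀⁻¹ * b) := by rw [h2]
          _ = C.t * (g₀⁻¹ * b) := by group
      exact ⟨⟨g₀⁻¹ * b, h1⟩, Finset.mem_univ _, by simp⟩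
  · rw [Finset.card_eq_zero, Finset.filter_eq_empty_iff]
    rintro b - rfl
    apply hw
    have := (MulAut.conj b).orderOf_eq C.t
    simpa [MulAut.conj_apply, C.ht] using this

/-- The pair count in terms of `iv`. -/
theorem card_pairs_eq [DecidableEq G] (y : G) :
    (Finset.univ.filter fun a : G × G =>
        a.1 * C.t * a.1⁻¹ * (a.2 * C.t * a.2⁻¹) = y).card = Nat.card C.H ^ 2 * iv y := by
  classical
  have hinvol : ∀ a : G, orderOf (a * C.t * a⁻¹) = 2 := by
    intro a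
    have := (MulAut.conj a).orderOf_eq C.t
    simpa [MulAut.conj_apply, C.ht] using this
  have h1 : (Finset.univ.filter fun a : G × G =>
        a.1 * C.t * a.1⁻¹ * (a.2 * C.t * a.2⁻¹) = y).card =
      ∑ a : G, (Finset.univ.filter fun b : G => b * C.t * b⁻¹ = (a * C.t * a⁻¹) * y).card := by
    rw [Finset.card_filter, Fintype.sum_prod_type]
    refine Finset.sum_congr rfl fun a _ => ?_
    rw [Finset.card_filter]
    refine Finset.sum_congr rfl fun b _ => ?_
    have h2 : (a * C.t * a⁻¹) * (a * C.t * a⁻¹) = 1 := mul_self_of_orderOf (hinvol a)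
    have h3 : a * C.t * a⁻¹ * (b * C.t * b⁻¹) = y ↔ b * C.t * b⁻¹ = a * C.t * a⁻¹ * y := by
      constructor
      · rintro rfl
        rw [← mul_assoc, h2, one_mul]
      · intro h
        rw [h, ← mul_assoc, h2, one_mul]
    simp only [h3]
  rw [h1]
  simp_rw [C.card_conj_eq]
  have h4 : ∀ a : G, (if orderOf (a * C.t * a⁻¹ * y) = 2 then Nat.card C.H else 0) =
      Nat.card C.H * (if orderOf (a * C.t * a⁻¹ * y) = 2 then 1 else 0) := by
    intro a
    split_ifs <;> simp
  simp_rw [h4]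
  rw [← Finset.mul_sum, pow_two, mul_assoc]
  congr 1
  rw [iv, Finset.card_eq_sum_ones, Finset.sum_filter]
  -- sum over `a` through the involution `u = a t a⁻¹`
  have h5 : ∀ f : G → ℕ, ∑ a : G, f (a * C.t * a⁻¹) =
      Nat.card C.H * ∑ u : G, if orderOf u = 2 then f u else 0 := by
    intro f
    rw [← Finset.sum_fiberwise (s := Finset.univ) (g := fun a : G => a * C.t * a⁻¹)
      (f := fun a => f (a * C.t * a⁻¹)), Finset.mul_sum]
    refine Finset.sum_congr rfl fun u _ => ?_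
    rw [Finset.sum_congr rfl (g := fun _ => f u) (fun a ha => by
      rw [(Finset.mem_filter.1 ha).2])]
    rw [Finset.sum_const, C.card_conj_eq, smul_eq_mul]
    split_ifs <;> simp
  rw [h5 (fun u => if orderOf (u * y) = 2 then 1 else 0)]
  congr 1
  refine Finset.sum_congr rfl fun u _ => ?_
  by_cases hu : orderOf u = 2 <;> simp [hu]

end Count

/-- Counting the conjugates of a set `A` with control by a subgroup `W`. -/
theorem card_conj_union {G : Type u} [Group G] [Fintype G] [DecidableEq G] (W : Subgroup G)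
    (A : Finset G)
    (hA : ∀ h ∈ W, ∀ x ∈ A, h * x * h⁻¹ ∈ A) (hW : ∀ x ∈ A, ∀ g : G, g * x * g⁻¹ ∈ A → g ∈ W) :
    ((Finset.univ ×ˢ A).image fun p : G × G => p.1 * p.2 * p.1⁻¹).card * Nat.card W =
      Fintype.card G * A.card := by
  classical
  have h1 := Finset.card_eq_sum_card_image (fun p : G × G => p.1 * p.2 * p.1⁻¹) (Finset.univ ×ˢ A)
  rw [Finset.card_product, Finset.card_univ] at h1
  rw [h1, Finset.card_eq_sum_ones ((Finset.univ ×ˢ A).image _), Finset.sum_mul]
  refine Finset.sum_congr rfl fun y hy => ?_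
  rw [one_mul, Nat.card_eq_fintype_card, ← Finset.card_univ]
  obtain ⟨⟨g₀, x₀⟩, hp, rfl⟩ := Finset.mem_image.1 hy
  have hx₀ : x₀ ∈ A := (Finset.mem_product.1 hp).2
  refine Finset.card_bij (fun h _ => (g₀ * (h : G), (h : G)⁻¹ * x₀ * h)) ?_ ?_ ?_
  · rintro h -
    refine Finset.mem_filter.2 ⟨Finset.mem_product.2 ⟨Finset.mem_univ _, ?_⟩, ?_⟩
    · have := hA _ (W.inv_mem h.2) x₀ hx₀
      simpa using this
    · show g₀ * (h : G) * ((h : G)⁻¹ * x₀ * h) * (g₀ * (h : G))⁻¹ = g₀ * x₀ * g₀⁻¹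
      group
  · intro a _ b _ h
    have := congrArg Prod.fst h
    exact Subtype.ext (mul_left_cancel this)
  · rintro ⟨g, x⟩ hb
    obtain ⟨hb1, hb2⟩ := Finset.mem_filter.1 hb
    have hx : x ∈ A := (Finset.mem_product.1 hb1).2
    have hb2' : g * x * g⁻¹ = g₀ * x₀ * g₀⁻¹ := hb2
    have h2 : (g₀⁻¹ * g) * x * (g₀⁻¹ * g)⁻¹ = x₀ := by
      calc (g₀⁻¹ * g) * x * (g₀⁻¹ * g)⁻¹ = g₀⁻¹ * (g * x * g⁻¹) * g₀ := by group
        _ = x₀ := by rw [hb2']; group
    have h3 : g₀⁻¹ * g ∈ W := hW x hx _ (by rw [h2]; exact hx₀)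
    refine ⟨⟨g₀⁻¹ * g, h3⟩, Finset.mem_univ _, ?_⟩
    refine Prod.ext ?_ ?_
    · show g₀ * (g₀⁻¹ * g) = g
      group
    · show (g₀⁻¹ * g)⁻¹ * x₀ * (g₀⁻¹ * g) = x
      rw [← h2]
      group

end Conf

end Cfsg.Agent.Lib.Zass.BSWGroup
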