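import Mathlib

/-!
# Brauer–Suzuki–Wall: the integer-vector combinatorics

`VD` packages the integer vectors `U l` (multiplicities of `1 - l` induced from the abelian group
`K`) and the numerical relations among them; `Fam` is the resulting family of characters.
-/

set_option autoImplicit false
set_option linter.unusedSectionVars false
set_option linter.unreachableTactic false
set_option linter.unusedTactic false

namespace Cfsg.Agent.Lib.Zass.BSWVec

open Finset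

universe u v

theorem sum_three_int {X : Type u} [Fintype X] [DecidableEq X] (x a b : X) (s t : ℤ) (g : X → ℤ) :
    ∑ χ, ((if χ = x then (1 : ℤ) else 0) + (if χ = a then s else 0) + (if χ = b then t else 0)) * g χ
      = g x + s * g a + t * g b := by
  simp [add_mul, Finset.sum_add_distrib, ite_mul]

theorem support_of_norm {X : Type u} [Fintype X] [DecidableEq X] (f : X → ℤ) (x0 : X)
    (hx0 : f x0 = 1) (m : ℕ) (hm : m ≤ 3) (h : ∑ χ, f χ * f χ = m + 1) :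
    ∃ S : Finset X, S.card = m ∧ x0 ∉ S ∧ (∀ χ ∈ S, f χ = 1 ∨ f χ = -1) ∧
      ∀ χ, χ ≠ x0 → χ ∉ S → f χ = 0 := by
  have h1 : ∑ χ ∈ univ.erase x0, f χ * f χ = m := by
    have := Finset.add_sum_erase univ (fun χ => f χ * f χ) (Finset.mem_univ x0)
    simp only [hx0] at this
    linarith
  have h2 : ∀ χ, χ ≠ x0 → f χ * f χ ≤ m := by
    intro χ hχ
    rw [← h1]
    exact Finset.single_le_sum (f := fun χ => f χ * f χ) (fun i _ => mul_self_nonneg _)
      (Finset.mem_erase.2 ⟨hχ, Finset.mem_univ _⟩)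
  have h3 : ∀ χ, χ ≠ x0 → f χ = 0 ∨ f χ = 1 ∨ f χ = -1 := by
    intro χ hχ
    have h4 := h2 χ hχ
    have h5 : (m : ℤ) ≤ 3 := by exact_mod_cast hm
    have h6 : f χ ≤ 1 := by nlinarith
    have h7 : -1 ≤ f χ := by nlinarith
    have : f χ = -1 ∨ f χ = 0 ∨ f χ = 1 := by omega
    tauto
  refine ⟨(univ.erase x0).filter (fun χ => f χ ≠ 0), ?_, ?_, ?_, ?_⟩
  · have h4 : ∑ χ ∈ univ.erase x0, f χ * f χ =
        ∑ χ ∈ (univ.erase x0).filter (fun χ => f χ ≠ 0), (1 : ℤ) := by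
      rw [Finset.sum_filter]
      refine Finset.sum_congr rfl fun χ hχ => ?_
      have hχ0 : χ ≠ x0 := (Finset.mem_erase.1 hχ).1
      rcases h3 χ hχ0 with h5 | h5 | h5 <;> simp [h5]
    rw [h1] at h4
    simp only [Finset.sum_const, nsmul_eq_mul, mul_one] at h4
    exact_mod_cast h4.symm
  · simp
  · intro χ hχ
    have h4 := Finset.mem_filter.1 hχ
    have h5 := (Finset.mem_erase.1 h4.1).1
    rcases h3 χ h5 with h6 | h6 | h6
    · exact absurd h6 h4.2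
    · exact Or.inl h6
    · exact Or.inr h6
  · intro χ hχ0 hχ
    by_contra h4
    exact hχ (Finset.mem_filter.2 ⟨Finset.mem_erase.2 ⟨hχ0, Finset.mem_univ _⟩, h4⟩)

/-- The numerical data. -/
structure VD (X : Type u) (L : Type v) [Fintype X] [DecidableEq X] [Fintype L] [DecidableEq L] where
  x0 : X
  l0 : L
  nu : L
  cj : L → L
  U : L → X → ℤ
  deg : X → ℕ
  r : X → ℤ
  sgn : L → ℤ
  c : ℚ
  N : ℕ
  deg_pos : ∀ χ, 0 < deg χ
  deg_x0 : deg x0 = 1
  r_x0 : r x0 = 1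
  U_x0 : ∀ l, l ≠ l0 → U l x0 = 1
  U_l0 : ∀ χ, U l0 χ = 0
  gram : ∀ l l', l ≠ l0 → l' ≠ l0 →
    ∑ χ, U l χ * U l' χ = 2 + (if l' = l then 1 else 0) + (if l' = cj l then 1 else 0)
  U_cj : ∀ l χ, U (cj l) χ = U l χ
  cj_cj : ∀ l, cj (cj l) = l
  real_iff : ∀ l, cj l = l ↔ l = l0 ∨ l = nu
  nu_ne : nu ≠ l0
  degsum : ∀ l, l ≠ l0 → ∑ χ, U l χ * (deg χ : ℤ) = 0
  par_nu : ∀ χ, Even (U nu χ - deg χ)
  par_r : ∀ χ, Even (r χ - deg χ)
  sgn_vals : ∀ l, sgn l = 1 ∨ sgn l = -1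
  sgn_l0 : sgn l0 = 1
  sgn_cj : ∀ l, sgn (cj l) = sgn l
  sum_sgn : ∑ l, sgn l = 0
  tsum : ∀ l, l ≠ l0 → ∑ χ, U l χ * r χ = 2 - 2 * sgn l
  wsum : ∀ l, l ≠ l0 → ∑ χ, ((r χ : ℚ) ^ 2 / deg χ) * (U l χ : ℚ) = c
  c_pos : 0 < c
  fourier : ∀ χ, r χ = - ∑ l, U l χ * sgn l
  dvd_N : ∀ χ, r χ * r χ = 1 → deg χ ∣ N
  N_pos : 0 < N
  c_N : c * N = 2 * (Fintype.card L : ℚ) ^ 2

namespace VD

variable {X : Type u} {L : Type v} [Fintype X] [DecidableEq X] [Fintype L] [DecidableEq L]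
  (V : VD X L)

/-- Non-real characters. -/
def NR (l : L) : Prop := l ≠ V.l0 ∧ l ≠ V.nu

theorem cj_l0 : V.cj V.l0 = V.l0 := (V.real_iff _).2 (Or.inl rfl)
theorem cj_nu : V.cj V.nu = V.nu := (V.real_iff _).2 (Or.inr rfl)

variable {V}

theorem NR.cj_ne {l : L} (h : V.NR l) : V.cj l ≠ l := fun h' => by
  rcases (V.real_iff l).1 h' with h1 | h1
  · exact h.1 h1
  · exact h.2 h1

theorem NR.cj {l : L} (h : V.NR l) : V.NR (V.cj l) := by
  refine ⟨fun h1 => h.1 ?_, fun h1 => h.2 ?_⟩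
  · have := V.cj_cj l
    rw [h1, V.cj_l0] at this
    exact this.symm
  · have := V.cj_cj l
    rw [h1, V.cj_nu] at this
    exact this.symm

variable (V)

theorem norm_nu : ∑ χ, V.U V.nu χ * V.U V.nu χ = 4 := by
  rw [V.gram _ _ V.nu_ne V.nu_ne, if_pos rfl, if_pos V.cj_nu.symm]
  norm_num

theorem norm_nr {l : L} (h : V.NR l) : ∑ χ, V.U l χ * V.U l χ = 3 := by
  rw [V.gram _ _ h.1 h.1, if_pos rfl, if_neg (fun h' => h.cj_ne h'.symm)]
  norm_num

theorem exists_supp_nu : ∃ S : Finset X, S.card = 3 ∧ V.x0 ∉ S ∧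
    (∀ χ ∈ S, V.U V.nu χ = 1 ∨ V.U V.nu χ = -1) ∧ ∀ χ, χ ≠ V.x0 → χ ∉ S → V.U V.nu χ = 0 :=
  support_of_norm _ _ (V.U_x0 _ V.nu_ne) 3 le_rfl (by rw [V.norm_nu]; norm_num)

theorem U_nu_vals (χ : X) : V.U V.nu χ = 0 ∨ V.U V.nu χ = 1 ∨ V.U V.nu χ = -1 := by
  obtain ⟨S, -, -, h1, h2⟩ := V.exists_supp_nu
  by_cases h3 : χ = V.x0
  · right; left; rw [h3]; exact V.U_x0 _ V.nu_ne
  · by_cases h4 : χ ∈ S
    · exact Or.inr (h1 χ h4)
    · exact Or.inl (h2 χ h3 h4)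

theorem U_nu_eq_zero_of_even {χ : X} (h : Even (V.deg χ)) : V.U V.nu χ = 0 := by
  have h1 := V.par_nu χ
  have h2 : Even (V.deg χ : ℤ) := by exact_mod_cast h
  have h3 : Even (V.U V.nu χ) := by
    have := h1.add h2
    simpa using this
  rcases V.U_nu_vals χ with h4 | h4 | h4
  · exact h4
  · rw [h4] at h3; exact absurd h3 (by decide)
  · rw [h4] at h3; exact absurd h3 (by decide)

theorem odd_of_U_nu_ne {χ : X} (h : V.U V.nu χ ≠ 0) : Odd (V.deg χ) := by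
  by_contra h1
  rw [Nat.not_odd_iff_even] at h1
  exact h (V.U_nu_eq_zero_of_even h1)

/-- Shape of the vector attached to a non-real character. -/
structure IsDec (l : L) (A B : X) (b : ℤ) : Prop where
  hA : A ≠ V.x0
  hB : B ≠ V.x0
  hAB : A ≠ B
  oddA : Odd (V.deg A)
  evenB : Even (V.deg B)
  hb : b = 1 ∨ b = -1
  hs : V.U V.nu A = 1 ∨ V.U V.nu A = -1
  hU : ∀ χ, V.U l χ = (if χ = V.x0 then (1 : ℤ) else 0) + (if χ = A then V.U V.nu A else 0) +
    (if χ = B then b else 0)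

variable {V}

theorem IsDec.sum_int {l : L} {A B : X} {b : ℤ} (h : V.IsDec l A B b) (g : X → ℤ) :
    ∑ χ, V.U l χ * g χ = g V.x0 + V.U V.nu A * g A + b * g B := by
  simp_rw [h.hU]
  exact sum_three_int _ _ _ _ _ _

theorem IsDec.sum_rat {l : L} {A B : X} {b : ℤ} (h : V.IsDec l A B b) (g : X → ℚ) :
    ∑ χ, g χ * (V.U l χ : ℚ) = g V.x0 + (V.U V.nu A : ℚ) * g A + (b : ℚ) * g B := by
  simp_rw [h.hU]
  push_cast
  simp [mul_add, Finset.sum_add_distrib, mul_ite, mul_comm]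

variable (V)

theorem sum_nu_nr {l : L} (h : V.NR l) : ∑ χ, V.U V.nu χ * V.U l χ = 2 := by
  rw [V.gram _ _ V.nu_ne h.1, if_neg h.2, V.cj_nu, if_neg h.2]
  norm_num

theorem exists_dec {l : L} (hl : V.NR l) : ∃ A B b, V.IsDec l A B b := by
  obtain ⟨S, hS, hS0, hS1, hS2⟩ := support_of_norm (V.U l) V.x0 (V.U_x0 _ hl.1) 2 (by norm_num)
    (by rw [V.norm_nr hl]; norm_num)
  obtain ⟨a, d, had, rfl⟩ := Finset.card_eq_two.1 hS
  have ha0 : a ≠ V.x0 := fun h => hS0 (by simp [h])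
  have hd0 : d ≠ V.x0 := fun h => hS0 (by simp [h])
  have hform : ∀ χ, V.U l χ = (if χ = V.x0 then (1 : ℤ) else 0) + (if χ = a then V.U l a else 0) +
      (if χ = d then V.U l d else 0) := by
    intro χ
    by_cases h0 : χ = V.x0
    · subst h0
      rw [if_pos rfl, if_neg (Ne.symm ha0), if_neg (Ne.symm hd0), V.U_x0 _ hl.1]
      norm_num
    · by_cases h1 : χ = a
      · subst h1
        rw [if_neg h0, if_pos rfl, if_neg had]
        norm_num
      · by_cases h2 : χ = d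
        · subst h2
          rw [if_neg h0, if_neg h1, if_pos rfl]
          norm_num
        · rw [if_neg h0, if_neg h1, if_neg h2]
          have := hS2 χ h0 (by simp [h1, h2])
          rw [this]
          norm_num
  have hsa := hS1 a (by simp)
  have hsd := hS1 d (by simp)
  have hsum : ∀ g : X → ℤ, ∑ χ, V.U l χ * g χ = g V.x0 + V.U l a * g a + V.U l d * g d := by
    intro g
    rw [← sum_three_int V.x0 a d (V.U l a) (V.U l d) g]
    exact Finset.sum_congr rfl fun χ _ => by rw [← hform χ]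
  have hdeg := V.degsum l hl.1
  rw [hsum, V.deg_x0] at hdeg
  have hgram := V.sum_nu_nr hl
  simp_rw [mul_comm (V.U V.nu _)] at hgram
  rw [hsum, V.U_x0 _ V.nu_ne] at hgram
  -- parity: exactly one of the two degrees is odd
  have hpar : (Odd (V.deg a) ∧ Even (V.deg d)) ∨ (Even (V.deg a) ∧ Odd (V.deg d)) := by
    rcases Nat.even_or_odd (V.deg a) with h1 | h1 <;> rcases Nat.even_or_odd (V.deg d) with h2 | h2
    · exfalso
      obtain ⟨x, hx⟩ := h1
      obtain ⟨y, hy⟩ := h2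
      rw [hx, hy] at hdeg
      push_cast at hdeg
      rcases hsa with h3 | h3 <;> rcases hsd with h4 | h4 <;> rw [h3, h4] at hdeg <;> omega
    · exact Or.inr ⟨h1, h2⟩
    · exact Or.inl ⟨h1, h2⟩
    · exfalso
      obtain ⟨x, hx⟩ := h1
      obtain ⟨y, hy⟩ := h2
      rw [hx, hy] at hdeg
      push_cast at hdeg
      rcases hsa with h3 | h3 <;> rcases hsd with h4 | h4 <;> rw [h3, h4] at hdeg <;> omega
  rcases hpar with ⟨h1, h2⟩ | ⟨h1, h2⟩
  · have h3 := V.U_nu_eq_zero_of_even h2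
    rw [h3] at hgram
    have h4 : V.U l a = V.U V.nu a := by
      rcases hsa with h5 | h5 <;> rw [h5] at hgram ⊢ <;> omega
    have h5 : V.U V.nu a = 1 ∨ V.U V.nu a = -1 := by rw [← h4]; exact hsa
    refine ⟨a, d, V.U l d, ha0, hd0, had, h1, h2, hsd, h5, ?_⟩
    intro χ
    rw [← h4]
    exact hform χ
  · have h3 := V.U_nu_eq_zero_of_even h1
    rw [h3] at hgram
    have h4 : V.U l d = V.U V.nu d := by
      rcases hsd with h5 | h5 <;> rw [h5] at hgram ⊢ <;> omega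
    have h5 : V.U V.nu d = 1 ∨ V.U V.nu d = -1 := by rw [← h4]; exact hsd
    refine ⟨d, a, V.U l a, hd0, ha0, had.symm, h2, h1, hsa, h5, ?_⟩
    intro χ
    rw [← h4, hform χ]
    ring

theorem even_ne_odd {a b : X} (h1 : Odd (V.deg a)) (h2 : Even (V.deg b)) : a ≠ b := by
  rintro rfl
  exact (Nat.not_even_iff_odd.2 h1) h2

/-- The "star" lemma: the odd constituent is the same for characters of different sign at `t`. -/
theorem star {l₁ l₂ : L} (h₁ : V.NR l₁) (h₂ : V.NR l₂) (hs : V.sgn l₁ ≠ V.sgn l₂) {A₁ B₁ A₂ B₂ : X}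
    {b₁ b₂ : ℤ} (d₁ : V.IsDec l₁ A₁ B₁ b₁) (d₂ : V.IsDec l₂ A₂ B₂ b₂) : A₁ = A₂ := by
  by_contra hne
  have hl12 : l₂ ≠ l₁ := fun h => hs (by rw [h])
  have hl12' : l₂ ≠ V.cj l₁ := fun h => hs (by rw [h, V.sgn_cj])
  have hg := V.gram l₁ l₂ h₁.1 h₂.1
  rw [if_neg hl12, if_neg hl12', d₁.sum_int] at hg
  have hU1 : V.U l₂ V.x0 = 1 := V.U_x0 _ h₂.1
  have hU2 : V.U l₂ A₁ = 0 := by
    rw [d₂.hU, if_neg d₁.hA, if_neg hne, if_neg (V.even_ne_odd d₁.oddA d₂.evenB)]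
    norm_num
  have hU3 : V.U l₂ B₁ = if B₁ = B₂ then b₂ else 0 := by
    rw [d₂.hU, if_neg d₁.hB, if_neg (V.even_ne_odd d₂.oddA d₁.evenB).symm]
    norm_num
  rw [hU1, hU2, hU3] at hg
  have hBB : B₁ = B₂ := by
    by_contra h
    rw [if_neg h] at hg
    norm_num at hg
  subst hBB
  rw [if_pos rfl] at hg
  have hbb : b₁ = b₂ := by
    rcases d₁.hb with h3 | h3 <;> rcases d₂.hb with h4 | h4 <;> rw [h3, h4] at hg ⊢ <;> omega
  subst hbb
  -- degrees
  have hd₁ := V.degsum l₁ h₁.1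
  have hd₂ := V.degsum l₂ h₂.1
  rw [d₁.sum_int] at hd₁
  rw [d₂.sum_int] at hd₂
  have hp₁ := V.deg_pos A₁
  have hp₂ := V.deg_pos A₂
  have hsdeg : V.U V.nu A₁ * V.deg A₁ = V.U V.nu A₂ * V.deg A₂ := by linarith
  have hss : V.U V.nu A₁ = V.U V.nu A₂ ∧ V.deg A₁ = V.deg A₂ := by
    rcases d₁.hs with h3 | h3 <;> rcases d₂.hs with h4 | h4 <;> rw [h3, h4] at hsdeg ⊢ <;>
      constructor <;> omega
  -- weights
  have hw₁ := V.wsum l₁ h₁.1
  have hw₂ := V.wsum l₂ h₂.1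
  rw [d₁.sum_rat] at hw₁
  rw [d₂.sum_rat] at hw₂
  rw [← hss.1, ← hss.2] at hw₂
  have hs0 : (V.U V.nu A₁ : ℚ) ≠ 0 := by
    rcases d₁.hs with h3 | h3 <;> rw [h3] <;> norm_num
  have hq0 : (V.deg A₁ : ℚ) ≠ 0 := by
    exact_mod_cast hp₁.ne'
  have hr : (V.r A₁ : ℚ) ^ 2 = (V.r A₂ : ℚ) ^ 2 := by
    have h5 : (V.U V.nu A₁ : ℚ) * ((V.r A₁ : ℚ) ^ 2 / V.deg A₁) =
        (V.U V.nu A₁ : ℚ) * ((V.r A₂ : ℚ) ^ 2 / V.deg A₁) := by linarith
    have h6 := mul_left_cancel₀ hs0 h5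
    field_simp at h6
    exact h6
  have hr' : V.r A₁ * V.r A₁ = V.r A₂ * V.r A₂ := by
    have : ((V.r A₁ * V.r A₁ : ℤ) : ℚ) = ((V.r A₂ * V.r A₂ : ℤ) : ℚ) := by
      push_cast
      nlinarith
    exact_mod_cast this
  -- at `t`
  have ht₁ := V.tsum l₁ h₁.1
  have ht₂ := V.tsum l₂ h₂.1
  rw [d₁.sum_int] at ht₁
  rw [d₂.sum_int, ← hss.1] at ht₂
  have hdiff : V.U V.nu A₁ * (V.r A₁ - V.r A₂) = 2 * (V.sgn l₂ - V.sgn l₁) := by linarith
  have hcases : V.r A₁ = V.r A₂ ∨ V.r A₁ = - V.r A₂ := by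
    have : (V.r A₁ - V.r A₂) * (V.r A₁ + V.r A₂) = 0 := by linarith [hr']
    rcases mul_eq_zero.1 this with h | h
    · left; linarith
    · right; linarith
  have hoddr : Odd (V.r A₁) := by
    have h5 := V.par_r A₁
    have h6 : Odd (V.deg A₁ : ℤ) := by exact_mod_cast d₁.oddA
    have := h5.add_odd h6
    simpa using this
  obtain ⟨z, hz⟩ := hoddr
  have hsv1 := V.sgn_vals l₁
  have hsv2 := V.sgn_vals l₂
  rcases hcases with h5 | h5
  · rw [h5] at hdiff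
    rcases hsv1 with h6 | h6 <;> rcases hsv2 with h7 | h7 <;> simp [h6, h7] at hs hdiff
  · rw [h5] at hz hdiff
    rcases hsv1 with h6 | h6 <;> rcases hsv2 with h7 | h7 <;> rw [h6, h7] at hdiff <;>
      rcases d₁.hs with h8 | h8 <;> rw [h8] at hdiff
    all_goals (first | (exfalso; simp [h6, h7] at hs; done) | omega)

theorem dec_unique {l₁ l₂ : L} (hU : ∀ χ, V.U l₁ χ = V.U l₂ χ) {A₁ B₁ A₂ B₂ : X}
    {b₁ b₂ : ℤ} (d₁ : V.IsDec l₁ A₁ B₁ b₁) (d₂ : V.IsDec l₂ A₂ B₂ b₂) : A₁ = A₂ := by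
  by_contra hne
  have h1 : V.U l₂ A₂ = V.U V.nu A₂ := by
    rw [d₂.hU, if_neg d₂.hA, if_pos rfl, if_neg d₂.hAB]
    norm_num
  have h2 : V.U l₁ A₂ = 0 := by
    rw [d₁.hU, if_neg d₂.hA, if_neg (Ne.symm hne), if_neg (V.even_ne_odd d₂.oddA d₁.evenB)]
    norm_num
  have h3 := hU A₂
  rw [h1, h2] at h3
  rcases d₂.hs with h4 | h4 <;> rw [h4] at h3 <;> norm_num at h3

theorem exists_other_sign {l₁ l₂ : L} (h₁ : V.NR l₁) (h₂ : V.NR l₂) (hs : V.sgn l₁ = V.sgn l₂)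
    (hne : l₂ ≠ l₁) (hne' : l₂ ≠ V.cj l₁) : ∃ l₃, V.NR l₃ ∧ V.sgn l₃ ≠ V.sgn l₁ := by
  set σ := V.sgn l₁ with hσ
  have hσ2 : σ = 1 ∨ σ = -1 := V.sgn_vals l₁
  set P := univ.filter (fun l => V.sgn l = σ) with hP
  set P' := univ.filter (fun l => ¬ V.sgn l = σ) with hP'
  have hsum : (P.card : ℤ) = P'.card := by
    have h1 := V.sum_sgn
    rw [← Finset.sum_filter_add_sum_filter_not univ (fun l => V.sgn l = σ)] at h1
    have h2 : ∑ l ∈ P, V.sgn l = P.card * σ := by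
      rw [Finset.sum_congr rfl (fun l hl => (Finset.mem_filter.1 hl).2)]
      simp [hP]
    have h3 : ∑ l ∈ P', V.sgn l = P'.card * (-σ) := by
      have : ∀ l ∈ P', V.sgn l = -σ := by
        intro l hl
        have h4 := (Finset.mem_filter.1 hl).2
        rcases V.sgn_vals l with h5 | h5 <;> rcases hσ2 with h6 | h6 <;> rw [h5] at h4 ⊢ <;> rw [h6] at h4 ⊢ <;>
          simp at h4 ⊢
      rw [Finset.sum_congr rfl this]
      simp [hP']
    rw [h2, h3] at h1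
    have h4 : ((P.card : ℤ) - P'.card) * σ = 0 := by linarith
    rcases mul_eq_zero.1 h4 with h5 | h5
    · linarith
    · rcases hσ2 with h6 | h6 <;> rw [h6] at h5 <;> norm_num at h5
  have h4 : ({l₁, V.cj l₁, l₂, V.cj l₂} : Finset L).card = 4 := by
    have h5 : V.cj l₂ ≠ l₁ := fun h => hne' (by rw [← h, V.cj_cj])
    have h6 : V.cj l₂ ≠ V.cj l₁ := fun h => hne (by rw [← V.cj_cj l₂, h, V.cj_cj])
    rw [Finset.card_insert_of_notMem, Finset.card_insert_of_notMem, Finset.card_insert_of_notMem,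
      Finset.card_singleton]
    · simp only [Finset.mem_singleton]
      exact fun h => h₂.cj_ne h.symm
    · simp only [Finset.mem_insert, Finset.mem_singleton, not_or]
      exact ⟨fun h => hne' h.symm, fun h => h6 h.symm⟩
    · simp only [Finset.mem_insert, Finset.mem_singleton, not_or]
      exact ⟨fun h => h₁.cj_ne h.symm, fun h => hne h.symm, fun h => h5 h.symm⟩
  have h5 : ({l₁, V.cj l₁, l₂, V.cj l₂} : Finset L) ⊆ P := by
    intro l hl
    simp only [Finset.mem_insert, Finset.mem_singleton] at hl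
    refine Finset.mem_filter.2 ⟨Finset.mem_univ _, ?_⟩
    rcases hl with rfl | rfl | rfl | rfl
    · rfl
    · rw [V.sgn_cj]
    · exact hs.symm
    · rw [V.sgn_cj]; exact hs.symm
  have h6 : 4 ≤ P.card := h4 ▸ Finset.card_le_card h5
  have h7 : 4 ≤ P'.card := by
    have : (P.card : ℤ) ≤ P'.card := hsum.le
    have h8 : P.card ≤ P'.card := by exact_mod_cast this
    omega
  have h8 : ({V.l0, V.nu} : Finset L).card < P'.card :=
    lt_of_le_of_lt (Finset.card_le_two) (by omega)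
  obtain ⟨l₃, hl₃, hl₃'⟩ := Finset.exists_mem_notMem_of_card_lt_card h8
  simp only [Finset.mem_insert, Finset.mem_singleton, not_or] at hl₃'
  exact ⟨l₃, ⟨hl₃'.1, hl₃'.2⟩, (Finset.mem_filter.1 hl₃).2⟩

/-- All non-real characters have the same odd constituent. -/
theorem dec_eq {l₀ l : L} (h₀ : V.NR l₀) (h : V.NR l) {A₀ B₀ A B : X} {b₀ b : ℤ}
    (d₀ : V.IsDec l₀ A₀ B₀ b₀) (d : V.IsDec l A B b) : A = A₀ := by
  by_cases hs : V.sgn l = V.sgn l₀
  · by_cases h1 : l = l₀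
    · subst h1
      exact V.dec_unique (fun _ => rfl) d d₀
    · by_cases h2 : l = V.cj l₀
      · subst h2
        exact V.dec_unique (V.U_cj _) d d₀
      · obtain ⟨l₃, h₃, hs₃⟩ := V.exists_other_sign h₀ h hs.symm h1 h2
        obtain ⟨A₃, B₃, b₃, d₃⟩ := V.exists_dec h₃
        have e1 := V.star h₃ h₀ hs₃ d₃ d₀
        have e2 := V.star h₃ h (by rw [hs]; exact hs₃) d₃ d
        rw [← e2, e1]
  · exact V.star h h₀ hs d d₀

end VD

/-- The outcome of the vector combinatorics. -/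
structure Fam {X : Type u} {L : Type v} [Fintype X] [DecidableEq X] [Fintype L] [DecidableEq L]
    (V : VD X L) where
  q : ℕ
  ε : ℤ
  ξ : X
  η₂ : X
  η₃ : X
  hε : ε = 1 ∨ ε = -1
  hq : 3 ≤ q
  oddq : Odd q
  deg_ξ : V.deg ξ = q
  deg_η₂ : 2 * (V.deg η₂ : ℤ) = q + ε
  deg_η₃ : 2 * (V.deg η₃ : ℤ) = q + ε
  ξ_ne : ξ ≠ V.x0
  η₂_ne : η₂ ≠ V.x0
  η₃_ne : η₃ ≠ V.x0
  ξη₂ : ξ ≠ η₂
  ξη₃ : ξ ≠ η₃
  η₂₃ : η₂ ≠ η₃
  U_ξ : ∀ l, l ≠ V.l0 → V.U l ξ = ε
  U_nu : ∀ χ, V.U V.nu χ = (if χ = V.x0 then (1 : ℤ) else 0) + (if χ = ξ then ε else 0) +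
    (if χ = η₂ then -ε else 0) + (if χ = η₃ then -ε else 0)
  r_ξ : V.r ξ = ε
  r_η₂ : V.r η₂ * V.r η₂ = 1
  r_η₃ : V.r η₃ * V.r η₃ = 1
  rest : ∀ χ, χ ≠ V.x0 → χ ≠ ξ → χ ≠ η₂ → χ ≠ η₃ → V.r χ ≠ 0 → (V.deg χ : ℤ) = q + ε ∧
    ∃ l, l ≠ V.l0 ∧ ∀ χ', V.U l χ' = (if χ' = V.x0 then (1 : ℤ) else 0) +
      (if χ' = ξ then ε else 0) + (if χ' = χ then -ε else 0)
  c_eq : V.c * (q * (q + ε)) = (q - ε) ^ 2

namespace VD

variable {X : Type u} {L : Type v} [Fintype X] [DecidableEq X] [Fintype L] [DecidableEq L]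
  (V : VD X L)

theorem sum_sgn_erase : ∑ l ∈ univ.erase V.l0, V.sgn l = -1 := by
  have := Finset.add_sum_erase univ V.sgn (Finset.mem_univ V.l0)
  rw [V.sum_sgn, V.sgn_l0] at this
  linarith

/-- The family, when there are non-real characters. -/
theorem exists_fam_nr {l₀ : L} (h₀ : V.NR l₀) : Nonempty (Fam V) := by
  obtain ⟨ξ, B₀, b₀, d₀⟩ := V.exists_dec h₀
  set ε := V.U V.nu ξ with hεdef
  have hε : ε = 1 ∨ ε = -1 := d₀.hs
  have hε2 : ε * ε = 1 := by rcases hε with h | h <;> rw [h] <;> norm_num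
  set q := V.deg ξ with hqdef
  have hqpos : 0 < q := V.deg_pos ξ
  -- the decomposition for every non-real character
  have hdec : ∀ l, V.NR l → ∃ B, V.IsDec l ξ B (-ε) ∧ (V.deg B : ℤ) = q + ε := by
    intro l hl
    obtain ⟨A, B, b, d⟩ := V.exists_dec hl
    have e := V.dec_eq h₀ hl d₀ d
    subst e
    have h1 := V.degsum l hl.1
    rw [d.sum_int, V.deg_x0] at h1
    have hB := V.deg_pos B
    have h2 : b = -ε := by
      rcases d.hb with h3 | h3 <;> rcases hε with h4 | h4 <;> rw [h3] at h1 ⊢ <;>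
        rw [← hεdef, h4] at h1 <;> rw [h4] <;> first | rfl | (push_cast at h1; omega)
    subst h2
    refine ⟨B, d, ?_⟩
    rw [← hεdef] at h1
    rcases hε with h4 | h4 <;> rw [h4] at h1 ⊢ <;> push_cast at h1 <;> omega
  have hUξ : ∀ l, l ≠ V.l0 → V.U l ξ = ε := by
    intro l hl
    by_cases h1 : l = V.nu
    · rw [h1]
    · obtain ⟨B, d, -⟩ := hdec l ⟨hl, h1⟩
      rw [d.hU, if_neg d.hA, if_pos rfl, if_neg d.hAB]
      norm_num
      exact hεdef.symm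
  have hrξ : V.r ξ = ε := by
    rw [V.fourier, ← Finset.add_sum_erase univ _ (Finset.mem_univ V.l0), V.U_l0]
    rw [Finset.sum_congr rfl (fun l hl => by rw [hUξ l (Finset.mem_erase.1 hl).1]),
      ← Finset.mul_sum, V.sum_sgn_erase]
    ring
  have hnrform : ∀ l, V.NR l → ∃ B, V.IsDec l ξ B (-ε) ∧ (V.deg B : ℤ) = q + ε ∧
      V.r B * V.r B = 4 := by
    intro l hl
    obtain ⟨B, d, hB⟩ := hdec l hl
    refine ⟨B, d, hB, ?_⟩
    have h1 := V.tsum l hl.1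
    rw [d.sum_int, V.r_x0, hrξ, ← hεdef, hε2] at h1
    rcases hε with h4 | h4 <;> rcases V.sgn_vals l with h5 | h5 <;> rw [h4] at h1 <;> rw [h5] at h1
    all_goals
      have h6 : V.r B = 2 ∨ V.r B = -2 ∨ V.r B = 0 := by omega
      have h7 : V.r B ≠ 0 := by omega
      rcases h6 with h8 | h8 | h8
      · rw [h8]; norm_num
      · rw [h8]; norm_num
      · exact absurd h8 h7
  -- the value of `c`
  have hBpos : (0 : ℤ) < q + ε := by
    obtain ⟨B, -, hB⟩ := hdec l₀ h₀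
    rw [← hB]
    exact_mod_cast V.deg_pos B
  have hc : V.c = 1 + ε / q - 4 * ε / (q + ε) := by
    obtain ⟨B, d, hB, hrB⟩ := hnrform l₀ h₀
    have h1 := V.wsum l₀ h₀.1
    rw [d.sum_rat, V.r_x0, V.deg_x0, ← hεdef, hrξ] at h1
    have h2 : (V.r B : ℚ) ^ 2 = 4 := by
      have : ((V.r B * V.r B : ℤ) : ℚ) = 4 := by rw [hrB]; norm_num
      push_cast at this
      linarith
    have h3 : (V.deg B : ℚ) = q + ε := by exact_mod_cast hB
    rw [h2, h3, ← hqdef] at h1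
    have hε2' : (ε : ℚ) ^ 2 = 1 := by
      have : ((ε * ε : ℤ) : ℚ) = 1 := by rw [hε2]; norm_num
      push_cast at this
      linarith
    rw [hε2'] at h1
    rw [← h1]
    push_cast
    ring
  have hq0 : (q : ℚ) ≠ 0 := by exact_mod_cast hqpos.ne'
  have hqε0 : ((q : ℚ) + ε) ≠ 0 := by
    have : ((q : ℤ) + ε) ≠ 0 := hBpos.ne'
    exact_mod_cast this
  have hε2' : (ε : ℚ) * ε = 1 := by exact_mod_cast hε2
  have hceq : V.c * (q * (q + ε)) = (q - ε) ^ 2 := by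
    rw [hc]
    field_simp
    ring
  -- `q` is at least 3
  have hoddq : Odd q := d₀.oddA
  have hq3 : 3 ≤ q := by
    by_contra h1
    have h2 : q = 1 := by
      obtain ⟨z, hz⟩ := hoddq
      omega
    rw [h2] at hceq hBpos
    rcases hε with h4 | h4
    · rw [h4] at hceq
      have := V.c_pos
      norm_num at hceq
      linarith
    · rw [h4] at hBpos
      norm_num at hBpos
  -- the remaining two odd characters
  obtain ⟨S, hS, hS0, hS1, hS2⟩ := V.exists_supp_nu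
  have hξS : ξ ∈ S := by
    by_contra h1
    have := hS2 ξ d₀.hA h1
    rcases hε with h4 | h4 <;> rw [hεdef, this] at h4 <;> norm_num at h4
  have hcard : (S.erase ξ).card = 2 := by rw [Finset.card_erase_of_mem hξS, hS]
  obtain ⟨η₂, η₃, h23, hSe⟩ := Finset.card_eq_two.1 hcard
  have hη₂S : η₂ ∈ S.erase ξ := by rw [hSe]; simp
  have hη₃S : η₃ ∈ S.erase ξ := by rw [hSe]; simp
  have hη₂ := Finset.mem_erase.1 hη₂S
  have hη₃ := Finset.mem_erase.1 hη₃S
  have hη₂0 : η₂ ≠ V.x0 := fun h => hS0 (h ▸ hη₂.2)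
  have hη₃0 : η₃ ≠ V.x0 := fun h => hS0 (h ▸ hη₃.2)
  set c₂ := V.U V.nu η₂ with hc₂
  set c₃ := V.U V.nu η₃ with hc₃
  have hc₂v : c₂ = 1 ∨ c₂ = -1 := hS1 _ hη₂.2
  have hc₃v : c₃ = 1 ∨ c₃ = -1 := hS1 _ hη₃.2
  have hnuform : ∀ χ, V.U V.nu χ = (if χ = V.x0 then (1 : ℤ) else 0) + (if χ = ξ then ε else 0) +
      (if χ = η₂ then c₂ else 0) + (if χ = η₃ then c₃ else 0) := by
    intro χ
    by_cases h0 : χ = V.x0
    · subst h0
      rw [if_pos rfl, if_neg (Ne.symm d₀.hA), if_neg (Ne.symm hη₂0), if_neg (Ne.symm hη₃0),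
        V.U_x0 _ V.nu_ne]
      norm_num
    · by_cases h1 : χ = ξ
      · subst h1
        rw [if_neg h0, if_pos rfl, if_neg (Ne.symm hη₂.1), if_neg (Ne.symm hη₃.1)]
        norm_num
        exact hεdef.symm
      · by_cases h2 : χ = η₂
        · subst h2
          rw [if_neg h0, if_neg h1, if_pos rfl, if_neg h23]
          norm_num
          exact hc₂.symm
        · by_cases h3 : χ = η₃
          · subst h3
            rw [if_neg h0, if_neg h1, if_neg h2, if_pos rfl]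
            norm_num
            exact hc₃.symm
          · rw [if_neg h0, if_neg h1, if_neg h2, if_neg h3]
            refine (hS2 χ h0 fun h4 => ?_).trans (by norm_num)
            have h5 : χ ∈ S.erase ξ := Finset.mem_erase.2 ⟨h1, h4⟩
            rw [hSe] at h5
            simp only [Finset.mem_insert, Finset.mem_singleton] at h5
            tauto
  have hnusum : ∀ g : X → ℤ, ∑ χ, V.U V.nu χ * g χ = g V.x0 + ε * g ξ + c₂ * g η₂ + c₃ * g η₃ := by
    intro g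
    simp_rw [hnuform]
    simp [add_mul, Finset.sum_add_distrib, ite_mul]
  have hnusumQ : ∀ g : X → ℚ, ∑ χ, g χ * (V.U V.nu χ : ℚ) =
      g V.x0 + ε * g ξ + c₂ * g η₂ + c₃ * g η₃ := by
    intro g
    simp_rw [hnuform]
    push_cast
    simp [mul_add, Finset.sum_add_distrib, mul_ite, mul_comm]
  -- the characters `η` vanish on the non-real part
  have hzero : ∀ η, η ≠ V.x0 → η ≠ ξ → Odd (V.deg η) → ∀ l, V.NR l → V.U l η = 0 := by
    intro η h1 h2 h3 l hl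
    obtain ⟨B, d, -, -⟩ := hnrform l hl
    rw [d.hU, if_neg h1, if_neg h2, if_neg (V.even_ne_odd h3 d.evenB)]
    norm_num
  have hoddη₂ : Odd (V.deg η₂) := V.odd_of_U_nu_ne (by rcases hc₂v with h | h <;> rw [← hc₂, h] <;> norm_num)
  have hoddη₃ : Odd (V.deg η₃) := V.odd_of_U_nu_ne (by rcases hc₃v with h | h <;> rw [← hc₃, h] <;> norm_num)
  have hrη : ∀ η, η ≠ V.x0 → η ≠ ξ → Odd (V.deg η) → V.r η = - (V.U V.nu η * V.sgn V.nu) := by
    intro η h1 h2 h3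
    rw [V.fourier]
    congr 1
    refine Finset.sum_eq_single V.nu (fun l _ hl => ?_) (fun h => absurd (Finset.mem_univ _) h)
    by_cases h4 : l = V.l0
    · rw [h4, V.U_l0, zero_mul]
    · rw [hzero η h1 h2 h3 l ⟨h4, hl⟩, zero_mul]
  have hsgnν : V.sgn V.nu * V.sgn V.nu = 1 := by
    rcases V.sgn_vals V.nu with h | h <;> rw [h] <;> norm_num
  have hrη₂ : V.r η₂ * V.r η₂ = 1 := by
    rw [hrη η₂ hη₂0 (Ne.symm hη₂.1 |>.symm) hoddη₂]
    rcases hc₂v with h | h <;> rw [← hc₂, h] <;> linarith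
  have hrη₃ : V.r η₃ * V.r η₃ = 1 := by
    rw [hrη η₃ hη₃0 (Ne.symm hη₃.1 |>.symm) hoddη₃]
    rcases hc₃v with h | h <;> rw [← hc₃, h] <;> linarith
  -- the arithmetic of the two remaining degrees
  have hd := V.degsum V.nu V.nu_ne
  rw [hnusum, V.deg_x0] at hd
  have hw := V.wsum V.nu V.nu_ne
  rw [hnusumQ, V.r_x0, V.deg_x0, hrξ, ← hqdef] at hw
  have hsq : ∀ z : ℤ, z * z = 1 → (z : ℚ) ^ 2 = 1 := by
    intro z hz
    have : ((z * z : ℤ) : ℚ) = 1 := by rw [hz]; norm_num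
    push_cast at this
    linarith
  rw [hsq _ hrη₂, hsq _ hrη₃, hsq _ hε2] at hw
  set f₂ := V.deg η₂ with hf₂
  set f₃ := V.deg η₃ with hf₃
  have hf₂0 : (f₂ : ℚ) ≠ 0 := by exact_mod_cast (V.deg_pos η₂).ne'
  have hf₃0 : (f₃ : ℚ) ≠ 0 := by exact_mod_cast (V.deg_pos η₃).ne'
  have hc₂2 : c₂ * c₂ = 1 := by rcases hc₂v with h | h <;> rw [h] <;> norm_num
  have hc₃2 : c₃ * c₃ = 1 := by rcases hc₃v with h | h <;> rw [h] <;> norm_num
  simp only [Int.cast_one, Nat.cast_one, one_pow, div_one] at hw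
  have hc₂2' : (c₂ : ℚ) * c₂ = 1 := by exact_mod_cast hc₂2
  have hc₃2' : (c₃ : ℚ) * c₃ = 1 := by exact_mod_cast hc₃2
  have hkey : ((c₂ : ℤ) * f₂ + c₃ * f₃) * ((q : ℤ) + ε) = -4 * ε * ((c₂ * f₂) * (c₃ * f₃)) := by
    have h1 : (c₂ : ℚ) * (1 / f₂) + c₃ * (1 / f₃) = - (4 * ε / (q + ε)) := by
      linear_combination hw + hc
    have h2 : ((c₂ : ℚ) * f₃ + c₃ * f₂) * (q + ε) = -4 * ε * (f₂ * f₃) := by
      have h3 : ((c₂ : ℚ) * f₃ + c₃ * f₂) * (q + ε) =
          ((c₂ : ℚ) * (1 / f₂) + c₃ * (1 / f₃)) * (f₂ * f₃ * (q + ε)) := by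
        field_simp
      rw [h3, h1]
      field_simp
    have h4 : (((c₂ : ℤ) * f₂ + c₃ * f₃) * ((q : ℤ) + ε) : ℚ) =
        -4 * ε * ((c₂ * f₂) * (c₃ * f₃)) := by
      linear_combination ((c₂ : ℚ) * c₃) * h2 - ((c₂ : ℚ) * f₂ * (q + ε)) * hc₃2' -
        ((c₃ : ℚ) * f₃ * (q + ε)) * hc₂2'
    exact_mod_cast h4
  have hXY : (c₂ : ℤ) * f₂ + c₃ * f₃ = -ε * (q + ε) := by
    push_cast at hd
    linear_combination hd + hε2
  have hsq4 : ((q : ℤ) + ε) ^ 2 = 4 * ((c₂ * f₂) * (c₃ * f₃)) := by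
    rw [hXY] at hkey
    have h1 : ε * (((q : ℤ) + ε) * ((q : ℤ) + ε)) = ε * (4 * ((c₂ * f₂) * (c₃ * f₃))) := by
      linear_combination - hkey
    have h2 := mul_left_cancel₀ (by rcases hε with h | h <;> rw [h] <;> norm_num : ε ≠ 0) h1
    linear_combination h2
  have hXeqY : (c₂ : ℤ) * f₂ = c₃ * f₃ := by
    have h1 : ((c₂ : ℤ) * f₂ - c₃ * f₃) ^ 2 = 0 := by
      have h2 : ((c₂ : ℤ) * f₂ + c₃ * f₃) ^ 2 = ((q : ℤ) + ε) ^ 2 := by
        rw [hXY]
        linear_combination (((q : ℤ) + ε) ^ 2) * hε2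
      linear_combination h2 + hsq4
    have h3 := pow_eq_zero_iff (two_ne_zero) |>.1 h1
    linarith
  have h2X : 2 * ((c₂ : ℤ) * f₂) = -ε * (q + ε) := by linarith
  have hfin : ∀ (c' : ℤ) (f' : ℕ), (c' = 1 ∨ c' = -1) → 0 < f' → 2 * (c' * f') = -ε * (q + ε) →
      c' = -ε ∧ 2 * (f' : ℤ) = q + ε := by
    intro c' f' hc' hf' h
    have hf'' : (0 : ℤ) < f' := by exact_mod_cast hf'
    rcases hε with h4 | h4 <;> rcases hc' with h5 | h5 <;> rw [h4] at h ⊢ <;> rw [h5] at h ⊢ <;>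
      constructor <;> first | omega | norm_num
  obtain ⟨hc₂e, hf₂e⟩ := hfin c₂ f₂ hc₂v (V.deg_pos η₂) h2X
  obtain ⟨hc₃e, hf₃e⟩ := hfin c₃ f₃ hc₃v (V.deg_pos η₃) (by rw [← hXeqY]; exact h2X)
  refine ⟨⟨q, ε, ξ, η₂, η₃, hε, hq3, hoddq, rfl, hf₂e, hf₃e, d₀.hA, hη₂0, hη₃0, Ne.symm hη₂.1,
    Ne.symm hη₃.1, h23, hUξ, ?_, hrξ, hrη₂, hrη₃, ?_, hceq⟩⟩
  · intro χ
    rw [hnuform χ, hc₂e, hc₃e]
  · intro χ h0 h1 h2 h3 hr
    -- some multiplicity is non-zero
    have hex : ∃ l, V.U l χ ≠ 0 := by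
      by_contra hne
      push Not at hne
      apply hr
      rw [V.fourier]
      simp [hne]
    obtain ⟨l, hl⟩ := hex
    have hl0 : l ≠ V.l0 := fun h => hl (by rw [h, V.U_l0])
    have hlnu : l ≠ V.nu := by
      rintro rfl
      apply hl
      rw [hnuform χ, if_neg h0, if_neg h1, if_neg h2, if_neg h3]
      norm_num
    obtain ⟨B, d, hB, -⟩ := hnrform l ⟨hl0, hlnu⟩
    have hχB : χ = B := by
      by_contra h4
      apply hl
      rw [d.hU, if_neg h0, if_neg h1, if_neg h4]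
      norm_num
    subst hχB
    refine ⟨hB, l, hl0, ?_⟩
    intro χ'
    rw [d.hU χ']

end VD


set_option maxRecDepth 100000 in
set_option synthInstance.maxSize 100000 in
set_option synthInstance.maxHeartbeats 0 in
theorem e2_search1 : ∀ N, N < 18 → ∀ b, b < 18 → ∀ d, d < 18 → 0 < N → 3 ≤ b → 3 ≤ d →
    b % 2 = 1 → d % 2 = 1 → N % b = 0 → N % d = 0 → N % (b + d - 1) = 0 →
    N * ((b + d - 1) * b * d + b * d) = 8 * ((b + d - 1) * b * d) + N * ((b + d - 1) * d + (b + d - 1) * b) →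
    b = 3 ∧ d = 3 := by
  decide

set_option maxRecDepth 100000 in
set_option synthInstance.maxSize 100000 in
set_option synthInstance.maxHeartbeats 0 in
theorem e2_search2 : ∀ N, N < 8 → ∀ b, b < 8 → ∀ d, d < 8 → 0 < N → 0 < b → 0 < d →
    b % 2 = 1 → d % 2 = 1 → N % b = 0 → N % d = 0 → N % (b + d + 1) = 0 →
    N * ((b + d + 1) * b * d + (b + d + 1) * d + (b + d + 1) * b) = 8 * ((b + d + 1) * b * d) + N * (b * d) →
    b = 1 ∧ d = 1 ∧ N = 3 := by
  decide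

/-- Pattern `+ - -`. -/
theorem e2_pmm {a b d N : ℕ} (hao : Odd a) (hbo : Odd b) (hdo : Odd d) (hN : 0 < N)
    (hdeg : a + 1 = b + d) (hw : (N : ℚ) * (1 + 1 / a - 1 / b - 1 / d) = 8)
    (ha : a ∣ N) (hb : b ∣ N) (hd : d ∣ N) : a = 5 ∧ b = 3 ∧ d = 3 ∧ N = 15 := by
  have ha0 : 0 < a := hao.pos
  have hb0 : 0 < b := hbo.pos
  have hd0 : 0 < d := hdo.pos
  have ha0' : (a : ℚ) ≠ 0 := by positivity
  have hb0' : (b : ℚ) ≠ 0 := by positivity
  have hd0' : (d : ℚ) ≠ 0 := by positivity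
  have hb1 : b ≠ 1 := by
    rintro rfl
    have h1 : a = d := by omega
    subst h1
    norm_num at hw
  have hd1 : d ≠ 1 := by
    rintro rfl
    have h1 : a = b := by omega
    subst h1
    norm_num at hw
  have hb3 : 3 ≤ b := by
    obtain ⟨z, hz⟩ := hbo
    omega
  have hd3 : 3 ≤ d := by
    obtain ⟨z, hz⟩ := hdo
    omega
  by_cases h33 : b = 3 ∧ d = 3
  · obtain ⟨rfl, rfl⟩ := h33
    have h5 : a = 5 := by omega
    subst h5
    refine ⟨rfl, rfl, rfl, ?_⟩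
    have h6 : (N : ℚ) = 15 := by
      norm_num at hw
      linarith
    exact_mod_cast h6
  · exfalso
    apply h33
    have hNle : N < 18 := by
      have hbq : (3 : ℚ) ≤ b := by exact_mod_cast hb3
      have hdq : (3 : ℚ) ≤ d := by exact_mod_cast hd3
      have hsum : (1 : ℚ) / b + 1 / d ≤ 8 / 15 := by
        have h5 : 5 ≤ b ∨ 5 ≤ d := by
          by_contra h6
          push Not at h6
          obtain ⟨z, hz⟩ := hbo
          obtain ⟨y, hy⟩ := hdo
          apply h33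
          constructor <;> omega
        rcases h5 with h5 | h5
        · have h6 : (5 : ℚ) ≤ b := by exact_mod_cast h5
          have h7 : (1 : ℚ) / b ≤ 1 / 5 := one_div_le_one_div_of_le (by norm_num) h6
          have h8 : (1 : ℚ) / d ≤ 1 / 3 := one_div_le_one_div_of_le (by norm_num) hdq
          linarith
        · have h6 : (5 : ℚ) ≤ d := by exact_mod_cast h5
          have h7 : (1 : ℚ) / d ≤ 1 / 5 := one_div_le_one_div_of_le (by norm_num) h6
          have h8 : (1 : ℚ) / b ≤ 1 / 3 := one_div_le_one_div_of_le (by norm_num) hbq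
          linarith
      have h9 : (0 : ℚ) < 1 / a := by positivity
      have h10 : (7 : ℚ) / 15 ≤ 1 + 1 / a - 1 / b - 1 / d := by linarith
      have h11 : (0 : ℚ) ≤ N := by positivity
      have h12 : (N : ℚ) * (7 / 15) ≤ 8 := by
        rw [← hw]
        exact mul_le_mul_of_nonneg_left h10 h11
      have h13 : (N : ℚ) < 18 := by linarith
      exact_mod_cast h13
    have hble : b < 18 := lt_of_le_of_lt (Nat.le_of_dvd hN hb) hNle
    have hdle : d < 18 := lt_of_le_of_lt (Nat.le_of_dvd hN hd) hNle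
    have ha' : a = b + d - 1 := by omega
    have hint : N * (a * b * d + b * d) = 8 * (a * b * d) + N * (a * d + a * b) := by
      have h5 : (N : ℚ) * (a * b * d + b * d) = 8 * (a * b * d) + N * (a * d + a * b) := by
        rw [← hw]
        field_simp
        ring
      exact_mod_cast h5
    rw [ha'] at hint ha
    refine e2_search1 N hNle b hble d hdle hN hb3 hd3 (Nat.odd_iff.1 hbo) (Nat.odd_iff.1 hdo)
      (Nat.mod_eq_zero_of_dvd hb) (Nat.mod_eq_zero_of_dvd hd) (Nat.mod_eq_zero_of_dvd ha) hint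

/-- Pattern `- + +`. -/
theorem e2_mpp {a b d N : ℕ} (hbo : Odd b) (hdo : Odd d) (hN : 0 < N)
    (hdeg : a = b + d + 1) (hw : (N : ℚ) * (1 - 1 / a + 1 / b + 1 / d) = 8)
    (ha : a ∣ N) (hb : b ∣ N) (hd : d ∣ N) : a = 3 ∧ b = 1 ∧ d = 1 ∧ N = 3 := by
  have hb0 : 0 < b := hbo.pos
  have hd0 : 0 < d := hdo.pos
  have ha0 : 0 < a := by omega
  have ha0' : (a : ℚ) ≠ 0 := by positivity
  have hb0' : (b : ℚ) ≠ 0 := by positivity
  have hd0' : (d : ℚ) ≠ 0 := by positivity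
  have hNle : N < 8 := by
    have h1 : (b : ℚ) ≤ a := by
      have : b ≤ a := by omega
      exact_mod_cast this
    have h2 : (1 : ℚ) / a ≤ 1 / b := one_div_le_one_div_of_le (by positivity) h1
    have h3 : (0 : ℚ) < 1 / d := by positivity
    have h4 : (1 : ℚ) < 1 - 1 / a + 1 / b + 1 / d := by linarith
    have h5 : (0 : ℚ) < N := by exact_mod_cast hN
    have h6 : (N : ℚ) * 1 < N * (1 - 1 / a + 1 / b + 1 / d) := mul_lt_mul_of_pos_left h4 h5
    rw [hw, mul_one] at h6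
    exact_mod_cast h6
  have hble : b < 8 := lt_of_le_of_lt (Nat.le_of_dvd hN hb) hNle
  have hdle : d < 8 := lt_of_le_of_lt (Nat.le_of_dvd hN hd) hNle
  have hint : N * (a * b * d + a * d + a * b) = 8 * (a * b * d) + N * (b * d) := by
    have h5 : (N : ℚ) * (a * b * d + a * d + a * b) = 8 * (a * b * d) + N * (b * d) := by
      rw [← hw]
      field_simp
      ring
    exact_mod_cast h5
  rw [hdeg] at hint ha
  obtain ⟨h1, h2, h3⟩ := e2_search2 N hNle b hble d hdle hN hb0 hd0 (Nat.odd_iff.1 hbo)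
    (Nat.odd_iff.1 hdo) (Nat.mod_eq_zero_of_dvd hb) (Nat.mod_eq_zero_of_dvd hd)
    (Nat.mod_eq_zero_of_dvd ha) hint
  exact ⟨by omega, h1, h2, h3⟩

namespace VD

variable {X : Type u} {L : Type v} [Fintype X] [DecidableEq X] [Fintype L] [DecidableEq L]
  (V : VD X L)

theorem univ_eq_of_no_nr (hno : ∀ l, ¬ V.NR l) : (univ : Finset L) = {V.l0, V.nu} := by
  ext l
  simp only [Finset.mem_univ, Finset.mem_insert, Finset.mem_singleton, true_iff]
  by_contra h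
  push Not at h
  exact hno l h

theorem sgn_nu_of_no_nr (hno : ∀ l, ¬ V.NR l) : V.sgn V.nu = -1 := by
  have h1 := V.sum_sgn
  rw [V.univ_eq_of_no_nr hno, Finset.sum_pair (Ne.symm V.nu_ne), V.sgn_l0] at h1
  linarith

theorem r_eq_of_no_nr (hno : ∀ l, ¬ V.NR l) (χ : X) : V.r χ = V.U V.nu χ := by
  rw [V.fourier, V.univ_eq_of_no_nr hno, Finset.sum_pair (Ne.symm V.nu_ne), V.U_l0,
    V.sgn_nu_of_no_nr hno]
  ring

theorem card_of_no_nr (hno : ∀ l, ¬ V.NR l) : Fintype.card L = 2 := by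
  rw [← Finset.card_univ, V.univ_eq_of_no_nr hno, Finset.card_pair (Ne.symm V.nu_ne)]

theorem fam_mk (hno : ∀ l, ¬ V.NR l) (ξ η₂ η₃ : X) (hξ0 : ξ ≠ V.x0) (hη₂0 : η₂ ≠ V.x0)
    (hη₃0 : η₃ ≠ V.x0) (h12 : ξ ≠ η₂) (h13 : ξ ≠ η₃) (h23 : η₂ ≠ η₃) (q : ℕ) (ε : ℤ)
    (hq : (q = 3 ∧ ε = -1 ∧ V.N = 3) ∨ (q = 5 ∧ ε = 1 ∧ V.N = 15))
    (Uξ : V.U V.nu ξ = ε) (Uη₂ : V.U V.nu η₂ = -ε) (Uη₃ : V.U V.nu η₃ = -ε)
    (dξ : V.deg ξ = q) (dη₂ : 2 * (V.deg η₂ : ℤ) = q + ε) (dη₃ : 2 * (V.deg η₃ : ℤ) = q + ε)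
    (hzero : ∀ χ, χ ≠ V.x0 → χ ≠ ξ → χ ≠ η₂ → χ ≠ η₃ → V.U V.nu χ = 0) : Nonempty (Fam V) := by
  have hr := V.r_eq_of_no_nr hno
  have hε : ε = 1 ∨ ε = -1 := by
    rcases hq with ⟨-, h, -⟩ | ⟨-, h, -⟩
    · exact Or.inr h
    · exact Or.inl h
  refine ⟨⟨q, ε, ξ, η₂, η₃, hε, ?_, ?_, dξ, dη₂, dη₃, hξ0, hη₂0, hη₃0, h12, h13, h23, ?_, ?_, ?_,
    ?_, ?_, ?_, ?_⟩⟩
  · rcases hq with ⟨h, -, -⟩ | ⟨h, -, -⟩ <;> omega
  · rcases hq with ⟨h, -, -⟩ | ⟨h, -, -⟩ <;> rw [h] <;> decide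
  · intro l hl
    have : l = V.nu := by
      by_contra h
      exact hno l ⟨hl, h⟩
    rw [this, Uξ]
  · intro χ
    by_cases h0 : χ = V.x0
    · subst h0
      rw [if_pos rfl, if_neg (Ne.symm hξ0), if_neg (Ne.symm hη₂0), if_neg (Ne.symm hη₃0),
        V.U_x0 _ V.nu_ne]
      norm_num
    · by_cases h1 : χ = ξ
      · subst h1
        rw [if_neg h0, if_pos rfl, if_neg h12, if_neg h13, Uξ]
        norm_num
      · by_cases h2 : χ = η₂
        · subst h2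
          rw [if_neg h0, if_neg h1, if_pos rfl, if_neg h23, Uη₂]
          norm_num
        · by_cases h3 : χ = η₃
          · subst h3
            rw [if_neg h0, if_neg h1, if_neg h2, if_pos rfl, Uη₃]
            norm_num
          · rw [if_neg h0, if_neg h1, if_neg h2, if_neg h3, hzero χ h0 h1 h2 h3]
            norm_num
  · rw [hr, Uξ]
  · rw [hr, Uη₂]
    rcases hε with h | h <;> rw [h] <;> norm_num
  · rw [hr, Uη₃]
    rcases hε with h | h <;> rw [h] <;> norm_num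
  · intro χ h0 h1 h2 h3 h4
    rw [hr, hzero χ h0 h1 h2 h3] at h4
    exact absurd rfl h4
  · have h1 := V.c_N
    rw [V.card_of_no_nr hno] at h1
    rcases hq with ⟨h5, h6, h7⟩ | ⟨h5, h6, h7⟩
    · rw [h7] at h1
      rw [h5, h6]
      push_cast at h1 ⊢
      linarith
    · rw [h7] at h1
      rw [h5, h6]
      push_cast at h1 ⊢
      linarith

/-- The family when all characters of `K` are real. -/
theorem exists_fam_e2 (hno : ∀ l, ¬ V.NR l) : Nonempty (Fam V) := by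
  have hr := V.r_eq_of_no_nr hno
  obtain ⟨S, hS, hS0, hS1, hS2⟩ := V.exists_supp_nu
  obtain ⟨a, b, d, hab, had, hbd, rfl⟩ := Finset.card_eq_three.1 hS
  have ha0 : a ≠ V.x0 := fun h => hS0 (by simp [h])
  have hb0 : b ≠ V.x0 := fun h => hS0 (by simp [h])
  have hd0 : d ≠ V.x0 := fun h => hS0 (by simp [h])
  have hca := hS1 a (by simp)
  have hcb := hS1 b (by simp)
  have hcd := hS1 d (by simp)
  have hzero : ∀ χ, χ ≠ V.x0 → χ ≠ a → χ ≠ b → χ ≠ d → V.U V.nu χ = 0 := by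
    intro χ h0 h1 h2 h3
    exact hS2 χ h0 (by simp [h1, h2, h3])
  set ca := V.U V.nu a with hcaD
  set cb := V.U V.nu b with hcbD
  set cd := V.U V.nu d with hcdD
  have hform : ∀ χ, V.U V.nu χ = (if χ = V.x0 then (1 : ℤ) else 0) + (if χ = a then ca else 0) +
      (if χ = b then cb else 0) + (if χ = d then cd else 0) := by
    intro χ
    by_cases h0 : χ = V.x0
    · subst h0
      rw [if_pos rfl, if_neg (Ne.symm ha0), if_neg (Ne.symm hb0), if_neg (Ne.symm hd0),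
        V.U_x0 _ V.nu_ne]
      norm_num
    · by_cases h1 : χ = a
      · subst h1
        rw [if_neg h0, if_pos rfl, if_neg hab, if_neg had]
        norm_num
        exact hcaD.symm
      · by_cases h2 : χ = b
        · subst h2
          rw [if_neg h0, if_neg h1, if_pos rfl, if_neg hbd]
          norm_num
          exact hcbD.symm
        · by_cases h3 : χ = d
          · subst h3
            rw [if_neg h0, if_neg h1, if_neg h2, if_pos rfl]
            norm_num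
            exact hcdD.symm
          · rw [if_neg h0, if_neg h1, if_neg h2, if_neg h3, hzero χ h0 h1 h2 h3]
            norm_num
  have hsumZ : ∀ g : X → ℤ, ∑ χ, V.U V.nu χ * g χ = g V.x0 + ca * g a + cb * g b + cd * g d := by
    intro g
    simp_rw [hform]
    simp [add_mul, Finset.sum_add_distrib, ite_mul]
  have hsumQ : ∀ g : X → ℚ, ∑ χ, g χ * (V.U V.nu χ : ℚ) =
      g V.x0 + ca * g a + cb * g b + cd * g d := by
    intro g
    simp_rw [hform]
    push_cast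
    simp [mul_add, Finset.sum_add_distrib, mul_ite, mul_comm]
  have hdg := V.degsum V.nu V.nu_ne
  rw [hsumZ, V.deg_x0] at hdg
  have hw := V.wsum V.nu V.nu_ne
  rw [hsumQ, V.r_x0, V.deg_x0, hr a, hr b, hr d, ← hcaD, ← hcbD, ← hcdD] at hw
  have hcN := V.c_N
  rw [V.card_of_no_nr hno] at hcN
  have hodd : ∀ χ, V.U V.nu χ ≠ 0 → Odd (V.deg χ) := fun χ => V.odd_of_U_nu_ne
  have hoa : Odd (V.deg a) := hodd a (by rw [← hcaD]; rcases hca with h | h <;> rw [h] <;> norm_num)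
  have hob : Odd (V.deg b) := hodd b (by rw [← hcbD]; rcases hcb with h | h <;> rw [h] <;> norm_num)
  have hod : Odd (V.deg d) := hodd d (by rw [← hcdD]; rcases hcd with h | h <;> rw [h] <;> norm_num)
  have hdvd : ∀ χ, (V.U V.nu χ = 1 ∨ V.U V.nu χ = -1) → V.deg χ ∣ V.N := by
    intro χ h
    apply V.dvd_N
    rw [hr]
    rcases h with h | h <;> rw [h] <;> norm_num
  have hda := hdvd a hca
  have hdb := hdvd b hcb
  have hdd := hdvd d hcd
  have hNq : (0 : ℚ) < V.N := by exact_mod_cast V.N_pos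
  have hfa := V.deg_pos a
  have hfb := V.deg_pos b
  have hfd := V.deg_pos d
  have hwN : (V.N : ℚ) * (1 + ca * (ca ^ 2 / V.deg a) + cb * (cb ^ 2 / V.deg b) + cd * (cd ^ 2 / V.deg d)) = 8 := by
    simp only [Int.cast_one, Nat.cast_one, one_pow, div_one] at hw
    rw [hw, mul_comm, hcN]
    norm_num
  rcases hca with hca | hca <;> rcases hcb with hcb | hcb <;> rcases hcd with hcd | hcd <;>
    rw [hca, hcb, hcd] at hdg hwN <;> push_cast at hdg hwN
  · exfalso; omega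
  · -- + + -
    obtain ⟨h1, h2, h3, h4⟩ := e2_mpp (a := V.deg d) (b := V.deg a) (d := V.deg b) hoa hob V.N_pos (by omega)
      (by linarith [hwN]) hdd hda hdb
    exact V.fam_mk hno d a b hd0 ha0 hb0 (Ne.symm had) (Ne.symm hbd) hab 3 (-1)
      (Or.inl ⟨rfl, rfl, h4⟩) (by rw [← hcdD, hcd]) (by rw [← hcaD, hca] <;> norm_num)
      (by rw [← hcbD, hcb] <;> norm_num) h1 (by rw [h2]; norm_num) (by rw [h3]; norm_num)
      (fun χ h0 h5 h6 h7 => hzero χ h0 h6 h7 h5)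
  · -- + - +
    obtain ⟨h1, h2, h3, h4⟩ := e2_mpp (a := V.deg b) (b := V.deg a) (d := V.deg d) hoa hod V.N_pos (by omega)
      (by linarith [hwN]) hdb hda hdd
    exact V.fam_mk hno b a d hb0 ha0 hd0 (Ne.symm hab) hbd had 3 (-1)
      (Or.inl ⟨rfl, rfl, h4⟩) (by rw [← hcbD, hcb]) (by rw [← hcaD, hca] <;> norm_num)
      (by rw [← hcdD, hcd] <;> norm_num) h1 (by rw [h2]; norm_num) (by rw [h3]; norm_num)
      (fun χ h0 h5 h6 h7 => hzero χ h0 h6 h5 h7)
  · -- + - -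
    obtain ⟨h1, h2, h3, h4⟩ := e2_pmm (a := V.deg a) (b := V.deg b) (d := V.deg d) hoa hob hod V.N_pos (by omega)
      (by linarith [hwN]) hda hdb hdd
    exact V.fam_mk hno a b d ha0 hb0 hd0 hab had hbd 5 1
      (Or.inr ⟨rfl, rfl, h4⟩) (by rw [← hcaD, hca]) (by rw [← hcbD, hcb])
      (by rw [← hcdD, hcd]) h1 (by rw [h2]; norm_num) (by rw [h3]; norm_num)
      hzero
  · -- - + +
    obtain ⟨h1, h2, h3, h4⟩ := e2_mpp (a := V.deg a) (b := V.deg b) (d := V.deg d) hob hod V.N_pos (by omega)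
      (by linarith [hwN]) hda hdb hdd
    exact V.fam_mk hno a b d ha0 hb0 hd0 hab had hbd 3 (-1)
      (Or.inl ⟨rfl, rfl, h4⟩) (by rw [← hcaD, hca]) (by rw [← hcbD, hcb] <;> norm_num)
      (by rw [← hcdD, hcd] <;> norm_num) h1 (by rw [h2]; norm_num) (by rw [h3]; norm_num)
      hzero
  · -- - + -
    obtain ⟨h1, h2, h3, h4⟩ := e2_pmm (a := V.deg b) (b := V.deg a) (d := V.deg d) hob hoa hod V.N_pos (by omega)
      (by linarith [hwN]) hdb hda hdd
    exact V.fam_mk hno b a d hb0 ha0 hd0 (Ne.symm hab) hbd had 5 1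
      (Or.inr ⟨rfl, rfl, h4⟩) (by rw [← hcbD, hcb]) (by rw [← hcaD, hca] <;> norm_num)
      (by rw [← hcdD, hcd] <;> norm_num) h1 (by rw [h2]; norm_num) (by rw [h3]; norm_num)
      (fun χ h0 h5 h6 h7 => hzero χ h0 h6 h5 h7)
  · -- - - +
    obtain ⟨h1, h2, h3, h4⟩ := e2_pmm (a := V.deg d) (b := V.deg a) (d := V.deg b) hod hoa hob V.N_pos (by omega)
      (by linarith [hwN]) hdd hda hdb
    exact V.fam_mk hno d a b hd0 ha0 hb0 (Ne.symm had) (Ne.symm hbd) hab 5 1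
      (Or.inr ⟨rfl, rfl, h4⟩) (by rw [← hcdD, hcd]) (by rw [← hcaD, hca] <;> norm_num)
      (by rw [← hcbD, hcb] <;> norm_num) h1 (by rw [h2]; norm_num) (by rw [h3]; norm_num)
      (fun χ h0 h5 h6 h7 => hzero χ h0 h6 h7 h5)
  · exfalso; omega

/-- The family. -/
theorem exists_fam : Nonempty (Fam V) := by
  by_cases h : ∃ l, V.NR l
  · obtain ⟨l, hl⟩ := h
    exact V.exists_fam_nr hl
  · push Not at h
    exact V.exists_fam_e2 h

end VD

end Cfsg.Agent.Lib.Zass.BSWVec
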