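import Mathlib
import Cfsg.Agent.Lib.Zass.BSWAb
import Cfsg.Agent.Lib.Zass.BSWGroup
import Cfsg.Agent.Lib.Zass.BSWVec
import Cfsg.Agent.Lib.Char.ClassPair

/-!
# Brauer–Suzuki–Wall: multiplicities on the abelian subgroup `K`
-/

set_option autoImplicit false
set_option linter.unusedSectionVars false
set_option linter.unreachableTactic false
set_option linter.unusedTactic false

namespace Cfsg.Agent.Lib.Zass.BSWChar

open Cfsg Cfsg.Agent.Lib.Zass.Rows2 Cfsg.Agent.Lib.Zass.BSWAb Cfsg.Agent.Lib.Zass.BSWGroup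
open Cfsg.Agent.Lib.Char.Ortho (classInner_irr fintype_irr)
open Cfsg.Agent.Lib.Char.Induced (classInner_def)
open Cfsg.Agent.Lib.Char.CompleteCor
open scoped ComplexConjugate Classical
open Finset

universe u

variable {G : Type u} [Group G] [Fintype G] (C : Conf G)

noncomputable instance fK : Fintype C.K := Fintype.ofFinite _

theorem hc : ∀ x y : C.K, x * y = y * x := fun x y => Subtype.ext (C.comm_K x.2 y.2)

/-- Multiplicity of the linear character `l` of `K` in the restriction of `χ`. -/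
noncomputable def m (l : IrrCharacter C.K) (χ : IrrCharacter G) : ℕ :=
  mul (l : C.K → ℂ) (χ : G → ℂ)

local notation "e'" => (Nat.card C.K : ℂ)

theorem e_ne : (Nat.card C.K : ℂ) ≠ 0 := Nat.cast_ne_zero.mpr Nat.card_pos.ne'

theorem isCh (χ : IrrCharacter G) : IsCharacter G (χ : G → ℂ) :=
  Cfsg.Agent.Lib.Char.Basic.isCharacter_of_isIrrCharacter χ.2

theorem m_coe (l : IrrCharacter C.K) (χ : IrrCharacter G) :
    (m C l χ : ℂ) = (Nat.card C.K : ℂ)⁻¹ * ∑ k : C.K, (l : C.K → ℂ) k * conj ((χ : G → ℂ) k) := by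
  rw [m, mul_coe_res l.2 (isCh χ), classInner_def]

theorem m_coe' (l : IrrCharacter C.K) (χ : IrrCharacter G) :
    (m C l χ : ℂ) = (Nat.card C.K : ℂ)⁻¹ * ∑ k : C.K, conj ((l : C.K → ℂ) k) * (χ : G → ℂ) k := by
  have h := congrArg conj (m_coe C l χ)
  rw [Complex.conj_natCast] at h
  rw [h, map_mul, map_inv₀, Complex.conj_natCast, map_sum]
  simp only [map_mul, Complex.conj_conj]

theorem res_expand (χ : IrrCharacter G) (k : C.K) :
    (χ : G → ℂ) k = ∑ l : IrrCharacter C.K, (m C l χ : ℂ) * (l : C.K → ℂ) k := by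
  have h := congrFun (res_eq_sum (H := C.K) (isCh χ)) k
  simp only [Finset.sum_apply, Pi.smul_apply, smul_eq_mul] at h
  exact h

theorem dg_l (l : IrrCharacter C.K) : dg (l : C.K → ℂ) = 1 :=
  Cfsg.Agent.Lib.Zass.Rows5.dg_eq_one_of_comm (hc C) l.2

theorem deg_expand (χ : IrrCharacter G) : dg (χ : G → ℂ) = ∑ l : IrrCharacter C.K, m C l χ := by
  rw [dg_eq_sum (H := C.K) χ.2]
  refine Finset.sum_congr rfl fun l _ => ?_
  rw [dg_l, mul_one, m]

theorem irr_inv (χ : IrrCharacter G) {k : G} (hk : k ∈ C.K) : (χ : G → ℂ) k⁻¹ = (χ : G → ℂ) k := by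
  rw [← C.hinv k hk]
  exact Cfsg.Agent.Lib.Char.Basic.isClassFunction_of_isCharacter (isCh χ) k C.s

theorem m_cj (l : IrrCharacter C.K) (χ : IrrCharacter G) : m C (cjL (hc C) l) χ = m C l χ := by
  have h1 : ((m C (cjL (hc C) l) χ : ℕ) : ℂ) = (m C l χ : ℂ) := by
    rw [m_coe C (cjL (hc C) l) χ, m_coe C l χ]
    congr 1
    rw [← Equiv.sum_comp (Equiv.inv C.K)]
    refine Finset.sum_congr rfl fun k _ => ?_
    simp only [Equiv.inv_apply, cjL_apply]
    rw [l_conj, inv_inv]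
    congr 2
    exact irr_inv C χ k.2
  exact_mod_cast h1

/-- The integer vectors. -/
noncomputable def U (l : IrrCharacter C.K) (χ : IrrCharacter G) : ℤ :=
  (m C (one C.K) χ : ℤ) - (m C l χ : ℤ)

theorem U_coe (l : IrrCharacter C.K) (χ : IrrCharacter G) :
    (U C l χ : ℂ) = (Nat.card C.K : ℂ)⁻¹ * ∑ k : C.K, (1 - (l : C.K → ℂ) k) * conj ((χ : G → ℂ) k) := by
  rw [U]
  push_cast
  rw [m_coe C (one C.K) χ, m_coe C l χ, ← mul_sub, ← Finset.sum_sub_distrib]
  congr 1
  refine Finset.sum_congr rfl fun k _ => ?_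
  rw [one_apply]
  ring

theorem U_coe' (l : IrrCharacter C.K) (χ : IrrCharacter G) :
    (U C l χ : ℂ) = (Nat.card C.K : ℂ)⁻¹ * ∑ k : C.K, (1 - conj ((l : C.K → ℂ) k)) * (χ : G → ℂ) k := by
  rw [U]
  push_cast
  rw [m_coe' C (one C.K) χ, m_coe' C l χ, ← mul_sub, ← Finset.sum_sub_distrib]
  congr 1
  refine Finset.sum_congr rfl fun k _ => ?_
  rw [one_apply, map_one]
  ring

/-- The column sum of the multiplicities. -/
noncomputable def T (l : IrrCharacter C.K) (y : G) : ℂ :=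
  ∑ χ : IrrCharacter G, (m C l χ : ℂ) * (χ : G → ℂ) y

theorem T_eq (l : IrrCharacter C.K) (y : G) :
    T C l y = (Nat.card C.K : ℂ)⁻¹ * ∑ k : C.K, (l : C.K → ℂ) k *
      ∑ χ : IrrCharacter G, (χ : G → ℂ) y * conj ((χ : G → ℂ) k) := by
  rw [T]
  simp_rw [m_coe, Finset.mul_sum, Finset.sum_mul]
  rw [Finset.sum_comm]
  refine Finset.sum_congr rfl fun k _ => Finset.sum_congr rfl fun χ _ => ?_
  ring

theorem T_not_InK (l : IrrCharacter C.K) {y : G} (hy : ¬ C.InK y) : T C l y = 0 := by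
  rw [T_eq]
  convert mul_zero _
  refine Finset.sum_eq_zero fun k _ => ?_
  rw [column_orth_not_conj, mul_zero]
  intro hcon
  obtain ⟨g, hg⟩ := isConj_iff.1 hcon
  exact hy ⟨g⁻¹, k, k.2, by rw [← hg]; group⟩

theorem T_one (l : IrrCharacter C.K) :
    T C l 1 = (Nat.card C.K : ℂ)⁻¹ * (Fintype.card G : ℂ) := by
  rw [T_eq]
  congr 1
  rw [Finset.sum_eq_single (1 : C.K)]
  · rw [l_one (hc C)]
    have : ((1 : C.K) : G) = 1 := rfl
    rw [this, column_orth_conj (IsConj.refl (1 : G)), one_mul]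
    have h2 : Subgroup.centralizer ({(1 : G)} : Set G) = ⊤ := by
      rw [eq_top_iff]
      intro g _
      rw [Subgroup.mem_centralizer_singleton_iff]
      simp
    rw [h2, Subgroup.card_top, Nat.card_eq_fintype_card]
  · intro k _ hk
    rw [column_orth_not_conj, mul_zero]
    intro hcon
    apply hk
    have h1 := isConj_one_right.1 hcon
    exact Subtype.ext h1
  · intro h
    exact absurd (Finset.mem_univ _) h

/-- The value at an element of `K`. -/
theorem T_K (l : IrrCharacter C.K) {k₀ : C.K} (hk₀ : k₀ ≠ 1) :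
    T C l k₀ = (l : C.K → ℂ) k₀ + conj ((l : C.K → ℂ) k₀) := by
  have hk₀' : (k₀ : G) ≠ 1 := fun h => hk₀ (Subtype.ext h)
  rw [T_eq]
  by_cases ht : (k₀ : G) = C.t
  · -- the involution
    have htinv : k₀⁻¹ = k₀ := by
      apply Subtype.ext
      rw [Subgroup.coe_inv, ht, C.tinv]
    have hconj : conj ((l : C.K → ℂ) k₀) = (l : C.K → ℂ) k₀ := by
      rw [l_conj, htinv]
    rw [Finset.sum_eq_single k₀]
    · rw [column_orth_conj (IsConj.refl _), hconj, ht, C.card_H]
      have := e_ne C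
      push_cast
      field_simp
      ring
    · intro k _ hk
      rw [column_orth_not_conj, mul_zero]
      intro hcon
      obtain ⟨g, hg⟩ := isConj_iff.1 hcon
      apply hk
      apply Subtype.ext
      have h1 : g * (k₀ : G) * g⁻¹ ∈ C.K := by rw [hg]; exact k.2
      rcases C.conj_K k₀.2 hk₀' h1 with h2 | h2
      · rw [← hg, h2]
      · rw [← hg, h2, ht, C.tinv]
    · intro h
      exact absurd (Finset.mem_univ _) h
  · have hne : k₀ ≠ k₀⁻¹ := by
      intro h
      have h1 : (k₀ : G) * k₀ = 1 := by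
        have h2 : (k₀ : G) = (k₀⁻¹ : C.K) := congrArg Subtype.val h
        rw [Subgroup.coe_inv] at h2
        calc (k₀ : G) * k₀ = (k₀ : G)⁻¹ * k₀ := by rw [← h2]
          _ = 1 := inv_mul_cancel _
      rcases C.K_inv2 k₀.2 h1 with h2 | h2
      · exact hk₀' h2
      · exact ht h2
    have hcent := C.cent_K k₀.2 hk₀' ht
    have hcard : (Nat.card (Subgroup.centralizer ({(k₀ : G)} : Set G)) : ℂ) = (Nat.card C.K : ℂ) := by
      rw [hcent]
    have hinvc : IsConj (k₀ : G) ((k₀⁻¹ : C.K) : G) := by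
      rw [isConj_iff]
      refine ⟨C.s, ?_⟩
      rw [C.hinv _ k₀.2]
      rfl
    rw [Finset.sum_eq_add k₀ k₀⁻¹ hne]
    · rw [column_orth_conj (IsConj.refl _), column_orth_conj hinvc, hcard, l_conj]
      have := e_ne C
      field_simp
    · intro k _ hk
      rw [column_orth_not_conj, mul_zero]
      intro hcon
      obtain ⟨g, hg⟩ := isConj_iff.1 hcon
      have h1 : g * (k₀ : G) * g⁻¹ ∈ C.K := by rw [hg]; exact k.2
      rcases C.conj_K k₀.2 hk₀' h1 with h2 | h2
      · exact hk.1 (Subtype.ext (by rw [← hg, h2]))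
      · exact hk.2 (Subtype.ext (by rw [← hg, h2]; rfl))
    · intro h
      exact absurd (Finset.mem_univ _) h
    · intro h
      exact absurd (Finset.mem_univ _) h

/-- The column sum of `U`. -/
noncomputable def TU (l : IrrCharacter C.K) (y : G) : ℂ :=
  ∑ χ : IrrCharacter G, (U C l χ : ℂ) * (χ : G → ℂ) y

theorem TU_eq (l : IrrCharacter C.K) (y : G) : TU C l y = T C (one C.K) y - T C l y := by
  rw [TU, T, T, ← Finset.sum_sub_distrib]
  refine Finset.sum_congr rfl fun χ _ => ?_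
  rw [U]
  push_cast
  ring

theorem TU_not_InK (l : IrrCharacter C.K) {y : G} (hy : ¬ C.InK y) : TU C l y = 0 := by
  rw [TU_eq, T_not_InK C _ hy, T_not_InK C _ hy, sub_zero]

theorem TU_one (l : IrrCharacter C.K) : TU C l 1 = 0 := by
  rw [TU_eq, T_one, T_one, sub_self]

theorem TU_K (l : IrrCharacter C.K) {k₀ : C.K} (hk₀ : k₀ ≠ 1) :
    TU C l k₀ = 2 - (l : C.K → ℂ) k₀ - conj ((l : C.K → ℂ) k₀) := by
  rw [TU_eq, T_K C _ hk₀, T_K C _ hk₀, one_apply, map_one]
  ring

theorem U_one_left (χ : IrrCharacter G) : U C (one C.K) χ = 0 := by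
  rw [U, sub_self]

theorem U_cj (l : IrrCharacter C.K) (χ : IrrCharacter G) : U C (cjL (hc C) l) χ = U C l χ := by
  rw [U, U, m_cj]

/-- The multiplicity vector at the principal character. -/
theorem U_x0 {l : IrrCharacter C.K} (hl : l ≠ one C.K) : U C l (one G) = 1 := by
  have h1 : ((U C l (one G) : ℤ) : ℂ) = 1 := by
    rw [U_coe]
    simp only [one_apply, map_one, mul_one]
    rw [Finset.sum_sub_distrib, sum_l, if_neg hl, sub_zero]
    simp only [Finset.sum_const, Finset.card_univ, nsmul_eq_mul, mul_one]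
    rw [Nat.card_eq_fintype_card]
    have := e_ne C
    rw [Nat.card_eq_fintype_card] at this
    field_simp
  exact_mod_cast h1

/-- Gram matrix. -/
theorem gram {l l' : IrrCharacter C.K} (hl : l ≠ one C.K) (hl' : l' ≠ one C.K) :
    ∑ χ : IrrCharacter G, U C l χ * U C l' χ =
      2 + (if l' = l then 1 else 0) + (if l' = cjL (hc C) l then 1 else 0) := by
  have h1 : ∑ χ : IrrCharacter G, (U C l χ : ℂ) * (U C l' χ : ℂ) =
      (Nat.card C.K : ℂ)⁻¹ * ∑ k : C.K, (1 - (l' : C.K → ℂ) k) *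
        (2 - (l : C.K → ℂ) k - conj ((l : C.K → ℂ) k)) := by
    calc ∑ χ : IrrCharacter G, (U C l χ : ℂ) * (U C l' χ : ℂ)
        = ∑ χ : IrrCharacter G, (U C l χ : ℂ) * ((Nat.card C.K : ℂ)⁻¹ *
            ∑ k : C.K, (1 - (l' : C.K → ℂ) k) * conj ((χ : G → ℂ) k)) := by
          refine Finset.sum_congr rfl fun χ _ => ?_
          rw [U_coe C l' χ]
      _ = (Nat.card C.K : ℂ)⁻¹ * ∑ k : C.K, (1 - (l' : C.K → ℂ) k) *
            ∑ χ : IrrCharacter G, (U C l χ : ℂ) * conj ((χ : G → ℂ) k) := by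
          simp only [Finset.mul_sum]
          rw [Finset.sum_comm]
          refine Finset.sum_congr rfl fun k _ => Finset.sum_congr rfl fun χ _ => ?_
          ring
      _ = _ := by
          congr 1
          refine Finset.sum_congr rfl fun k _ => ?_
          by_cases hk : k = 1
          · rw [hk, l_one (hc C)]
            simp
          · congr 1
            have h2 := TU_K C l hk
            have h3 := congrArg conj h2
            rw [TU, map_sum] at h3
            simp only [map_mul, map_intCast] at h3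
            rw [h3]
            simp only [map_sub, Complex.conj_conj, map_ofNat]
            ring
  have h2 : ∑ k : C.K, (1 - (l' : C.K → ℂ) k) * (2 - (l : C.K → ℂ) k - conj ((l : C.K → ℂ) k)) =
      2 * (Nat.card C.K : ℂ) + (if l' = cjL (hc C) l then (Nat.card C.K : ℂ) else 0) +
        (if l' = l then (Nat.card C.K : ℂ) else 0) := by
    have h3 : ∀ k : C.K, (1 - (l' : C.K → ℂ) k) * (2 - (l : C.K → ℂ) k - conj ((l : C.K → ℂ) k)) =
        2 - (l : C.K → ℂ) k - conj ((l : C.K → ℂ) k) - 2 * (l' : C.K → ℂ) k +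
          (l' : C.K → ℂ) k * (l : C.K → ℂ) k + (l' : C.K → ℂ) k * conj ((l : C.K → ℂ) k) := by
      intro k
      ring
    simp_rw [h3]
    rw [Finset.sum_add_distrib, Finset.sum_add_distrib, Finset.sum_sub_distrib,
      Finset.sum_sub_distrib, Finset.sum_sub_distrib, sum_l, sum_conj_l, ← Finset.mul_sum, sum_l,
      sum_mul (hc C), sum_mul_conj, if_neg hl, if_neg hl']
    simp only [Finset.sum_const, Finset.card_univ, nsmul_eq_mul, Nat.card_eq_fintype_card]
    ring
  rw [h2] at h1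
  have h4 : ((∑ χ : IrrCharacter G, U C l χ * U C l' χ : ℤ) : ℂ) =
      ((2 + (if l' = l then 1 else 0) + (if l' = cjL (hc C) l then 1 else 0) : ℤ) : ℂ) := by
    push_cast
    rw [h1]
    have := e_ne C
    split_ifs <;> field_simp <;> ring
  exact_mod_cast h4

/-- The degree relation. -/
theorem degsum (l : IrrCharacter C.K) :
    ∑ χ : IrrCharacter G, U C l χ * (dg (χ : G → ℂ) : ℤ) = 0 := by
  have h1 := TU_one C l
  rw [TU] at h1
  have h2 : ((∑ χ : IrrCharacter G, U C l χ * (dg (χ : G → ℂ) : ℤ) : ℤ) : ℂ) = 0 := by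
    push_cast
    rw [← h1]
    refine Finset.sum_congr rfl fun χ _ => ?_
    rw [dg_coe χ.2]
  exact_mod_cast h2

/-- The element `t` in `K`. -/
def tK : C.K := ⟨C.t, C.htK⟩

theorem tK_ne : tK C ≠ 1 := fun h => C.t_ne (congrArg Subtype.val h)

theorem tK_mul : tK C * tK C = 1 := Subtype.ext C.t2

theorem tK_inv : (tK C)⁻¹ = tK C := inv_eq_of_mul_eq_one_left (tK_mul C)

theorem lt_sq (l : IrrCharacter C.K) : (l : C.K → ℂ) (tK C) * (l : C.K → ℂ) (tK C) = 1 := by
  rw [← l_mul (hc C), tK_mul, l_one (hc C)]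

/-- The sign of `l(t)`. -/
noncomputable def sgn (l : IrrCharacter C.K) : ℤ := if (l : C.K → ℂ) (tK C) = 1 then 1 else -1

theorem sgn_vals (l : IrrCharacter C.K) : sgn C l = 1 ∨ sgn C l = -1 := by
  rw [sgn]
  split_ifs <;> simp

theorem sgn_coe (l : IrrCharacter C.K) : (sgn C l : ℂ) = (l : C.K → ℂ) (tK C) := by
  rw [sgn]
  split_ifs with h
  · simp [h]
  · have h1 := lt_sq C l
    have h2 : ((l : C.K → ℂ) (tK C) - 1) * ((l : C.K → ℂ) (tK C) + 1) = 0 := by
      linear_combination h1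
    rcases mul_eq_zero.1 h2 with h3 | h3
    · exact absurd (sub_eq_zero.1 h3) h
    · push_cast
      linear_combination - h3

theorem conj_lt (l : IrrCharacter C.K) : conj ((l : C.K → ℂ) (tK C)) = (l : C.K → ℂ) (tK C) := by
  rw [l_conj, tK_inv]

theorem sgn_one : sgn C (one C.K) = 1 := by
  rw [sgn, if_pos (one_apply _)]

theorem sgn_cj (l : IrrCharacter C.K) : sgn C (cjL (hc C) l) = sgn C l := by
  rw [sgn, sgn, cjL_apply, conj_lt]

theorem sum_sgn : ∑ l : IrrCharacter C.K, sgn C l = 0 := by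
  have h1 := sum_irr_apply (hc C) (tK C)
  rw [if_neg (tK_ne C)] at h1
  have h2 : ((∑ l : IrrCharacter C.K, sgn C l : ℤ) : ℂ) = 0 := by
    push_cast
    rw [← h1]
    exact Finset.sum_congr rfl fun l _ => sgn_coe C l
  exact_mod_cast h2

/-- The value at `t`. -/
noncomputable def r (χ : IrrCharacter G) : ℤ := ∑ l : IrrCharacter C.K, (m C l χ : ℤ) * sgn C l

theorem r_coe (χ : IrrCharacter G) : (r C χ : ℂ) = (χ : G → ℂ) C.t := by
  have h := res_expand C χ (tK C)
  have h2 : (((tK C : C.K) : G)) = C.t := rfl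
  rw [h2] at h
  rw [h, r]
  push_cast
  exact Finset.sum_congr rfl fun l _ => by rw [sgn_coe]

theorem par_r (χ : IrrCharacter G) : Even (r C χ - dg (χ : G → ℂ)) := by
  have h1 : r C χ - dg (χ : G → ℂ) = ∑ l : IrrCharacter C.K, (m C l χ : ℤ) * (sgn C l - 1) := by
    rw [r, deg_expand C χ]
    push_cast
    rw [← Finset.sum_sub_distrib]
    refine Finset.sum_congr rfl fun l _ => ?_
    ring
  rw [h1, even_iff_two_dvd]
  refine Finset.dvd_sum fun l _ => ?_
  rcases sgn_vals C l with h | h <;> rw [h] <;> norm_num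

theorem fourier (χ : IrrCharacter G) : r C χ = - ∑ l : IrrCharacter C.K, U C l χ * sgn C l := by
  have h1 : ∑ l : IrrCharacter C.K, U C l χ * sgn C l =
      (m C (one C.K) χ : ℤ) * ∑ l : IrrCharacter C.K, sgn C l - r C χ := by
    rw [r, Finset.mul_sum, ← Finset.sum_sub_distrib]
    refine Finset.sum_congr rfl fun l _ => ?_
    rw [U]
    ring
  rw [h1, sum_sgn]
  ring

theorem tsum {l : IrrCharacter C.K} (_hl : l ≠ one C.K) :
    ∑ χ : IrrCharacter G, U C l χ * r C χ = 2 - 2 * sgn C l := by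
  have h1 := TU_K C l (tK_ne C)
  rw [conj_lt, TU] at h1
  have h2 : ((∑ χ : IrrCharacter G, U C l χ * r C χ : ℤ) : ℂ) = ((2 - 2 * sgn C l : ℤ) : ℂ) := by
    push_cast
    rw [sgn_coe]
    have h3 : ((tK C : C.K) : G) = C.t := rfl
    rw [h3] at h1
    calc ∑ χ : IrrCharacter G, (U C l χ : ℂ) * (r C χ : ℂ)
        = ∑ χ : IrrCharacter G, (U C l χ : ℂ) * (χ : G → ℂ) C.t :=
          Finset.sum_congr rfl fun χ _ => by rw [r_coe]
      _ = _ := by rw [h1]; ring
  exact_mod_cast h2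

/-- The weighted column sum. -/
noncomputable def W (y : G) : ℂ :=
  ∑ χ : IrrCharacter G, ((r C χ : ℂ) ^ 2 / (dg (χ : G → ℂ) : ℂ)) * (χ : G → ℂ) y

theorem card_W (y : G) :
    ((Nat.card C.H : ℂ) ^ 2 * (iv y : ℂ)) = (Fintype.card G : ℂ) * W C y := by
  have h1 := Cfsg.Agent.Lib.Char.ClassPair.card_pairs_eq_sum C.t C.t y
  rw [C.card_pairs_eq y] at h1
  push_cast at h1
  rw [h1, W, Nat.card_eq_fintype_card]
  congr 1
  refine Finset.sum_congr rfl fun χ _ => ?_
  rw [← r_coe, dg_coe χ.2, map_mul, map_intCast]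
  ring

/-- The constant value of the weighted sum on `K`. -/
noncomputable def cc : ℚ := 4 * (Nat.card C.K : ℚ) ^ 3 / (Fintype.card G : ℚ)

theorem card_G_ne : (Fintype.card G : ℂ) ≠ 0 := Nat.cast_ne_zero.mpr Fintype.card_pos.ne'

theorem W_K {k : C.K} (hk : k ≠ 1) : W C (k : G) = (cc C : ℂ) := by
  have h1 := card_W C (k : G)
  rw [C.iv_K k.2 (fun h => hk (Subtype.ext h)), C.card_H] at h1
  have h2 := card_G_ne (G := G)
  rw [cc]
  push_cast
  push_cast at h1
  field_simp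
  linear_combination - h1

theorem wsum {l : IrrCharacter C.K} (hl : l ≠ one C.K) :
    ∑ χ : IrrCharacter G, ((r C χ : ℂ) ^ 2 / (dg (χ : G → ℂ) : ℂ)) * (U C l χ : ℂ) = (cc C : ℂ) := by
  have h1 : ∑ χ : IrrCharacter G, ((r C χ : ℂ) ^ 2 / (dg (χ : G → ℂ) : ℂ)) * (U C l χ : ℂ) =
      (Nat.card C.K : ℂ)⁻¹ * ∑ k : C.K, (1 - conj ((l : C.K → ℂ) k)) * W C (k : G) := by
    simp only [U_coe', W, Finset.mul_sum]
    rw [Finset.sum_comm]
    refine Finset.sum_congr rfl fun k _ => Finset.sum_congr rfl fun χ _ => ?_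
    ring
  rw [h1]
  have h2 : ∀ k : C.K, (1 - conj ((l : C.K → ℂ) k)) * W C (k : G) =
      (1 - conj ((l : C.K → ℂ) k)) * (cc C : ℂ) := by
    intro k
    by_cases hk : k = 1
    · rw [hk, l_one (hc C)]
      simp
    · rw [W_K C hk]
  simp_rw [h2]
  rw [← Finset.sum_mul, Finset.sum_sub_distrib, sum_conj_l, if_neg hl, sub_zero]
  simp only [Finset.sum_const, Finset.card_univ, nsmul_eq_mul, mul_one, Nat.card_eq_fintype_card]
  have := e_ne C
  rw [Nat.card_eq_fintype_card] at this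
  field_simp

/-- Number of real characters. -/
theorem card_real : (Finset.univ.filter fun l : IrrCharacter C.K => l = cjL (hc C) l).card = 2 := by
  have h1 : ∑ l : IrrCharacter C.K, ∑ k : C.K, (l : C.K → ℂ) k * (l : C.K → ℂ) k =
      ∑ k : C.K, ∑ l : IrrCharacter C.K, (l : C.K → ℂ) k * (l : C.K → ℂ) k := Finset.sum_comm
  have h2 : ∀ l : IrrCharacter C.K, ∑ k : C.K, (l : C.K → ℂ) k * (l : C.K → ℂ) k =
      if l = cjL (hc C) l then (Nat.card C.K : ℂ) else 0 := fun l => sum_mul (hc C) l l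
  have h3 : ∀ k : C.K, ∑ l : IrrCharacter C.K, (l : C.K → ℂ) k * (l : C.K → ℂ) k =
      if k * k = 1 then (Nat.card C.K : ℂ) else 0 := by
    intro k
    have h4 := sum_irr_apply (hc C) (k * k)
    simp only [l_mul (hc C)] at h4
    rw [h4]
    split_ifs <;> rfl
  simp_rw [h2, h3] at h1
  rw [Finset.sum_ite, Finset.sum_ite] at h1
  simp only [Finset.sum_const, nsmul_eq_mul, mul_zero, add_zero] at h1
  have h4 := mul_right_cancel₀ (e_ne C) h1
  have h5 : (Finset.univ.filter fun k : C.K => k * k = 1) = {1, tK C} := by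
    ext k
    simp only [Finset.mem_filter, Finset.mem_univ, true_and, Finset.mem_insert, Finset.mem_singleton]
    constructor
    · intro h
      rcases C.K_inv2 k.2 (congrArg Subtype.val h) with h6 | h6
      · exact Or.inl (Subtype.ext h6)
      · exact Or.inr (Subtype.ext h6)
    · rintro (rfl | rfl)
      · simp
      · exact tK_mul C
  rw [h5, Finset.card_pair (tK_ne C).symm] at h4
  exact_mod_cast h4

theorem exists_nu : ∃ ν : IrrCharacter C.K, ν ≠ one C.K ∧
    ∀ l, cjL (hc C) l = l ↔ l = one C.K ∨ l = ν := by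
  have h1 := card_real C
  obtain ⟨a, b, hab, hS⟩ := Finset.card_eq_two.1 h1
  have hone : cjL (hc C) (one C.K) = one C.K := by
    apply Subtype.ext
    funext x
    simp [cjL_apply, one_apply]
  have hmem : ∀ l, l = cjL (hc C) l ↔ l = a ∨ l = b := by
    intro l
    have : l ∈ (Finset.univ.filter fun l : IrrCharacter C.K => l = cjL (hc C) l) ↔ l ∈ ({a, b} : Finset _) := by
      rw [hS]
    simpa using this
  have hone' := (hmem (one C.K)).1 hone.symm
  rcases hone' with h | h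
  · refine ⟨b, ?_, ?_⟩
    · rw [h]; exact hab.symm
    · intro l
      rw [h, eq_comm, hmem]
  · refine ⟨a, ?_, ?_⟩
    · rw [h]; exact hab
    · intro l
      rw [h, eq_comm, hmem, or_comm]

theorem par_nu {ν : IrrCharacter C.K} (hν : ν ≠ one C.K)
    (hreal : ∀ l, cjL (hc C) l = l ↔ l = one C.K ∨ l = ν) (χ : IrrCharacter G) :
    Even (U C ν χ - dg (χ : G → ℂ)) := by
  set S := (Finset.univ.erase (one C.K)).erase ν with hS
  have h1 : dg (χ : G → ℂ) = m C (one C.K) χ + m C ν χ + ∑ l ∈ S, m C l χ := by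
    rw [deg_expand C χ, ← Finset.add_sum_erase _ _ (Finset.mem_univ (one C.K)),
      ← Finset.add_sum_erase _ _ (Finset.mem_erase.2 ⟨hν, Finset.mem_univ ν⟩), add_assoc]
  have h2 : ((∑ l ∈ S, m C l χ : ℕ) : ZMod 2) = 0 := by
    push_cast
    refine Finset.sum_involution (fun l _ => cjL (hc C) l) ?_ ?_ ?_ ?_
    · intro l _
      rw [m_cj]
      exact CharTwo.add_self_eq_zero _
    · intro l hl _ h3
      have h4 := (hreal l).1 h3
      rcases h4 with h4 | h4
      · exact (Finset.mem_erase.1 (Finset.mem_erase.1 hl).2).1 h4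
      · exact (Finset.mem_erase.1 hl).1 h4
    · intro l hl
      have hl1 := (Finset.mem_erase.1 hl).1
      have hl2 := (Finset.mem_erase.1 (Finset.mem_erase.1 hl).2).1
      refine Finset.mem_erase.2 ⟨fun h3 => hl1 ?_, Finset.mem_erase.2 ⟨fun h3 => hl2 ?_, Finset.mem_univ _⟩⟩
      · have h4 := congrArg (cjL (hc C)) h3
        rw [cjL_cjL] at h4
        rw [h4]
        exact (hreal ν).2 (Or.inr rfl)
      · have h4 := congrArg (cjL (hc C)) h3
        rw [cjL_cjL] at h4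
        rw [h4]
        exact (hreal _).2 (Or.inl rfl)
    · intro l _
      exact cjL_cjL (hc C) l
  have h3 : Even (∑ l ∈ S, m C l χ) := (ZMod.natCast_eq_zero_iff_even).1 h2
  obtain ⟨z, hz⟩ := h3
  rw [h1, U, hz]
  push_cast
  exact ⟨-(m C ν χ : ℤ) - z, by ring⟩

/-- The number of involutions. -/
noncomputable def NI (G : Type u) [Group G] [Fintype G] : ℕ :=
  (Finset.univ.filter fun a : G => orderOf a = 2).card

theorem card_inv : NI G * Nat.card C.H = Fintype.card G := by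
  have h1 := Finset.card_eq_sum_card_fiberwise (f := fun b : G => b * C.t * b⁻¹)
    (s := Finset.univ) (t := Finset.univ) (fun _ _ => Finset.mem_univ _)
  rw [Finset.card_univ] at h1
  rw [h1]
  simp_rw [C.card_conj_eq]
  rw [Finset.sum_ite, Finset.sum_const_zero, add_zero, Finset.sum_const, smul_eq_mul, NI]

include C in
theorem NI_pos' : 0 < NI G := by
  have h := card_inv C
  by_contra h1
  have h2 : NI G = 0 := by omega
  rw [h2, zero_mul] at h
  exact Fintype.card_pos.ne' h.symm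

theorem index_H : C.H.index = NI G := by
  have h1 := Subgroup.index_mul_card C.H
  have h2 := card_inv C
  have h3 : 0 < Nat.card C.H := Nat.card_pos
  rw [Nat.card_eq_fintype_card (α := G)] at h1
  rw [← h2] at h1
  exact Nat.eq_of_mul_eq_mul_right h3 h1

theorem dvd_NI {χ : IrrCharacter G} (h : r C χ * r C χ = 1) : dg (χ : G → ℂ) ∣ NI G := by
  obtain ⟨n, ρ, hρ, hx⟩ := χ.2
  have := hρ
  have hint := Cfsg.Agent.Lib.Char.Integrality.isIntegral_classSize_mul_character_div_finrank ρ C.t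
  have hn : Module.finrank ℂ (Fin n → ℂ) = n := by simp
  have hd : dg (χ : G → ℂ) = n := by
    have h1 : (χ : G → ℂ) 1 = (n : ℂ) := by
      rw [← hx]
      simp [Representation.character]
    rw [dg, h1, toN_natCast]
  have hn0 : n ≠ 0 := by
    rw [← hd]
    exact (dg_pos χ.2).ne'
  rw [hd]
  refine Cfsg.Agent.Lib.Char.Integrality.natCast_dvd_of_isIntegral_div hn0 ?_
  rw [hn, hx, ← r_coe, index_H] at hint
  have hr : IsIntegral ℤ ((r C χ : ℂ)) := by
    have h := isIntegral_algebraMap (R := ℤ) (A := ℂ) (x := r C χ)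
    rwa [eq_intCast] at h
  have h2 := hint.mul hr
  have h3 : ((NI G : ℂ) * (r C χ : ℂ) / (n : ℂ)) * (r C χ : ℂ) = (NI G : ℂ) / (n : ℂ) := by
    have h4 : ((r C χ : ℂ)) * (r C χ : ℂ) = 1 := by exact_mod_cast h
    have hn' : (n : ℂ) ≠ 0 := Nat.cast_ne_zero.mpr hn0
    field_simp
    linear_combination (NI G : ℂ) * h4
  rwa [h3] at h2

theorem dg_one_G : dg ((one G : IrrCharacter G) : G → ℂ) = 1 := by
  rw [dg, one_apply]
  exact_mod_cast toN_natCast 1

theorem r_one : r C (one G) = 1 := by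
  have h := r_coe C (one G)
  rw [one_apply] at h
  exact_mod_cast h

theorem cc_pos : 0 < cc C := by
  rw [cc]
  have h1 : (0 : ℚ) < (Nat.card C.K : ℚ) := by exact_mod_cast Nat.card_pos
  have h2 : (0 : ℚ) < (Fintype.card G : ℚ) := by exact_mod_cast Fintype.card_pos
  positivity

theorem cc_NI : cc C * (NI G : ℚ) = 2 * (Fintype.card (IrrCharacter C.K) : ℚ) ^ 2 := by
  rw [cc, card_irr (hc C)]
  have h1 := card_inv C
  rw [C.card_H] at h1
  have h2 : (Fintype.card G : ℚ) = (NI G : ℚ) * (2 * (Nat.card C.K : ℚ)) := by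
    rw [← h1]
    push_cast
    ring
  have h3 : (0 : ℚ) < (Nat.card C.K : ℚ) := by exact_mod_cast Nat.card_pos
  have h4 : (0 : ℚ) < (NI G : ℚ) := by exact_mod_cast NI_pos' C
  rw [h2]
  field_simp
  ring

/-- The numerical data of the configuration. -/
noncomputable def vd (ν : IrrCharacter C.K) (hν : ν ≠ one C.K)
    (hreal : ∀ l, cjL (hc C) l = l ↔ l = one C.K ∨ l = ν) :
    BSWVec.VD (IrrCharacter G) (IrrCharacter C.K) where
  x0 := one G
  l0 := one C.K
  nu := ν
  cj := cjL (hc C)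
  U := U C
  deg χ := dg (χ : G → ℂ)
  r := r C
  sgn := sgn C
  c := cc C
  N := NI G
  deg_pos χ := dg_pos χ.2
  deg_x0 := dg_one_G
  r_x0 := r_one C
  U_x0 l hl := U_x0 C hl
  U_l0 := U_one_left C
  gram l l' hl hl' := gram C hl hl'
  U_cj := U_cj C
  cj_cj := cjL_cjL (hc C)
  real_iff := hreal
  nu_ne := hν
  degsum l _ := degsum C l
  par_nu := par_nu C hν hreal
  par_r := par_r C
  sgn_vals := sgn_vals C
  sgn_l0 := sgn_one C
  sgn_cj := sgn_cj C
  sum_sgn := sum_sgn C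
  tsum l hl := tsum C hl
  wsum l hl := by
    have h := wsum C hl
    have h2 : ((∑ χ : IrrCharacter G, (((r C χ : ℤ) : ℚ) ^ 2 / (dg (χ : G → ℂ) : ℚ)) *
        ((U C l χ : ℤ) : ℚ) : ℚ) : ℂ) = ((cc C : ℚ) : ℂ) := by
      push_cast
      exact h
    exact_mod_cast h2
  c_pos := cc_pos C
  fourier := fourier C
  dvd_N χ h := dvd_NI C h
  N_pos := NI_pos' C
  c_N := cc_NI C

/-- The sum of squares of the values at `t`. -/
theorem sum_r_sq : ∑ χ : IrrCharacter G, (r C χ : ℂ) ^ 2 = 2 * (Nat.card C.K : ℂ) := by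
  have h := column_orth_conj (IsConj.refl C.t)
  rw [C.card_H] at h
  push_cast at h
  rw [← h]
  refine Finset.sum_congr rfl fun χ _ => ?_
  rw [← r_coe, map_intCast]
  ring

/-- The output of the character-theoretic analysis. -/
structure Out (C : Conf G) where
  q : ℕ
  ε : ℤ
  ξ : IrrCharacter G
  f : ℕ
  hε : ε = 1 ∨ ε = -1
  hq : 3 ≤ q
  oddq : Odd q
  ξ_one : (ξ : G → ℂ) 1 = q
  ξ_K : ∀ k ∈ C.K, k ≠ 1 → (ξ : G → ℂ) k = ε
  dvd_q : q ∣ NI G
  hf : 2 * (f : ℤ) = q + ε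
  dvd_f : f ∣ NI G
  order : (Fintype.card G : ℤ) * ((q : ℤ) - ε) ^ 2 = 4 * (Nat.card C.K : ℤ) ^ 3 * q * (q + ε)
  off : ∀ y, C.E2 y → (2 * (Nat.card C.K : ℂ)) ^ 2 * (iv y : ℂ) = (Fintype.card G : ℂ) *
    (1 + (ξ : G → ℂ) y / q + ((ξ : G → ℂ) y + ε) * (2 * (Nat.card C.K : ℂ) - 2) / ((q : ℂ) + ε))

theorem exists_out : Nonempty (Out C) := by
  obtain ⟨ν, hν, hreal⟩ := exists_nu C
  set V := vd C ν hν hreal with hV
  obtain ⟨F⟩ := V.exists_fam
  have hq0 : (F.q : ℂ) ≠ 0 := by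
    have := F.hq
    exact Nat.cast_ne_zero.mpr (by omega)
  have hqε : (0 : ℤ) < F.q + F.ε := by
    have := F.hq
    rcases F.hε with h | h <;> rw [h] <;> omega
  have hqε0 : ((F.q : ℂ) + F.ε) ≠ 0 := by
    have : ((F.q : ℤ) + F.ε) ≠ 0 := hqε.ne'
    exact_mod_cast this
  have hε2 : (F.ε : ℂ) * F.ε = 1 := by
    rcases F.hε with h | h <;> rw [h] <;> norm_num
  have hdeg : ∀ χ : IrrCharacter G, (dg (χ : G → ℂ) : ℂ) = (χ : G → ℂ) 1 := fun χ => dg_coe χ.2
  -- the degree of `η₂`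
  obtain ⟨f, hf⟩ : ∃ f : ℕ, f = dg ((F.η₂ : IrrCharacter G) : G → ℂ) := ⟨_, rfl⟩
  have hf2 : 2 * (f : ℤ) = F.q + F.ε := by rw [hf]; exact F.deg_η₂
  have hf3 : 2 * (dg ((F.η₃ : IrrCharacter G) : G → ℂ) : ℤ) = F.q + F.ε := F.deg_η₃
  have hUξ : ∀ l, l ≠ one C.K → U C l F.ξ = F.ε := F.U_ξ
  refine ⟨⟨F.q, F.ε, F.ξ, f, F.hε, F.hq, F.oddq, ?_, ?_, ?_, hf2, ?_, ?_, ?_⟩⟩
  · rw [← hdeg]
    exact_mod_cast F.deg_ξ
  · -- the values on `K`
    intro k hk hk1
    have hk2 : (⟨k, hk⟩ : C.K) ≠ 1 := fun h => hk1 (congrArg Subtype.val h)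
    have h1 := res_expand C F.ξ ⟨k, hk⟩
    have h2 : ∀ l : IrrCharacter C.K, (m C l F.ξ : ℂ) * (l : C.K → ℂ) ⟨k, hk⟩ =
        (m C (one C.K) F.ξ : ℂ) * (l : C.K → ℂ) ⟨k, hk⟩ - (U C l F.ξ : ℂ) * (l : C.K → ℂ) ⟨k, hk⟩ := by
      intro l
      rw [U]
      push_cast
      ring
    simp_rw [h2] at h1
    rw [Finset.sum_sub_distrib, ← Finset.mul_sum, sum_irr_apply (hc C), if_neg hk2, mul_zero,
      zero_sub, ← Finset.add_sum_erase _ _ (Finset.mem_univ (one C.K)), U_one_left] at h1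
    have h3 : ∑ l ∈ Finset.univ.erase (one C.K), (U C l F.ξ : ℂ) * (l : C.K → ℂ) ⟨k, hk⟩ =
        (F.ε : ℂ) * ∑ l ∈ Finset.univ.erase (one C.K), (l : C.K → ℂ) ⟨k, hk⟩ := by
      rw [Finset.mul_sum]
      refine Finset.sum_congr rfl fun l hl => ?_
      rw [hUξ l (Finset.mem_erase.1 hl).1]
    have h4 := Finset.add_sum_erase Finset.univ (fun l : IrrCharacter C.K => (l : C.K → ℂ) ⟨k, hk⟩)
      (Finset.mem_univ (one C.K))
    rw [sum_irr_apply (hc C), if_neg hk2] at h4
    simp only [one_apply] at h4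
    have h5 : ∑ l ∈ Finset.univ.erase (one C.K), (l : C.K → ℂ) ⟨k, hk⟩ = -1 := by
      linear_combination h4
    rw [h3, h5] at h1
    simp only [Int.cast_zero, zero_mul, zero_add] at h1
    rw [show (k : G) = ((⟨k, hk⟩ : C.K) : G) from rfl, h1]
    ring
  · rw [← F.deg_ξ]
    exact dvd_NI C (by
      have h := F.r_ξ
      have h2 : r C F.ξ = F.ε := h
      rw [h2]
      rcases F.hε with h3 | h3 <;> rw [h3] <;> norm_num)
  · rw [hf]
    exact dvd_NI C F.r_η₂
  · -- order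
    have h1 := F.c_eq
    have h2 : V.c = cc C := rfl
    rw [h2, cc] at h1
    have h3 : (0 : ℚ) < (Fintype.card G : ℚ) := by exact_mod_cast Fintype.card_pos
    field_simp at h1
    have h4 : ((Fintype.card G : ℤ) * ((F.q : ℤ) - F.ε) ^ 2 : ℚ) =
        4 * (Nat.card C.K : ℤ) ^ 3 * F.q * (F.q + F.ε) := by
      push_cast
      linear_combination - h1
    exact_mod_cast h4
  · -- off `K`
    intro y hy
    have h1 := card_W C y
    rw [C.card_H] at h1
    push_cast at h1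
    rw [h1]
    congr 1
    -- the column relations
    have hnorm : ∀ (l : IrrCharacter C.K), TU C l y = 0 := fun l => TU_not_InK C l hy.2
    set a := (F.ξ : G → ℂ) y with ha
    have hU1 : ∀ (g : IrrCharacter G → ℂ), ∑ χ : IrrCharacter G, (U C ν χ : ℂ) * g χ =
        g (one G) + F.ε * g F.ξ - F.ε * g F.η₂ - F.ε * g F.η₃ := by
      intro g
      have h2 : ∀ χ : IrrCharacter G, (U C ν χ : ℂ) =
          (if χ = one G then 1 else 0) + (if χ = F.ξ then (F.ε : ℂ) else 0) +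
            (if χ = F.η₂ then -(F.ε : ℂ) else 0) + (if χ = F.η₃ then -(F.ε : ℂ) else 0) := by
        intro χ
        have h3 : U C ν χ = _ := F.U_nu χ
        rw [h3]
        push_cast
        rfl
      simp_rw [h2]
      simp [add_mul, Finset.sum_add_distrib, ite_mul]
      ring
    have hoff1 : (F.η₂ : G → ℂ) y + (F.η₃ : G → ℂ) y = a + F.ε := by
      have h2 := hnorm ν
      rw [TU, hU1 (fun χ => (χ : G → ℂ) y), one_apply, ← ha] at h2
      linear_combination (-(F.ε : ℂ)) * h2 - ((F.η₂ : G → ℂ) y + (F.η₃ : G → ℂ) y - a) * hε2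
    have hrest : ∀ χ : IrrCharacter G, χ ≠ one G → χ ≠ F.ξ → χ ≠ F.η₂ → χ ≠ F.η₃ → r C χ ≠ 0 →
        (dg (χ : G → ℂ) : ℂ) = (F.q : ℂ) + F.ε ∧ (χ : G → ℂ) y = a + F.ε := by
      intro χ h0 h2 h3 h4 h5
      obtain ⟨hd, l, hl, hlU⟩ := F.rest χ h0 h2 h3 h4 h5
      refine ⟨by exact_mod_cast hd, ?_⟩
      have h6 := hnorm l
      have h7 : ∀ χ' : IrrCharacter G, (U C l χ' : ℂ) =
          (if χ' = one G then 1 else 0) + (if χ' = F.ξ then (F.ε : ℂ) else 0) +
            (if χ' = χ then -(F.ε : ℂ) else 0) := by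
        intro χ'
        have h8 : U C l χ' = _ := hlU χ'
        rw [h8]
        push_cast
        rfl
      rw [TU] at h6
      simp_rw [h7] at h6
      simp only [add_mul, Finset.sum_add_distrib, ite_mul, one_mul, zero_mul, Finset.sum_ite_eq',
        Finset.mem_univ, if_true, one_apply] at h6
      rw [← ha] at h6
      linear_combination (-(F.ε : ℂ)) * h6 - ((χ : G → ℂ) y - a) * hε2
    set O : Finset (IrrCharacter G) := {one G, F.ξ, F.η₂, F.η₃} with hO
    have hm1 : one G ∉ ({F.ξ, F.η₂, F.η₃} : Finset (IrrCharacter G)) := by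
      simp only [Finset.mem_insert, Finset.mem_singleton, not_or]
      exact ⟨F.ξ_ne.symm, F.η₂_ne.symm, F.η₃_ne.symm⟩
    have hm2 : F.ξ ∉ ({F.η₂, F.η₃} : Finset (IrrCharacter G)) := by
      simp only [Finset.mem_insert, Finset.mem_singleton, not_or]
      exact ⟨F.ξη₂, F.ξη₃⟩
    have hm3 : F.η₂ ∉ ({F.η₃} : Finset (IrrCharacter G)) := by
      simp only [Finset.mem_singleton]
      exact F.η₂₃
    have hsumO : ∀ g : IrrCharacter G → ℂ, ∑ χ ∈ O, g χ = g (one G) + g F.ξ + g F.η₂ + g F.η₃ := by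
      intro g
      rw [hO, Finset.sum_insert hm1, Finset.sum_insert hm2, Finset.sum_insert hm3,
        Finset.sum_singleton]
      ring
    have hrξ : r C F.ξ = F.ε := F.r_ξ
    have hrη₂ : (r C F.η₂ : ℂ) ^ 2 = 1 := by
      have h : r C F.η₂ * r C F.η₂ = 1 := F.r_η₂
      have h2 : ((r C F.η₂ * r C F.η₂ : ℤ) : ℂ) = 1 := by rw [h]; norm_num
      push_cast at h2
      linear_combination h2
    have hrη₃ : (r C F.η₃ : ℂ) ^ 2 = 1 := by
      have h : r C F.η₃ * r C F.η₃ = 1 := F.r_η₃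
      have h2 : ((r C F.η₃ * r C F.η₃ : ℤ) : ℂ) = 1 := by rw [h]; norm_num
      push_cast at h2
      linear_combination h2
    have hrξ2 : (r C F.ξ : ℂ) ^ 2 = 1 := by
      rw [hrξ]
      linear_combination hε2
    have hr1 : (r C (one G) : ℂ) = 1 := by rw [r_one]; norm_num
    -- the sum of the squares off `O`
    have hcompl : ∑ χ ∈ Oᶜ, (r C χ : ℂ) ^ 2 = 2 * (Nat.card C.K : ℂ) - 4 := by
      have h2 := Finset.sum_add_sum_compl O (fun χ => (r C χ : ℂ) ^ 2)
      rw [sum_r_sq, hsumO, hr1, hrξ2, hrη₂, hrη₃] at h2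
      linear_combination h2
    have hterm : ∀ χ ∈ Oᶜ, ((r C χ : ℂ) ^ 2 / (dg (χ : G → ℂ) : ℂ)) * (χ : G → ℂ) y =
        (r C χ : ℂ) ^ 2 * ((a + F.ε) / ((F.q : ℂ) + F.ε)) := by
      intro χ hχ
      have h2 : χ ∉ O := Finset.mem_compl.1 hχ
      simp only [hO, Finset.mem_insert, Finset.mem_singleton, not_or] at h2
      by_cases h3 : r C χ = 0
      · rw [h3]
        simp
      · obtain ⟨h4, h5⟩ := hrest χ h2.1 h2.2.1 h2.2.2.1 h2.2.2.2 h3
        rw [h4, h5]
        ring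
    have hdη₂ : (dg ((F.η₂ : IrrCharacter G) : G → ℂ) : ℂ) = ((F.q : ℂ) + F.ε) / 2 := by
      have h2 : ((2 * (dg ((F.η₂ : IrrCharacter G) : G → ℂ) : ℤ) : ℤ) : ℂ) = ((F.q + F.ε : ℤ) : ℂ) := by
        rw [← hf, hf2]
      push_cast at h2
      rw [← h2]
      ring
    have hdη₃ : (dg ((F.η₃ : IrrCharacter G) : G → ℂ) : ℂ) = ((F.q : ℂ) + F.ε) / 2 := by
      have h2 : ((2 * (dg ((F.η₃ : IrrCharacter G) : G → ℂ) : ℤ) : ℤ) : ℂ) = ((F.q + F.ε : ℤ) : ℂ) := by
        rw [hf3]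
      push_cast at h2
      rw [← h2]
      ring
    have hdξ : (dg ((F.ξ : IrrCharacter G) : G → ℂ) : ℂ) = (F.q : ℂ) := by
      have h2 : dg ((F.ξ : IrrCharacter G) : G → ℂ) = F.q := F.deg_ξ
      rw [h2]
    rw [W, ← Finset.sum_add_sum_compl O, hsumO, Finset.sum_congr rfl hterm, ← Finset.sum_mul, hcompl,
      hrξ2, hrη₂, hrη₃, hr1, hdξ, hdη₂, hdη₃, dg_one_G, one_apply]
    have h9 : (F.η₃ : G → ℂ) y = a + F.ε - (F.η₂ : G → ℂ) y := by
      linear_combination hoff1
    rw [h9]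
    field_simp
    ring

end Cfsg.Agent.Lib.Zass.BSWChar
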