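import Mathlib
import Cfsg.Agent.Lib.Zass.BSWChar
import Cfsg.Agent.Lib.Char.Values

/-!
# Brauer–Suzuki–Wall: counting; the order of the group
-/

set_option autoImplicit false
set_option linter.unusedSectionVars false
set_option linter.unreachableTactic false
set_option linter.unusedTactic false

namespace Cfsg.Agent.Lib.Zass.BSWChar

open Cfsg Cfsg.Agent.Lib.Zass.Rows2 Cfsg.Agent.Lib.Zass.BSWAb Cfsg.Agent.Lib.Zass.BSWGroup
open Cfsg.Agent.Lib.Char.Ortho (classInner_irr fintype_irr)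
open Cfsg.Agent.Lib.Char.Induced (classInner_def)
open Cfsg.Agent.Lib.Char.CompleteCor
open scoped ComplexConjugate Classical
open Finset

universe u

variable {G : Type u} [Group G] [Fintype G] {C : Conf G} (O : Out C)

theorem card_G_eq : Fintype.card G = NI G * (2 * Nat.card C.K) := by
  rw [← card_inv C, C.card_H]

namespace Out

/-- `q` and `f` are coprime -/
theorem coprime_qf : Nat.Coprime O.q O.f := by
  rw [← Nat.isCoprime_iff_coprime]
  have hε : O.ε * O.ε = 1 := by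
    rcases O.hε with h | h <;> rw [h] <;> norm_num
  refine ⟨-O.ε, 2 * O.ε, ?_⟩
  linear_combination O.ε * O.hf + hε

theorem q_mul_f_dvd : O.q * O.f ∣ NI G := O.coprime_qf.mul_dvd_of_dvd_of_dvd O.dvd_q O.dvd_f

theorem w_pos : (0 : ℤ) < (O.q : ℤ) - O.ε := by
  have := O.hq
  rcases O.hε with h | h <;> rw [h] <;> omega

theorem f_pos : 0 < O.f := by
  have h := O.hf
  have := O.hq
  rcases O.hε with h1 | h1 <;> rw [h1] at h <;> omega

theorem e_pos : 0 < Nat.card C.K := Nat.card_pos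

/-- The parameter `k`. -/
theorem exists_k : ∃ k w : ℕ, (w : ℤ) = (O.q : ℤ) - O.ε ∧ 2 * Nat.card C.K = k * w ∧
    NI G = O.q * O.f * k ^ 2 ∧ 0 < k ∧ 0 < w := by
  obtain ⟨w, hw⟩ : ∃ w : ℕ, (w : ℤ) = (O.q : ℤ) - O.ε :=
    ⟨((O.q : ℤ) - O.ε).toNat, Int.toNat_of_nonneg O.w_pos.le⟩
  have hw0 : 0 < w := by
    have := O.w_pos
    omega
  obtain ⟨M, hM⟩ := O.q_mul_f_dvd
  have he := e_pos (C := C)
  have hq0 : 0 < O.q := by
    have := O.hq
    omega
  have hf0 := O.f_pos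
  have h1 : M * w ^ 2 = (2 * Nat.card C.K) ^ 2 := by
    have h2 := O.order
    rw [card_G_eq, hM, ← hw] at h2
    have h3 : ((O.q : ℤ) + O.ε) = 2 * O.f := O.hf.symm
    rw [h3] at h2
    have h4 : ((O.q * O.f : ℕ) : ℤ) * (2 * (Nat.card C.K : ℤ)) * ((M : ℤ) * (w : ℤ) ^ 2) =
        ((O.q * O.f : ℕ) : ℤ) * (2 * (Nat.card C.K : ℤ)) * (2 * (Nat.card C.K : ℤ)) ^ 2 := by
      push_cast at h2 ⊢
      linear_combination h2
    have h5 : ((O.q * O.f : ℕ) : ℤ) * (2 * (Nat.card C.K : ℤ)) ≠ 0 := by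
      positivity
    have h6 := mul_left_cancel₀ h5 h4
    exact_mod_cast h6
  have h2 : w ^ 2 ∣ (2 * Nat.card C.K) ^ 2 := ⟨M, by rw [← h1]; ring⟩
  have h3 : w ∣ 2 * Nat.card C.K := (Nat.pow_dvd_pow_iff two_ne_zero).1 h2
  obtain ⟨k, hk⟩ := h3
  refine ⟨k, w, hw, by rw [hk]; ring, ?_, ?_, hw0⟩
  · rw [hM]
    congr 1
    rw [hk] at h1
    have h4 : M * w ^ 2 = k ^ 2 * w ^ 2 := by rw [h1]; ring
    exact Nat.eq_of_mul_eq_mul_right (by positivity) h4
  · by_contra h4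
    have h5 : k = 0 := by omega
    rw [h5] at hk
    omega

end Out

/-- An algebraic integer which is rational is an integer. -/
theorem exists_int_of_isIntegral {a : ℂ} (h : IsIntegral ℤ a) {x : ℚ} (hx : a = (x : ℂ)) :
    ∃ z : ℤ, a = z := by
  have hq : IsIntegral ℤ x := by
    have h2 : (algebraMap ℚ ℂ) x = a := by rw [hx]; simp
    rw [← h2] at h
    exact (isIntegral_algebraMap_iff (algebraMap ℚ ℂ).injective).1 h
  obtain ⟨z, hz⟩ := IsIntegrallyClosed.isIntegral_iff.1 hq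
  refine ⟨z, ?_⟩
  rw [hx, ← hz]
  simp

namespace Out

/-- The formula for `iv` outside the conjugates of `K`. -/
theorem off_formula {k w : ℕ} (hw : (w : ℤ) = (O.q : ℤ) - O.ε) (hk : 2 * Nat.card C.K = k * w)
    (hN : NI G = O.q * O.f * k ^ 2) (hk0 : 0 < k) (hw0 : 0 < w) {y : G} (hy : C.E2 y) :
    2 * (iv y : ℂ) = (k : ℂ) * ((O.q : ℂ) - (O.ξ : G → ℂ) y +
      (k : ℂ) * (O.q : ℂ) * ((O.ξ : G → ℂ) y + O.ε)) := by
  have h1 := O.off y hy
  set a := (O.ξ : G → ℂ) y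
  have hW : (w : ℂ) = (O.q : ℂ) - O.ε := by exact_mod_cast hw
  have hF : (O.q : ℂ) + O.ε = 2 * (O.f : ℂ) := by
    have := O.hf
    have h2 : ((2 * (O.f : ℤ) : ℤ) : ℂ) = (((O.q : ℤ) + O.ε : ℤ) : ℂ) := by rw [this]
    push_cast at h2
    exact h2.symm
  have h2e : 2 * (Nat.card C.K : ℂ) = (k : ℂ) * (w : ℂ) := by exact_mod_cast hk
  have hn : (Fintype.card G : ℂ) = (O.q : ℂ) * (O.f : ℂ) * (k : ℂ) ^ 3 * (w : ℂ) := by
    have h3 : Fintype.card G = O.q * O.f * k ^ 3 * w := by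
      rw [card_G_eq, hN, hk]
      ring
    rw [h3]
    push_cast
    ring
  have hq0 : (O.q : ℂ) ≠ 0 := by
    have := O.hq
    exact Nat.cast_ne_zero.mpr (by omega)
  have hf0 : (O.f : ℂ) ≠ 0 := Nat.cast_ne_zero.mpr O.f_pos.ne'
  have hk0' : (k : ℂ) ≠ 0 := Nat.cast_ne_zero.mpr hk0.ne'
  have hw0' : (w : ℂ) ≠ 0 := Nat.cast_ne_zero.mpr hw0.ne'
  rw [h2e, hn, hF] at h1
  have hE : (O.ε : ℂ) = 2 * (O.f : ℂ) - (O.q : ℂ) := by linear_combination hF
  have hW2 : (w : ℂ) = 2 * (O.q : ℂ) - 2 * (O.f : ℂ) := by rw [hW, hE]; ring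
  have h3 : (O.q : ℂ) * (O.f : ℂ) * (k : ℂ) ^ 3 * (w : ℂ) * (1 + a / (O.q : ℂ) +
      (a + O.ε) * ((k : ℂ) * (w : ℂ) - 2) / (2 * (O.f : ℂ))) =
      ((k : ℂ) ^ 2 * (w : ℂ)) * ((k : ℂ) * ((O.q : ℂ) * (O.f : ℂ) + (O.f : ℂ) * a) +
        (O.q : ℂ) * (k : ℂ) * (a + O.ε) * ((k : ℂ) * (w : ℂ) - 2) / 2) := by
    field_simp
  rw [h3] at h1
  have h4 : ((k : ℂ) * (w : ℂ)) ^ 2 * (iv y : ℂ) = ((k : ℂ) ^ 2 * (w : ℂ)) * ((w : ℂ) * (iv y : ℂ)) := by
    ring
  rw [h4] at h1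
  have h5 := mul_left_cancel₀ (mul_ne_zero (pow_ne_zero 2 hk0') hw0') h1
  have h6 : (w : ℂ) * (2 * (iv y : ℂ) - (k : ℂ) * ((O.q : ℂ) - a +
      (k : ℂ) * (O.q : ℂ) * (a + O.ε))) = 0 := by
    rw [hE] at h5 ⊢
    rw [hW2] at h5 ⊢
    linear_combination 2 * h5
  rcases mul_eq_zero.1 h6 with h7 | h7
  · exact absurd h7 hw0'
  · linear_combination h7

/-- Integrality of the value at an element outside the conjugates of `K`. -/
theorem exists_int_val {y : G} (hy : C.E2 y) : ∃ z : ℤ, (O.ξ : G → ℂ) y = z := by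
  obtain ⟨k, w, hw, hk, hN, hk0, hw0⟩ := O.exists_k
  have h1 := O.off_formula hw hk hN hk0 hw0 hy
  have hint : IsIntegral ℤ ((O.ξ : G → ℂ) y) :=
    Cfsg.Agent.Lib.Char.Values.IsCharacter.isIntegral (isCh O.ξ) y
  set a := (O.ξ : G → ℂ) y
  have hq3 := O.hq
  have hne : ((k : ℂ) * ((k : ℂ) * (O.q : ℂ) - 1)) ≠ 0 := by
    have h2 : ((k : ℤ) * ((k : ℤ) * (O.q : ℤ) - 1)) ≠ 0 := by
      have h3 : (1 : ℤ) ≤ k := by exact_mod_cast hk0
      have h4 : (3 : ℤ) ≤ O.q := by exact_mod_cast hq3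
      have h5 : (3 : ℤ) ≤ (k : ℤ) * (O.q : ℤ) := by nlinarith
      have h6 : (k : ℤ) * (O.q : ℤ) - 1 ≠ 0 := by omega
      exact mul_ne_zero (by omega) h6
    exact_mod_cast h2
  refine exists_int_of_isIntegral hint (x := (2 * (iv y : ℚ) - (k : ℚ) * (O.q : ℚ) -
    (k : ℚ) * (k : ℚ) * (O.q : ℚ) * (O.ε : ℚ)) / ((k : ℚ) * ((k : ℚ) * (O.q : ℚ) - 1))) ?_
  push_cast
  rw [eq_div_iff hne]
  linear_combination - h1

/-- The integer value. -/
noncomputable def A (y : G) : ℤ := ⌊((O.ξ : G → ℂ) y).re⌋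

theorem A_coe {y : G} (hy : C.E2 y) : (O.ξ : G → ℂ) y = (O.A y : ℂ) := by
  obtain ⟨z, hz⟩ := O.exists_int_val hy
  rw [A, hz]
  simp

/-- The formula in integers. -/
theorem iv_formula {k w : ℕ} (hw : (w : ℤ) = (O.q : ℤ) - O.ε) (hk : 2 * Nat.card C.K = k * w)
    (hN : NI G = O.q * O.f * k ^ 2) (hk0 : 0 < k) (hw0 : 0 < w) {y : G} (hy : C.E2 y) :
    2 * (iv y : ℤ) = (k : ℤ) * ((O.q : ℤ) + O.ε + (O.A y + O.ε) * ((k : ℤ) * (O.q : ℤ) - 1)) := by
  have h1 := O.off_formula hw hk hN hk0 hw0 hy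
  rw [O.A_coe hy] at h1
  have h2 : ((2 * (iv y : ℤ) : ℤ) : ℂ) = (((k : ℤ) * ((O.q : ℤ) + O.ε +
      (O.A y + O.ε) * ((k : ℤ) * (O.q : ℤ) - 1)) : ℤ) : ℂ) := by
    push_cast
    rw [h1]
    ring
  exact_mod_cast h2

theorem A_conj (y g : G) : O.A (g * y * g⁻¹) = O.A y := by
  rw [A, A, Cfsg.Agent.Lib.Char.Basic.isClassFunction_of_isCharacter (isCh O.ξ) y g]

/-- The value on the conjugates of `K`. -/
theorem val_E1 {y : G} (hy : y ≠ 1) (hy2 : C.InK y) : (O.ξ : G → ℂ) y = O.ε := by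
  obtain ⟨g, k, hk, rfl⟩ := hy2
  rw [Cfsg.Agent.Lib.Char.Basic.isClassFunction_of_isCharacter (isCh O.ξ) k g]
  refine O.ξ_K k hk ?_
  rintro rfl
  apply hy
  group

end Out

/-- Conjugates of `K`. -/
noncomputable def E1F (C : Conf G) : Finset G := Finset.univ.filter fun y => y ≠ 1 ∧ C.InK y

/-- The complement. -/
noncomputable def E2F (C : Conf G) : Finset G := Finset.univ.filter fun y => C.E2 y

theorem sum_split {M : Type*} [AddCommMonoid M] (f : G → M) :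
    ∑ y, f y = f 1 + (∑ y ∈ E1F C, f y + ∑ y ∈ E2F C, f y) := by
  rw [← Finset.add_sum_erase _ _ (Finset.mem_univ (1 : G))]
  congr 1
  rw [← Finset.sum_filter_add_sum_filter_not (Finset.univ.erase (1 : G)) (fun y => C.InK y)]
  congr 1
  · refine Finset.sum_congr ?_ fun _ _ => rfl
    ext y
    simp [E1F, and_comm]
  · refine Finset.sum_congr ?_ fun _ _ => rfl
    ext y
    rw [E2F, Finset.mem_filter, Finset.mem_filter, Finset.mem_erase]
    simp [Conf.E2]

theorem card_split : Fintype.card G = 1 + ((E1F C).card + (E2F C).card) := by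
  have h := sum_split (C := C) (fun _ => (1 : ℕ))
  simpa using h

theorem card_E1F : (E1F C).card = NI G * (Nat.card C.K - 1) := by
  set S : Finset G := Finset.univ.filter fun x => x ∈ C.K ∧ x ≠ 1 with hS
  have hSc : S.card = Nat.card C.K - 1 := by
    have h1 : (Finset.univ.filter fun x : G => x ∈ C.K).card = Nat.card C.K := by
      rw [Nat.card_eq_fintype_card, ← Fintype.card_subtype]
    have h2 : S = (Finset.univ.filter fun x : G => x ∈ C.K).erase 1 := by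
      ext x
      simp [hS, and_comm]
    rw [h2, Finset.card_erase_of_mem (by simp [C.K.one_mem]), h1]
  have h1 := Conf.card_conj_union C.H S (by
    intro h hh x hx
    have hx' := (Finset.mem_filter.1 hx).2
    refine Finset.mem_filter.2 ⟨Finset.mem_univ _, C.H_conj_K hh hx'.1, ?_⟩
    intro h2
    apply hx'.2
    have : x = h⁻¹ * (h * x * h⁻¹) * h := by group
    rw [this, h2]
    group) (by
    intro x hx g hg
    have hx' := (Finset.mem_filter.1 hx).2
    exact C.ti hx'.1 hx'.2 (Finset.mem_filter.1 hg).2.1)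
  have h2 : ((Finset.univ ×ˢ S).image fun p : G × G => p.1 * p.2 * p.1⁻¹) = E1F C := by
    ext y
    simp only [Finset.mem_image, Finset.mem_product, Finset.mem_univ, true_and, E1F,
      Finset.mem_filter]
    constructor
    · rintro ⟨⟨g, x⟩, hx, rfl⟩
      have hx' := (Finset.mem_filter.1 hx).2
      refine ⟨?_, g, x, hx'.1, rfl⟩
      intro h3
      apply hx'.2
      have : x = g⁻¹ * (g * x * g⁻¹) * g := by group
      rw [this]
      simp only at h3
      rw [h3]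
      group
    · rintro ⟨hy, g, k, hk, rfl⟩
      refine ⟨(g, k), Finset.mem_filter.2 ⟨Finset.mem_univ _, hk, ?_⟩, rfl⟩
      rintro rfl
      apply hy
      group
  rw [h2, hSc, C.card_H, card_G_eq] at h1
  have h3 : 0 < 2 * Nat.card C.K := by
    have : 0 < Nat.card C.K := Nat.card_pos
    omega
  have h4 : (E1F C).card * (2 * Nat.card C.K) = (NI G * (Nat.card C.K - 1)) * (2 * Nat.card C.K) := by
    rw [h1]
    ring
  exact Nat.eq_of_mul_eq_mul_right h3 h4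

namespace Out

theorem xi_ne_one : O.ξ ≠ one G := by
  intro h
  have h1 := O.ξ_one
  rw [h, one_apply] at h1
  have h2 : O.q = 1 := by exact_mod_cast h1.symm
  have := O.hq
  omega

/-- First sum. -/
theorem S1 : (O.q : ℤ) + O.ε * (E1F C).card + ∑ y ∈ E2F C, O.A y = 0 := by
  have h1 := sum_l O.ξ
  rw [if_neg O.xi_ne_one, sum_split (C := C), O.ξ_one] at h1
  have h2 : ∑ y ∈ E1F C, (O.ξ : G → ℂ) y = ((E1F C).card : ℂ) * O.ε := by
    rw [Finset.sum_congr rfl (fun y hy => O.val_E1 (Finset.mem_filter.1 hy).2.1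
      (Finset.mem_filter.1 hy).2.2)]
    simp
  have h3 : ∑ y ∈ E2F C, (O.ξ : G → ℂ) y = ∑ y ∈ E2F C, (O.A y : ℂ) :=
    Finset.sum_congr rfl (fun y hy => O.A_coe (Finset.mem_filter.1 hy).2)
  rw [h2, h3] at h1
  have h4 : (((O.q : ℤ) + O.ε * (E1F C).card + ∑ y ∈ E2F C, O.A y : ℤ) : ℂ) = 0 := by
    push_cast
    linear_combination h1
  exact_mod_cast h4

/-- Second sum. -/
theorem S2 : (O.q : ℤ) ^ 2 + (E1F C).card + ∑ y ∈ E2F C, (O.A y) ^ 2 = Fintype.card G := by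
  have hε : (O.ε : ℂ) * O.ε = 1 := by
    rcases O.hε with h | h <;> rw [h] <;> norm_num
  have h1 := sum_mul_conj O.ξ O.ξ
  rw [if_pos rfl, sum_split (C := C), O.ξ_one, Complex.conj_natCast] at h1
  have h2 : ∑ y ∈ E1F C, (O.ξ : G → ℂ) y * conj ((O.ξ : G → ℂ) y) = ((E1F C).card : ℂ) := by
    have h3 : ∀ y ∈ E1F C, (O.ξ : G → ℂ) y * conj ((O.ξ : G → ℂ) y) = 1 := by
      intro y hy
      rw [O.val_E1 (Finset.mem_filter.1 hy).2.1 (Finset.mem_filter.1 hy).2.2, map_intCast, hε]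
    rw [Finset.sum_congr rfl h3]
    simp
  have h3 : ∑ y ∈ E2F C, (O.ξ : G → ℂ) y * conj ((O.ξ : G → ℂ) y) = ∑ y ∈ E2F C, (O.A y : ℂ) ^ 2 := by
    refine Finset.sum_congr rfl (fun y hy => ?_)
    rw [O.A_coe (Finset.mem_filter.1 hy).2, map_intCast]
    ring
  rw [h2, h3] at h1
  have h4 : (((O.q : ℤ) ^ 2 + (E1F C).card + ∑ y ∈ E2F C, (O.A y) ^ 2 : ℤ) : ℂ) =
      ((Fintype.card G : ℤ) : ℂ) := by
    push_cast
    rw [Nat.card_eq_fintype_card] at h1
    linear_combination h1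
  exact_mod_cast h4

/-- Restriction to a subgroup: the sum of the values is divisible by the order. -/
theorem sum_res_eq {S : Subgroup G} (χ : IrrCharacter G) :
    ∃ n : ℕ, @Finset.sum S ℂ _ (@Finset.univ S (Fintype.ofFinite S)) (fun x => (χ : G → ℂ) x) =
      (Nat.card S : ℂ) * n := by
  let _ : Fintype S := Fintype.ofFinite S
  have hres : IsCharacter S (fun x : S => (χ : G → ℂ) x) :=
    Cfsg.Agent.Lib.Char.Basic.isCharacter_restrict (isCh χ) S
  have hone : IsCharacter S (fun _ : S => (1 : ℂ)) :=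
    Cfsg.Agent.Lib.Char.Basic.isCharacter_of_isIrrCharacter
      Cfsg.Agent.Lib.Char.IndNormal.isIrrCharacter_principal
  obtain ⟨n, hn⟩ := Cfsg.Agent.Lib.Char.Ortho.exists_nat_classInner_of_isCharacter hres hone
  rw [classInner_def] at hn
  simp only [map_one, mul_one] at hn
  refine ⟨n, ?_⟩
  rw [← hn]
  have : (Nat.card S : ℂ) ≠ 0 := Nat.cast_ne_zero.mpr Nat.card_pos.ne'
  field_simp

set_option maxHeartbeats 2000000 in
/-- The key parameter is one. -/
theorem k_eq_one {k w : ℕ} (hw : (w : ℤ) = (O.q : ℤ) - O.ε) (hk : 2 * Nat.card C.K = k * w)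
    (hN : NI G = O.q * O.f * k ^ 2) (hk0 : 0 < k) (hw0 : 0 < w) : k = 1 := by
  by_contra hk1
  have hk2 : 2 ≤ k := by omega
  have hq3 := O.hq
  have hq3' : (3 : ℤ) ≤ O.q := by exact_mod_cast hq3
  have hk2' : (2 : ℤ) ≤ k := by exact_mod_cast hk2
  have hf2 := O.hf
  have hkq : 2 * (O.q : ℤ) ≤ (k : ℤ) * (O.q : ℤ) := mul_le_mul_of_nonneg_right hk2' (by omega)
  have hY : ∀ y ∈ E2F C, 0 ≤ O.A y + O.ε := by
    intro y hy
    have hy' := (Finset.mem_filter.1 hy).2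
    have h1 := O.iv_formula hw hk hN hk0 hw0 hy'
    have h2 : 0 ≤ (k : ℤ) * ((O.q : ℤ) + O.ε + (O.A y + O.ε) * ((k : ℤ) * (O.q : ℤ) - 1)) := by
      rw [← h1]
      positivity
    have h3 : 0 ≤ (O.q : ℤ) + O.ε + (O.A y + O.ε) * ((k : ℤ) * (O.q : ℤ) - 1) :=
      nonneg_of_mul_nonneg_right h2 (by omega)
    by_contra h4
    have h5 : O.A y + O.ε ≤ -1 := by omega
    have h7 : (O.A y + O.ε) * ((k : ℤ) * (O.q : ℤ) - 1) ≤ -1 * ((k : ℤ) * (O.q : ℤ) - 1) :=
      mul_le_mul_of_nonneg_right h5 (by omega)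
    rcases O.hε with h8 | h8 <;> rw [h8] at h3 h7 <;> omega
  -- numerics
  have hS1 := O.S1
  have hE1 := card_E1F (C := C)
  have hsplit := card_split (C := C)
  have hn := card_G_eq (C := C)
  have he2 : 2 ≤ Nat.card C.K := by
    have h1 : Even (Nat.card C.K) := C.even_card_K
    have h2 : 0 < Nat.card C.K := Nat.card_pos
    obtain ⟨z, hz⟩ := h1
    omega
  set N := NI G with hNdef
  set e := Nat.card C.K with hedef
  have hNpos : 0 < N := NI_pos' C
  have hE1' : ((E1F C).card : ℤ) = (N : ℤ) * ((e : ℤ) - 1) := by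
    rw [hE1]
    push_cast [Nat.cast_sub (by omega : 1 ≤ e)]
    ring
  have hE2' : ((E2F C).card : ℤ) = ((e : ℤ) + 1) * N - 1 := by
    have h1 : (Fintype.card G : ℤ) = 1 + ((E1F C).card + (E2F C).card) := by exact_mod_cast hsplit
    have h2 : (Fintype.card G : ℤ) = N * (2 * e) := by exact_mod_cast hn
    rw [hE1'] at h1
    linarith
  have hsumY : ∑ y ∈ E2F C, (O.A y + O.ε) = 2 * O.ε * N - O.q - O.ε := by
    rw [Finset.sum_add_distrib, Finset.sum_const, nsmul_eq_mul, hE2']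
    have h3 : ∑ y ∈ E2F C, O.A y = - (O.q : ℤ) - O.ε * ((N : ℤ) * ((e : ℤ) - 1)) := by
      rw [hE1'] at hS1
      linarith
    rw [h3]
    ring
  have hnonneg := Finset.sum_nonneg hY
  rw [hsumY] at hnonneg
  have hε1 : O.ε = 1 := by
    rcases O.hε with h | h
    · exact h
    · exfalso
      rw [h] at hnonneg
      have : (0 : ℤ) < N := by exact_mod_cast hNpos
      omega
  -- an element with value `-1`
  have hlt : ∑ y ∈ E2F C, (O.A y + O.ε) < ∑ y ∈ E2F C, (1 : ℤ) := by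
    rw [hsumY, Finset.sum_const, nsmul_eq_mul, hE2', hε1]
    have h1 : (0 : ℤ) < N := by exact_mod_cast hNpos
    have h2 : (2 : ℤ) ≤ e := by exact_mod_cast he2
    have h3 : 3 * (N : ℤ) ≤ ((e : ℤ) + 1) * N := mul_le_mul_of_nonneg_right (by omega) h1.le
    omega
  obtain ⟨y₀, hy₀, hy₀1⟩ := Finset.exists_lt_of_sum_lt hlt
  have hy₀' := (Finset.mem_filter.1 hy₀).2
  have hY0 : O.A y₀ + O.ε = 0 := by
    have := hY y₀ hy₀
    omega
  have hiv0 : 2 * (iv y₀ : ℤ) = (k : ℤ) * ((O.q : ℤ) + O.ε) := by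
    have h1 := O.iv_formula hw hk hN hk0 hw0 hy₀'
    rw [hY0] at h1
    rw [h1]
    ring
  have hivpos : 0 < iv y₀ := by
    have h1 : (0 : ℤ) < (k : ℤ) * ((O.q : ℤ) + O.ε) := by
      rw [hε1]
      positivity
    rw [← hiv0] at h1
    have h2 : (0 : ℤ) < iv y₀ := by omega
    exact_mod_cast h2
  obtain ⟨g, hg⟩ := C.exists_conj_inverted hivpos
  set z := g * y₀ * g⁻¹ with hz
  have hEz : C.E2 z := C.E2_conj hy₀' g
  have hAz : O.A z + O.ε = 0 := by rw [hz, O.A_conj]; exact hY0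
  have hc : 2 * (Nat.card (Subgroup.centralizer ({z} : Set G)) : ℤ) = (k : ℤ) * ((O.q : ℤ) + O.ε) := by
    rw [← C.iv_eq_card_cent hEz hg]
    have h1 := O.iv_formula hw hk hN hk0 hw0 hEz
    rw [hAz] at h1
    rw [h1]
    ring
  set c := Nat.card (Subgroup.centralizer ({z} : Set G)) with hcdef
  have hval : ∀ x ∈ Subgroup.centralizer ({z} : Set G), x ≠ 1 → (O.ξ : G → ℂ) x = -1 := by
    intro x hx hx1
    have hEx := C.E2_of_mem_cent hEz hx hx1
    have hinvx := C.cent_inverted hEz hg x hx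
    have hcent := C.cent_eq_of_mem hEz hg hx hx1
    have h1 := O.iv_formula hw hk hN hk0 hw0 hEx
    rw [C.iv_eq_card_cent hEx hinvx, hcent, ← hcdef, hc] at h1
    have h2 : (k : ℤ) * ((O.A x + O.ε) * ((k : ℤ) * (O.q : ℤ) - 1)) = 0 := by linarith
    have h3 : (k : ℤ) ≠ 0 := by omega
    have h4 : (k : ℤ) * (O.q : ℤ) - 1 ≠ 0 := by omega
    have h5 : O.A x + O.ε = 0 := by
      rcases mul_eq_zero.1 h2 with h6 | h6
      · exact absurd h6 h3
      · rcases mul_eq_zero.1 h6 with h7 | h7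
        · exact h7
        · exact absurd h7 h4
    have h6 : O.A x = -1 := by rw [hε1] at h5; omega
    rw [O.A_coe hEx, h6]
    norm_num
  obtain ⟨n, hn1⟩ := sum_res_eq (S := Subgroup.centralizer ({z} : Set G)) O.ξ
  let _ : Fintype (Subgroup.centralizer ({z} : Set G)) := Fintype.ofFinite _
  have hsum : ∑ x : Subgroup.centralizer ({z} : Set G), (O.ξ : G → ℂ) x =
      (O.q : ℂ) - ((c : ℂ) - 1) := by
    rw [← Finset.add_sum_erase _ _ (Finset.mem_univ (1 : Subgroup.centralizer ({z} : Set G)))]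
    have h1 : ∑ x ∈ Finset.univ.erase (1 : Subgroup.centralizer ({z} : Set G)), (O.ξ : G → ℂ) x =
        ∑ x ∈ Finset.univ.erase (1 : Subgroup.centralizer ({z} : Set G)), (-1 : ℂ) := by
      refine Finset.sum_congr rfl fun x hx => ?_
      refine hval x x.2 fun h => (Finset.mem_erase.1 hx).1 (Subtype.ext h)
    rw [h1, Finset.sum_const, Finset.card_erase_of_mem (Finset.mem_univ _), Finset.card_univ]
    have h2 : ((1 : Subgroup.centralizer ({z} : Set G)) : G) = 1 := rfl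
    rw [h2, O.ξ_one, ← Nat.card_eq_fintype_card, ← hcdef]
    have h3 : 1 ≤ c := Nat.card_pos
    simp only [nsmul_eq_mul, Nat.cast_sub h3]
    push_cast
    ring
  have hn2 : (O.q : ℂ) - ((c : ℂ) - 1) = (c : ℂ) * n := by
    rw [← hsum, ← hcdef] at *
    convert hn1 using 2
  have hn3 : (O.q : ℤ) + 1 = (c : ℤ) * ((n : ℤ) + 1) := by
    have h1 : (((O.q : ℤ) + 1 : ℤ) : ℂ) = (((c : ℤ) * ((n : ℤ) + 1) : ℤ) : ℂ) := by
      push_cast
      linear_combination hn2
    exact_mod_cast h1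
  have hcpos : (0 : ℤ) < c := by
    have : 0 < c := Nat.card_pos
    exact_mod_cast this
  have hcle : (c : ℤ) ≤ (O.q : ℤ) + 1 := by
    rw [hn3]
    have h1 : (0 : ℤ) ≤ (c : ℤ) * n := by positivity
    have h2 : (c : ℤ) * ((n : ℤ) + 1) = (c : ℤ) * n + c := by ring
    omega
  have hcge : (O.q : ℤ) + 1 ≤ c := by
    rw [hε1] at hc
    have h1 : (0 : ℤ) < (O.q : ℤ) + 1 := by omega
    have h2 : 2 * ((O.q : ℤ) + 1) ≤ (k : ℤ) * ((O.q : ℤ) + 1) :=
      mul_le_mul_of_nonneg_right hk2' h1.le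
    omega
  have hceq : (c : ℤ) = (O.q : ℤ) + 1 := le_antisymm hcle hcge
  have hodd : Odd c := C.cent_odd hEz
  have hoddq := O.oddq
  obtain ⟨a, ha⟩ := hodd
  obtain ⟨b, hb⟩ := hoddq
  rw [ha, hb] at hceq
  push_cast at hceq
  omega

/-- The final numerical package. -/
structure Main : Prop where
  hqe : (O.q : ℤ) = 2 * (Nat.card C.K : ℤ) + O.ε
  hN : NI G = O.q * O.f
  hn : Fintype.card G = 2 * Nat.card C.K * (O.q * O.f)
  A_vals : ∀ y, C.E2 y → O.A y = 0 ∨ O.A y = - O.ε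
  iv_gen : ∀ y, C.E2 y → 2 * (iv y : ℤ) = (O.q : ℤ) + O.ε + (O.A y + O.ε) * ((O.q : ℤ) - 1)
  card0 : (((E2F C).filter fun y => O.A y = 0).card : ℤ) = (O.q : ℤ) ^ 2 - 1
  card1 : (((E2F C).filter fun y => O.A y ≠ 0).card : ℤ) = O.ε * O.q + (E1F C).card

theorem main : O.Main := by
  obtain ⟨k, w, hw, hk, hN, hk0, hw0⟩ := O.exists_k
  have hk1 := O.k_eq_one hw hk hN hk0 hw0
  subst hk1
  simp only [one_mul, one_pow, mul_one] at hk hN
  have hε2 : O.ε * O.ε = 1 := by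
    rcases O.hε with h | h <;> rw [h] <;> norm_num
  have hS1 := O.S1
  have hS2 := O.S2
  have hE1 := card_E1F (C := C)
  have hsplit := card_split (C := C)
  have hn := card_G_eq (C := C)
  have hf2 := O.hf
  have he2 : 2 ≤ Nat.card C.K := by
    have h1 : Even (Nat.card C.K) := C.even_card_K
    have h2 : 0 < Nat.card C.K := Nat.card_pos
    obtain ⟨z, hz⟩ := h1
    omega
  set e := Nat.card C.K with hedef
  have hqe : (O.q : ℤ) = 2 * (e : ℤ) + O.ε := by
    have h1 : ((2 * e : ℕ) : ℤ) = (w : ℤ) := by rw [hk]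
    push_cast at h1
    rw [h1, hw]
    ring
  have hNi : (NI G : ℤ) = (O.q : ℤ) * O.f := by rw [hN]; push_cast; ring
  have hE1' : ((E1F C).card : ℤ) = (NI G : ℤ) * ((e : ℤ) - 1) := by
    rw [hE1]
    push_cast [Nat.cast_sub (by omega : 1 ≤ e)]
    ring
  have hnZ : (Fintype.card G : ℤ) = (NI G : ℤ) * (2 * e) := by exact_mod_cast hn
  have hE2' : ((E2F C).card : ℤ) = ((e : ℤ) + 1) * NI G - 1 := by
    have h1 : (Fintype.card G : ℤ) = 1 + ((E1F C).card + (E2F C).card) := by exact_mod_cast hsplit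
    rw [hE1', hnZ] at h1
    linarith
  -- the sum of `A (A + ε)`
  have hsum : ∑ y ∈ E2F C, (O.A y * (O.A y + O.ε)) = 0 := by
    have h1 : ∑ y ∈ E2F C, (O.A y * (O.A y + O.ε)) =
        ∑ y ∈ E2F C, (O.A y) ^ 2 + O.ε * ∑ y ∈ E2F C, O.A y := by
      rw [Finset.mul_sum, ← Finset.sum_add_distrib]
      refine Finset.sum_congr rfl fun y _ => ?_
      ring
    have h2 : ∑ y ∈ E2F C, (O.A y) ^ 2 = (Fintype.card G : ℤ) - (O.q : ℤ) ^ 2 - (E1F C).card := by
      linarith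
    have h3 : ∑ y ∈ E2F C, O.A y = - (O.q : ℤ) - O.ε * (E1F C).card := by linarith
    rw [h1, h2, h3, hE1', hnZ, hNi]
    linear_combination (O.q : ℤ) * hf2 - ((O.q : ℤ) * O.f * (e - 1)) * hε2
  have hnn : ∀ y ∈ E2F C, 0 ≤ O.A y * (O.A y + O.ε) := by
    intro y _
    rcases O.hε with h | h <;> rw [h]
    · rcases le_or_gt 0 (O.A y) with h1 | h1
      · positivity
      · have : O.A y + 1 ≤ 0 := by omega
        nlinarith
    · rcases le_or_gt 1 (O.A y) with h1 | h1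
      · have : 0 ≤ O.A y + -1 := by omega
        nlinarith
      · have : O.A y ≤ 0 := by omega
        have h2 : O.A y + -1 ≤ 0 := by omega
        nlinarith
  have hzero := (Finset.sum_eq_zero_iff_of_nonneg hnn).1 hsum
  have hA : ∀ y, C.E2 y → O.A y = 0 ∨ O.A y = - O.ε := by
    intro y hy
    have h1 := hzero y (Finset.mem_filter.2 ⟨Finset.mem_univ _, hy⟩)
    rcases mul_eq_zero.1 h1 with h2 | h2
    · exact Or.inl h2
    · right; linarith
  have hAval : ∀ y ∈ (E2F C).filter fun y => O.A y ≠ 0, O.A y = - O.ε := by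
    intro y hy
    obtain ⟨h1, h2⟩ := Finset.mem_filter.1 hy
    rcases hA y (Finset.mem_filter.1 h1).2 with h3 | h3
    · exact absurd h3 h2
    · exact h3
  have hsumA : ∑ y ∈ E2F C, O.A y = - O.ε * ((E2F C).filter fun y => O.A y ≠ 0).card := by
    rw [← Finset.sum_filter_add_sum_filter_not (E2F C) (fun y => O.A y ≠ 0)]
    rw [Finset.sum_congr rfl hAval]
    have h1 : ∑ y ∈ (E2F C).filter (fun y => ¬ O.A y ≠ 0), O.A y = 0 := by
      refine Finset.sum_eq_zero fun y hy => ?_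
      have := (Finset.mem_filter.1 hy).2
      push Not at this
      exact this
    rw [h1]
    simp
    ring
  have hc1 : (((E2F C).filter fun y => O.A y ≠ 0).card : ℤ) = O.ε * O.q + (E1F C).card := by
    rw [hsumA] at hS1
    have h2 : O.ε * ((O.q : ℤ) + O.ε * (E1F C).card + - O.ε * ((E2F C).filter fun y => O.A y ≠ 0).card) = 0 := by
      rw [hS1]
      ring
    linear_combination (-1 : ℤ) * h2 + (((E1F C).card : ℤ) - ((E2F C).filter fun y => O.A y ≠ 0).card) * hε2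
  refine ⟨hqe, hN, ?_, hA, ?_, ?_, hc1⟩
  · rw [hn, hN]
    ring
  · intro y hy
    have h1 := O.iv_formula hw (by rw [hk]; ring) (by rw [hN]; ring) Nat.one_pos hw0 hy
    rw [h1]
    push_cast
    ring
  · have h1 := Finset.card_filter_add_card_filter_not (s := E2F C) (fun y => O.A y = 0)
    have h2 : (((E2F C).filter fun y => O.A y = 0).card : ℤ) +
        ((E2F C).filter fun y => ¬ O.A y = 0).card = (E2F C).card := by exact_mod_cast h1
    have h3 : ((E2F C).filter fun y => ¬ O.A y = 0) = ((E2F C).filter fun y => O.A y ≠ 0) := rfl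
    rw [h3, hc1, hE2', hE1', hNi] at h2
    linear_combination h2 + (O.q : ℤ) * hf2

end Out

end Cfsg.Agent.Lib.Zass.BSWChar
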