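import Mathlib
import Cfsg.Agent.Lib.Zass.BSWCount

/-!
# Brauer–Suzuki–Wall: the structure of the group, first part
-/

set_option autoImplicit false
set_option linter.unusedSectionVars false
set_option linter.unreachableTactic false
set_option linter.unusedTactic false

namespace Cfsg.Agent.Lib.Zass.BSWGroup

open Cfsg
open scoped Classical
open Finset Subgroup

universe u

/-- The conclusion of the abstract Brauer–Suzuki–Wall theorem. -/
def Goal (G : Type u) [Group G] : Prop :=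
  ∃ Q D : Subgroup G, 2 * Nat.card G = Nat.card ↥Q * (Nat.card ↥Q + 1) * (Nat.card ↥Q - 1) ∧
    (∀ x ∈ Q, x ≠ 1 → Subgroup.centralizer ({x} : Set G) = Q) ∧
    IsMulCommutative ↥D ∧ 2 * Nat.card ↥D + 1 = Nat.card ↥Q ∧ Q ⊓ D = ⊥ ∧
    Subgroup.normalizer (Q : Set G) = Q ⊔ D ∧
    ∀ X : Subgroup G, X ≤ D → X ≠ ⊥ →
      Subgroup.normalizer (X : Set G) = Subgroup.normalizer (D : Set G) ∧
      ∃ u : G, orderOf u = 2 ∧ u ∉ D ∧ (∀ d ∈ D, u * d * u⁻¹ = d⁻¹) ∧
        Subgroup.normalizer (D : Set G) = D ⊔ Subgroup.zpowers u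

variable {G : Type u} [Group G]

theorem mem_normalizer_of {S : Subgroup G} {g : G} (h1 : ∀ x ∈ S, g * x * g⁻¹ ∈ S)
    (h2 : ∀ x ∈ S, g⁻¹ * x * g ∈ S) : g ∈ Subgroup.normalizer (S : Set G) := by
  rw [Subgroup.mem_normalizer_iff]
  intro x
  constructor
  · exact h1 x
  · intro h
    have := h2 _ h
    have h3 : g⁻¹ * (g * x * g⁻¹) * g = x := by group
    rwa [h3] at this

theorem conj_mem_of_normalizer {S : Subgroup G} {g x : G} (hg : g ∈ Subgroup.normalizer (S : Set G))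
    (hx : x ∈ S) : g * x * g⁻¹ ∈ S :=
  (Subgroup.mem_normalizer_iff.1 hg x).1 hx

theorem conj_inv_mem_of_normalizer {S : Subgroup G} {g x : G}
    (hg : g ∈ Subgroup.normalizer (S : Set G)) (hx : x ∈ S) : g⁻¹ * x * g ∈ S := by
  have := (Subgroup.mem_normalizer_iff.1 (inv_mem hg) x).1 hx
  simpa using this

theorem conj_mem_cent {x v : G} (g : G) (hv : v ∈ centralizer ({x} : Set G)) :
    g * v * g⁻¹ ∈ centralizer ({g * x * g⁻¹} : Set G) := by
  rw [mem_centralizer_singleton_iff] at hv ⊢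
  calc g * v * g⁻¹ * (g * x * g⁻¹) = g * (v * x) * g⁻¹ := by group
    _ = g * (x * v) * g⁻¹ := by rw [hv]
    _ = g * x * g⁻¹ * (g * v * g⁻¹) := by group

/-- Control of fusion in a "self-centralizing" subgroup. -/
theorem mem_normalizer_of_conj {Q : Subgroup G}
    (hQ : ∀ x ∈ Q, x ≠ 1 → centralizer ({x} : Set G) = Q) {x g : G} (hx : x ∈ Q) (hx1 : x ≠ 1)
    (hg : g * x * g⁻¹ ∈ Q) : g ∈ Subgroup.normalizer (Q : Set G) := by
  have hg1 : g * x * g⁻¹ ≠ 1 := by
    intro h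
    apply hx1
    have : x = g⁻¹ * (g * x * g⁻¹) * g := by group
    rw [this, h]
    group
  refine mem_normalizer_of ?_ ?_
  · intro v hv
    rw [← hQ _ hx hx1] at hv
    have := conj_mem_cent g hv
    rwa [hQ _ hg hg1] at this
  · intro v hv
    rw [← hQ _ hg hg1] at hv
    have := conj_mem_cent g⁻¹ hv
    have h2 : g⁻¹ * (g * x * g⁻¹) * g⁻¹⁻¹ = x := by group
    rw [h2, hQ _ hx hx1] at this
    simpa using this

/-- The number of conjugates of the non-identity elements of such a subgroup. -/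
theorem card_image_mul_normalizer [Fintype G] {Q : Subgroup G}
    (hQ : ∀ x ∈ Q, x ≠ 1 → centralizer ({x} : Set G) = Q) :
    (((Finset.univ ×ˢ (Finset.univ.filter fun x : G => x ∈ Q ∧ x ≠ 1)).image
      fun p : G × G => p.1 * p.2 * p.1⁻¹).card) * Nat.card (Subgroup.normalizer (Q : Set G)) =
      Fintype.card G * (Nat.card Q - 1) := by
  have hcard : (Finset.univ.filter fun x : G => x ∈ Q ∧ x ≠ 1).card = Nat.card Q - 1 := by
    have h1 : (Finset.univ.filter fun x : G => x ∈ Q).card = Nat.card Q := by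
      rw [Nat.card_eq_fintype_card, ← Fintype.card_subtype]
    have h2 : (Finset.univ.filter fun x : G => x ∈ Q ∧ x ≠ 1) =
        (Finset.univ.filter fun x : G => x ∈ Q).erase 1 := by
      ext x
      simp [and_comm]
    rw [h2, Finset.card_erase_of_mem (by simp [Q.one_mem]), h1]
  rw [← hcard]
  refine Conf.card_conj_union _ _ ?_ ?_
  · intro h hh x hx
    obtain ⟨h1, h2⟩ := (Finset.mem_filter.1 hx).2
    refine Finset.mem_filter.2 ⟨Finset.mem_univ _, conj_mem_of_normalizer hh h1, ?_⟩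
    intro h3
    apply h2
    have : x = h⁻¹ * (h * x * h⁻¹) * h := by group
    rw [this, h3]
    group
  · intro x hx g hg
    obtain ⟨h1, h2⟩ := (Finset.mem_filter.1 hx).2
    exact mem_normalizer_of_conj hQ h1 h2 (Finset.mem_filter.1 hg).2.1

namespace Conf

variable (C : Conf G)

/-- The subgroup `K` is normalized by exactly `H`, and so are its nontrivial subgroups. -/
theorem normalizer_K_sub {X : Subgroup G} (hX : X ≤ C.K) (hX1 : X ≠ ⊥) :
    Subgroup.normalizer (X : Set G) = C.H := by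
  obtain ⟨x, hx, hx1⟩ := (Subgroup.bot_or_exists_ne_one X).resolve_left hX1
  ext g
  constructor
  · intro hg
    exact C.ti (hX hx) hx1 (hX (conj_mem_of_normalizer hg hx))
  · intro hg
    have key : ∀ g ∈ C.H, ∀ y ∈ X, g * y * g⁻¹ ∈ X := by
      intro g hg y hy
      by_cases hgK : g ∈ C.K
      · rw [C.comm_K hgK (hX hy)]
        simpa using hy
      · rw [(C.H_not_K hg hgK).2 y (hX hy)]
        exact inv_mem hy
    refine mem_normalizer_of (key g hg) ?_
    intro y hy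
    have := key g⁻¹ (inv_mem hg) y hy
    simpa using this

theorem K_ne_bot : C.K ≠ ⊥ := by
  intro h
  have := C.htK
  rw [h, Subgroup.mem_bot] at this
  exact C.t_ne this

theorem orderOf_mul_t_of_not_K {h : G} (hH : h ∈ C.H) (hK : h ∉ C.K) : orderOf (h * C.t) = 2 := by
  refine C.orderOf_H_not_K (C.H.mul_mem hH C.t_mem_H) fun h1 => hK ?_
  have : h = h * C.t * C.t⁻¹ := by group
  rw [this]
  exact C.K.mul_mem h1 (C.K.inv_mem C.htK)

/-- The Frattini argument. -/
theorem frat [Finite G] {z : G} (hz : C.E2 z) (hinv : C.t * z * C.t⁻¹ = z⁻¹) {g : G}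
    (hg : g ∈ Subgroup.normalizer (centralizer ({z} : Set G) : Set G)) :
    ∃ d ∈ centralizer ({z} : Set G), ∃ h ∈ C.K,
      h ∈ Subgroup.normalizer (centralizer ({z} : Set G) : Set G) ∧ g = d * h := by
  set Q := centralizer ({z} : Set G) with hQ
  have hzQ : z ∈ Q := by
    rw [hQ, mem_centralizer_singleton_iff]
  have hInv := C.cent_inverted hz hinv
  rw [← hQ] at hInv
  -- `u = g t g⁻¹` inverts `Q`
  set u := g * C.t * g⁻¹ with hu
  have hu1 : u * z * u⁻¹ = z⁻¹ := by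
    have h1 := hInv _ (conj_inv_mem_of_normalizer hg hzQ)
    calc u * z * u⁻¹ = g * (C.t * (g⁻¹ * z * g) * C.t⁻¹) * g⁻¹ := by rw [hu]; group
      _ = g * (g⁻¹ * z * g)⁻¹ * g⁻¹ := by rw [h1]
      _ = z⁻¹ := by group
  have hd : u * C.t ∈ Q := by
    rw [hQ, mem_centralizer_singleton_iff]
    have h1 : (u * C.t) * z * (u * C.t)⁻¹ = z := by
      calc (u * C.t) * z * (u * C.t)⁻¹ = u * (C.t * z * C.t⁻¹) * u⁻¹ := by group
        _ = u * z⁻¹ * u⁻¹ := by rw [hinv]
        _ = (u * z * u⁻¹)⁻¹ := by group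
        _ = z := by rw [hu1, inv_inv]
    calc (u * C.t) * z = (u * C.t) * z * (u * C.t)⁻¹ * (u * C.t) := by group
      _ = z * (u * C.t) := by rw [h1]
  -- square root in `Q`
  obtain ⟨m, hm⟩ := C.cent_odd hz
  rw [← hQ] at hm
  set d := u * C.t with hddef
  set d₁ := d ^ (m + 1) with hd₁
  have hd₁Q : d₁ ∈ Q := pow_mem hd _
  have hpow : d ^ Nat.card Q = 1 := by
    rw [← orderOf_dvd_iff_pow_eq_one]
    exact Subgroup.orderOf_dvd_natCard Q hd
  have hd₁2 : d₁ * d₁ = d := by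
    rw [hd₁, ← pow_add]
    have : m + 1 + (m + 1) = Nat.card Q + 1 := by omega
    rw [this, pow_succ, hpow, one_mul]
  have hu2 : u = d * C.t := by
    rw [hddef, mul_assoc, C.t2, mul_one]
  have hconj : d₁ * C.t * d₁⁻¹ = u := by
    have h1 := hInv _ (inv_mem hd₁Q)
    rw [inv_inv, C.tinv] at h1
    calc d₁ * C.t * d₁⁻¹ = d₁ * (C.t * d₁⁻¹ * C.t) * C.t := by
          have := C.t2
          simp only [mul_assoc, this, mul_one]
      _ = d₁ * d₁ * C.t := by rw [h1]
      _ = u := by rw [hd₁2, hu2]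
  set h₀ := d₁⁻¹ * g with hh₀
  have hh₀H : h₀ ∈ C.H := by
    rw [C.mem_H]
    have h1 : g * C.t * g⁻¹ = d₁ * C.t * d₁⁻¹ := by rw [hconj]
    calc h₀ * C.t = d₁⁻¹ * (g * C.t * g⁻¹) * g := by rw [hh₀]; group
      _ = d₁⁻¹ * (d₁ * C.t * d₁⁻¹) * g := by rw [h1]
      _ = C.t * h₀ := by rw [hh₀]; group
  have hd₁N : d₁ ∈ Subgroup.normalizer (Q : Set G) := Subgroup.le_normalizer hd₁Q
  have hh₀N : h₀ ∈ Subgroup.normalizer (Q : Set G) := mul_mem (inv_mem hd₁N) hg
  have hh₀K : h₀ ∈ C.K := by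
    by_contra hK
    have h1 := C.H_not_K hh₀H hK
    -- `h₀` inverts `Q`
    have h2 : ∀ x ∈ Q, h₀ * x * h₀⁻¹ = x⁻¹ := by
      refine fpf_inverts h1.1 (fun x hx => conj_mem_of_normalizer hh₀N hx) ?_
      intro x hx hfix
      by_contra hx1
      have h3 : h₀ ∈ centralizer ({x} : Set G) := by
        rw [mem_centralizer_singleton_iff]
        calc h₀ * x = (h₀ * x * h₀⁻¹) * h₀ := by group
          _ = x * h₀ := by rw [hfix]
      rw [C.cent_eq_of_mem hz hinv hx hx1] at h3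
      have h4 : orderOf h₀ = 2 := C.orderOf_H_not_K hh₀H hK
      exact C.E2_no_invol hz h4 (mem_centralizer_singleton_iff.1 h3)
    have h3 : h₀ * C.t ∈ Q := by
      rw [hQ, mem_centralizer_singleton_iff]
      have h4 : (h₀ * C.t) * z * (h₀ * C.t)⁻¹ = z := by
        calc (h₀ * C.t) * z * (h₀ * C.t)⁻¹ = h₀ * (C.t * z * C.t⁻¹) * h₀⁻¹ := by group
          _ = h₀ * z⁻¹ * h₀⁻¹ := by rw [hinv]
          _ = (h₀ * z * h₀⁻¹)⁻¹ := by group
          _ = z := by rw [h2 z hzQ, inv_inv]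
      calc (h₀ * C.t) * z = (h₀ * C.t) * z * (h₀ * C.t)⁻¹ * (h₀ * C.t) := by group
        _ = z * (h₀ * C.t) := by rw [h4]
    exact C.E2_no_invol hz (C.orderOf_mul_t_of_not_K hh₀H hK) (mem_centralizer_singleton_iff.1 h3)
  exact ⟨d₁, hd₁Q, h₀, hh₀K, hh₀N, by rw [hh₀]; group⟩

/-- Elements of `C(z)` are not in `K`. -/
theorem cent_inf_K {z : G} (hz : C.E2 z) : centralizer ({z} : Set G) ⊓ C.K = ⊥ := by
  rw [eq_bot_iff]
  rintro x ⟨h1, h2⟩
  by_contra hx1
  exact (C.E2_of_mem_cent hz h1 hx1).2 (C.InK_of_mem h2)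

end Conf

end Cfsg.Agent.Lib.Zass.BSWGroup

namespace Cfsg.Agent.Lib.Zass.BSWChar

open Cfsg Cfsg.Agent.Lib.Zass.BSWGroup
open scoped Classical
open Finset Subgroup

universe u

variable {G : Type u} [Group G] [Fintype G] {C : Conf G} (O : Out C)

namespace Out

variable {O}

theorem iv_conj (M : O.Main) {y : G} (hy : C.E2 y) (g : G) : iv (g * y * g⁻¹) = iv y := by
  have h1 := M.iv_gen y hy
  have h2 := M.iv_gen _ (C.E2_conj hy g)
  rw [O.A_conj] at h2
  have h3 : 2 * (iv (g * y * g⁻¹) : ℤ) = 2 * (iv y : ℤ) := by rw [h1, h2]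
  have h4 : (iv (g * y * g⁻¹) : ℤ) = (iv y : ℤ) := by linarith
  exact_mod_cast h4

/-- Conjugation to an element inverted by `t`. -/
theorem exists_conj_inverted' (M : O.Main) {y : G} (hy : C.E2 y) (h : 0 < iv y) :
    ∃ z, C.E2 z ∧ C.t * z * C.t⁻¹ = z⁻¹ ∧ O.A z = O.A y ∧ iv z = iv y ∧ ∃ g, z = g * y * g⁻¹ := by
  obtain ⟨g, hg⟩ := C.exists_conj_inverted h
  exact ⟨g * y * g⁻¹, C.E2_conj hy g, hg, O.A_conj y g, iv_conj M hy g, g, rfl⟩

set_option maxHeartbeats 1000000 in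
/-- The case `ε = 1`. -/
theorem goal_plus (M : O.Main) (hε : O.ε = 1) : Goal G := by
  have hq3 := O.hq
  have hq3' : (3 : ℤ) ≤ O.q := by exact_mod_cast hq3
  have hf2 := O.hf
  rw [hε] at hf2
  have hqe := M.hqe
  rw [hε] at hqe
  set e := Nat.card C.K with hedef
  have he0 : 0 < e := Nat.card_pos
  have hn' : Fintype.card G = 2 * e * (O.q * O.f) := M.hn
  have hqN : O.q = 2 * e + 1 := by
    have : (O.q : ℤ) = ((2 * e + 1 : ℕ) : ℤ) := by rw [hqe]; push_cast; ring
    exact_mod_cast this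
  have hfN : O.f = e + 1 := by
    have : (O.f : ℤ) = ((e + 1 : ℕ) : ℤ) := by
      push_cast
      rw [hqe] at hf2
      linarith
    exact_mod_cast this
  -- an element with value zero
  have hpos : 0 < ((E2F C).filter fun y => O.A y = 0).card := by
    have h1 := M.card0
    have h2 : (0 : ℤ) < ((E2F C).filter fun y => O.A y = 0).card := by
      rw [h1]
      nlinarith
    exact_mod_cast h2
  obtain ⟨y₀, hy₀⟩ := Finset.card_pos.1 hpos
  obtain ⟨hy₁, hA₀⟩ := Finset.mem_filter.1 hy₀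
  have hEy : C.E2 y₀ := (Finset.mem_filter.1 hy₁).2
  have hiv₀ : iv y₀ = O.q := by
    have h1 := M.iv_gen y₀ hEy
    rw [hA₀, hε] at h1
    have : (iv y₀ : ℤ) = O.q := by linarith
    exact_mod_cast this
  obtain ⟨z, hEz, hinv, hAz, hivz, -⟩ := exists_conj_inverted' M hEy (by rw [hiv₀]; omega)
  set Q := centralizer ({z} : Set G) with hQ
  have hQcard : Nat.card Q = O.q := by
    rw [hQ, ← C.iv_eq_card_cent hEz hinv, hivz, hiv₀]
  have hQx : ∀ x ∈ Q, x ≠ 1 → centralizer ({x} : Set G) = Q :=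
    fun x hx hx1 => C.cent_eq_of_mem hEz hinv hx hx1
  have hAx : ∀ x ∈ Q, x ≠ 1 → C.E2 x ∧ O.A x = 0 := by
    intro x hx hx1
    have hEx := C.E2_of_mem_cent hEz hx hx1
    refine ⟨hEx, ?_⟩
    have hinvx := C.cent_inverted hEz hinv x hx
    have h1 := C.iv_eq_card_cent hEx hinvx
    rw [hQx x hx hx1, hQcard] at h1
    have h2 := M.iv_gen x hEx
    rw [h1, hε] at h2
    rcases M.A_vals x hEx with h3 | h3
    · exact h3
    · exfalso
      rw [hε] at h3
      rw [h3] at h2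
      omega
  -- counting the conjugates
  have hcount := card_image_mul_normalizer hQx
  set Img := (Finset.univ ×ˢ (Finset.univ.filter fun x : G => x ∈ Q ∧ x ≠ 1)).image
    (fun p : G × G => p.1 * p.2 * p.1⁻¹) with hImg
  set W := Subgroup.normalizer (Q : Set G) with hW
  have hImgle : Img.card ≤ O.q ^ 2 - 1 := by
    have h1 : Img ⊆ (E2F C).filter fun y => O.A y = 0 := by
      intro y hy
      obtain ⟨⟨g, x⟩, hp, rfl⟩ := Finset.mem_image.1 hy
      obtain ⟨h2, h3⟩ := (Finset.mem_filter.1 (Finset.mem_product.1 hp).2).2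
      obtain ⟨h4, h5⟩ := hAx x h2 h3
      refine Finset.mem_filter.2 ⟨Finset.mem_filter.2 ⟨Finset.mem_univ _, C.E2_conj h4 g⟩, ?_⟩
      show O.A (g * x * g⁻¹) = 0
      rw [O.A_conj, h5]
    have h2 := Finset.card_le_card h1
    have h3 := M.card0
    have h4 : (((E2F C).filter fun y => O.A y = 0).card : ℤ) = ((O.q ^ 2 - 1 : ℕ) : ℤ) := by
      rw [h3]
      have : 1 ≤ O.q ^ 2 := Nat.one_le_pow _ _ (by omega)
      push_cast [Nat.cast_sub this]
      ring
    have h5 : ((E2F C).filter fun y => O.A y = 0).card = O.q ^ 2 - 1 := by exact_mod_cast h4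
    omega
  have hWge : e * O.q ≤ Nat.card W := by
    have h1 : Fintype.card G * (O.q - 1) ≤ (O.q ^ 2 - 1) * Nat.card W := by
      rw [← hQcard]
      rw [hQcard] at hcount ⊢
      rw [← hcount]
      exact Nat.mul_le_mul_right _ hImgle
    rw [hn', hqN, hfN] at h1
    have h2 : (2 * e + 1 - 1) = 2 * e := by omega
    have h3 : (2 * e + 1) ^ 2 - 1 = 2 * e * (2 * (e + 1)) := by
      have : (2 * e + 1) ^ 2 = 2 * e * (2 * (e + 1)) + 1 := by ring
      omega
    rw [h2, h3] at h1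
    rw [hqN]
    have h4 : (2 * e * (2 * (e + 1))) * (e * (2 * e + 1)) ≤ (2 * e * (2 * (e + 1))) * Nat.card W := by
      calc (2 * e * (2 * (e + 1))) * (e * (2 * e + 1))
          = 2 * e * ((2 * e + 1) * (e + 1)) * (2 * e) := by ring
        _ ≤ 2 * e * (2 * (e + 1)) * Nat.card W := h1
    exact Nat.le_of_mul_le_mul_left h4 (by positivity)
  -- the Frattini argument
  set L := C.K ⊓ W with hL
  have hfr : ∀ g : W, ∃ p : Q × L, (p.1 : G) * (p.2 : G) = g := by
    intro g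
    obtain ⟨d, hd, h, hh, hhW, hgd⟩ := C.frat hEz hinv g.2
    exact ⟨(⟨d, hd⟩, ⟨h, hh, hhW⟩), hgd.symm⟩
  choose φ hφ using hfr
  have hφinj : Function.Injective φ := by
    intro a b hab
    apply Subtype.ext
    rw [← hφ a, ← hφ b, hab]
  have hle1 : Nat.card W ≤ Nat.card Q * Nat.card L := by
    rw [← Nat.card_prod]
    exact Nat.card_le_card_of_injective φ hφinj
  have hLcard : e ≤ Nat.card L := by
    rw [hQcard] at hle1
    have h1 : e * O.q ≤ O.q * Nat.card L := hWge.trans hle1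
    rw [mul_comm] at h1
    exact Nat.le_of_mul_le_mul_left h1 (by omega)
  have hLK : L = C.K := Subgroup.eq_of_le_of_card_ge inf_le_left hLcard
  have hKW : C.K ≤ W := by
    rw [← hLK]
    exact inf_le_right
  have hN : W = Q ⊔ C.K := by
    apply le_antisymm
    · intro g hg
      obtain ⟨d, hd, h, hh, -, hgd⟩ := C.frat hEz hinv hg
      rw [hgd]
      exact mul_mem (Subgroup.mem_sup_left hd) (Subgroup.mem_sup_right hh)
    · exact sup_le Subgroup.le_normalizer hKW
  refine ⟨Q, C.K, ?_, hQx, C.hKab, ?_, C.cent_inf_K hEz, hN, ?_⟩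
  · rw [hQcard, Nat.card_eq_fintype_card, hn', hfN, hqN]
    have h2 : (2 * e + 1 - 1) = 2 * e := by omega
    rw [h2]
    ring
  · rw [hQcard, hqN]
  · intro X hX hX1
    refine ⟨?_, C.s, C.hs, C.hsK, C.hinv, ?_⟩
    · rw [C.normalizer_K_sub hX hX1, C.normalizer_K_sub le_rfl C.K_ne_bot]
    · rw [C.normalizer_K_sub le_rfl C.K_ne_bot, C.hH]

end Out

end Cfsg.Agent.Lib.Zass.BSWChar
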