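import Mathlib
import Cfsg.Agent.Lib.Zass.BSWEnd
import Cfsg.Agent.Lib.Zass.BSWAux

/-!
# Brauer–Suzuki–Wall: the case `ε = -1`
-/

set_option autoImplicit false
set_option linter.unusedSectionVars false
set_option linter.unreachableTactic false
set_option linter.unusedTactic false

namespace Cfsg.Agent.Lib.Zass.BSWChar

open Cfsg Cfsg.Agent.Lib.Zass.BSWGroup Cfsg.Agent.Lib.Zass.BSWAux
open scoped Classical
open Finset Subgroup

universe u

variable {G : Type u} [Group G] [Fintype G] {C : Conf G} {O : Out C}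

/-- The hypotheses of the case `ε = -1`. -/
structure Neg (O : Out C) : Prop where
  M : O.Main
  hε : O.ε = -1

/-- Elements of value zero. -/
def PP (O : Out C) (y : G) : Prop := C.E2 y ∧ O.A y = 0

/-- Elements of value one. -/
def DD (O : Out C) (y : G) : Prop := C.E2 y ∧ O.A y = 1

namespace Neg

variable (N : Neg O)
include N

theorem hf1 : O.f + 1 = Nat.card C.K := by
  have h1 := N.M.hqe
  have h2 := O.hf
  rw [N.hε] at h1 h2
  have : ((O.f + 1 : ℕ) : ℤ) = (Nat.card C.K : ℤ) := by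
    push_cast
    linarith
  exact_mod_cast this

theorem hq2 : O.q = 2 * O.f + 1 := by
  have h2 := O.hf
  rw [N.hε] at h2
  have : (O.q : ℤ) = ((2 * O.f + 1 : ℕ) : ℤ) := by
    push_cast
    linarith
  exact_mod_cast this

theorem hn : Fintype.card G = 2 * (O.f + 1) * ((2 * O.f + 1) * O.f) := by
  rw [N.M.hn, ← N.hf1, N.hq2]

theorem hNI : NI G = (2 * O.f + 1) * O.f := by
  rw [N.M.hN, N.hq2]

theorem f_pos : 0 < O.f := O.f_pos

theorem f_odd : Odd O.f := by
  have h1 : Even (Nat.card C.K) := C.even_card_K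
  rw [← N.hf1] at h1
  by_contra h
  rw [Nat.not_odd_iff_even] at h
  obtain ⟨a, ha⟩ := h
  obtain ⟨b, hb⟩ := h1
  omega

theorem A_E2 {y : G} (hy : C.E2 y) : PP O y ∨ DD O y := by
  rcases N.M.A_vals y hy with h | h
  · exact Or.inl ⟨hy, h⟩
  · rw [N.hε] at h
    exact Or.inr ⟨hy, by simpa using h⟩

theorem iv_PP {y : G} (hy : PP O y) : iv y = 0 := by
  have h1 := N.M.iv_gen y hy.1
  rw [hy.2, N.hε] at h1
  have h2 : (iv y : ℤ) = 0 := by linarith
  exact_mod_cast h2

theorem iv_DD {y : G} (hy : DD O y) : iv y = O.f := by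
  have h1 := N.M.iv_gen y hy.1
  rw [hy.2, N.hε] at h1
  have h2 := O.hf
  rw [N.hε] at h2
  have h3 : (iv y : ℤ) = O.f := by linarith
  exact_mod_cast h3

theorem not_PP_DD {y : G} (h1 : PP O y) (h2 : DD O y) : False := by
  have := h1.2
  rw [h2.2] at this
  exact one_ne_zero this

theorem PP_conj {y : G} (hy : PP O y) (g : G) : PP O (g * y * g⁻¹) :=
  ⟨C.E2_conj hy.1 g, by rw [O.A_conj]; exact hy.2⟩

theorem DD_conj {y : G} (hy : DD O y) (g : G) : DD O (g * y * g⁻¹) :=
  ⟨C.E2_conj hy.1 g, by rw [O.A_conj]; exact hy.2⟩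

theorem DD_of_inverted {z : G} (hz : C.E2 z) (hinv : C.t * z * C.t⁻¹ = z⁻¹) : DD O z := by
  rcases N.A_E2 hz with h | h
  · exfalso
    have h1 := N.iv_PP h
    rw [C.iv_eq_card_cent hz hinv] at h1
    exact Nat.card_pos.ne' h1
  · exact h

/-- A `DD` element has a conjugate inverted by `t`. -/
theorem exists_inverted {y : G} (hy : DD O y) : ∃ g : G, C.t * (g * y * g⁻¹) * C.t⁻¹ = (g * y * g⁻¹)⁻¹ := by
  apply C.exists_conj_inverted
  rw [N.iv_DD hy]
  exact N.f_pos

/-- The centralizer of a `PP` element consists of `PP` elements. -/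
theorem PP_cent {y x : G} (hy : PP O y) (hx : x ∈ centralizer ({y} : Set G)) (hx1 : x ≠ 1) :
    PP O x := by
  have hEx := C.E2_of_mem_cent hy.1 hx hx1
  rcases N.A_E2 hEx with h | h
  · exact h
  · exfalso
    obtain ⟨g, hg⟩ := N.exists_inverted h
    have hEz := C.E2_conj hEx g
    have hy' : g * y * g⁻¹ ∈ centralizer ({g * x * g⁻¹} : Set G) := by
      apply conj_mem_cent
      rw [mem_centralizer_singleton_iff] at hx ⊢
      exact hx.symm
    have h1 := C.cent_inverted hEz hg _ hy'
    have h2 : 0 < iv (g * y * g⁻¹) := by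
      rw [C.iv_eq_card_cent (C.E2_conj hy.1 g) h1]
      exact Nat.card_pos
    rw [N.iv_PP (N.PP_conj hy g)] at h2
    exact lt_irrefl _ h2

/-- Data of a `DD` element inverted by `t`. -/
theorem card_D {z : G} (hz : DD O z) (hinv : C.t * z * C.t⁻¹ = z⁻¹) :
    Nat.card (centralizer ({z} : Set G)) = O.f := by
  rw [← C.iv_eq_card_cent hz.1 hinv, N.iv_DD hz]

theorem D_elts {z x : G} (hz : DD O z) (hinv : C.t * z * C.t⁻¹ = z⁻¹)
    (hx : x ∈ centralizer ({z} : Set G)) (hx1 : x ≠ 1) : DD O x :=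
  N.DD_of_inverted (C.E2_of_mem_cent hz.1 hx hx1) (C.cent_inverted hz.1 hinv x hx)

/-- `t` normalizes `C(z)`. -/
theorem t_mem_normalizer {z : G} (hz : C.E2 z) (hinv : C.t * z * C.t⁻¹ = z⁻¹) :
    C.t ∈ Subgroup.normalizer (centralizer ({z} : Set G) : Set G) := by
  refine mem_normalizer_of (fun x hx => ?_) (fun x hx => ?_)
  · rw [C.cent_inverted hz hinv x hx]
    exact inv_mem hx
  · have h1 := C.cent_inverted hz hinv x hx
    rw [C.tinv] at h1 ⊢
    rw [h1]
    exact inv_mem hx

/-- The part of `K` normalizing `C(z)` is `{1, t}`. -/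
theorem K_normalizer {z h : G} (hz : DD O z) (hinv : C.t * z * C.t⁻¹ = z⁻¹) (hh : h ∈ C.K)
    (hN : h ∈ Subgroup.normalizer (centralizer ({z} : Set G) : Set G)) : h = 1 ∨ h = C.t := by
  set D := centralizer ({z} : Set G) with hD
  set L : Subgroup G := C.K ⊓ Subgroup.normalizer (D : Set G) with hL
  let X := {x : G // x ∈ D ∧ x ≠ 1}
  let act : MulAction L X :=
    { smul := fun l x => ⟨(l : G) * x.1 * (l : G)⁻¹, conj_mem_of_normalizer l.2.2 x.2.1, by
          intro h1
          apply x.2.2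
          have : x.1 = (l : G)⁻¹ * ((l : G) * x.1 * (l : G)⁻¹) * (l : G) := by group
          rw [this, h1]
          group⟩
      one_smul := fun x => Subtype.ext (by
        show ((1 : L) : G) * x.1 * ((1 : L) : G)⁻¹ = x.1
        simp)
      mul_smul := fun a b x => Subtype.ext (by
        show ((a * b : L) : G) * x.1 * ((a * b : L) : G)⁻¹ =
          (a : G) * ((b : G) * x.1 * (b : G)⁻¹) * (a : G)⁻¹
        push_cast
        group) }
  have hfree : ∀ (l : L) (x : X), l • x = x → l = 1 := by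
    intro l x hx
    have h1 : (l : G) * x.1 * (l : G)⁻¹ = x.1 := congrArg Subtype.val hx
    have h2 : (l : G) ∈ centralizer ({x.1} : Set G) := by
      rw [mem_centralizer_singleton_iff]
      calc (l : G) * x.1 = (l : G) * x.1 * (l : G)⁻¹ * (l : G) := by group
        _ = x.1 * (l : G) := by rw [h1]
    rw [C.cent_eq_of_mem hz.1 hinv x.2.1 x.2.2] at h2
    have h3 : (l : G) ∈ centralizer ({z} : Set G) ⊓ C.K := ⟨h2, l.2.1⟩
    rw [C.cent_inf_K hz.1, Subgroup.mem_bot] at h3
    exact Subtype.ext h3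
  have h1 : Nat.card L ∣ Nat.card X := card_dvd_of_free hfree
  have hX : Nat.card X = Nat.card D - 1 := by
    have h2 : (Finset.univ.filter fun x : G => x ∈ D ∧ x ≠ 1).card = Nat.card D - 1 := by
      have h3 : (Finset.univ.filter fun x : G => x ∈ D).card = Nat.card D := by
        rw [Nat.card_eq_fintype_card, ← Fintype.card_subtype]
      have h4 : (Finset.univ.filter fun x : G => x ∈ D ∧ x ≠ 1) =
          (Finset.univ.filter fun x : G => x ∈ D).erase 1 := by
        ext x
        simp [and_comm]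
      rw [h4, Finset.card_erase_of_mem (by simp [D.one_mem]), h3]
    rw [← h2, Nat.card_eq_fintype_card, ← Fintype.card_subtype]
  have hDc : Nat.card D = O.f := N.card_D hz hinv
  have h2 : Nat.card L ∣ O.f + 1 := by
    rw [N.hf1]
    exact Subgroup.card_dvd_of_le inf_le_left
  have h3 : Nat.card L ∣ O.f - 1 := by
    rw [← hDc, ← hX]
    exact h1
  have h4 : Nat.card L ∣ 2 := by
    have h5 := Nat.dvd_sub h2 h3
    have h6 : O.f + 1 - (O.f - 1) = 2 := by
      have := N.f_pos
      omega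
    rwa [h6] at h5
  have h5 : Nat.card L ≤ 2 := Nat.le_of_dvd (by norm_num) h4
  by_contra hcon
  push Not at hcon
  have htL : C.t ∈ L := ⟨C.htK, N.t_mem_normalizer hz.1 hinv⟩
  have hhL : h ∈ L := ⟨hh, hN⟩
  have hs : ({1, C.t, h} : Finset G).card = 3 := by
    rw [Finset.card_insert_of_notMem, Finset.card_insert_of_notMem, Finset.card_singleton]
    · simp only [Finset.mem_singleton]
      exact fun h6 => hcon.2 h6.symm
    · simp only [Finset.mem_insert, Finset.mem_singleton, not_or]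
      exact ⟨fun h6 => C.t_ne h6.symm, fun h6 => hcon.1 h6.symm⟩
  have hle : ({1, C.t, h} : Finset G) ⊆ Finset.univ.filter fun x : G => x ∈ L := by
    intro x hx
    simp only [Finset.mem_insert, Finset.mem_singleton] at hx
    refine Finset.mem_filter.2 ⟨Finset.mem_univ _, ?_⟩
    rcases hx with rfl | rfl | rfl
    · exact L.one_mem
    · exact htL
    · exact hhL
  have h6 := Finset.card_le_card hle
  rw [hs, ← Fintype.card_subtype, ← Nat.card_eq_fintype_card] at h6
  omega

omit N in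
theorem orderOf_conj (g x : G) : orderOf (g * x * g⁻¹) = orderOf x := by
  have := (MulAut.conj g).orderOf_eq x
  simpa [MulAut.conj_apply] using this

omit N in
theorem cop1 {f : ℕ} (hf : Odd f) : Nat.Coprime (2 * (f + 1)) ((2 * f + 1) * f) := by
  obtain ⟨a, rfl⟩ := hf
  refine Nat.Coprime.mul_right ?_ ?_
  · rw [← Nat.isCoprime_iff_coprime]
    exact ⟨1, -1, by push_cast; ring⟩
  · rw [← Nat.isCoprime_iff_coprime]
    exact ⟨-a, 1 + 2 * a, by push_cast; ring⟩

omit N in
theorem cop2 {f : ℕ} (hf : Odd f) : Nat.Coprime f (2 * (f + 1) * (2 * f + 1)) := by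
  obtain ⟨a, rfl⟩ := hf
  refine Nat.Coprime.mul_right ?_ ?_
  · rw [← Nat.isCoprime_iff_coprime]
    exact ⟨1 + 2 * a, -a, by push_cast; ring⟩
  · rw [← Nat.isCoprime_iff_coprime]
    exact ⟨-2, 1, by push_cast; ring⟩

/-- The `DD` elements exist when `f ≥ 2`. -/
theorem exists_DD (hf : 2 ≤ O.f) : ∃ z, DD O z ∧ C.t * z * C.t⁻¹ = z⁻¹ := by
  have h1 := N.M.card1
  have hE1 : (E1F C).card = (2 * O.f + 1) * O.f * O.f := by
    rw [card_E1F, N.hNI, ← N.hf1]
    simp
  have hq : (O.q : ℤ) = 2 * O.f + 1 := by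
    rw [N.hq2]
    push_cast
    ring
  rw [N.hε, hE1, hq] at h1
  have hf' : (2 : ℤ) ≤ O.f := by exact_mod_cast hf
  have hpos : 0 < ((E2F C).filter fun y => O.A y ≠ 0).card := by
    have h2 : (0 : ℤ) < ((E2F C).filter fun y => O.A y ≠ 0).card := by
      rw [h1]
      push_cast
      have h3 : (4 : ℤ) ≤ (O.f : ℤ) * O.f := by nlinarith
      have h4 : (0 : ℤ) < 2 * (O.f : ℤ) + 1 := by omega
      have h5 : (0 : ℤ) < (O.f : ℤ) * O.f - 1 := by omega
      have h6 := mul_pos h4 h5
      linarith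
    exact_mod_cast h2
  obtain ⟨y, hy⟩ := Finset.card_pos.1 hpos
  obtain ⟨hy1, hy2⟩ := Finset.mem_filter.1 hy
  have hEy : C.E2 y := (Finset.mem_filter.1 hy1).2
  have hDy : DD O y := by
    rcases N.A_E2 hEy with h | h
    · exact absurd h.2 hy2
    · exact h
  obtain ⟨g, hg⟩ := N.exists_inverted hDy
  exact ⟨_, N.DD_conj hDy g, hg⟩

/-- Primes dividing the order of the centralizer of a `PP` element. -/
theorem prime_not_dvd {y w : G} (hy : PP O y) (hw : w ∈ centralizer ({y} : Set G)) {r : ℕ}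
    (hr : r.Prime) (hrw : orderOf w = r) : ¬ r ∣ 2 * (O.f + 1) ∧ ¬ r ∣ O.f := by
  have hw1 : w ≠ 1 := by
    rintro rfl
    rw [orderOf_one] at hrw
    exact hr.one_lt.ne hrw
  have hPw := N.PP_cent hy hw hw1
  have hwr : w ^ r = 1 := by
    rw [← hrw]
    exact pow_orderOf_eq_one w
  have hfodd := N.f_odd
  have hindexH : (C.H).index = (2 * O.f + 1) * O.f := by
    rw [index_H, N.hNI]
  have hcardG : Nat.card G = 2 * (O.f + 1) * ((2 * O.f + 1) * O.f) := by
    rw [Nat.card_eq_fintype_card, N.hn]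
  constructor
  · intro hdvd
    have hnd : ¬ r ∣ C.H.index := by
      rw [hindexH]
      intro h2
      have h3 := Nat.dvd_gcd hdvd h2
      rw [Nat.Coprime.gcd_eq_one (cop1 hfodd)] at h3
      exact hr.one_lt.ne' (Nat.dvd_one.1 h3)
    obtain ⟨g, hg⟩ := exists_conj_mem C.H hr hwr hnd
    have h4 := C.E2_conj hPw.1 g⁻¹
    rw [inv_inv] at h4
    exact C.E2_not_H h4 hg
  · intro hdvd
    have hf2 : 2 ≤ O.f := by
      have h1 := Nat.le_of_dvd N.f_pos hdvd
      have h2 := hr.two_le
      omega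
    obtain ⟨z, hz, hinv⟩ := N.exists_DD hf2
    have hindex : (centralizer ({z} : Set G)).index = 2 * (O.f + 1) * (2 * O.f + 1) := by
      have h1 := (centralizer ({z} : Set G)).index_mul_card
      rw [N.card_D hz hinv, hcardG] at h1
      have h2 : (centralizer ({z} : Set G)).index * O.f = (2 * (O.f + 1) * (2 * O.f + 1)) * O.f := by
        rw [h1]
        ring
      exact Nat.eq_of_mul_eq_mul_right N.f_pos h2
    have hnd : ¬ r ∣ (centralizer ({z} : Set G)).index := by
      rw [hindex]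
      intro h2
      have h3 := Nat.dvd_gcd hdvd h2
      rw [Nat.Coprime.gcd_eq_one (cop2 hfodd)] at h3
      exact hr.one_lt.ne' (Nat.dvd_one.1 h3)
    obtain ⟨g, hg⟩ := exists_conj_mem _ hr hwr hnd
    have hg1 : g⁻¹ * w * g ≠ 1 := by
      intro h
      apply hw1
      have : w = g * (g⁻¹ * w * g) * g⁻¹ := by group
      rw [this, h]
      group
    have h5 := N.D_elts hz hinv hg hg1
    have h6 := N.PP_conj hPw g⁻¹
    rw [inv_inv] at h6
    exact N.not_PP_DD h6 h5

omit N in
/-- The size of a conjugacy class. -/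
theorem card_class (y : G) :
    (Finset.univ.filter fun u : G => IsConj y u).card * Nat.card (centralizer ({y} : Set G)) =
      Fintype.card G := by
  have h1 := Conf.card_conj_union (centralizer ({y} : Set G)) ({y} : Finset G) (by
    intro h hh x hx
    rw [Finset.mem_singleton] at hx ⊢
    subst hx
    rw [mem_centralizer_singleton_iff] at hh
    rw [hh]
    group) (by
    intro x hx g hg
    rw [Finset.mem_singleton] at hx hg
    subst hx
    rw [mem_centralizer_singleton_iff]
    calc g * x = g * x * g⁻¹ * g := by group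
      _ = x * g := by rw [hg])
  have h2 : ((Finset.univ ×ˢ ({y} : Finset G)).image fun p : G × G => p.1 * p.2 * p.1⁻¹) =
      Finset.univ.filter fun u : G => IsConj y u := by
    ext u
    simp only [Finset.mem_image, Finset.mem_product, Finset.mem_univ, true_and,
      Finset.mem_singleton, Finset.mem_filter, isConj_iff, Prod.exists]
    constructor
    · rintro ⟨g, x, rfl, rfl⟩
      exact ⟨g, rfl⟩
    · rintro ⟨g, rfl⟩
      exact ⟨g, y, rfl, rfl⟩
  rw [h2] at h1
  rw [h1]
  simp

theorem card_PPF : ((E2F C).filter fun y => O.A y = 0).card = 4 * O.f * (O.f + 1) := by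
  have h1 := N.M.card0
  have h2 : ((((E2F C).filter fun y => O.A y = 0).card : ℕ) : ℤ) = ((4 * O.f * (O.f + 1) : ℕ) : ℤ) := by
    rw [h1, N.hq2]
    push_cast
    ring
  exact_mod_cast h2

theorem mem_PPF {y : G} : y ∈ ((E2F C).filter fun y => O.A y = 0) ↔ PP O y := by
  rw [Finset.mem_filter, E2F, Finset.mem_filter]
  simp [PP]

theorem class_sub {y : G} (hy : PP O y) :
    (Finset.univ.filter fun u : G => IsConj y u) ⊆ ((E2F C).filter fun y => O.A y = 0) := by
  intro u hu
  rw [N.mem_PPF]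
  obtain ⟨g, rfl⟩ := isConj_iff.1 (Finset.mem_filter.1 hu).2
  exact N.PP_conj hy g

/-- The centralizer of a `PP` element has order `q`. -/
theorem card_cent_PP {y : G} (hy : PP O y) : Nat.card (centralizer ({y} : Set G)) = 2 * O.f + 1 := by
  set c := Nat.card (centralizer ({y} : Set G)) with hc
  have hfodd := N.f_odd
  have hcop : Nat.Coprime c (2 * (O.f + 1) * O.f) := by
    refine Nat.coprime_of_dvd fun r hr h1 h2 => ?_
    have : Fact r.Prime := ⟨hr⟩
    obtain ⟨x, hx⟩ := exists_prime_orderOf_dvd_card' (G := centralizer ({y} : Set G)) r h1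
    have hx2 : orderOf (x : G) = r := by rw [← Subgroup.orderOf_coe] at hx; exact hx
    obtain ⟨h3, h4⟩ := N.prime_not_dvd hy x.2 hr hx2
    rcases (Nat.Prime.dvd_mul hr).1 h2 with h5 | h5
    · exact h3 h5
    · exact h4 h5
  have hdvdn : c ∣ 2 * (O.f + 1) * O.f * (2 * O.f + 1) := by
    have h1 := Subgroup.card_subgroup_dvd_card (centralizer ({y} : Set G))
    rw [Nat.card_eq_fintype_card (α := G), N.hn] at h1
    have h2 : 2 * (O.f + 1) * ((2 * O.f + 1) * O.f) = 2 * (O.f + 1) * O.f * (2 * O.f + 1) := by ring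
    rwa [h2] at h1
  have hdvd : c ∣ 2 * O.f + 1 := hcop.dvd_of_dvd_mul_left hdvdn
  obtain ⟨d, hd⟩ := hdvd
  have hcl := card_class y
  rw [← hc, N.hn] at hcl
  have hcle := Finset.card_le_card (N.class_sub hy)
  rw [N.card_PPF] at hcle
  set m := (Finset.univ.filter fun u : G => IsConj y u).card with hm
  have hc0 : 0 < c := Nat.card_pos
  have hm2 : m = 2 * (O.f + 1) * (d * O.f) := by
    have h1 : m * c = (2 * (O.f + 1) * (d * O.f)) * c := by
      rw [hcl, hd]
      ring
    exact Nat.eq_of_mul_eq_mul_right hc0 h1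
  have hd2 : d ≤ 2 := by
    rw [hm2] at hcle
    have hf0 := N.f_pos
    have h1 : (2 * (O.f + 1) * O.f) * d ≤ (2 * (O.f + 1) * O.f) * 2 := by
      calc (2 * (O.f + 1) * O.f) * d = 2 * (O.f + 1) * (d * O.f) := by ring
        _ ≤ 4 * O.f * (O.f + 1) := hcle
        _ = (2 * (O.f + 1) * O.f) * 2 := by ring
    exact Nat.le_of_mul_le_mul_left h1 (by positivity)
  have hd3 : d = 1 := by
    have h1 : d ≠ 0 := by
      rintro rfl
      omega
    have h2 : d ≠ 2 := by
      rintro rfl
      omega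
    omega
  rw [hd, hd3, mul_one]

theorem pow_q_of_mem_cent {y x : G} (hy : PP O y) (hx : x ∈ centralizer ({y} : Set G)) :
    x ^ (2 * O.f + 1) = 1 := by
  rw [← N.card_cent_PP hy, ← orderOf_dvd_iff_pow_eq_one]
  exact Subgroup.orderOf_dvd_natCard _ hx

omit N in
theorem no_self_inverse {y : G} (hy : C.E2 y) : y * y ≠ 1 := by
  intro h
  exact C.E2_no_invol hy (orderOf_eq_two h hy.1) rfl

/-- A `PP` element is not conjugate to its inverse. -/
theorem not_conj_inv {y : G} (hy : PP O y) : ¬ IsConj y y⁻¹ := by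
  intro hcon
  obtain ⟨g, hg⟩ := isConj_iff.1 hcon
  have hne : y⁻¹ ≠ y := by
    intro h
    apply no_self_inverse hy.1
    calc y * y = y⁻¹ * y := by rw [h]
      _ = 1 := inv_mul_cancel y
  have hg2 : g * g ∈ centralizer ({y} : Set G) := by
    rw [mem_centralizer_singleton_iff]
    have h1 : g * y⁻¹ * g⁻¹ = y := by
      calc g * y⁻¹ * g⁻¹ = (g * y * g⁻¹)⁻¹ := by group
        _ = y := by rw [hg, inv_inv]
    calc g * g * y = g * (g * y * g⁻¹) * g := by group
      _ = g * y⁻¹ * g := by rw [hg]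
      _ = (g * y⁻¹ * g⁻¹) * (g * g) := by group
      _ = y * (g * g) := by rw [h1]
  set a := g * (g * g) ^ O.f with ha
  have hcomm : (g * g) ^ O.f * y * ((g * g) ^ O.f)⁻¹ = y := by
    have h1 : (g * g) ^ O.f ∈ centralizer ({y} : Set G) := pow_mem hg2 _
    rw [mem_centralizer_singleton_iff] at h1
    rw [h1]
    group
  have hainv : a * y * a⁻¹ = y⁻¹ := by
    calc a * y * a⁻¹ = g * ((g * g) ^ O.f * y * ((g * g) ^ O.f)⁻¹) * g⁻¹ := by rw [ha]; group
      _ = y⁻¹ := by rw [hcomm, hg]
  have ha2 : a * a = 1 := by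
    have h1 := N.pow_q_of_mem_cent hy hg2
    have h2 : a * a = (g * g) ^ (2 * O.f + 1) := by
      rw [ha]
      have h3 : Commute g ((g * g) ^ O.f) := ((Commute.refl g).mul_right (Commute.refl g)).pow_right _
      have hP : ∀ P : G, g * P = P * g → g * P * (g * P) = (g * g) * (P * P) := by
        intro P h
        calc g * P * (g * P) = g * (P * g) * P := by simp only [mul_assoc]
          _ = g * (g * P) * P := by rw [h]
          _ = (g * g) * (P * P) := by simp only [mul_assoc]
      rw [hP _ h3.eq, ← pow_add, ← pow_succ', two_mul]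
    rw [h2, h1]
  have ha1 : a ≠ 1 := by
    intro h
    rw [h] at hainv
    simp only [one_mul, inv_one, mul_one] at hainv
    exact hne hainv.symm
  have haord : orderOf a = 2 := orderOf_eq_two ha2 ha1
  have hay : orderOf (a * y) = 2 := by
    refine orderOf_eq_two ?_ ?_
    · have hai : a⁻¹ = a := inv_eq_of_mul_eq_one_left ha2
      rw [hai] at hainv
      calc a * y * (a * y) = (a * y * a) * y := by group
        _ = 1 := by rw [hainv]; group
    · intro h
      apply no_self_inverse hy.1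
      have h1 : y = a⁻¹ := eq_inv_of_mul_eq_one_right h
      rw [h1, ← mul_inv_rev, ha2, inv_one]
  have hiv : 0 < iv y := by
    rw [iv]
    exact Finset.card_pos.2 ⟨a, Finset.mem_filter.2 ⟨Finset.mem_univ _, haord, hay⟩⟩
  rw [N.iv_PP hy] at hiv
  exact lt_irrefl _ hiv

omit N in
theorem E2_inv {y : G} (hy : C.E2 y) : C.E2 y⁻¹ := by
  refine ⟨fun h => hy.1 (inv_eq_one.1 h), ?_⟩
  rintro ⟨g, k, hk, h⟩
  apply hy.2
  refine ⟨g, k⁻¹, C.K.inv_mem hk, ?_⟩
  have : y = (y⁻¹)⁻¹ := by simp
  rw [this, h]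
  group

theorem PP_inv {y : G} (hy : PP O y) : PP O y⁻¹ := by
  have hE := E2_inv hy.1
  refine ⟨hE, ?_⟩
  have h1 := O.A_coe hE
  have h2 := Cfsg.Agent.Lib.Char.Ortho.character_inv_of_isCharacter (isCh O.ξ) y
  rw [h2, O.A_coe hy.1, map_intCast, hy.2] at h1
  have h3 : ((O.A y⁻¹ : ℤ) : ℂ) = 0 := by rw [← h1]; simp
  exact_mod_cast h3

/-- Two classes make up the `PP` elements. -/
theorem classes {y x : G} (hy : PP O y) (hx : PP O x) : IsConj y x ∨ IsConj y⁻¹ x := by
  have hy' := N.PP_inv hy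
  have hc1 := card_class y
  have hc2 := card_class y⁻¹
  rw [N.card_cent_PP hy, N.hn] at hc1
  rw [N.card_cent_PP hy', N.hn] at hc2
  have hpos : 0 < 2 * O.f + 1 := by omega
  have hm : ∀ m, m * (2 * O.f + 1) = 2 * (O.f + 1) * ((2 * O.f + 1) * O.f) → m = 2 * (O.f + 1) * O.f := by
    intro m hm
    have h1 : m * (2 * O.f + 1) = (2 * (O.f + 1) * O.f) * (2 * O.f + 1) := by rw [hm]; ring
    exact Nat.eq_of_mul_eq_mul_right hpos h1
  have h1 := hm _ hc1
  have h2 := hm _ hc2
  have hdisj : Disjoint (Finset.univ.filter fun u : G => IsConj y u)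
      (Finset.univ.filter fun u : G => IsConj y⁻¹ u) := by
    rw [Finset.disjoint_left]
    intro u hu hu2
    have h3 := (Finset.mem_filter.1 hu).2
    have h4 := (Finset.mem_filter.1 hu2).2
    exact N.not_conj_inv hy (h3.trans h4.symm)
  have hunion : (Finset.univ.filter fun u : G => IsConj y u) ∪
      (Finset.univ.filter fun u : G => IsConj y⁻¹ u) = ((E2F C).filter fun y => O.A y = 0) := by
    refine Finset.eq_of_subset_of_card_le (Finset.union_subset (N.class_sub hy) (N.class_sub hy')) ?_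
    rw [Finset.card_union_of_disjoint hdisj, h1, h2, N.card_PPF]
    apply le_of_eq
    ring
  have hxm : x ∈ ((E2F C).filter fun y => O.A y = 0) := N.mem_PPF.2 hx
  rw [← hunion, Finset.mem_union] at hxm
  rcases hxm with h | h
  · exact Or.inl (Finset.mem_filter.1 h).2
  · exact Or.inr (Finset.mem_filter.1 h).2

/-- There is a `PP` element. -/
theorem exists_PP : ∃ y, PP O y := by
  have h1 := N.card_PPF
  have hf0 := N.f_pos
  have h2 : 0 < ((E2F C).filter fun y => O.A y = 0).card := by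
    rw [h1]
    positivity
  obtain ⟨y, hy⟩ := Finset.card_pos.1 h2
  exact ⟨y, N.mem_PPF.1 hy⟩

/-- All the `PP` elements have the same prime order. -/
theorem exists_prime : ∃ p : ℕ, p.Prime ∧ ∀ x, PP O x → orderOf x = p := by
  obtain ⟨y, hy⟩ := N.exists_PP
  have horder : ∀ x, PP O x → orderOf x = orderOf y := by
    intro x hx
    rcases N.classes hy hx with h | h
    · obtain ⟨g, rfl⟩ := isConj_iff.1 h
      exact orderOf_conj g y
    · obtain ⟨g, rfl⟩ := isConj_iff.1 h
      rw [orderOf_conj, orderOf_inv]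
  have hm1 : orderOf y ≠ 1 := by
    intro h
    exact hy.1.1 (orderOf_eq_one_iff.1 h)
  set m := orderOf y with hm
  have hm0 : m ≠ 0 := (orderOf_pos y).ne'
  set p := m.minFac with hp
  have hpp : p.Prime := Nat.minFac_prime hm1
  have hpd : p ∣ m := Nat.minFac_dvd m
  have h1 : orderOf (y ^ (m / p)) = p := orderOf_pow_orderOf_div hm0 hpd
  have h2 : y ^ (m / p) ∈ centralizer ({y} : Set G) := by
    refine pow_mem ?_ _
    rw [mem_centralizer_singleton_iff]
  have h3 : y ^ (m / p) ≠ 1 := by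
    intro h
    rw [h, orderOf_one] at h1
    exact hpp.one_lt.ne h1
  have h4 := horder _ (N.PP_cent hy h2 h3)
  rw [h1] at h4
  exact ⟨p, hpp, fun x hx => by rw [horder x hx, ← h4]⟩

end Neg

end Cfsg.Agent.Lib.Zass.BSWChar
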