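import Mathlib
import Cfsg.Agent.Lib.Zass.BSWNeg

/-!
# Brauer–Suzuki–Wall: the case `ε = -1`, Sylow subgroups
-/

set_option autoImplicit false
set_option linter.unusedSectionVars false
set_option linter.unreachableTactic false
set_option linter.unusedTactic false

namespace Cfsg.Agent.Lib.Zass.BSWChar

open Cfsg Cfsg.Agent.Lib.Zass.BSWGroup Cfsg.Agent.Lib.Zass.BSWAux
open scoped Classical
open Finset Subgroup

universe u

variable {G : Type u} [Group G] [Fintype G] {C : Conf G} {O : Out C}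

namespace Neg

variable (N : Neg O) {p : ℕ} [hp : Fact p.Prime] (hord : ∀ x, PP O x → orderOf x = p)
include N hord

/-- The centralizer of a `PP` element is a Sylow subgroup. -/
theorem cent_sylow {y : G} (hy : PP O y) : ∃ S : Sylow p G, (S : Subgroup G) = centralizer ({y} : Set G) := by
  have hpg : IsPGroup p (centralizer ({y} : Set G)) := by
    rw [IsPGroup.iff_orderOf]
    intro g
    by_cases hg : g = 1
    · exact ⟨0, by rw [hg, orderOf_one, pow_zero]⟩
    · refine ⟨1, ?_⟩
      rw [pow_one, ← Subgroup.orderOf_coe]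
      exact hord _ (N.PP_cent hy g.2 (fun h => hg (Subtype.ext h)))
  obtain ⟨S, hS⟩ := hpg.exists_le_sylow
  refine ⟨S, ?_⟩
  have hyy : y ∈ centralizer ({y} : Set G) := by rw [mem_centralizer_singleton_iff]
  obtain ⟨h1, h2⟩ := N.prime_not_dvd hy hyy hp.out (hord y hy)
  have hnd : ¬ p ∣ 2 * (O.f + 1) * O.f := by
    intro h
    rcases (Nat.Prime.dvd_mul hp.out).1 h with h3 | h3
    · exact h1 h3
    · exact h2 h3
  obtain ⟨b, hb⟩ := S.isPGroup'.exists_card_eq
  have hcop : Nat.Coprime (Nat.card S) (2 * (O.f + 1) * O.f) := by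
    rw [hb]
    exact Nat.Coprime.pow_left _ ((Nat.Prime.coprime_iff_not_dvd hp.out).2 hnd)
  have hdvd : Nat.card S ∣ 2 * (O.f + 1) * O.f * (2 * O.f + 1) := by
    have h3 := Subgroup.card_subgroup_dvd_card (S : Subgroup G)
    rw [Nat.card_eq_fintype_card (α := G), N.hn] at h3
    have h4 : 2 * (O.f + 1) * ((2 * O.f + 1) * O.f) = 2 * (O.f + 1) * O.f * (2 * O.f + 1) := by ring
    rwa [h4] at h3
  have hle : Nat.card S ≤ 2 * O.f + 1 := Nat.le_of_dvd (by omega) (hcop.dvd_of_dvd_mul_left hdvd)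
  symm
  refine Subgroup.eq_of_le_of_card_ge hS ?_
  rw [N.card_cent_PP hy]
  exact hle

/-- Every non-identity element of a Sylow subgroup is a `PP` element. -/
theorem sylow_PP (S : Sylow p G) {x : G} (hx : x ∈ (S : Subgroup G)) (hx1 : x ≠ 1) : PP O x := by
  obtain ⟨y, hy⟩ := N.exists_PP
  obtain ⟨S₀, hS₀⟩ := N.cent_sylow hord hy
  obtain ⟨g, rfl⟩ := MulAction.exists_smul_eq G S₀ S
  rw [Sylow.coe_subgroup_smul, Subgroup.mem_smul_pointwise_iff_exists] at hx
  obtain ⟨x₀, hx₀, rfl⟩ := hx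
  have h1 : MulAut.conj g • x₀ = g * x₀ * g⁻¹ := rfl
  rw [h1] at hx1 ⊢
  have hx₀1 : x₀ ≠ 1 := by
    rintro rfl
    apply hx1
    group
  rw [hS₀] at hx₀
  exact N.PP_conj (N.PP_cent hy hx₀ hx₀1) g

omit hord in
/-- A nontrivial `PP`-subgroup has a normalizer of odd order. -/
theorem odd_normalizer {R : Subgroup G} (hR : ∀ x ∈ R, x ≠ 1 → PP O x) (hR1 : R ≠ ⊥) :
    Odd (Nat.card (Subgroup.normalizer (R : Set G))) := by
  by_contra hodd
  rw [Nat.not_odd_iff_even, even_iff_two_dvd] at hodd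
  have : Fact (Nat.Prime 2) := ⟨Nat.prime_two⟩
  obtain ⟨a, ha⟩ := exists_prime_orderOf_dvd_card' (G := Subgroup.normalizer (R : Set G)) 2 hodd
  have ha2 : orderOf (a : G) = 2 := by rw [← Subgroup.orderOf_coe] at ha; exact ha
  have ha3 : (a : G) * a = 1 := mul_self_of_orderOf ha2
  obtain ⟨x, hx, hx1⟩ := (Subgroup.bot_or_exists_ne_one R).resolve_left hR1
  have hinv : ∀ v ∈ R, (a : G) * v * (a : G)⁻¹ = v⁻¹ := by
    refine Conf.fpf_inverts ha3 (fun v hv => conj_mem_of_normalizer a.2 hv) ?_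
    intro v hv hfix
    by_contra hv1
    refine C.E2_no_invol (hR v hv hv1).1 ha2 ?_
    calc (a : G) * v = (a : G) * v * (a : G)⁻¹ * a := by group
      _ = v * a := by rw [hfix]
  have hPx := hR x hx hx1
  have hiv := N.iv_PP hPx
  have hai : (a : G)⁻¹ = a := inv_eq_of_mul_eq_one_left ha3
  have hx2 := hinv x hx
  rw [hai] at hx2
  have hax : orderOf ((a : G) * x) = 2 := by
    refine orderOf_eq_two ?_ ?_
    · calc (a : G) * x * (a * x) = ((a : G) * x * a) * x := by group
        _ = 1 := by rw [hx2]; group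
    · intro h
      apply Neg.no_self_inverse hPx.1
      have h1 : x = (a : G)⁻¹ := eq_inv_of_mul_eq_one_right h
      rw [h1, ← mul_inv_rev, ha3, inv_one]
  have h3 : 0 < iv x := Finset.card_pos.2 ⟨a, Finset.mem_filter.2 ⟨Finset.mem_univ _, ha2, hax⟩⟩
  rw [hiv] at h3
  exact lt_irrefl _ h3

/-- In a subgroup of odd order, a normalizing element centralizes an `r`-subgroup, `r ≠ p`. -/
theorem centralize {S T : Subgroup G} (hS : Odd (Nat.card S)) {r : ℕ} [hr : Fact r.Prime]
    (hrp : r ≠ p) (hTS : T ≤ S) (hT : IsPGroup r T) {g : G} (hg : g ∈ S)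
    (hgT : g ∈ Subgroup.normalizer (T : Set G)) {v : G} (hv : v ∈ T) : g * v = v * g := by
  by_cases hT1 : T = ⊥
  · rw [hT1, Subgroup.mem_bot] at hv
    rw [hv]
    group
  have hodd : ∀ x ∈ S, Odd (orderOf x) := by
    intro x hx
    exact Odd.of_dvd_nat hS (Subgroup.orderOf_dvd_natCard S hx)
  have hsq : ∀ x ∈ S, x * x = 1 → x = 1 := by
    intro x hx h
    by_contra h1
    have h2 := orderOf_eq_two h h1
    have h3 := hodd x hx
    rw [h2] at h3
    exact absurd h3 (by decide)
  -- a central element of `T`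
  obtain ⟨u, huT, hu1, hucomm⟩ : ∃ u ∈ T, u ≠ 1 ∧ ∀ w ∈ T, u * w = w * u := by
    have : Nontrivial T := by
      rw [Subgroup.nontrivial_iff_ne_bot]
      exact hT1
    have hZ := hT.center_nontrivial
    obtain ⟨z, hz⟩ := exists_ne (1 : Subgroup.center T)
    refine ⟨(z : T), (z : T).2, ?_, ?_⟩
    · intro h
      apply hz
      exact Subtype.ext (Subtype.ext h)
    · intro w hw
      have h1 := (Subgroup.mem_center_iff.1 z.2) ⟨w, hw⟩
      exact (congrArg Subtype.val h1).symm
  have huconj : g * u * g⁻¹ ∈ T := conj_mem_of_normalizer hgT huT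
  have huconj1 : g * u * g⁻¹ ≠ 1 := by
    intro h
    apply hu1
    have : u = g⁻¹ * (g * u * g⁻¹) * g := by group
    rw [this, h]
    group
  by_cases hIn : C.InK u
  · -- `u` is conjugate into `K`
    obtain ⟨a, k, hk, rfl⟩ := hIn
    have hk1 : k ≠ 1 := by
      rintro rfl
      apply hu1
      group
    have hkt : k ≠ C.t := by
      rintro rfl
      have h1 := hodd _ (hTS huT)
      rw [Neg.orderOf_conj, C.ht] at h1
      exact absurd h1 (by decide)
    have hcent := C.cent_K hk hk1 hkt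
    have hmemK : ∀ w ∈ T, a⁻¹ * w * a ∈ C.K := by
      intro w hw
      rw [← hcent, mem_centralizer_singleton_iff]
      have h1 := hucomm w hw
      calc a⁻¹ * w * a * k = a⁻¹ * (w * (a * k * a⁻¹)) * a := by group
        _ = a⁻¹ * ((a * k * a⁻¹) * w) * a := by rw [h1]
        _ = k * (a⁻¹ * w * a) := by group
    set g' := a⁻¹ * g * a with hg'
    have hg'H : g' ∈ C.H := by
      apply C.ti hk hk1
      have h1 := hmemK _ huconj
      have h2 : a⁻¹ * (g * (a * k * a⁻¹) * g⁻¹) * a = g' * k * g'⁻¹ := by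
        rw [hg']
        group
      rwa [h2] at h1
    have hg'K : g' ∈ C.K := by
      by_contra hK
      have h1 := (C.H_not_K hg'H hK).1
      have h2 : g * g = 1 := by
        have h3 : g = a * g' * a⁻¹ := by rw [hg']; group
        rw [h3]
        calc a * g' * a⁻¹ * (a * g' * a⁻¹) = a * (g' * g') * a⁻¹ := by group
          _ = 1 := by rw [h1]; group
      have h3 := hsq g hg h2
      apply hK
      rw [hg', h3]
      simp [C.K.one_mem]
    have h4 := C.comm_K hg'K (hmemK v hv)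
    have h5 : g' * (a⁻¹ * v * a) = a⁻¹ * (g * v) * a := by rw [hg']; group
    have h6 : (a⁻¹ * v * a) * g' = a⁻¹ * (v * g) * a := by rw [hg']; group
    rw [h5, h6] at h4
    have h7 : a * (a⁻¹ * (g * v) * a) * a⁻¹ = a * (a⁻¹ * (v * g) * a) * a⁻¹ := by rw [h4]
    simpa [mul_assoc] using h7
  · -- `u` is outside
    have hEu : C.E2 u := ⟨hu1, hIn⟩
    have hDu : DD O u := by
      rcases N.A_E2 hEu with h | h
      · exfalso
        have h1 := hord u h
        obtain ⟨n, hn⟩ := hT ⟨u, huT⟩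
        have h2 : u ^ r ^ n = 1 := congrArg Subtype.val hn
        have h3 : p ∣ r ^ n := by
          rw [← h1]
          exact orderOf_dvd_of_pow_eq_one h2
        have h4 := hp.out.dvd_of_dvd_pow h3
        exact hrp ((Nat.prime_dvd_prime_iff_eq hp.out hr.out).1 h4).symm
      · exact h
    obtain ⟨b, hb⟩ := N.exists_inverted hDu
    set z := b * u * b⁻¹ with hz
    have hDz : DD O z := N.DD_conj hDu b
    set D := centralizer ({z} : Set G) with hD
    have hmemD : ∀ w ∈ T, b * w * b⁻¹ ∈ D := by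
      intro w hw
      apply conj_mem_cent
      rw [mem_centralizer_singleton_iff]
      exact (hucomm w hw).symm
    set g' := b * g * b⁻¹ with hg'
    have hg'N : g' ∈ Subgroup.normalizer (D : Set G) := by
      have hzD : z ∈ D := by rw [hD, mem_centralizer_singleton_iff]
      refine mem_normalizer_of_conj (fun x hx hx1 => C.cent_eq_of_mem hDz.1 hb hx hx1) hzD hDz.1.1 ?_
      have h1 := hmemD _ huconj
      have h2 : b * (g * u * g⁻¹) * b⁻¹ = g' * z * g'⁻¹ := by
        rw [hg', hz]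
        group
      rwa [h2] at h1
    obtain ⟨d, hd, h, hh, hhN, hgd⟩ := C.frat hDz.1 hb hg'N
    have hg'D : g' ∈ D := by
      rcases N.K_normalizer hDz hb hh hhN with h1 | h1
      · rw [hgd, h1, mul_one]
        exact hd
      · exfalso
        rw [h1] at hgd
        have h2 : g' * g' = 1 := by
          have h3 := C.cent_inverted hDz.1 hb d hd
          rw [C.tinv] at h3
          rw [hgd]
          calc d * C.t * (d * C.t) = d * (C.t * d * C.t) := by group
            _ = 1 := by rw [h3]; group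
        have h3 : g * g = 1 := by
          have h4 : g = b⁻¹ * g' * b := by rw [hg']; group
          rw [h4]
          calc b⁻¹ * g' * b * (b⁻¹ * g' * b) = b⁻¹ * (g' * g') * b := by group
            _ = 1 := by rw [h2]; group
        have h4 := hsq g hg h3
        have h5 : g' = 1 := by rw [hg', h4]; group
        rw [h5] at hgd
        apply C.t_not_mem_cent hDz.1
        have h6 : C.t = d⁻¹ := by
          exact (eq_inv_of_mul_eq_one_right hgd.symm)
        rw [h6]
        exact inv_mem hd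
    have h4 := C.cent_comm hDz.1 hb hg'D (hmemD v hv)
    have h5 : g' * (b * v * b⁻¹) = b * (g * v) * b⁻¹ := by rw [hg']; group
    have h6 : (b * v * b⁻¹) * g' = b * (v * g) * b⁻¹ := by rw [hg']; group
    rw [h5, h6] at h4
    have h7 : b⁻¹ * (b * (g * v) * b⁻¹) * b = b⁻¹ * (b * (v * g) * b⁻¹) * b := by rw [h4]
    simpa [mul_assoc] using h7

omit N hord in
/-- Growth of normalizers inside a Sylow subgroup. -/
theorem exists_grow (S : Sylow p G) {R : Subgroup G} (hR : R ≤ S) (hne : R ≠ S) :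
    ∃ x ∈ (S : Subgroup G), x ∉ R ∧ x ∈ Subgroup.normalizer (R : Set G) := by
  have hnil : Group.IsNilpotent (S : Subgroup G) := S.isPGroup'.isNilpotent
  have hcond := Group.normalizerCondition_of_isNilpotent (G := (S : Subgroup G))
  set R₀ := R.subgroupOf (S : Subgroup G) with hR₀
  have hlt : R₀ < ⊤ := by
    rw [lt_top_iff_ne_top]
    intro h
    apply hne
    apply le_antisymm hR
    intro x hx
    have h1 : (⟨x, hx⟩ : (S : Subgroup G)) ∈ R₀ := by rw [h]; exact Subgroup.mem_top _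
    exact Subgroup.mem_subgroupOf.1 h1
  have h2 := hcond R₀ hlt
  obtain ⟨x, hx, hx2⟩ := SetLike.exists_of_lt h2
  refine ⟨x, x.2, fun h => hx2 (Subgroup.mem_subgroupOf.2 h), ?_⟩
  refine mem_normalizer_of (fun v hv => ?_) (fun v hv => ?_)
  · have h3 : (⟨v, hR hv⟩ : (S : Subgroup G)) ∈ R₀ := Subgroup.mem_subgroupOf.2 hv
    have h4 := (Subgroup.mem_normalizer_iff.1 hx _).1 h3
    exact Subgroup.mem_subgroupOf.1 h4
  · have h3 : (⟨v, hR hv⟩ : (S : Subgroup G)) ∈ R₀ := Subgroup.mem_subgroupOf.2 hv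
    have h4 := (Subgroup.mem_normalizer_iff.1 (inv_mem hx) _).1 h3
    have h5 := Subgroup.mem_subgroupOf.1 h4
    simpa using h5

/-- The Sylow `p`-subgroups intersect trivially. -/
theorem ti_sylow (S₁ S₂ : Sylow p G) (hne : S₁ ≠ S₂) : (S₁ : Subgroup G) ⊓ S₂ = ⊥ := by
  by_contra hcon
  let Pairs := {pp : Sylow p G × Sylow p G //
    pp.1 ≠ pp.2 ∧ (pp.1 : Subgroup G) ⊓ (pp.2 : Subgroup G) ≠ ⊥}
  have hnon : Nonempty Pairs := ⟨⟨(S₁, S₂), hne, hcon⟩⟩
  obtain ⟨⟨⟨A, B⟩, hAB, hAB2⟩, hmax⟩ := Finite.exists_max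
    (fun pp : Pairs => Nat.card ((pp.1.1 : Subgroup G) ⊓ (pp.1.2 : Subgroup G) : Subgroup G))
  simp only at hAB hAB2 hmax
  set R : Subgroup G := (A : Subgroup G) ⊓ (B : Subgroup G) with hR
  have hRPP : ∀ x ∈ R, x ≠ 1 → PP O x := fun x hx hx1 => N.sylow_PP hord A hx.1 hx1
  have hodd := N.odd_normalizer hRPP hAB2
  set N₁ := Subgroup.normalizer (R : Set G) with hN₁
  obtain ⟨W, hWp, hW⟩ := exists_pgroup_of_transfer (Γ := N₁) p (by
    intro r hr hrp T x hx
    rw [Subgroup.mem_centralizer_iff]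
    intro v hv
    have hTm : (T : Subgroup N₁).map N₁.subtype ≤ N₁ := by
      rintro _ ⟨a, -, rfl⟩
      exact a.2
    have hTp : IsPGroup r ((T : Subgroup N₁).map N₁.subtype) := T.isPGroup'.map _
    have hxN : (x : G) ∈ Subgroup.normalizer (((T : Subgroup N₁).map N₁.subtype : Subgroup G) : Set G) := by
      refine mem_normalizer_of (fun w hw => ?_) (fun w hw => ?_)
      · obtain ⟨a, ha, rfl⟩ := hw
        exact ⟨x * a * x⁻¹, (Subgroup.mem_normalizer_iff.1 hx a).1 ha, rfl⟩
      · obtain ⟨a, ha, rfl⟩ := hw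
        have := (Subgroup.mem_normalizer_iff.1 (inv_mem hx) a).1 ha
        rw [inv_inv] at this
        exact ⟨x⁻¹ * a * x, this, rfl⟩
    have h1 := N.centralize hord hodd hrp hTm hTp x.2 hxN (v := (v : G)) ⟨v, hv, rfl⟩
    exact Subtype.ext h1.symm)
  have hWG : IsPGroup p (W.map N₁.subtype) := hWp.map _
  obtain ⟨S₃, hS₃⟩ := hWG.exists_le_sylow
  have hmemS₃ : ∀ (S : Sylow p G) (x : G), x ∈ (S : Subgroup G) → x ∈ N₁ → x ∈ (S₃ : Subgroup G) := by
    intro S x hxS hxN
    apply hS₃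
    refine ⟨⟨x, hxN⟩, hW _ ?_, rfl⟩
    obtain ⟨n, hn⟩ := S.isPGroup' ⟨x, hxS⟩
    have h2 : x ^ p ^ n = 1 := congrArg Subtype.val hn
    exact ⟨n, Subtype.ext h2⟩
  have hRS₃ : R ≤ S₃ := fun x hx => hmemS₃ A x hx.1 (Subgroup.le_normalizer hx)
  have key : ∀ S : Sylow p G, S ≠ S₃ → (R : Subgroup G) ≤ S → (R : Subgroup G) ≠ S →
      (∀ S' T' : Sylow p G, ∀ (h1 : S' ≠ T') (h2 : (S' : Subgroup G) ⊓ (T' : Subgroup G) ≠ ⊥),
        Nat.card ((S' : Subgroup G) ⊓ (T' : Subgroup G) : Subgroup G) ≤ Nat.card R) → False := by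
    intro S hSne hRS hRne hmax'
    obtain ⟨x, hxS, hxR, hxN⟩ := exists_grow S hRS hRne
    have hx3 := hmemS₃ S x hxS hxN
    have hx1 : x ≠ 1 := by
      rintro rfl
      exact hxR R.one_mem
    have hne' : (S : Subgroup G) ⊓ (S₃ : Subgroup G) ≠ ⊥ := by
      intro h
      have : x ∈ (S : Subgroup G) ⊓ (S₃ : Subgroup G) := ⟨hxS, hx3⟩
      rw [h, Subgroup.mem_bot] at this
      exact hx1 this
    have h2 := hmax' S S₃ hSne hne'
    have h3 : R ≤ (S : Subgroup G) ⊓ (S₃ : Subgroup G) := le_inf hRS hRS₃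
    have h4 := Subgroup.eq_of_le_of_card_ge h3 h2
    apply hxR
    rw [h4]
    exact ⟨hxS, hx3⟩
  have hmax' : ∀ S' T' : Sylow p G, ∀ (h1 : S' ≠ T') (h2 : (S' : Subgroup G) ⊓ (T' : Subgroup G) ≠ ⊥),
      Nat.card ((S' : Subgroup G) ⊓ (T' : Subgroup G) : Subgroup G) ≤ Nat.card R :=
    fun S' T' h1 h2 => hmax ⟨(S', T'), h1, h2⟩
  have hRA : R ≠ (A : Subgroup G) := by
    intro h
    have h1 : (A : Subgroup G) ≤ B := by
      rw [← h]
      exact inf_le_right
    exact hAB (Sylow.ext (A.is_maximal' B.isPGroup' h1).symm)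
  have hRB : R ≠ (B : Subgroup G) := by
    intro h
    have h1 : (B : Subgroup G) ≤ A := by
      rw [← h]
      exact inf_le_left
    exact hAB (Sylow.ext (B.is_maximal' A.isPGroup' h1))
  have hA3 : A = S₃ := by
    by_contra h
    exact key A h inf_le_left hRA hmax'
  have hB3 : B = S₃ := by
    by_contra h
    exact key B h inf_le_right hRB hmax'
  exact hAB (hA3.trans hB3.symm)

/-- The centralizer of every non-identity element of a Sylow subgroup is that subgroup. -/
theorem cent_eq_sylow (S : Sylow p G) {x : G} (hx : x ∈ (S : Subgroup G)) (hx1 : x ≠ 1) :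
    centralizer ({x} : Set G) = S := by
  have hP := N.sylow_PP hord S hx hx1
  obtain ⟨S', hS'⟩ := N.cent_sylow hord hP
  rw [← hS']
  by_cases h : S' = S
  · rw [h]
  · exfalso
    have h1 := N.ti_sylow hord S' S h
    have hxx : x ∈ (S' : Subgroup G) := by
      rw [hS', mem_centralizer_singleton_iff]
    have h2 : x ∈ (S' : Subgroup G) ⊓ (S : Subgroup G) := ⟨hxx, hx⟩
    rw [h1, Subgroup.mem_bot] at h2
    exact hx1 h2

theorem card_sylow (S : Sylow p G) : Nat.card (S : Subgroup G) = 2 * O.f + 1 := by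
  obtain ⟨y, hy⟩ := N.exists_PP
  obtain ⟨S₀, hS₀⟩ := N.cent_sylow hord hy
  have h1 : Nat.card (S : Subgroup G) = Nat.card (S₀ : Subgroup G) := by
    rw [S.card_eq_multiplicity, S₀.card_eq_multiplicity]
  rw [h1, hS₀, N.card_cent_PP hy]

/-- The order of the normalizer of a Sylow subgroup. -/
theorem card_normalizer (S : Sylow p G) :
    Nat.card (Subgroup.normalizer ((S : Subgroup G) : Set G)) = (2 * O.f + 1) * O.f := by
  have hQ : ∀ x ∈ (S : Subgroup G), x ≠ 1 → centralizer ({x} : Set G) = S :=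
    fun x hx hx1 => N.cent_eq_sylow hord S hx hx1
  have h1 := card_image_mul_normalizer hQ
  set Img := (Finset.univ ×ˢ (Finset.univ.filter fun x : G => x ∈ (S : Subgroup G) ∧ x ≠ 1)).image
    (fun p : G × G => p.1 * p.2 * p.1⁻¹) with hImg
  have h2 : Img = ((E2F C).filter fun y => O.A y = 0) := by
    ext y
    rw [N.mem_PPF, hImg, Finset.mem_image]
    constructor
    · rintro ⟨⟨g, x⟩, hp, rfl⟩
      obtain ⟨h3, h4⟩ := (Finset.mem_filter.1 (Finset.mem_product.1 hp).2).2
      exact N.PP_conj (N.sylow_PP hord S h3 h4) g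
    · intro hy
      obtain ⟨S', hS'⟩ := N.cent_sylow hord hy
      obtain ⟨g, hg⟩ := MulAction.exists_smul_eq G S S'
      have hyS' : y ∈ (S' : Subgroup G) := by
        rw [hS', mem_centralizer_singleton_iff]
      rw [← hg, Sylow.coe_subgroup_smul, Subgroup.mem_smul_pointwise_iff_exists] at hyS'
      obtain ⟨x, hx, hxy⟩ := hyS'
      have hxy' : g * x * g⁻¹ = y := hxy
      refine ⟨(g, x), Finset.mem_product.2 ⟨Finset.mem_univ _, Finset.mem_filter.2
        ⟨Finset.mem_univ _, hx, ?_⟩⟩, hxy'⟩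
      rintro rfl
      apply hy.1.1
      rw [← hxy']
      group
  rw [h2, N.card_PPF, N.card_sylow hord S, N.hn] at h1
  have hf0 := N.f_pos
  have h3 : (4 * O.f * (O.f + 1)) * Nat.card (Subgroup.normalizer ((S : Subgroup G) : Set G)) =
      (4 * O.f * (O.f + 1)) * ((2 * O.f + 1) * O.f) := by
    rw [h1]
    have : 2 * O.f + 1 - 1 = 2 * O.f := by omega
    rw [this]
    ring
  exact Nat.eq_of_mul_eq_mul_left (by positivity) h3

theorem card_sylows : Nat.card (Sylow p G) = 2 * (O.f + 1) := by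
  obtain ⟨S⟩ : Nonempty (Sylow p G) := inferInstance
  have h1 : Nat.card (Sylow p G) = (Subgroup.normalizer ((S : Subgroup G) : Set G)).index :=
    S.card_eq_index_normalizer
  have h2 := (Subgroup.normalizer ((S : Subgroup G) : Set G)).index_mul_card
  rw [N.card_normalizer hord S, Nat.card_eq_fintype_card (α := G), N.hn, ← h1] at h2
  have hf0 := N.f_pos
  have h3 : Nat.card (Sylow p G) * ((2 * O.f + 1) * O.f) = (2 * (O.f + 1)) * ((2 * O.f + 1) * O.f) := by
    rw [h2]
  exact Nat.eq_of_mul_eq_mul_right (by positivity) h3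

omit N hord in
/-- A `p`-element normalizing a Sylow subgroup lies in it. -/
theorem mem_of_normalizes (S : Sylow p G) {y : G} (hy : IsPGroup p (zpowers y))
    (hN : y ∈ Subgroup.normalizer ((S : Subgroup G) : Set G)) : y ∈ (S : Subgroup G) := by
  have h1 : zpowers y ≤ Subgroup.normalizer ((S : Subgroup G) : Set G) := by
    rw [zpowers_le]
    exact hN
  have h2 := hy.to_sup_of_normal_right' S.isPGroup' h1
  have h3 := S.is_maximal' h2 le_sup_right
  rw [← h3]
  exact Subgroup.mem_sup_left (mem_zpowers y)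

/-- A Sylow subgroup acts freely on the other Sylow subgroups. -/
theorem eq_one_of_normalizes {S P : Sylow p G} (hne : P ≠ S) {x : G} (hx : x ∈ (S : Subgroup G))
    (hN : x ∈ Subgroup.normalizer ((P : Subgroup G) : Set G)) : x = 1 := by
  have hpg : IsPGroup p (zpowers x) := by
    exact IsPGroup.to_le S.isPGroup' (zpowers_le.2 hx)
  have h1 := mem_of_normalizes P hpg hN
  have h2 : x ∈ (P : Subgroup G) ⊓ (S : Subgroup G) := ⟨h1, hx⟩
  rw [N.ti_sylow hord P S hne, Subgroup.mem_bot] at h2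
  exact h2

end Neg

end Cfsg.Agent.Lib.Zass.BSWChar
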