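import Mathlib
import Cfsg.Agent.Lib.Zass.BSWNeg2

/-!
# Brauer–Suzuki–Wall: the case `ε = -1`, the conclusion
-/

set_option autoImplicit false
set_option linter.unusedSectionVars false
set_option linter.unreachableTactic false
set_option linter.unusedTactic false

namespace Cfsg.Agent.Lib.Zass.BSWChar

open Cfsg Cfsg.Agent.Lib.Zass.BSWGroup Cfsg.Agent.Lib.Zass.BSWAux
open scoped Classical
open Finset Subgroup

universe u

variable {G : Type u} [Group G] [Fintype G] {C : Conf G} {O : Out C}

namespace Neg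

variable (N : Neg O) {p : ℕ} [hp : Fact p.Prime] (hord : ∀ x, PP O x → orderOf x = p)
include N hord

omit hord in
theorem count_eq (Q : Subgroup G) (hQ : Nat.card Q = 2 * O.f + 1) :
    2 * Nat.card G = Nat.card Q * (Nat.card Q + 1) * (Nat.card Q - 1) := by
  rw [hQ, Nat.card_eq_fintype_card, N.hn]
  have : 2 * O.f + 1 - 1 = 2 * O.f := by omega
  rw [this]
  ring

/-- An element outside a Sylow subgroup normalizing it fixes at most one other Sylow subgroup. -/
theorem two_fixed {w : G} {S' P₁ P₂ : Sylow p G}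
    (hwS : w • S' = S') (h1 : w • P₁ = P₁) (h2 : w • P₂ = P₂) (hP₁ : P₁ ≠ S') (hP₂ : P₂ ≠ S')
    (hw : w ∉ (S' : Subgroup G)) : P₁ = P₂ := by
  have hinj : ∀ x y : (S' : Subgroup G), (x : G) • P₁ = (y : G) • P₁ → x = y := by
    intro x y hxy
    have h3 : ((y : G)⁻¹ * x) • P₁ = P₁ := by rw [mul_smul, hxy, inv_smul_smul]
    have h4 := Sylow.smul_eq_iff_mem_normalizer.1 h3
    have h5 := N.eq_one_of_normalizes hord hP₁ (x := (y : G)⁻¹ * x) (mul_mem (inv_mem y.2) x.2) h4
    apply Subtype.ext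
    exact (inv_mul_eq_one.1 h5).symm
  let φ : ↥(S' : Subgroup G) → {P : Sylow p G // P ≠ S'} := fun x => ⟨(x : G) • P₁, by
    intro h
    apply hP₁
    have h3 : (x : G) • S' = S' := Sylow.smul_eq_iff_mem_normalizer.2 (Subgroup.le_normalizer x.2)
    exact smul_left_cancel (x : G) (h.trans h3.symm)⟩
  have hφ : Function.Injective φ := fun x y hxy => hinj x y (congrArg Subtype.val hxy)
  have hcard : Nat.card {P : Sylow p G // P ≠ S'} ≤ Nat.card (S' : Subgroup G) := by
    have h3 : Nat.card (Option {P : Sylow p G // P ≠ S'}) = Nat.card (Sylow p G) :=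
      Nat.card_congr (Equiv.optionSubtypeNe S')
    rw [Finite.card_option, N.card_sylows hord] at h3
    rw [N.card_sylow hord S']
    omega
  have hbij := hφ.bijective_of_nat_card_le hcard
  obtain ⟨x, hx⟩ := hbij.2 ⟨P₂, hP₂⟩
  have hx' : (x : G) • P₁ = P₂ := congrArg Subtype.val hx
  have hwx : w * x * w⁻¹ ∈ (S' : Subgroup G) :=
    conj_mem_of_normalizer (Sylow.smul_eq_iff_mem_normalizer.1 hwS) x.2
  have h6 : (w * x * w⁻¹) • P₁ = (x : G) • P₁ := by
    have h7 : w⁻¹ • P₁ = P₁ := by rw [inv_smul_eq_iff, h1]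
    rw [mul_smul, mul_smul, h7, hx', h2]
  have h8 : w * x * w⁻¹ = x := congrArg Subtype.val (hinj ⟨_, hwx⟩ x h6)
  by_cases hx1 : (x : G) = 1
  · rw [hx1, one_smul] at hx'
    exact hx'
  · exfalso
    apply hw
    rw [← N.cent_eq_sylow hord S' x.2 hx1, mem_centralizer_singleton_iff]
    have h9 : w * x = x * w := by
      calc w * x = w * x * w⁻¹ * w := by group
        _ = x * w := by rw [h8]
    exact h9

/-- The final statement, small case. -/
theorem goal_one (hf : O.f = 1) : Goal G := by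
  obtain ⟨S⟩ : Nonempty (Sylow p G) := inferInstance
  have hS := N.card_sylow hord S
  refine ⟨S, ⊥, N.count_eq _ hS, fun x hx hx1 => N.cent_eq_sylow hord S hx hx1, ⟨⟨?_⟩⟩, ?_, ?_, ?_, ?_⟩
  · intro a b
    exact Subsingleton.elim _ _
  · rw [hS, Subgroup.card_bot, hf]
  · exact inf_bot_eq _
  · rw [sup_bot_eq]
    symm
    refine Subgroup.eq_of_le_of_card_ge Subgroup.le_normalizer ?_
    rw [N.card_normalizer hord S, hS, hf]
  · intro X hX hX1
    exact absurd (le_bot_iff.1 hX) hX1

/-- The final statement, general case. -/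
theorem goal_two (hf : 2 ≤ O.f) : Goal G := by
  obtain ⟨z, hz, hinv⟩ := N.exists_DD hf
  have hcardD := N.card_D hz hinv
  set D := centralizer ({z} : Set G) with hD
  obtain ⟨r, hr, hrf⟩ : ∃ r, r.Prime ∧ r ∣ O.f := Nat.exists_prime_and_dvd (by omega)
  have hFr : Fact r.Prime := ⟨hr⟩
  obtain ⟨w₀, hw₀⟩ := exists_prime_orderOf_dvd_card' (G := D) r (by rwa [hcardD])
  set w : G := (w₀ : G) with hw
  have hwr : orderOf w = r := by
    rw [hw, Subgroup.orderOf_coe]
    exact hw₀
  have hcop := cop2 N.f_odd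
  have hr1 : ¬ r ∣ 2 * (O.f + 1) := by
    intro h
    have h1 := Nat.dvd_gcd hrf (h.trans (Nat.dvd_mul_right _ (2 * O.f + 1)))
    rw [Nat.Coprime.gcd_eq_one hcop] at h1
    exact hr.one_lt.ne' (Nat.dvd_one.1 h1)
  have hr2 : ¬ r ∣ 2 * O.f + 1 := by
    intro h
    have h1 := Nat.dvd_gcd hrf (h.trans (Nat.dvd_mul_left _ (2 * (O.f + 1))))
    rw [Nat.Coprime.gcd_eq_one hcop] at h1
    exact hr.one_lt.ne' (Nat.dvd_one.1 h1)
  have hzp : IsPGroup r (zpowers w) :=
    IsPGroup.of_card (n := 1) (by rw [Nat.card_zpowers, hwr, pow_one])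
  obtain ⟨S', hS'⟩ := hzp.nonempty_fixed_point_of_prime_not_dvd_card (Sylow p G)
    (by rw [N.card_sylows hord]; exact hr1)
  have hwS' : w • S' = S' := hS' ⟨w, mem_zpowers w⟩
  have hS'card := N.card_sylow hord S'
  have hwS : w ∉ (S' : Subgroup G) := by
    intro h
    have h1 := Subgroup.orderOf_dvd_natCard _ h
    rw [hwr, hS'card] at h1
    exact hr2 h1
  have hdfix : ∀ d ∈ D, d • S' = S' := by
    intro d hd
    have hfix : ∀ e ∈ D, w • (e • S') = e • S' := by
      intro e he
      rw [← mul_smul, C.cent_comm hz.1 hinv w₀.2 he, mul_smul, hwS']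
    by_contra hne
    have hd2 : (d * d) • S' = S' := by
      by_contra hne2
      apply hne
      have h3 := N.two_fixed hord hwS' (hfix d hd) (hfix (d * d) (mul_mem hd hd)) hne hne2 hwS
      rw [mul_smul] at h3
      exact (smul_left_cancel _ h3).symm
    have hodd : Odd (orderOf d) := Odd.of_dvd_nat (C.cent_odd hz.1) (Subgroup.orderOf_dvd_natCard _ hd)
    obtain ⟨m, hm⟩ := hodd
    have hdd : d = (d * d) ^ (m + 1) := by
      rw [← pow_two, ← pow_mul, show 2 * (m + 1) = (2 * m + 1) + 1 by ring, pow_succ, ← hm,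
        pow_orderOf_eq_one, one_mul]
    have h4 := Sylow.smul_eq_iff_mem_normalizer.1 hd2
    have h5 : d ∈ Subgroup.normalizer ((S' : Subgroup G) : Set G) := by
      rw [hdd]
      exact pow_mem h4 _
    exact hne (Sylow.smul_eq_iff_mem_normalizer.2 h5)
  have hNQ : Subgroup.normalizer ((S' : Subgroup G) : Set G) = (S' : Subgroup G) ⊔ D := by
    symm
    refine Subgroup.eq_of_le_of_card_ge
      (sup_le Subgroup.le_normalizer (fun d hd => Sylow.smul_eq_iff_mem_normalizer.1 (hdfix d hd))) ?_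
    rw [N.card_normalizer hord S']
    apply Nat.le_of_dvd Nat.card_pos
    refine Nat.Coprime.mul_dvd_of_dvd_of_dvd ?_ ?_ ?_
    · rw [← Nat.isCoprime_iff_coprime]
      exact ⟨1, -2, by push_cast; ring⟩
    · rw [← hS'card]
      exact Subgroup.card_dvd_of_le le_sup_left
    · rw [← hcardD]
      exact Subgroup.card_dvd_of_le le_sup_right
  have hQD : ∀ x ∈ D, x ≠ 1 → centralizer ({x} : Set G) = D :=
    fun x hx hx1 => C.cent_eq_of_mem hz.1 hinv hx hx1
  have hinvD := C.cent_inverted hz.1 hinv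
  have hNt : Subgroup.normalizer (D : Set G) = D ⊔ zpowers C.t := by
    apply le_antisymm
    · intro g hg
      obtain ⟨d, hd, h, hh, hhN, hgd⟩ := C.frat hz.1 hinv hg
      rw [hgd]
      refine mul_mem (Subgroup.mem_sup_left hd) ?_
      rcases N.K_normalizer hz hinv hh hhN with h1 | h1
      · rw [h1]
        exact one_mem _
      · rw [h1]
        exact Subgroup.mem_sup_right (mem_zpowers _)
    · exact sup_le Subgroup.le_normalizer (zpowers_le.2 (N.t_mem_normalizer hz.1 hinv))
  refine ⟨S', D, N.count_eq _ hS'card, fun x hx hx1 => N.cent_eq_sylow hord S' hx hx1,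
    ⟨⟨fun a b => Subtype.ext (C.cent_comm hz.1 hinv a.2 b.2)⟩⟩, ?_, ?_, hNQ, ?_⟩
  · rw [hcardD, hS'card]
  · rw [eq_bot_iff]
    rintro x ⟨hx, hxD⟩
    rw [Subgroup.mem_bot]
    by_contra hx1
    exact N.not_PP_DD (N.sylow_PP hord S' hx hx1) (N.D_elts hz hinv hxD hx1)
  · intro X hXD hX1
    obtain ⟨x, hx, hx1⟩ := (Subgroup.bot_or_exists_ne_one X).resolve_left hX1
    refine ⟨?_, C.t, C.ht, C.t_not_mem_cent hz.1, hinvD, hNt⟩
    apply le_antisymm
    · intro g hg
      exact mem_normalizer_of_conj hQD (hXD hx) hx1 (hXD (conj_mem_of_normalizer hg hx))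
    · intro g hg
      obtain ⟨d, hd, h, hh, hhN, hgd⟩ := C.frat hz.1 hinv hg
      have hcomm : ∀ v ∈ X, d * v = v * d := fun v hv => C.cent_comm hz.1 hinv hd (hXD hv)
      rcases N.K_normalizer hz hinv hh hhN with h1 | h1
      · rw [hgd, h1, mul_one]
        refine mem_normalizer_of (fun v hv => ?_) (fun v hv => ?_)
        · rw [hcomm v hv]
          simpa using hv
        · have h2 : d⁻¹ * v * d = v := by
            rw [mul_assoc, ← hcomm v hv]
            group
          rw [h2]
          exact hv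
      · rw [hgd, h1]
        have hi := fun v (hv : v ∈ X) => hinvD v (hXD hv)
        have hi' : ∀ v ∈ X, C.t * v * C.t = v⁻¹ := by
          intro v hv
          have := hi v hv
          rwa [C.tinv] at this
        refine mem_normalizer_of (fun v hv => ?_) (fun v hv => ?_)
        · have h2 : d * C.t * v * (d * C.t)⁻¹ = d * (C.t * v * C.t⁻¹) * d⁻¹ := by group
          rw [h2, hi v hv]
          have h3 := hcomm v⁻¹ (inv_mem hv)
          rw [h3]
          simpa using inv_mem hv
        · have h2 : (d * C.t)⁻¹ * v * (d * C.t) = C.t * (d⁻¹ * v * d) * C.t := by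
            rw [mul_inv_rev, C.tinv]
            group
          have h3 : d⁻¹ * v * d = v := by
            rw [mul_assoc, ← hcomm v hv]
            group
          rw [h2, h3, hi' v hv]
          exact inv_mem hv

end Neg

theorem goal_minus (N : Neg O) : Goal G := by
  obtain ⟨p, hp, hord⟩ := N.exists_prime
  have hFp : Fact p.Prime := ⟨hp⟩
  by_cases hf : O.f = 1
  · exact N.goal_one hord hf
  · have := N.f_pos
    exact N.goal_two hord (by omega)

end Cfsg.Agent.Lib.Zass.BSWChar
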