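import Cfsg.Agent.Lib.Zass.EvenElem
import Cfsg.Agent.S2202

/-!
# Simple groups in which commuting is transitive
-/

set_option autoImplicit false
set_option linter.unusedSectionVars false
set_option linter.style.haveILetI false

namespace Cfsg.Agent.Lib.Zass.CTSimple

open Subgroup Cfsg.Agent.Lib.Zass.EvenBasic Cfsg.Agent.Lib.Zass.EvenFT
  Cfsg.Agent.Lib.Zass.EvenElem Cfsg.Agent.Lib.PSL2.Basic Cfsg.Agent.Lib.Zass.EvenSub
open scoped MatrixGroups

universe u

variable {G : Type u} [Group G] [Finite G]

/-- The forward direction, given the Odd Order Theorem. -/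
theorem forward [IsSimpleGroup G] (hG : ¬ IsMulCommutative G) (hFT : FT G)
    (h : ∀ a b c : G, a ≠ 1 → b ≠ 1 → c ≠ 1 → Commute a b → Commute b c → Commute a c) :
    ∃ (F : Type) (_ : Field F) (_ : Fintype F) (f : ℕ), 2 ≤ f ∧ Fintype.card F = 2 ^ f ∧
      Nonempty (G ≃* Matrix.ProjectiveSpecialLinearGroup (Fin 2) F) := by
  classical
  haveI : Fact (Nat.Prime 2) := ⟨Nat.prime_two⟩
  have hnc : ¬ ∀ a b : G, a * b = b * a := fun h1 => hG ⟨⟨h1⟩⟩
  have hss : NS G := by
    intro N hN hsol
    rcases hN.eq_bot_or_eq_top with h1 | h1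
    · exact h1
    · exfalso
      apply hnc
      rw [IsSimpleGroup.comm_iff_isSolvable]
      subst h1
      exact (solvable_of_surjective (f := (Subgroup.topEquiv : (⊤ : Subgroup G) ≃* G).toMonoidHom)
        (Subgroup.topEquiv : (⊤ : Subgroup G) ≃* G).surjective)
  have hbot : (⊤ : Subgroup G) ≠ ⊥ := top_ne_bot
  have heven : Even (Nat.card G) := by
    rw [← Nat.not_odd_iff_even]
    intro hodd
    have h1 := no_odd hss hFT (N := ⊤) inferInstance (by
      rw [Subgroup.card_top]
      exact hodd)
    exact hbot h1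
  have hab : ∀ t : G, orderOf t = 2 → IsMulCommutative ↥(centralizer ({t} : Set G)) := by
    intro t ht
    have ht1 : t ≠ 1 := by
      rintro rfl
      rw [orderOf_one] at ht
      omega
    refine ⟨⟨fun a b => ?_⟩⟩
    apply Subtype.ext
    by_cases ha : (a : G) = 1
    · simp [ha]
    by_cases hb : (b : G) = 1
    · simp [hb]
    have h1 : Commute (a : G) t := mem_centralizer_singleton_iff.1 a.2
    have h2 : Commute t (b : G) := (mem_centralizer_singleton_iff.1 b.2 : Commute (b : G) t).symm
    exact h _ _ _ ha ht1 hb h1 h2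
  rcases Cfsg.Agent.S2202.result heven hab with h1 | h1 | ⟨F, _, _, A, _, _, hch, hoddA, ⟨φ⟩⟩
  · -- cyclic Sylow subgroups
    exfalso
    obtain ⟨T⟩ : Nonempty (Sylow 2 G) := inferInstance
    have hc := h1 T
    have h3 : IsCyclic ↥((T : Subgroup G).subgroupOf (⊤ : Subgroup G)) := by
      haveI := hc
      let e : ↥((T : Subgroup G).subgroupOf (⊤ : Subgroup G)) →* ↥(T : Subgroup G) :=
        { toFun := fun x => ⟨(x : (⊤ : Subgroup G)), mem_subgroupOf.1 x.2⟩
          map_one' := rfl
          map_mul' := fun _ _ => rfl }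
      refine isCyclic_of_injective e ?_
      intro x y hxy
      apply Subtype.ext
      apply Subtype.ext
      have h5 := congrArg (fun z : ↥(T : Subgroup G) => (z : G)) hxy
      exact h5
    exact hbot (no_cyclic hss hFT T inferInstance h3)
  · -- normal Sylow subgroups
    exfalso
    obtain ⟨T⟩ : Nonempty (Sylow 2 G) := inferInstance
    have h3 := no_two hss (h1 T) T.isPGroup'
    have h4 := T.not_dvd_index
    rw [h3, Subgroup.index_bot] at h4
    exact h4 heven.two_dvd
  · -- `SL₂(F) × A`
    have hA1 : ∀ c : A, c = 1 := by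
      intro c
      have h1 : φ.symm (1, c) = 1 := by
        refine central_eq_one hss (inferInstance : (⊤ : Subgroup G).Normal) (mem_top _) ?_
        intro u _
        apply φ.injective
        rw [map_mul, map_mul, MulEquiv.apply_symm_apply]
        apply Prod.ext
        · simp
        · simp [mul_comm]
      have h2 : ((1 : Matrix.SpecialLinearGroup (Fin 2) F), c) = 1 := by
        have := congrArg φ h1
        rwa [MulEquiv.apply_symm_apply, map_one] at this
      exact congrArg Prod.snd h2
    haveI : Unique A := ⟨⟨1⟩, hA1⟩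
    let χ : G ≃* Matrix.SpecialLinearGroup (Fin 2) F := φ.trans MulEquiv.prodUnique
    have h2F : (2 : F) = 0 := by
      have := CharP.cast_eq_zero F 2
      simpa using this
    obtain ⟨n, hn2, hn⟩ := FiniteField.card F 2
    refine ⟨F, inferInstance, inferInstance, n, ?_, hn, ⟨χ.trans (pslEquivSL h2F).symm⟩⟩
    by_contra hn1
    have hn' : (n : ℕ) = 1 := by
      have := n.pos
      omega
    have hcard : Nat.card G = 6 := by
      rw [Nat.card_congr χ.toEquiv, card_SL2, hn, hn']
      norm_num
    obtain ⟨y, hy⟩ := exists_prime_orderOf_dvd_card' (G := G) 3 (by rw [hcard]; norm_num)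
    haveI hind : (zpowers y).Normal := by
      refine Subgroup.normal_of_index_eq_two ?_
      have h3 := (zpowers y).card_mul_index
      rw [Nat.card_zpowers, hy, hcard] at h3
      omega
    rcases hind.eq_bot_or_eq_top with h3 | h3
    · rw [zpowers_eq_bot] at h3
      rw [h3, orderOf_one] at hy
      omega
    · have h4 := Nat.card_zpowers y
      rw [h3, Subgroup.card_top, hy, hcard] at h4
      omega

/-- The converse. -/
theorem backward (F : Type) [Field F] [Fintype F] (f : ℕ) (hf : 2 ≤ f) (hc : Fintype.card F = 2 ^ f)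
    (e : G ≃* Matrix.ProjectiveSpecialLinearGroup (Fin 2) F) (a b c : G) (ha : a ≠ 1) (hb : b ≠ 1)
    (hc' : c ≠ 1) (hab : Commute a b) (hbc : Commute b c) : Commute a c := by
  have h2F : (2 : F) = 0 := by
    have h5 : ((Fintype.card F : ℕ) : F) = 0 := Nat.cast_card_eq_zero F
    rw [hc] at h5
    push_cast at h5
    exact pow_eq_zero_iff (by omega) |>.1 h5
  let χ := e.trans (pslEquivSL h2F)
  have hB : χ b ≠ 1 := by
    intro h
    exact hb (χ.injective (by rw [h, map_one]))
  have hA : χ b ≠ 1 ∧ χ b ≠ -1 := by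
    refine ⟨hB, ?_⟩
    intro h
    rw [neg_eq_self_of_two_eq_zero h2F] at h
    exact hB h
  have h1 : χ b * χ a = χ a * χ b := by
    rw [← map_mul, ← map_mul, hab.eq]
  have h2 : χ b * χ c = χ c * χ b := by
    rw [← map_mul, ← map_mul, hbc.eq]
  have h3 := commute_of_commute hA h1 h2
  apply χ.injective
  rw [map_mul, map_mul]
  exact h3

end Cfsg.Agent.Lib.Zass.CTSimple
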