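import Mathlib
import Cfsg.Agent.Lib.Zass.Rows4
import Cfsg.Agent.Lib.Zass.Rows5
import Cfsg.Agent.Lib.Char.AbelianQuot
import Cfsg.Agent.Lib.Char.LinearChars
import Cfsg.Agent.Lib.Char.CliffordCorr
import Cfsg.Agent.Lib.Char.CompleteCor
import Cfsg.Agent.Lib.CharFS.Tri

/-!
# Characters of a Suzuki 2-group acting in a Zassenhaus group

`H` is the kernel, with centre `Z`, all squares and commutators in `Z`, `D` regular on `Z#`.
-/

set_option autoImplicit false
set_option linter.unusedSectionVars false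
set_option linter.style.haveILetI false

namespace Cfsg.Agent.Lib.Zass.SuzChar

open Cfsg Cfsg.Agent.Lib.Char.Induced Cfsg.Agent.Lib.Zass.Rows1 Cfsg.Agent.Lib.Zass.Rows2
  Cfsg.Agent.Lib.Zass.Rows3 Cfsg.Agent.Lib.Zass.Rows4
open Cfsg.Agent.Lib.Char.Ortho (classInner_irr fintype_irr)
open scoped ComplexConjugate
open Finset
open scoped Classical

universe u

variable {G : Type u} [Group G] [Fintype G] {H B D : Subgroup G} [Fintype H] [Fintype D]

/-- The data of a Suzuki 2-group in a Zassenhaus configuration. -/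
structure SuzKer (hz : ZChar H B D) : Prop where
  sq_mem : ∀ x : H, x * x ∈ Subgroup.center H
  comm_mem : ∀ x y : H, x * y * x⁻¹ * y⁻¹ ∈ Subgroup.center H
  z_sq : ∀ z : H, z ∈ Subgroup.center H → z * z = 1
  inv_mem : ∀ x : H, x * x = 1 → x ∈ Subgroup.center H
  trans : ∀ z z' : H, z ∈ Subgroup.center H → z' ∈ Subgroup.center H → z ≠ 1 → z' ≠ 1 →
    ∃ d ∈ D, (d⁻¹ * (z : G) * d) = z'
  comm_eq : commutator H = Subgroup.center H
  card_z : Nat.card (Subgroup.center H) = Nat.card D + 1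

variable {hz : ZChar H B D}

/-- Conjugation by an element of `D` preserves the centre. -/
theorem conj_center (z : H) (hzc : z ∈ Subgroup.center H) (d : G) (hd : d ∈ B) :
    conjHom hz d hd z ∈ Subgroup.center H := by
  rw [Subgroup.mem_center_iff] at hzc ⊢
  intro y
  obtain ⟨y', rfl⟩ := (conjHom_bijective hz d hd).2 y
  rw [← map_mul, ← map_mul, hzc y']

/-- Free action of `D` on `H#`. -/
theorem conj_free (hz : ZChar H B D) (z : H) (hz1 : z ≠ 1) {d d' : G} (hd : d ∈ D) (hd' : d' ∈ D)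
    (h : d⁻¹ * (z : G) * d = d'⁻¹ * (z : G) * d') : d = d' := by
  have hzG : (z : G) ≠ 1 := fun h => hz1 (Subtype.ext h)
  have h1 : (d' * d⁻¹) * (z : G) = (z : G) * (d' * d⁻¹) := by
    have h2 : d' * (d⁻¹ * (z : G) * d) * d⁻¹ = d' * (d'⁻¹ * (z : G) * d') * d⁻¹ := by rw [h]
    have h3 : d' * (d⁻¹ * (z : G) * d) * d⁻¹ = (d' * d⁻¹) * (z : G) := by group
    have h4 : d' * (d'⁻¹ * (z : G) * d') * d⁻¹ = (z : G) * (d' * d⁻¹) := by group
    rw [← h3, ← h4, h2]
  have hb : d' * d⁻¹ ∈ B := B.mul_mem (hz.D_le hd') (B.inv_mem (hz.D_le hd))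
  have h5 := hz.comm _ hb z z.2 hzG h1
  have h6 : d' * d⁻¹ ∈ D := D.mul_mem hd' (D.inv_mem hd)
  have h7 := hz.inter _ h5 h6
  have h8 : d' = d := by
    rw [mul_inv_eq_one] at h7
    exact h7
  exact h8.symm

variable (hS : SuzKer hz)
include hS

/-- The sum over `D` of a conjugate. -/
theorem sum_D_conj (f : H → ℂ) (z : H) (hzc : z ∈ Subgroup.center H) (hz1 : z ≠ 1) :
    ∑ d : D, f (conjHom hz (d : G) (hz.D_le d.2) z) =
      ∑ z' : Subgroup.center H, f z' - f 1 := by
  have hsplit : ∑ z' : Subgroup.center H, f z' =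
      f 1 + ∑ z' ∈ (univ : Finset (Subgroup.center H)).erase 1, f z' := by
    rw [← Finset.add_sum_erase univ _ (mem_univ (1 : Subgroup.center H))]
    rfl
  rw [hsplit, add_sub_cancel_left]
  refine Finset.sum_bij (fun d _ => (⟨conjHom hz (d : G) (hz.D_le d.2) z,
    conj_center z hzc _ _⟩ : Subgroup.center H)) ?_ ?_ ?_ ?_
  · intro d _
    simp only [mem_erase, mem_univ, and_true]
    intro h
    apply hz1
    have h1 : conjHom hz (d : G) (hz.D_le d.2) z = 1 := congrArg Subtype.val h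
    have h2 : conjHom hz (d : G) (hz.D_le d.2) z = conjHom hz (d : G) (hz.D_le d.2) 1 := by
      rw [h1, map_one]
    exact (conjHom_bijective hz _ _).1 h2
  · intro d _ d' _ h
    have h1 : conjHom hz (d : G) (hz.D_le d.2) z = conjHom hz (d' : G) (hz.D_le d'.2) z :=
      congrArg Subtype.val h
    have h2 := congrArg (fun x : H => (x : G)) h1
    simp only [conjHom_coe] at h2
    exact Subtype.ext (conj_free hz z hz1 d.2 d'.2 h2)
  · intro z' hz'
    have hz'1 : (z' : H) ≠ 1 := by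
      intro h
      apply (mem_erase.1 hz').1
      exact Subtype.ext h
    obtain ⟨d, hd, h⟩ := hS.trans z z' hzc z'.2 hz1 hz'1
    refine ⟨⟨d, hd⟩, mem_univ _, ?_⟩
    apply Subtype.ext
    apply Subtype.ext
    exact h
  · intro d _
    rfl

/-- The degree of a linear character. -/
theorem val_lin {θ : H → ℂ} (hθ : IsIrrCharacter H θ) (h1 : dg θ = 1) (z : H)
    (hzc : z ∈ Subgroup.center H) : θ z = 1 := by
  have hθ1 : θ 1 = 1 := by
    have := dg_coe hθ
    rw [h1] at this
    simpa using this.symm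
  obtain ⟨φ, hφ⟩ := Cfsg.Agent.Lib.Char.LinearChars.exists_hom_of_isCharacter_one
    (Cfsg.Agent.Lib.Char.Basic.isCharacter_of_isIrrCharacter hθ) hθ1
  have h2 : z ∈ commutator H := by rw [hS.comm_eq]; exact hzc
  have h3 : φ z = 1 := Abelianization.commutator_subset_ker φ h2
  rw [hφ]
  simp [h3]

/-- The sum over the centre of a nonlinear character vanishes. -/
theorem sum_center_nl {θ : H → ℂ} (hθ : IsIrrCharacter H θ) (h1 : 1 < dg θ) :
    ∑ z : Subgroup.center H, θ z = 0 := by
  have h2 : classInner (fun n : Subgroup.center H => θ n) (fun _ => 1) = 0 := by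
    by_contra hne
    obtain ⟨h3, -, -⟩ := Cfsg.Agent.Lib.Char.AbelianQuot.linear_of_over_one (Subgroup.center H)
      hS.comm_mem hθ hne
    have h4 := h3 1
    have h5 : θ 1 = 1 := by simpa using h4
    have h6 := dg_coe hθ
    rw [h5] at h6
    have h7 : dg θ = 1 := by exact_mod_cast h6
    omega
  rw [classInner_def] at h2
  simp only [map_one, mul_one] at h2
  have h3 : (Nat.card (Subgroup.center H) : ℂ)⁻¹ ≠ 0 := by
    apply inv_ne_zero
    exact_mod_cast (Nat.card_pos).ne'
  exact (mul_eq_zero.1 h2).resolve_left h3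

/-- The orbit sum of a linear character on `Z#`. -/
theorem orbit_lin {θ : H → ℂ} (hθ : IsIrrCharacter H θ) (h1 : dg θ = 1) (z : H)
    (hzc : z ∈ Subgroup.center H) (hz1 : z ≠ 1) :
    ∑ d : D, cj H θ (d : G) z = (Nat.card D : ℂ) := by
  have h2 : ∀ d : D, cj H θ (d : G) z = θ (conjHom hz (d : G) (hz.D_le d.2) z) := by
    intro d
    rw [cj_eq_comp hz θ _ (hz.D_le d.2)]
  simp only [h2]
  rw [sum_D_conj hS θ z hzc hz1]
  have h3 : ∀ z' : Subgroup.center H, θ z' = 1 := fun z' => val_lin hS hθ h1 z' z'.2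
  simp only [h3, Finset.sum_const, Finset.card_univ, nsmul_eq_mul, mul_one]
  have h4 : θ 1 = 1 := val_lin hS hθ h1 1 (Subgroup.one_mem _)
  rw [h4, ← Nat.card_eq_fintype_card, hS.card_z]
  push_cast
  ring

/-- The orbit sum of a nonlinear character on `Z#`. -/
theorem orbit_nl {θ : H → ℂ} (hθ : IsIrrCharacter H θ) (h1 : 1 < dg θ) (z : H)
    (hzc : z ∈ Subgroup.center H) (hz1 : z ≠ 1) :
    ∑ d : D, cj H θ (d : G) z = - (dg θ : ℂ) := by
  have h2 : ∀ d : D, cj H θ (d : G) z = θ (conjHom hz (d : G) (hz.D_le d.2) z) := by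
    intro d
    rw [cj_eq_comp hz θ _ (hz.D_le d.2)]
  simp only [h2]
  rw [sum_D_conj hS θ z hzc hz1, sum_center_nl hS hθ h1, dg_coe hθ]
  ring

omit hS in
/-- The restriction of an irreducible character to the centre, over a constituent. -/
theorem res_center {θ : H → ℂ} (hθ : IsIrrCharacter H θ) {l : Subgroup.center H → ℂ}
    (hl : IsIrrCharacter (Subgroup.center H) l)
    (hne : classInner (fun n : Subgroup.center H => θ n) l ≠ 0) :
    l 1 = 1 ∧ (classInner (fun n : Subgroup.center H => θ n) l = θ 1) ∧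
      ∀ z : Subgroup.center H, θ z = θ 1 * l z := by
  have hinv : ∀ (g : H) (n : Subgroup.center H),
      l ⟨g * n * g⁻¹, (inferInstance : (Subgroup.center H).Normal).conj_mem (n : H) n.2 g⟩ = l n := by
    intro g n
    congr 1
    apply Subtype.ext
    have : g * (n : H) = (n : H) * g := (Subgroup.mem_center_iff.1 n.2 g)
    simp [this]
  have hres := Cfsg.Agent.Lib.Char.GallagherAvg.res_eq_smul_of_invariant (Subgroup.center H) hθ hl hne hinv
  have hl1 : l 1 = 1 := by
    have hc : ∀ x y : Subgroup.center H, x * y = y * x := fun x y =>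
      Subtype.ext (Subgroup.mem_center_iff.1 y.2 x)
    have h1 := Cfsg.Agent.Lib.Zass.Rows2.dg_coe hl
    rw [Cfsg.Agent.Lib.Zass.Rows5.dg_eq_one_of_comm hc hl] at h1
    simpa using h1.symm
  have h1 := congrFun hres 1
  simp only [Pi.smul_apply, smul_eq_mul, hl1, mul_one, OneMemClass.coe_one] at h1
  refine ⟨hl1, h1.symm, fun z => ?_⟩
  have h2 := congrFun hres z
  simp only [Pi.smul_apply, smul_eq_mul] at h2
  rw [h2, ← h1]

/-- All nonlinear characters have the same degree. -/
theorem dg_eq_of_nl {θ θ' : H → ℂ} (hθ : IsIrrCharacter H θ) (hθ' : IsIrrCharacter H θ')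
    (h1 : 1 < dg θ) (h1' : 1 < dg θ') : dg θ = dg θ' := by
  have hθ'c := Cfsg.Agent.Lib.Char.Basic.isCharacter_of_isIrrCharacter hθ'
  have hres := Cfsg.Agent.Lib.Char.Basic.isCharacter_restrict hθ'c (Subgroup.center H)
  have h01 : (fun n : Subgroup.center H => θ' n) 1 ≠ 0 := by
    simpa using Cfsg.Agent.Lib.Char.Ortho.irr_apply_one_ne_zero hθ'
  obtain ⟨l, hl, hne⟩ := Cfsg.Agent.Lib.Char.CliffordCorr.exists_irr_constituent hres h01
  obtain ⟨hl1, hc', hv'⟩ := res_center hθ' hl hne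
  have hθ'1 := Cfsg.Agent.Lib.Char.Ortho.irr_apply_one_ne_zero hθ'
  have hsum0 : ∑ z : Subgroup.center H, l z = 0 := by
    have h2 := sum_center_nl hS hθ' h1'
    simp only [hv'] at h2
    rw [← Finset.mul_sum] at h2
    exact (mul_eq_zero.1 h2).resolve_left hθ'1
  have hsum0' : ∑ z : Subgroup.center H, conj (l z) = 0 := by
    rw [← map_sum, hsum0, map_zero]
  -- averaging
  have havg : ∑ d : D, classInner (fun n : Subgroup.center H => cj H θ (d : G) n) l = θ 1 := by
    simp only [classInner_def]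
    rw [← Finset.mul_sum, Finset.sum_comm]
    have hsplit := Finset.add_sum_erase (univ : Finset (Subgroup.center H))
      (fun z : Subgroup.center H => ∑ d : D, cj H θ (d : G) z * conj (l z)) (mem_univ 1)
    rw [← hsplit]
    have ht1 : ∑ d : D, cj H θ (d : G) ((1 : Subgroup.center H) : H) * conj (l 1) =
        (Nat.card D : ℂ) * θ 1 := by
      have : ∀ d : D, cj H θ (d : G) ((1 : Subgroup.center H) : H) * conj (l 1) = θ 1 := by
        intro d
        rw [hl1, map_one, mul_one]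
        exact cj_one_apply hz θ (hz.D_le d.2)
      simp only [this, Finset.sum_const, Finset.card_univ, nsmul_eq_mul]
      rw [Nat.card_eq_fintype_card]
    have ht2 : ∀ z ∈ (univ : Finset (Subgroup.center H)).erase 1,
        ∑ d : D, cj H θ (d : G) z * conj (l z) = - θ 1 * conj (l z) := by
      intro z hz
      have hz1 : ((z : Subgroup.center H) : H) ≠ 1 := fun h => (mem_erase.1 hz).1 (Subtype.ext h)
      rw [← Finset.sum_mul, orbit_nl hS hθ h1 z z.2 hz1, dg_coe hθ]
    rw [ht1, Finset.sum_congr rfl ht2, ← Finset.mul_sum]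
    have hs : ∑ z ∈ (univ : Finset (Subgroup.center H)).erase 1, conj (l z) = -1 := by
      have h3 := Finset.add_sum_erase (univ : Finset (Subgroup.center H)) (fun z => conj (l z)) (mem_univ 1)
      rw [hsum0', hl1, map_one] at h3
      linear_combination h3
    rw [hs, hS.card_z]
    have hD0 : ((Nat.card D : ℂ) + 1) ≠ 0 := by
      exact_mod_cast (Nat.succ_ne_zero (Nat.card D))
    push_cast
    field_simp
  have hθ1 := Cfsg.Agent.Lib.Char.Ortho.irr_apply_one_ne_zero hθ
  obtain ⟨d, hd⟩ : ∃ d : D, classInner (fun n : Subgroup.center H => cj H θ (d : G) n) l ≠ 0 := by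
    by_contra hcon
    push Not at hcon
    rw [Finset.sum_eq_zero (fun d _ => hcon d)] at havg
    exact hθ1 havg.symm
  have hψ := cj_isIrr hz hθ (hz.D_le d.2)
  obtain ⟨-, hc, -⟩ := res_center hψ hl hd
  have hinv : ∀ (g : H) (n : Subgroup.center H),
      l ⟨g * n * g⁻¹, (inferInstance : (Subgroup.center H).Normal).conj_mem (n : H) n.2 g⟩ = l n := by
    intro g n
    congr 1
    apply Subtype.ext
    have : g * (n : H) = (n : H) * g := (Subgroup.mem_center_iff.1 n.2 g)
    simp [this]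
  have h3 := Cfsg.Agent.Lib.Char.AbelianQuot.classInner_res_eq_of_abelian (Subgroup.center H) hS.comm_mem
    hl hinv hψ hθ' hd hne
  rw [hc, hc'] at h3
  rw [← dg_cj hz θ (hz.D_le d.2)]
  have h4 : (dg θ' : ℂ) = dg (cj H θ (d : G)) := by
    rw [dg_coe hθ', dg_coe hψ, h3]
  exact_mod_cast h4.symm

omit hS in
/-- The sum of squares over coordinates. -/
theorem sum_cf_sq (hz : ZChar H B D) : (Nat.card D : ℤ) * ∑ i : RT hz, cf hz i * cf hz i + 1 = Nat.card H := by
  have h1 := sum_sq_IT (H := H)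
  rw [sum_IT hz (fun θ : IT H => dg ((θ.1 : IrrCharacter H) : H → ℂ) * dg ((θ.1 : IrrCharacter H) : H → ℂ))
    (fun θ θ' h => by rw [rel_dg hz h])] at h1
  rw [← h1]
  push_cast
  simp only [cf, nsmul_eq_mul]
  push_cast
  ring

/-- The linear coordinates. -/
abbrev JT (hz : ZChar H B D) : Type u := {i : RT hz // cf hz i = 1}

/-- The nonlinear coordinates. -/
abbrev NT (hz : ZChar H B D) : Type u := {i : RT hz // ¬ cf hz i = 1}

omit hS in
theorem one_lt_cf {i : RT hz} (h : ¬ cf hz i = 1) : 1 < cf hz i := by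
  have := cf_pos hz i
  omega

omit hS in
theorem dg_rep_of_cf {i : RT hz} : ((dg (((rep hz i).1 : IrrCharacter H) : H → ℂ) : ℕ) : ℤ) = cf hz i := rfl

/-- Counting the linear coordinates. -/
theorem card_JT : Nat.card D * Fintype.card (JT hz) + 1 = (Subgroup.center H).index := by
  have h1 := Cfsg.Agent.Lib.Char.LinearChars.card_linear_chars (G := H)
  rw [hS.comm_eq] at h1
  rw [← h1]
  have h2 : ∀ χ : IrrCharacter H, ((χ : H → ℂ) 1 = 1) ↔ dg (χ : H → ℂ) = 1 := by
    intro χ
    have h3 := dg_coe χ.2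
    constructor
    · intro h4
      rw [h4] at h3
      exact_mod_cast h3
    · intro h4
      rw [h4] at h3
      simpa using h3.symm
  have h3 : Nat.card {χ : IrrCharacter H // (χ : H → ℂ) 1 = 1} =
      ∑ χ : IrrCharacter H, if dg (χ : H → ℂ) = 1 then 1 else 0 := by
    rw [Nat.card_eq_fintype_card, Fintype.card_subtype, Finset.card_filter]
    refine Finset.sum_congr rfl fun χ _ => ?_
    simp only [h2]
  rw [h3, sum_irr_H, dg_one_H, if_pos rfl,
    sum_IT hz (fun θ : IT H => if dg ((θ.1 : IrrCharacter H) : H → ℂ) = 1 then 1 else 0)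
      (fun θ θ' h => by rw [rel_dg hz h])]
  have h4 : ∑ i : RT hz, (if dg (((rep hz i).1 : IrrCharacter H) : H → ℂ) = 1 then 1 else 0) =
      Fintype.card (JT hz) := by
    rw [Fintype.card_subtype, Finset.card_filter]
    refine Finset.sum_congr rfl fun i _ => ?_
    have h5 : cf hz i = 1 ↔ dg (((rep hz i).1 : IrrCharacter H) : H → ℂ) = 1 := by
      rw [cf]
      norm_cast
    simp only [h5]
  rw [h4, smul_eq_mul]
  omega

/-- The nonlinear degree and the number of nonlinear coordinates. -/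
theorem card_NT_mul (w : ℤ) (hw : ∀ i : NT hz, cf hz i.1 = w) :
    (Fintype.card (NT hz) : ℤ) * (w * w) = (Subgroup.center H).index := by
  classical
  have h1 := sum_cf_sq hz
  have h2 := card_JT hS
  have hsplit := Fintype.sum_subtype_add_sum_subtype (fun i : RT hz => cf hz i = 1)
    (fun i : RT hz => cf hz i * cf hz i)
  have h3 : ∑ i : JT hz, cf hz i.1 * cf hz i.1 = Fintype.card (JT hz) := by
    rw [Finset.sum_congr rfl (g := fun _ => (1 : ℤ)) (fun i _ => by rw [i.2]; norm_num)]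
    simp
  have h4 : ∑ i : NT hz, cf hz i.1 * cf hz i.1 = Fintype.card (NT hz) * (w * w) := by
    rw [Finset.sum_congr rfl (g := fun _ => (w * w : ℤ)) (fun i _ => by rw [hw i])]
    simp
  rw [← hsplit, h3, h4] at h1
  have h5 : (Subgroup.center H).index * Nat.card (Subgroup.center H) = Nat.card H :=
    Subgroup.index_mul_card _
  rw [hS.card_z] at h5
  have h5' : ((Subgroup.center H).index : ℤ) * ((Nat.card D : ℤ) + 1) = Nat.card H := by exact_mod_cast h5
  have h2' : (Nat.card D : ℤ) * Fintype.card (JT hz) + 1 = (Subgroup.center H).index := by exact_mod_cast h2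
  have hD : (0 : ℤ) < Nat.card D := by exact_mod_cast Nat.card_pos
  have h6 : (Nat.card D : ℤ) * ((Fintype.card (NT hz) : ℤ) * (w * w)) =
      (Nat.card D : ℤ) * (Subgroup.center H).index := by
    linear_combination h1 - h5' - h2'
  exact mul_left_cancel₀ hD.ne' h6

omit hS in
/-- Sums over `IT H` through orbits. -/
theorem sum_IT_orbit (hz : ZChar H B D) {M : Type*} [AddCommMonoid M] (φ : IT H → M) :
    ∑ θ : IT H, φ θ = ∑ i : RT hz, ∑ d : D, φ (cjIT hz (rep hz i) d) := by
  classical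
  rw [← Finset.sum_fiberwise (s := univ) (g := fun θ : IT H => Quotient.mk (rowSetoid hz) θ) (f := φ)]
  refine Finset.sum_congr rfl fun i _ => ?_
  symm
  refine Finset.sum_bij (fun d _ => cjIT hz (rep hz i) d) ?_ ?_ ?_ ?_
  · intro d _
    simp only [mem_filter, mem_univ, true_and]
    exact (Quotient.sound (s := rowSetoid hz) ((rowSetoid hz).symm ⟨d, d.2, rfl⟩)).trans (mk_rep hz i)
  · intro d _ d' _ h
    have h1 := congrArg (fun t : IT H => ((t.1 : IrrCharacter H) : H → ℂ)) h
    apply Subtype.ext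
    exact cj_injective hz (rep hz i).1.2 (IT_ne _) d.2 d'.2 h1
  · intro θ hθ
    simp only [mem_filter, mem_univ, true_and] at hθ
    have h1 : (rowSetoid hz).r (rep hz i) θ := by
      apply Quotient.exact
      rw [mk_rep, hθ]
    obtain ⟨d, hd, hh⟩ := h1
    refine ⟨⟨d, hd⟩, mem_univ _, ?_⟩
    apply Subtype.ext
    apply Subtype.ext
    exact hh.symm
  · intro d _
    rfl

/-- The value at a central element of a row. -/
theorem row_val (x : XT H) (z : H) (hzc : z ∈ Subgroup.center H) (hz1 : z ≠ 1) :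
    ((x.1 : IrrCharacter G) : G → ℂ) z = ((Nat.card D : ℤ) * ∑ i : JT hz, cC hz i.1 x -
      ∑ i : NT hz, cf hz i.1 * cC hz i.1 x : ℤ) := by
  classical
  have hxc := Cfsg.Agent.Lib.Char.Basic.isCharacter_of_isIrrCharacter x.1.2
  have h1 := congrFun (res_eq_sum (H := H) hxc) z
  simp only [Finset.sum_apply, Pi.smul_apply, smul_eq_mul] at h1
  rw [h1, sum_irr_H, x.2]
  simp only [Nat.cast_zero, zero_mul, zero_add]
  rw [sum_IT_orbit hz]
  have h2 : ∀ i : RT hz, ∑ d : D, ((mul (((cjIT hz (rep hz i) d).1 : IrrCharacter H) : H → ℂ)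
      ((x.1 : IrrCharacter G) : G → ℂ) : ℕ) : ℂ) * ((cjIT hz (rep hz i) d).1 : H → ℂ) z =
      (cC hz i x : ℂ) * (if cf hz i = 1 then (Nat.card D : ℂ) else - (cf hz i : ℂ)) := by
    intro i
    have h3 : ∀ d : D, mul (((cjIT hz (rep hz i) d).1 : IrrCharacter H) : H → ℂ)
        ((x.1 : IrrCharacter G) : G → ℂ) = mul (((rep hz i).1 : IrrCharacter H) : H → ℂ)
        ((x.1 : IrrCharacter G) : G → ℂ) := fun d =>
      mul_cj hz (rep hz i).1.2 hxc (hz.D_le d.2)
    simp only [h3]
    rw [← Finset.mul_sum]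
    have h4 : (cC hz i x : ℂ) = ((mul (((rep hz i).1 : IrrCharacter H) : H → ℂ)
        ((x.1 : IrrCharacter G) : G → ℂ) : ℕ) : ℂ) := by
      simp [cC]
    rw [h4]
    congr 1
    show ∑ d : D, cj H (((rep hz i).1 : IrrCharacter H) : H → ℂ) (d : G) z = _
    split_ifs with hi
    · apply orbit_lin hS (rep hz i).1.2 _ z hzc hz1
      have : ((dg (((rep hz i).1 : IrrCharacter H) : H → ℂ) : ℕ) : ℤ) = 1 := hi
      exact_mod_cast this
    · rw [orbit_nl hS (rep hz i).1.2 _ z hzc hz1]
      · simp [cf]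
      · have : (1 : ℤ) < ((dg (((rep hz i).1 : IrrCharacter H) : H → ℂ) : ℕ) : ℤ) := one_lt_cf hi
        exact_mod_cast this
  simp only [h2]
  rw [← Fintype.sum_subtype_add_sum_subtype (fun i : RT hz => cf hz i = 1)]
  have h5 : ∑ i : JT hz, (cC hz i.1 x : ℂ) * (if cf hz i.1 = 1 then (Nat.card D : ℂ) else - (cf hz i.1 : ℂ)) =
      (Nat.card D : ℂ) * ∑ i : JT hz, (cC hz i.1 x : ℂ) := by
    rw [Finset.mul_sum]
    refine Finset.sum_congr rfl fun i _ => ?_
    rw [if_pos i.2, mul_comm]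
  have h6 : ∑ i : NT hz, (cC hz i.1 x : ℂ) * (if cf hz i.1 = 1 then (Nat.card D : ℂ) else - (cf hz i.1 : ℂ)) =
      - ∑ i : NT hz, (cf hz i.1 : ℂ) * (cC hz i.1 x : ℂ) := by
    rw [← Finset.sum_neg_distrib]
    refine Finset.sum_congr rfl fun i _ => ?_
    rw [if_neg i.2]
    ring
  rw [h5, h6]
  push_cast
  ring

omit hS in
/-- The degree of a row. -/
theorem row_deg (x : XT H) :
    (dg ((x.1 : IrrCharacter G) : G → ℂ) : ℤ) = (Nat.card D : ℤ) * (∑ i : JT hz, cC hz i.1 x +
      ∑ i : NT hz, cf hz i.1 * cC hz i.1 x) := by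
  classical
  rw [dg_eq_sum (H := H) x.1.2, sum_irr_H, x.2]
  simp only [zero_mul, zero_add]
  rw [sum_IT hz (fun θ : IT H => mul ((θ.1 : IrrCharacter H) : H → ℂ) ((x.1 : IrrCharacter G) : G → ℂ) *
      dg ((θ.1 : IrrCharacter H) : H → ℂ)) (fun θ θ' h => by
        rw [rel_dg hz h, rel_mul hz h (Cfsg.Agent.Lib.Char.Basic.isCharacter_of_isIrrCharacter x.1.2)])]
  rw [smul_eq_mul]
  push_cast
  congr 1
  rw [← Fintype.sum_subtype_add_sum_subtype (fun i : RT hz => cf hz i = 1)]
  congr 1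
  · refine Finset.sum_congr rfl fun i _ => ?_
    have h1 := i.2
    simp only [cf] at h1
    rw [h1, mul_one]
    rfl
  · refine Finset.sum_congr rfl fun i _ => ?_
    rw [mul_comm]
    rfl

omit hS in
/-- A rational algebraic integer fraction. -/
theorem int_dvd_of_isIntegral_div {n d : ℤ} (hd : d ≠ 0)
    (h : IsIntegral ℤ ((n : ℂ) / (d : ℂ))) : d ∣ n := by
  have hq : IsIntegral ℤ ((n : ℚ) / (d : ℚ)) := by
    have h2 : (algebraMap ℚ ℂ) ((n : ℚ) / (d : ℚ)) = (n : ℂ) / (d : ℂ) := by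
      simp
    rw [← h2] at h
    exact (isIntegral_algebraMap_iff (algebraMap ℚ ℂ).injective).1 h
  obtain ⟨z, hz⟩ := IsIntegrallyClosed.isIntegral_iff.1 hq
  have hd' : (d : ℚ) ≠ 0 := Int.cast_ne_zero.mpr hd
  have h3 : n = z * d := by
    have : ((n : ℚ)) = z * d := by
      have h4 : (algebraMap ℤ ℚ) z = (z : ℚ) := rfl
      rw [h4] at hz
      field_simp at hz
      linarith
    exact_mod_cast this
  exact ⟨z, by rw [h3]; ring⟩

omit hS in
/-- The centraliser of a nontrivial central element of the kernel is the kernel. -/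
theorem centralizer_eq (hz : ZChar H B D) (z : H) (hzc : z ∈ Subgroup.center H) (hz1 : z ≠ 1) :
    Subgroup.centralizer ({(z : G)} : Set G) = H := by
  have hzG : (z : G) ≠ 1 := fun h => hz1 (Subtype.ext h)
  ext y
  rw [Subgroup.mem_centralizer_singleton_iff]
  constructor
  · intro h
    have h1 : y⁻¹ * (z : G) * y ∈ H := by
      have : y⁻¹ * (z : G) * y = z := by
        rw [mul_assoc, ← h]
        group
      rw [this]
      exact z.2
    have hb := hz.mem_of_conj z z.2 hzG y h1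
    exact hz.comm y hb z z.2 hzG h
  · intro hy
    have := Subgroup.mem_center_iff.1 hzc ⟨y, hy⟩
    have h2 := congrArg (fun t : H => (t : G)) this
    exact h2

/-- The central character integrality for a row. -/
theorem row_dvd (x : XT H) (z : H) (hzc : z ∈ Subgroup.center H) (hz1 : z ≠ 1) :
    (∑ i : JT hz, cC hz i.1 x + ∑ i : NT hz, cf hz i.1 * cC hz i.1 x) ∣
      ((Nat.card H : ℤ) + 1) * ((Nat.card D : ℤ) * ∑ i : JT hz, cC hz i.1 x -
      ∑ i : NT hz, cf hz i.1 * cC hz i.1 x) := by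
  classical
  set L := ∑ i : JT hz, cC hz i.1 x with hL
  set N := ∑ i : NT hz, cf hz i.1 * cC hz i.1 x with hN
  set e : ℤ := (Nat.card D : ℤ) with he
  have heq := row_val hS x z hzc hz1
  rw [← hL, ← hN, ← he] at heq
  have hdeg := row_deg (hz := hz) x
  rw [← hL, ← hN, ← he] at hdeg
  have hdpos := dg_pos x.1.2
  have hne : L + N ≠ 0 := by
    intro h
    rw [h, mul_zero] at hdeg
    omega
  have hepos : (0 : ℤ) < e := by
    have : 0 < Nat.card D := Nat.card_pos
    rw [he]
    exact_mod_cast this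
  obtain ⟨n, ρ, hρ, hx⟩ := x.1.2
  haveI := hρ
  have hint := Cfsg.Agent.Lib.Char.Integrality.isIntegral_classSize_mul_character_div_finrank ρ (z : G)
  rw [hx, heq, centralizer_eq hz z hzc hz1] at hint
  have hidx : H.index = (Nat.card H + 1) * Nat.card D := by
    have h1 := hz.card
    have h2 := Subgroup.index_mul_card H
    rw [h1] at h2
    have h3 : 0 < Nat.card H := Nat.card_pos
    have : H.index * Nat.card H = ((Nat.card H + 1) * Nat.card D) * Nat.card H := by
      rw [h2]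
      ring
    exact Nat.eq_of_mul_eq_mul_right h3 this
  have hfin : ((Module.finrank ℂ (Fin n → ℂ) : ℕ) : ℂ) = (e : ℂ) * ((L + N : ℤ) : ℂ) := by
    have h1 : ρ.character 1 = ((Module.finrank ℂ (Fin n → ℂ) : ℕ) : ℂ) := ρ.char_one
    rw [← h1, hx]
    have h2 := dg_coe x.1.2
    rw [← h2]
    have h3 : ((dg ((x.1 : IrrCharacter G) : G → ℂ) : ℕ) : ℂ) =
        ((dg ((x.1 : IrrCharacter G) : G → ℂ) : ℤ) : ℂ) := by push_cast; rfl
    rw [h3, hdeg]
    push_cast
    ring
  rw [hfin, hidx] at hint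
  have hecne : (e : ℂ) ≠ 0 := by exact_mod_cast hepos.ne'
  have h4 : (((Nat.card H + 1) * Nat.card D : ℕ) : ℂ) * ((e * L - N : ℤ) : ℂ) / ((e : ℂ) * ((L + N : ℤ) : ℂ)) =
      ((((Nat.card H : ℤ) + 1) * (e * L - N) : ℤ) : ℂ) / ((L + N : ℤ) : ℂ) := by
    have hd : ((Nat.card D : ℕ) : ℂ) = (e : ℂ) := by simp [he]
    have hLN : ((L + N : ℤ) : ℂ) ≠ 0 := by exact_mod_cast hne
    push_cast
    rw [hd]
    push_cast at hLN
    field_simp
  rw [h4] at hint
  exact int_dvd_of_isIntegral_div hne hint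

end Cfsg.Agent.Lib.Zass.SuzChar
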