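import Mathlib
import Cfsg.Agent.Lib.Zass.SuzChar
import Cfsg.Agent.Lib.Zass.OddSimple

/-!
# Frobenius-Schur indicators in a Zassenhaus group with a Suzuki kernel
-/

set_option autoImplicit false
set_option linter.unusedSectionVars false
set_option linter.style.haveILetI false

namespace Cfsg.Agent.Lib.Zass.SuzFS

open Cfsg Cfsg.Agent.Lib.Char.Induced Cfsg.Agent.Lib.Zass.Rows1 Cfsg.Agent.Lib.Zass.Rows2
  Cfsg.Agent.Lib.Zass.Rows3 Cfsg.Agent.Lib.Zass.Rows4 Cfsg.Agent.Lib.Zass.SuzChar
open Cfsg.Agent.Lib.CharFS.Indicator (nu sqrtCount)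
open Cfsg.Agent.Lib.Char.Ortho (classInner_irr fintype_irr)
open scoped ComplexConjugate
open Finset
open scoped Classical

universe u

/-- The indicator of an irreducible character is an integer of absolute value at most one. -/
theorem exists_nu_int {A : Type u} [Group A] [Fintype A] {χ : A → ℂ} (hχ : IsIrrCharacter A χ) :
    ∃ m : ℤ, nu χ = m ∧ -1 ≤ m ∧ m ≤ 1 := by
  by_cases h : ∃ g, conj (χ g) ≠ χ g
  · exact ⟨0, by rw [Cfsg.Agent.Lib.CharFS.Tri.nu_of_not_real hχ h]; simp, by norm_num, by norm_num⟩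
  · push Not at h
    rcases Cfsg.Agent.Lib.CharFS.Tri.nu_of_real hχ h with h1 | h1
    · exact ⟨1, by rw [h1]; simp, by norm_num, by norm_num⟩
    · exact ⟨-1, by rw [h1]; simp, by norm_num, by norm_num⟩

/-- The integer indicator. -/
noncomputable def nuZ {A : Type u} [Group A] [Fintype A] (χ : IrrCharacter A) : ℤ :=
  (exists_nu_int χ.2).choose

theorem nuZ_coe {A : Type u} [Group A] [Fintype A] (χ : IrrCharacter A) : nu (χ : A → ℂ) = nuZ χ :=
  (exists_nu_int χ.2).choose_spec.1

theorem nuZ_le {A : Type u} [Group A] [Fintype A] (χ : IrrCharacter A) : nuZ χ ≤ 1 :=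
  (exists_nu_int χ.2).choose_spec.2.2

theorem neg_one_le_nuZ {A : Type u} [Group A] [Fintype A] (χ : IrrCharacter A) : -1 ≤ nuZ χ :=
  (exists_nu_int χ.2).choose_spec.2.1

theorem nu_principal {A : Type u} [Group A] [Fintype A] : nu (fun _ : A => (1 : ℂ)) = 1 := by
  have h : (Nat.card A : ℂ) ≠ 0 := by exact_mod_cast Nat.card_pos.ne'
  simp only [nu, Finset.sum_const, Finset.card_univ, nsmul_eq_mul, mul_one]
  rw [Nat.card_eq_fintype_card] at h ⊢
  field_simp

variable {G : Type u} [Group G] [Fintype G] {H B D : Subgroup G} [Fintype H] [Fintype D]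

/-- Involutions (and the identity) outside `H`. -/
noncomputable def outInv (H : Subgroup G) : ℕ := (univ.filter fun g : G => g ^ 2 = 1 ∧ g ∉ H).card

theorem sqrtCount_res (hz : ZChar H B D) (u : H) (hu : u ≠ 1) : sqrtCount G (u : G) = sqrtCount H u := by
  have hu' : (u : G) ≠ 1 := fun h => hu (Subtype.ext h)
  unfold sqrtCount
  congr 1
  symm
  refine Finset.card_bij (fun x _ => (x : G)) ?_ ?_ ?_
  · intro x hx
    simp only [mem_filter, mem_univ, true_and] at hx ⊢
    rw [← hx]
    simp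
  · intro x _ y _ h
    exact Subtype.ext h
  · intro y hy
    simp only [mem_filter, mem_univ, true_and] at hy
    have hc : y * (u : G) = (u : G) * y := by
      rw [← hy, pow_two, mul_assoc]
    have h1 : y⁻¹ * (u : G) * y ∈ H := by
      have : y⁻¹ * (u : G) * y = u := by
        rw [mul_assoc, ← hc]
        group
      rw [this]
      exact u.2
    have hb := hz.mem_of_conj u u.2 hu' y h1
    have hyH := hz.comm y hb u u.2 hu' hc
    refine ⟨⟨y, hyH⟩, ?_, rfl⟩
    simp only [mem_filter, mem_univ, true_and]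
    apply Subtype.ext
    exact hy

theorem sqrtCount_one : sqrtCount G 1 = sqrtCount H 1 + (outInv H : ℂ) := by
  unfold sqrtCount outInv
  rw [← Nat.cast_add]
  congr 1
  have h1 : (univ.filter fun x : G => x ^ 2 = 1) =
      (univ.filter fun x : G => x ^ 2 = 1 ∧ x ∈ H) ∪ (univ.filter fun x : G => x ^ 2 = 1 ∧ x ∉ H) := by
    ext x
    simp only [mem_filter, mem_univ, true_and, mem_union]
    tauto
  rw [h1, Finset.card_union_of_disjoint]
  · congr 1
    symm
    refine Finset.card_bij (fun x _ => (x : G)) ?_ ?_ ?_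
    · intro x hx
      simp only [mem_filter, mem_univ, true_and] at hx ⊢
      refine ⟨?_, x.2⟩
      have := congrArg (fun t : H => (t : G)) hx
      simpa using this
    · intro x _ y _ h
      exact Subtype.ext h
    · intro y hy
      simp only [mem_filter, mem_univ, true_and] at hy
      refine ⟨⟨y, hy.2⟩, ?_, rfl⟩
      simp only [mem_filter, mem_univ, true_and]
      apply Subtype.ext
      simpa using hy.1
  · rw [Finset.disjoint_left]
    intro x hx hx'
    simp only [mem_filter, mem_univ, true_and] at hx hx'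
    exact hx'.2 hx.2

/-- The Frobenius-Schur count along `H`. -/
theorem fs_sum (hz : ZChar H B D) {θ : H → ℂ} (hθ : IsIrrCharacter H θ) :
    ∑ χ : IrrCharacter G, nu (χ : G → ℂ) * (mul θ (χ : G → ℂ) : ℂ) =
      nu θ + (outInv H : ℂ) / (Nat.card H : ℂ) * θ 1 := by
  have hθc := Cfsg.Agent.Lib.Char.Basic.isCharacter_of_isIrrCharacter hθ
  have hh : (Nat.card H : ℂ) ≠ 0 := by exact_mod_cast Nat.card_pos.ne'
  have hA : (fun u : H => sqrtCount G (u : G)) =
      sqrtCount H + ((outInv H : ℂ) / (Nat.card H : ℂ)) • rho H := by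
    funext u
    simp only [Pi.add_apply, Pi.smul_apply, smul_eq_mul]
    by_cases hu : u = 1
    · subst hu
      rw [rho_one]
      simp only [OneMemClass.coe_one]
      rw [sqrtCount_one (H := H)]
      field_simp
    · rw [rho_of_ne hu, sqrtCount_res hz u hu]
      ring
  have hB : (fun u : H => sqrtCount G (u : G)) =
      ∑ χ : IrrCharacter G, nu (χ : G → ℂ) • (fun u : H => (χ : G → ℂ) u) := by
    funext u
    rw [Cfsg.Agent.Lib.CharFS.IndicatorReal.sqrtCount_eq_sum]
    simp only [Finset.sum_apply, Pi.smul_apply, smul_eq_mul]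
  have h1 : classInner (fun u : H => sqrtCount G (u : G)) θ =
      ∑ χ : IrrCharacter G, nu (χ : G → ℂ) * (mul θ (χ : G → ℂ) : ℂ) := by
    rw [hB, Cfsg.Agent.Lib.Char.Ortho.classInner_sum_left]
    refine Finset.sum_congr rfl fun χ _ => ?_
    rw [Cfsg.Agent.Lib.Char.Ortho.classInner_smul_left]
    congr 1
    have h2 := mul_coe_res hθ (Cfsg.Agent.Lib.Char.Basic.isCharacter_of_isIrrCharacter χ.2)
    have h3 := Cfsg.Agent.Lib.Char.Ortho.classInner_conj_symm θ (fun u : H => (χ : G → ℂ) u)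
    rw [← h3, ← h2, Complex.conj_natCast]
  rw [← h1, hA, Cfsg.Agent.Lib.Char.Ortho.classInner_add_left,
    Cfsg.Agent.Lib.Char.Ortho.classInner_smul_left,
    Cfsg.Agent.Lib.CharFS.Indicator.classInner_sqrtCount hθc]
  congr 2
  have h4 := Cfsg.Agent.Lib.Char.Ortho.classInner_conj_symm θ (rho H)
  rw [← h4, classInner_rho, ← dg_coe hθ, Complex.conj_natCast]

section Y

variable {χ₁ : IrrCharacter G} (hz : ZChar H B D) (hY : YData H χ₁)
  (hI : outInv H = Nat.card H * Nat.card D) (hH : 1 < Nat.card H)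
include hz hY hI hH

/-- The integer form of the sum. -/
theorem fs_sum_int {θ : H → ℂ} (hθ : IsIrrCharacter H θ) :
    ∑ χ : IrrCharacter G, nuZ χ * (mul θ (χ : G → ℂ) : ℤ) = nuZ ⟨θ, hθ⟩ + (Nat.card D : ℤ) * dg θ := by
  have h1 := fs_sum hz hθ
  rw [hI, nuZ_coe ⟨θ, hθ⟩] at h1
  have hh : (Nat.card H : ℂ) ≠ 0 := by exact_mod_cast Nat.card_pos.ne'
  have h2 : ((∑ χ : IrrCharacter G, nuZ χ * (mul θ (χ : G → ℂ) : ℤ) : ℤ) : ℂ) =
      ((nuZ ⟨θ, hθ⟩ + (Nat.card D : ℤ) * dg θ : ℤ) : ℂ) := by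
    push_cast
    rw [← dg_coe hθ] at h1
    simp only [nuZ_coe] at h1
    rw [h1]
    push_cast
    field_simp
  exact_mod_cast h2

/-- The characters with `H`-fixed vectors have indicator one. -/
theorem nu_Y : nuZ χ₁ = 1 ∧ ∀ χ ∈ Ks H χ₁, nuZ χ = 1 := by
  have h1 := fs_sum_int hz hY hI hH (one H).2
  rw [sum_irr_split hY hH] at h1
  have h2 : ∑ x : XT H, nuZ x.1 * (mul ((one H : IrrCharacter H) : H → ℂ) (x.1 : G → ℂ) : ℤ) = 0 := by
    refine Finset.sum_eq_zero fun x _ => ?_
    rw [x.2]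
    simp
  have hKs : ∀ χ ∈ Ks H χ₁, mul ((one H : IrrCharacter H) : H → ℂ) (χ : G → ℂ) = 2 := by
    intro χ hχ
    obtain ⟨h5, h6⟩ := Ks_spec hY hχ
    rw [mul_of_res_eq_one_add_rho (one H).2 (Cfsg.Agent.Lib.Char.Basic.isCharacter_of_isIrrCharacter χ.2)
      h5 h6, dg_one_H]
    have h7 : (if ((one H : IrrCharacter H) : H → ℂ) = (fun _ => 1) then 1 else 0) = 1 := if_pos rfl
    rw [h7]
  have h3 : ∑ χ ∈ Ks H χ₁, nuZ χ * (mul ((one H : IrrCharacter H) : H → ℂ) (χ : G → ℂ) : ℤ) =
      2 * ∑ χ ∈ Ks H χ₁, nuZ χ := by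
    rw [Finset.mul_sum]
    refine Finset.sum_congr rfl fun χ hχ => ?_
    rw [hKs χ hχ]
    push_cast
    ring
  have hnuone : nuZ (one G) = 1 := by
    have h4 := nuZ_coe (one G)
    have h5 : nu ((one G : IrrCharacter G) : G → ℂ) = 1 := nu_principal
    rw [h5] at h4
    exact_mod_cast h4.symm
  have hnuoneH : nuZ (⟨((one H : IrrCharacter H) : H → ℂ), (one H).2⟩ : IrrCharacter H) = 1 := by
    have h4 := nuZ_coe (one H)
    have h5 : nu ((one H : IrrCharacter H) : H → ℂ) = 1 := nu_principal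
    rw [h5] at h4
    exact_mod_cast h4.symm
  rw [h2, h3, mul_one_one, mul_one_chi1 hY, hnuone, hnuoneH, dg_one_H] at h1
  have he := e_eq hz hH hY
  have h4 : ∑ χ ∈ Ks H χ₁, nuZ χ ≤ (Ks H χ₁).card := by
    rw [Finset.card_eq_sum_ones]
    push_cast
    exact Finset.sum_le_sum fun χ _ => nuZ_le χ
  have h5 := nuZ_le χ₁
  have he' : (Nat.card D : ℤ) = 2 * (Ks H χ₁).card + 1 := by exact_mod_cast he
  push_cast at h1
  have h6 : nuZ χ₁ = 1 := by
    nlinarith
  have h7 : ∑ χ ∈ Ks H χ₁, nuZ χ = (Ks H χ₁).card := by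
    nlinarith
  refine ⟨h6, fun χ hχ => ?_⟩
  by_contra hne
  have h8 : ∑ χ ∈ Ks H χ₁, nuZ χ < ∑ χ ∈ Ks H χ₁, (1 : ℤ) := by
    refine Finset.sum_lt_sum (fun t _ => nuZ_le t) ⟨χ, hχ, ?_⟩
    have := nuZ_le χ
    omega
  simp only [Finset.sum_const, nsmul_eq_mul, mul_one] at h8
  omega

/-- The column form of the Frobenius-Schur identity. -/
theorem fs_col (θ : IT H) :
    ∑ x : XT H, nuZ x.1 * (mul ((θ.1 : IrrCharacter H) : H → ℂ) (x.1 : G → ℂ) : ℤ) =
      nuZ θ.1 + ((Ks H χ₁).card : ℤ) * dg ((θ.1 : IrrCharacter H) : H → ℂ) := by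
  obtain ⟨h1, h2⟩ := nu_Y hz hY hI hH
  have h3 := fs_sum_int hz hY hI hH θ.1.2
  rw [sum_irr_split hY hH, mul_one' θ.1.2 (IT_ne θ), mul_chi1 hY θ.1.2, h1] at h3
  have h4 : ∑ χ ∈ Ks H χ₁, nuZ χ * (mul ((θ.1 : IrrCharacter H) : H → ℂ) (χ : G → ℂ) : ℤ) =
      ((Ks H χ₁).card : ℤ) * dg ((θ.1 : IrrCharacter H) : H → ℂ) := by
    rw [Finset.sum_congr rfl (g := fun _ => (dg ((θ.1 : IrrCharacter H) : H → ℂ) : ℤ))]
    · simp
    · intro χ hχ
      rw [h2 χ hχ, mul_of_mem_Ks hY θ.1.2 (IT_ne θ) hχ, one_mul]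
  rw [h4] at h3
  have he := e_eq hz hH hY
  have he' : (Nat.card D : ℤ) = 2 * (Ks H χ₁).card + 1 := by exact_mod_cast he
  have h5 : nuZ (⟨((θ.1 : IrrCharacter H) : H → ℂ), θ.1.2⟩ : IrrCharacter H) = nuZ θ.1 := rfl
  rw [h5, he'] at h3
  push_cast at h3
  linarith

end Y

section Values

variable {hz : ZChar H B D} (hS : SuzKer hz)
include hS

/-- The indicator of a linear character is one. -/
theorem nu_lin {θ : H → ℂ} (hθ : IsIrrCharacter H θ) (h1 : dg θ = 1) : nu θ = 1 := by
  have h2 : ∀ x : H, θ (x ^ 2) = 1 := by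
    intro x
    rw [pow_two]
    exact val_lin hS hθ h1 _ (hS.sq_mem x)
  have h : (Nat.card H : ℂ) ≠ 0 := by exact_mod_cast Nat.card_pos.ne'
  simp only [nu, h2, Finset.sum_const, Finset.card_univ, nsmul_eq_mul, mul_one]
  rw [Nat.card_eq_fintype_card] at h ⊢
  field_simp

/-- The number of square roots of a central element is `|Z|` when `|H| = |Z|²`. -/
theorem card_sqrt_center (hsq : Nat.card H = Nat.card (Subgroup.center H) ^ 2)
    (hD : 1 < Nat.card D) (z : H) (hzc : z ∈ Subgroup.center H) :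
    (univ.filter fun x : H => x * x = z).card = Nat.card (Subgroup.center H) := by
  -- the case `z = 1`
  have hone : (univ.filter fun x : H => x * x = 1).card = Nat.card (Subgroup.center H) := by
    rw [Nat.card_eq_fintype_card, Fintype.card_subtype]
    congr 1
    ext x
    simp only [mem_filter, mem_univ, true_and]
    exact ⟨hS.inv_mem x, hS.z_sq x⟩
  by_cases hz1 : z = 1
  · rw [hz1, hone]
  -- invariance
  have hinv : ∀ z' : H, z' ∈ Subgroup.center H → z' ≠ 1 →
      (univ.filter fun x : H => x * x = z').card = (univ.filter fun x : H => x * x = z).card := by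
    intro z' hz'c hz'1
    obtain ⟨d, hd, hdz⟩ := hS.trans z z' hzc hz'c hz1 hz'1
    have hb := hz.D_le hd
    symm
    refine Finset.card_bij (fun x _ => conjHom hz d hb x) ?_ ?_ ?_
    · intro x hx
      simp only [mem_filter, mem_univ, true_and] at hx ⊢
      rw [← map_mul, hx]
      apply Subtype.ext
      exact hdz
    · intro x _ y _ h
      exact (conjHom_bijective hz d hb).1 h
    · intro y hy
      simp only [mem_filter, mem_univ, true_and] at hy
      obtain ⟨x, rfl⟩ := (conjHom_bijective hz d hb).2 y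
      refine ⟨x, ?_, rfl⟩
      simp only [mem_filter, mem_univ, true_and]
      apply (conjHom_bijective hz d hb).1
      rw [map_mul, hy]
      apply Subtype.ext
      exact hdz.symm
  -- the total
  have htot : ∑ t : Subgroup.center H, (univ.filter fun x : H => x * x = (t : H)).card = Nat.card H := by
    have h1 : (univ : Finset H).card = Nat.card H := by
      rw [Finset.card_univ, Nat.card_eq_fintype_card]
    rw [← h1]
    have h2 := Finset.card_eq_sum_card_fiberwise (f := fun x : H => (⟨x * x, hS.sq_mem x⟩ : Subgroup.center H))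
      (s := univ) (t := univ) (fun x _ => mem_univ _)
    rw [h2]
    refine Finset.sum_congr rfl fun t _ => ?_
    congr 1
    ext x
    simp only [mem_filter, mem_univ, true_and]
    exact ⟨fun h => Subtype.ext h, fun h => congrArg Subtype.val h⟩
  rw [← Finset.add_sum_erase univ _ (mem_univ (1 : Subgroup.center H))] at htot
  have h3 : ∑ t ∈ (univ : Finset (Subgroup.center H)).erase 1,
      (univ.filter fun x : H => x * x = (t : H)).card =
      (Nat.card (Subgroup.center H) - 1) * (univ.filter fun x : H => x * x = z).card := by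
    rw [Finset.sum_congr rfl (g := fun _ => (univ.filter fun x : H => x * x = z).card)]
    · rw [Finset.sum_const, Finset.card_erase_of_mem (mem_univ _), Finset.card_univ, smul_eq_mul,
        Nat.card_eq_fintype_card]
    · intro t ht
      exact hinv t t.2 (fun h => (mem_erase.1 ht).1 (Subtype.ext h))
  rw [h3] at htot
  have h4 : ((1 : Subgroup.center H) : H) = 1 := rfl
  rw [h4, hone, hsq] at htot
  set q := Nat.card (Subgroup.center H) with hq
  set r := (univ.filter fun x : H => x * x = z).card with hr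
  have hq2 : 2 ≤ q := by
    have := hS.card_z
    omega
  obtain ⟨s, hs⟩ : ∃ s, q = s + 1 := ⟨q - 1, by omega⟩
  rw [hs] at htot ⊢
  simp only [Nat.add_sub_cancel] at htot
  have hs0 : 0 < s := by omega
  have h5 : s * r = s * (s + 1) := by nlinarith
  exact Nat.eq_of_mul_eq_mul_left hs0 h5

/-- The indicator of a nonlinear character vanishes when `|H| = |Z|²`. -/
theorem nu_nl_sq (hsq : Nat.card H = Nat.card (Subgroup.center H) ^ 2)
    (hD : 1 < Nat.card D) {θ : H → ℂ} (hθ : IsIrrCharacter H θ) (h1 : 1 < dg θ) : nu θ = 0 := by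
  have h2 : ∑ x : H, θ (x ^ 2) = (Nat.card (Subgroup.center H) : ℂ) * ∑ z : Subgroup.center H, θ z := by
    rw [Finset.mul_sum]
    rw [← Finset.sum_fiberwise (s := univ) (g := fun x : H => (⟨x * x, hS.sq_mem x⟩ : Subgroup.center H))
      (f := fun x : H => θ (x ^ 2))]
    refine Finset.sum_congr rfl fun t _ => ?_
    have h3 : ∑ x ∈ univ.filter (fun x : H => (⟨x * x, hS.sq_mem x⟩ : Subgroup.center H) = t), θ (x ^ 2) =
        ∑ x ∈ univ.filter (fun x : H => (⟨x * x, hS.sq_mem x⟩ : Subgroup.center H) = t), θ t := by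
      refine Finset.sum_congr rfl fun x hx => ?_
      simp only [mem_filter, mem_univ, true_and] at hx
      rw [← hx, pow_two]
    rw [h3, Finset.sum_const, nsmul_eq_mul]
    congr 2
    rw [← card_sqrt_center hS hsq hD t t.2]
    congr 1
    ext x
    simp only [mem_filter, mem_univ, true_and]
    exact ⟨fun h => congrArg Subtype.val h, fun h => Subtype.ext h⟩
  rw [Cfsg.Agent.Lib.CharFS.Indicator.nu, h2, sum_center_nl hS hθ h1]
  simp

omit hS in
/-- The complex conjugate of a character with vanishing indicator is not conjugate under `D`. -/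
theorem conj_ne_cj (hz : ZChar H B D) (hodd : Odd (Nat.card D)) {θ : H → ℂ} (hθ : IsIrrCharacter H θ)
    (hnu : nu θ = 0) {d : G} (hd : d ∈ D) : (fun u => conj (θ u)) ≠ cj H θ d := by
  intro h
  have hb := hz.D_le hd
  have h1 : cj H θ (d * d) = θ := by
    rw [← cj_cj hz θ hb hb, ← h]
    funext u
    rw [cj_eq_comp hz _ d hb]
    simp only
    have h2 : cj H θ d u = θ (conjHom hz d hb u) := by rw [cj_eq_comp hz θ d hb]
    rw [← h2, ← congrFun h u]
    simp
  by_cases hdd : d * d = 1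
  · have hd1 : d = 1 := Cfsg.Agent.Lib.Zass.OddSimple.eq_one_of_mul_self_of_odd hodd hd hdd
    rw [hd1, cj_self_one] at h
    have h3 : ∀ g, conj (θ g) = θ g := fun g => congrFun h g
    rcases Cfsg.Agent.Lib.CharFS.Tri.nu_of_real hθ h3 with h4 | h4 <;> rw [hnu] at h4 <;> norm_num at h4
  · have h5 := cj_fixed hz hθ (D.mul_mem hd hd) hdd h1
    rw [h5, nu_principal] at hnu
    norm_num at hnu

end Values

end Cfsg.Agent.Lib.Zass.SuzFS
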