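import Mathlib
import Cfsg.Agent.Lib.Zass.CohAbs

/-!
# Suzuki's case of Zassenhaus groups: the integer linear algebra

Integer vectors with the Gram matrix of the restriction matrix of a Zassenhaus group whose kernel
is a Suzuki 2-group.
-/

set_option autoImplicit false

namespace Cfsg.Agent.Lib.Zass.SuzNum

open Finset Cfsg.Agent.Lib.Zass.CohAbs

variable {X ι J : Type*} [Fintype X] [DecidableEq X] [Fintype ι] [DecidableEq ι] [Fintype J]
  [DecidableEq J]

/-- The arithmetic behind the exclusion of three nonlinear orbits. -/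
theorem arith_sq (f w c g ε : ℤ) (hf : 3 ≤ f) (hw : 0 < w) (hε : ε = 1 ∨ ε = -1)
    (hq : f * (w * w) = 2 * (c + 1))
    (h : f * (g * g) + c + 1 ≤ w * w - 2 * ε * g) : False := by
  have h1 : 0 ≤ f * (g * g) + 2 * ε * g := by
    rcases hε with rfl | rfl
    · rcases le_or_gt 0 g with hg | hg
      · have : 0 ≤ f * (g * g) := mul_nonneg (by linarith) (mul_self_nonneg g)
        nlinarith
      · have h2 : g * g ≥ -g := by nlinarith
        nlinarith
    · rcases le_or_gt g 0 with hg | hg
      · have : 0 ≤ f * (g * g) := mul_nonneg (by linarith) (mul_self_nonneg g)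
        nlinarith
      · have h2 : g * g ≥ g := by nlinarith
        nlinarith
  have h2 : 0 < w * w := by positivity
  have h3 : 2 * (w * w) < f * (w * w) := by nlinarith
  linarith

/-- At most two nonlinear orbits when `|H| = q²`. -/
theorem sq_case (y : ι → X → ℤ) (S : X → ℤ) (deg : X → ℤ) (w c : ℤ)
    (hw : 0 < w)
    (hS : ∀ x, S x = 0 ∨ S x = 1)
    (hSS : ip S S = c + 1)
    (hyS : ∀ i, ip (y i) S = c * w)
    (hgram : ∀ i j, ip (y i) (y j) = (if i = j then 1 else 0) + c * w * w)
    (hdeg : ∀ i j, ∑ x, (y i - y j) x * deg x = 0)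
    (hdegpos : ∀ x, 0 < deg x)
    (hf : 3 ≤ Fintype.card ι)
    (hq : (Fintype.card ι : ℤ) * (w * w) = 2 * (c + 1))
    (hD : ∀ x, S x = 1 → w * ∑ i, y i x ≠ (Fintype.card ι : ℤ) * (w * w))
    (hrow : ∀ x, S x = 0 → ∃ i, y i x ≠ 0)
    (hcard : (Fintype.card ι : ℤ) + c + 1 ≤ Fintype.card X) : False := by
  classical
  -- two distinct indices
  obtain ⟨l, l', hll'⟩ : ∃ l l' : ι, l ≠ l' := by
    have : Nontrivial ι := Fintype.one_lt_card_iff_nontrivial.1 (by omega)
    exact exists_pair_ne ι
  obtain ⟨ε, Φ, hcoh⟩ := coh_linear y (fun _ => (1 : ℤ)) deg (c * w * w)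
    (fun i j => by simpa using hgram i j)
    (fun i j => by simpa using hdeg i j) hdegpos (l := l) (l' := l') rfl rfl hll'
  have hε := hcoh.sign
  have hε2 : ε * ε = 1 := sq_sign hε
  have hinj : Function.Injective Φ := fun i j hij => hcoh.inj (by simp) (by simp) hij
  have hrel : ∀ i j, y i - y j = ε • (unit (Φ i) - unit (Φ j)) := by
    intro i j
    have := hcoh.rel i (by simp) j (by simp)
    simpa using this
  set u : X → ℤ := y l - w • S - ε • unit (Φ l) with hu
  have hyu : ∀ i, y i - w • S = u + ε • unit (Φ i) := by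
    intro i
    have h1 := hrel i l
    funext x
    have h2 := congrFun h1 x
    simp only [Pi.sub_apply, Pi.smul_apply, smul_eq_mul] at h2
    simp only [hu, Pi.add_apply, Pi.sub_apply, Pi.smul_apply, smul_eq_mul]
    linear_combination h2
  -- norm of the shifted vector
  have hnorm : ∀ i, ip (y i - w • S) (y i - w • S) = 1 + w * w := by
    intro i
    rw [ip_sub_left, ip_sub_right, ip_sub_right, ip_smul_left, ip_smul_right, ip_smul_right,
      ip_smul_left, hgram i i, if_pos rfl, hyS i, ip_comm S (y i), hyS i, hSS]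
    ring
  have hnorm2 : ∀ i, ip u u + 2 * ε * u (Φ i) = w * w := by
    intro i
    have h1 := hnorm i
    rw [hyu i, ip_add_left, ip_add_right, ip_add_right, ip_smul_right, ip_smul_left, ip_smul_right,
      ip_smul_left, ip_unit_right, ip_unit_left, ip_unit_unit, if_pos rfl] at h1
    linear_combination h1 - hε2
  set g := u (Φ l) with hg
  have hconst : ∀ i, u (Φ i) = g := by
    intro i
    have h1 := hnorm2 i
    have h2 := hnorm2 l
    have h3 : 2 * ε * (u (Φ i) - u (Φ l)) = 0 := by linarith
    have h4 : u (Φ i) - u (Φ l) = 0 := by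
      have h5 : (2 * ε) * (2 * ε) = 4 := by linear_combination 4 * hε2
      have h6 : 4 * (u (Φ i) - u (Φ l)) = 0 := by
        rw [← h5]
        linear_combination (2 * ε) * h3
      linarith
    linarith
  -- rows off the image
  have hoff : ∀ x, x ∉ Set.range Φ → u x ≠ 0 := by
    intro x hx h0
    have hval : ∀ i, y i x = w * S x := by
      intro i
      have h1 := congrFun (hyu i) x
      simp only [Pi.add_apply, Pi.sub_apply, Pi.smul_apply, smul_eq_mul, unit] at h1
      have h2 : x ≠ Φ i := fun h => hx ⟨i, h.symm⟩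
      rw [if_neg h2, h0] at h1
      linarith
    rcases hS x with h | h
    · obtain ⟨i, hi⟩ := hrow x h
      exact hi (by rw [hval i, h]; ring)
    · apply hD x h
      simp only [hval, h, mul_one, Finset.sum_const, Finset.card_univ, nsmul_eq_mul]
      ring
  -- the count
  have hsplit : ∑ x ∈ (univ : Finset ι).image Φ, u x * u x + ∑ x ∈ ((univ : Finset ι).image Φ)ᶜ, u x * u x
      = ip u u := by
    rw [Finset.sum_add_sum_compl]
    rfl
  have h1 : ∑ x ∈ (univ : Finset ι).image Φ, u x * u x = (Fintype.card ι : ℤ) * (g * g) := by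
    rw [Finset.sum_image (fun a _ b _ hab => hinj hab)]
    simp only [hconst, Finset.sum_const, Finset.card_univ, nsmul_eq_mul]
  have h2 : ((((univ : Finset ι).image Φ)ᶜ).card : ℤ) ≤ ∑ x ∈ ((univ : Finset ι).image Φ)ᶜ, u x * u x := by
    rw [Finset.card_eq_sum_ones]
    push_cast
    refine Finset.sum_le_sum fun x hx => ?_
    have h3 : x ∉ Set.range Φ := by
      rintro ⟨i, rfl⟩
      simp at hx
    have h4 := hoff x h3
    have h5 : 0 < u x * u x := by
      rcases lt_or_gt_of_ne h4 with h | h <;> nlinarith
    omega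
  have h3 : ((((univ : Finset ι).image Φ)ᶜ).card : ℤ) = Fintype.card X - Fintype.card ι := by
    rw [Finset.card_compl, Finset.card_image_of_injective _ hinj, Finset.card_univ]
    have : Fintype.card ι ≤ Fintype.card X := Fintype.card_le_of_injective Φ hinj
    push_cast [this]
    rfl
  have h4 := hnorm2 l
  have h5 : (Fintype.card ι : ℤ) * (g * g) + c + 1 ≤ w * w - 2 * ε * g := by
    rw [← hg] at h4
    nlinarith
  exact arith_sq (Fintype.card ι : ℤ) w c g ε (by exact_mod_cast hf) hw hε hq h5

/-- The linear part when `|H| = q³`: a sunflower. -/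
theorem sunflower (L : J → X → ℤ) (deg : X → ℤ) (c : ℤ) (hL01 : ∀ j x, L j x = 0 ∨ L j x = 1)
    (hLL : ∀ j k, ip (L j) (L k) = (if j = k then 1 else 0) + c)
    (hdeg : ∀ j k, ∑ x, (L j - L k) x * deg x = 0) (hdegpos : ∀ x, 0 < deg x)
    (hJ : c + 3 ≤ Fintype.card J) (hc : 0 ≤ c) :
    ∃ (u : X → ℤ) (Φ : J → X), Function.Injective Φ ∧ (∀ j, L j = u + unit (Φ j)) ∧
      (∀ j, u (Φ j) = 0) ∧ (∀ x, u x = 0 ∨ u x = 1) ∧ ip u u = c := by
  classical
  obtain ⟨l, l', hll'⟩ : ∃ l l' : J, l ≠ l' := by
    have : Nontrivial J := Fintype.one_lt_card_iff_nontrivial.1 (by omega)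
    exact exists_pair_ne J
  obtain ⟨ε, Φ, hcoh⟩ := coh_linear L (fun _ => (1 : ℤ)) deg c
    (fun i j => by simpa using hLL i j)
    (fun i j => by simpa using hdeg i j) hdegpos (l := l) (l' := l') rfl rfl hll'
  have hε := hcoh.sign
  have hinj : Function.Injective Φ := fun i j hij => hcoh.inj (by simp) (by simp) hij
  have hrel : ∀ i j, L i - L j = ε • (unit (Φ i) - unit (Φ j)) := by
    intro i j
    have := hcoh.rel i (by simp) j (by simp)
    simpa using this
  have hval : ∀ i j, i ≠ j → L i (Φ i) - L j (Φ i) = ε := by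
    intro i j hij
    have h1 := congrFun (hrel i j) (Φ i)
    simp only [Pi.sub_apply, Pi.smul_apply, smul_eq_mul, unit, if_true] at h1
    rw [if_neg (fun h => hij (hinj h))] at h1
    rw [h1]
    ring
  -- the sign is positive
  have hεp : ε = 1 := by
    rcases hε with h | h
    · exact h
    exfalso
    -- `L j` takes the value one on all other `Φ i`
    have h1 : ∀ i j, i ≠ j → L j (Φ i) = 1 := by
      intro i j hij
      have h2 := hval i j hij
      rcases hL01 i (Φ i) with h3 | h3 <;> rcases hL01 j (Φ i) with h4 | h4 <;> rw [h3, h4, h] at h2 <;>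
        first | exact h4 | omega
    have h2 := bessel_image (univ.erase l) Φ (hinj.injOn) (L l)
    have h3 : ∑ k ∈ univ.erase l, L l (Φ k) * L l (Φ k) = ((Fintype.card J : ℤ) - 1) := by
      rw [Finset.sum_congr rfl (g := fun _ => (1 : ℤ))]
      · simp [Finset.card_erase_of_mem]
        have : 1 ≤ Fintype.card J := Fintype.card_pos_iff.2 ⟨l⟩
        push_cast [this]
        ring
      · intro k hk
        rw [h1 k l (Finset.ne_of_mem_erase hk)]
        norm_num
    rw [h3, hLL l l, if_pos rfl] at h2
    omega
  subst hεp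
  have hval2 : ∀ i j, i ≠ j → L i (Φ i) = 1 ∧ L j (Φ i) = 0 := by
    intro i j hij
    have h2 := hval i j hij
    rcases hL01 i (Φ i) with h3 | h3 <;> rcases hL01 j (Φ i) with h4 | h4 <;> rw [h3, h4] at h2 <;>
      first | exact ⟨h3, h4⟩ | omega
  set u : X → ℤ := L l - unit (Φ l) with hu
  have hLu : ∀ j, L j = u + unit (Φ j) := by
    intro j
    have h1 := hrel j l
    funext x
    have h2 := congrFun h1 x
    simp only [Pi.sub_apply, Pi.smul_apply, smul_eq_mul] at h2
    simp only [hu, Pi.add_apply, Pi.sub_apply]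
    linear_combination h2
  have hu0 : ∀ j, u (Φ j) = 0 := by
    intro j
    by_cases hj : j = l
    · subst hj
      simp only [hu, Pi.sub_apply, unit, if_true]
      rw [(hval2 j l' hll').1]
      norm_num
    · simp only [hu, Pi.sub_apply, unit]
      rw [if_neg (fun h => hj (hinj h)), (hval2 j l hj).2]
      norm_num
  refine ⟨u, Φ, hinj, hLu, hu0, ?_, ?_⟩
  · intro x
    by_cases hx : x = Φ l
    · subst hx
      exact Or.inl (hu0 l)
    · have h1 := hL01 l x
      have h2 : u x = L l x := by
        simp only [hu, Pi.sub_apply, unit]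
        rw [if_neg hx]
        ring
      rw [h2]
      exact h1
  · have h1 := hLL l l
    rw [if_pos rfl, hLu l, ip_add_left, ip_add_right, ip_add_right, ip_unit_right, ip_unit_left,
      ip_unit_unit, if_pos rfl, hu0 l] at h1
    linarith

omit [DecidableEq X] in
theorem ip_sub_sub (a b : X → ℤ) : ip (a - b) (a - b) = ip a a - ip a b - ip b a + ip b b := by
  rw [ip_sub_left, ip_sub_right, ip_sub_right]
  ring

omit [DecidableEq X] in
theorem ip_add_add (a b : X → ℤ) : ip (a + b) (a + b) = ip a a + ip a b + ip b a + ip b b := by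
  rw [ip_add_left, ip_add_right, ip_add_right]
  ring

/-- The cube case: the abstract contradiction. -/
theorem cube_case (L : J → X → ℤ) (y : ι → X → ℤ) (ν deg : X → ℤ) (q w c : ℤ)
    (hw : 0 < w) (hq : q = 2 * (c + 1)) (hq4 : 4 ≤ q)
    (hL01 : ∀ j x, L j x = 0 ∨ L j x = 1)
    (hLL : ∀ j k, ip (L j) (L k) = (if j = k then 1 else 0) + c)
    (hdeg : ∀ j k, ∑ x, (L j - L k) x * deg x = 0) (hdegpos : ∀ x, 0 < deg x)
    (hJ : (Fintype.card J : ℤ) = q + 1)
    (hy0 : ∀ i x, 0 ≤ y i x)
    (hyL : ∀ i j, ip (y i) (L j) = c * w)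
    (hyy : ∀ i k, ip (y i) (y k) = (if i = k then 1 else 0) + c * w * w)
    (hf : (Fintype.card ι : ℤ) * (w * w) = q * q)
    (hf14 : Fintype.card ι = 1 ∨ 4 ≤ Fintype.card ι)
    (hpure : ∀ x j₀, (∀ j, L j x = if j = j₀ then 1 else 0) → ∃ i, y i x ≠ 0)
    (hν : ∀ x, -1 ≤ ν x ∧ ν x ≤ 1) (hνL : ∀ j x, L j x = 1 → ν x = 1)
    (hFS : ∀ i, ∑ x, ν x * y i x ≤ 1 + c * w)
    (hdvd : ∀ x, (∑ j, L j x + w * ∑ i, y i x) ∣ (q * q * q + 1) * q * ∑ j, L j x) : False := by
  classical
  have hc : 1 ≤ c := by omega
  obtain ⟨u, Φ, hinj, hLu, hu0, hu01, huu⟩ := sunflower L deg c hL01 hLL hdeg hdegpos (by omega) (by omega)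
  have hj0 : Nonempty J := by
    by_contra h
    rw [not_nonempty_iff] at h
    have : Fintype.card J = 0 := Fintype.card_eq_zero
    rw [this] at hJ
    push_cast at hJ
    omega
  obtain ⟨j₀⟩ := hj0
  -- the common value
  have hyu : ∀ i j, ip (y i) u + y i (Φ j) = c * w := by
    intro i j
    have h1 := hyL i j
    rw [hLu j, ip_add_right, ip_unit_right] at h1
    exact h1
  set g : ι → ℤ := fun i => y i (Φ j₀) with hg
  have hconst : ∀ i j, y i (Φ j) = g i := by
    intro i j
    have h1 := hyu i j
    have h2 := hyu i j₀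
    simp only [hg]
    linarith
  set x : ι → X → ℤ := fun i => y i - w • u with hx
  have hxΦ : ∀ i j, x i (Φ j) = g i := by
    intro i j
    simp only [hx, Pi.sub_apply, Pi.smul_apply, smul_eq_mul, hu0 j, hconst i j]
    ring
  have hxx : ∀ i k, ip (x i) (x k) = (if i = k then 1 else 0) + w * (g i + g k) := by
    intro i k
    simp only [hx]
    rw [ip_sub_left, ip_sub_right, ip_sub_right, ip_smul_left, ip_smul_right, ip_smul_right,
      ip_smul_left, hyy i k, huu, ip_comm u (y k)]
    have h1 := hyu i j₀
    have h2 := hyu k j₀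
    have h3 : ip (y i) u = c * w - g i := by
      simp only [hg]
      linarith
    have h4 : ip (y k) u = c * w - g k := by
      simp only [hg]
      linarith
    rw [h3, h4]
    ring
  -- Bessel along the `Φ j`
  have hbes : ∀ v : X → ℤ, ∀ a : ℤ, (∀ j, v (Φ j) = a) → (q + 1) * (a * a) ≤ ip v v := by
    intro v a hv
    have h1 := bessel_image (univ : Finset J) Φ hinj.injOn v
    simp only [hv, Finset.sum_const, Finset.card_univ, nsmul_eq_mul] at h1
    rw [hJ] at h1
    exact h1
  -- some `g` is nonzero
  have hexg : ∃ i, g i ≠ 0 := by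
    obtain ⟨i, hi⟩ := hpure (Φ j₀) j₀ (by
      intro j
      rw [hLu j]
      simp only [Pi.add_apply, hu0 j₀, zero_add, unit]
      by_cases h : j = j₀
      · subst h
        simp
      · rw [if_neg (fun h' => h (hinj h'.symm)), if_neg h])
    exact ⟨i, hi⟩
  obtain ⟨i, hi⟩ := hexg
  have hgpos : ∀ k, 0 ≤ g k := fun k => hy0 k _
  have hgi : 1 ≤ g i := by
    have := hgpos i
    omega
  rcases hf14 with h1 | h4
  · -- a single orbit
    have hι : ∀ k : ι, k = i := by
      intro k
      exact (Fintype.card_le_one_iff.1 (by omega)) k i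
    have hι1 : (Fintype.card ι : ℤ) = 1 := by exact_mod_cast h1
    have hwq : w = q := by
      rw [hι1, one_mul] at hf
      nlinarith
    subst hwq
    -- `g = 1`
    have h2 := hbes (x i) (g i) (hxΦ i)
    rw [hxx i i, if_pos rfl] at h2
    have hg1 : g i = 1 := by
      by_contra hne
      have h3 : 2 ≤ g i := by omega
      have h4 : (w + 1) * (2 * g i) ≤ (w + 1) * (g i * g i) :=
        mul_le_mul_of_nonneg_left (by nlinarith) (by omega)
      nlinarith
    rw [hg1] at h2
    -- the identities
    have hB : ip (x i) (x i) = 1 + 2 * w := by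
      rw [hxx i i, if_pos rfl, hg1]
      ring
    have hC : ip u (x i) = -1 := by
      simp only [hx]
      rw [ip_sub_right, ip_smul_right, huu, ip_comm u (y i)]
      have := hyu i j₀
      have h3 : y i (Φ j₀) = 1 := by
        have := hconst i j₀
        rw [this, hg1]
      rw [h3] at this
      linarith
    -- pointwise estimate
    have hpt : ∀ r, u r * (w + x i r + x i r * x i r) +
        (if r ∈ (univ : Finset J).image Φ then 2 else 0) ≤ ν r * y i r + x i r * x i r := by
      intro r
      have hxr : x i r = y i r - w * u r := by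
        simp [hx]
      by_cases hr : r ∈ (univ : Finset J).image Φ
      · obtain ⟨j, -, rfl⟩ := Finset.mem_image.1 hr
        rw [if_pos hr, hu0 j]
        have h3 : L j (Φ j) = 1 := by
          rw [hLu j]
          simp [hu0 j, unit]
        rw [hνL j _ h3, hxΦ i j, hconst i j, hg1]
        norm_num
      · rw [if_neg hr]
        rcases hu01 r with h0 | h1
        · rw [h0]
          have hxr' : x i r = y i r := by rw [hxr, h0]; ring
          rw [hxr']
          have h5 := hy0 i r
          have h6 := (hν r).1
          nlinarith [mul_nonneg (by linarith : (0:ℤ) ≤ ν r + 1) h5, mul_self_nonneg (y i r), mul_nonneg h5 h5,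
            (by
              rcases (lt_or_ge (y i r) 1) with h | h
              · have : y i r = 0 := by omega
                rw [this]; norm_num
              · nlinarith : y i r ≤ y i r * y i r)]
        · rw [h1]
          have h7 : ∀ j, L j r = 1 := by
            intro j
            rw [hLu j]
            have : r ≠ Φ j := by
              rintro rfl
              exact hr (Finset.mem_image_of_mem _ (mem_univ _))
            simp [h1, unit, this]
          have hνr : ν r = 1 := hνL j₀ r (h7 j₀)
          rw [hνr, hxr, h1]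
          nlinarith
    have hsum := Finset.sum_le_sum (fun r (_ : r ∈ (univ : Finset X)) => hpt r)
    rw [Finset.sum_add_distrib, Finset.sum_add_distrib] at hsum
    have hA := hFS i
    have hB' : ∑ r, x i r * x i r = 1 + 2 * w := hB
    have hSum1 : ∑ r, u r * (w + x i r + x i r * x i r) =
        w * ip u u + ip u (x i) + ∑ r, u r * (x i r * x i r) := by
      have h8 : ∀ r, u r * (w + x i r + x i r * x i r) = w * (u r * u r) + u r * x i r + u r * (x i r * x i r) := by
        intro r
        rcases hu01 r with h0 | h1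
        · rw [h0]; ring
        · rw [h1]; ring
      simp only [h8, Finset.sum_add_distrib, ← Finset.mul_sum]
      rfl
    have hSum2 : ∑ r, (if r ∈ (univ : Finset J).image Φ then (2 : ℤ) else 0) = 2 * (w + 1) := by
      rw [Finset.sum_ite_mem, Finset.univ_inter, Finset.sum_const, Finset.card_image_of_injective _ hinj,
        Finset.card_univ, nsmul_eq_mul, hJ]
      ring
    rw [hSum1, hSum2, huu, hC, hB'] at hsum
    have hP : ∑ r, u r * (x i r * x i r) ≤ 1 := by
      nlinarith
    -- a row with `x = -1`
    obtain ⟨r, hr⟩ : ∃ r, u r * x i r < 0 := by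
      by_contra hcon
      push Not at hcon
      have : 0 ≤ ip u (x i) := Finset.sum_nonneg fun r _ => hcon r
      omega
    have hur : u r = 1 := by
      rcases hu01 r with h0 | h1
      · rw [h0] at hr
        simp at hr
      · exact h1
    have hxr : x i r < 0 := by
      rw [hur] at hr
      linarith
    have hle : u r * (x i r * x i r) ≤ ∑ r, u r * (x i r * x i r) :=
      Finset.single_le_sum (f := fun r => u r * (x i r * x i r)) (fun t _ => by
        rcases hu01 t with h0 | h1
        · simp [h0]
        · simp [h1, mul_self_nonneg]) (mem_univ r)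
    rw [hur] at hle
    have hxr1 : x i r = -1 := by
      nlinarith
    have hyr : y i r = w - 1 := by
      have : x i r = y i r - w * u r := by simp [hx]
      rw [hur, hxr1] at this
      linarith
    have h7 : ∀ j, L j r = 1 := by
      intro j
      rw [hLu j]
      have : r ≠ Φ j := by
        rintro rfl
        rw [hu0 j] at hur
        norm_num at hur
      simp [hur, unit, this]
    have h9 := hdvd r
    simp only [h7] at h9
    have h10 : ∑ k, y k r = w - 1 := by
      rw [Finset.sum_eq_single i (fun b _ hb => absurd (hι b) hb) (by simp)]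
      exact hyr
    rw [h10] at h9
    simp only [Finset.sum_const, Finset.card_univ, nsmul_eq_mul, mul_one, hJ] at h9
    have h11 : (w * w + 1) ∣ 2 * w := by
      have h12 : (w + 1 + w * (w - 1)) = w * w + 1 := by ring
      rw [h12] at h9
      have h13 : (w * w * w + 1) * w * (w + 1) = (w * w + 1) * (w * w * w + w * w - w) + 2 * w := by ring
      rw [h13] at h9
      exact (dvd_add_right (dvd_mul_right _ _)).1 h9
    have h14 := Int.le_of_dvd (by omega) h11
    nlinarith
  · -- several orbits
    have h4' : (4 : ℤ) ≤ Fintype.card ι := by exact_mod_cast h4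
    obtain ⟨k, hk⟩ : ∃ k, k ≠ i := by
      have : Nontrivial ι := Fintype.one_lt_card_iff_nontrivial.1 (by omega)
      exact exists_ne i
    have h2w : 2 * w ≤ q := by
      have h5 : 4 * (w * w) ≤ q * q := by
        rw [← hf]
        nlinarith [mul_self_nonneg w]
      nlinarith
    -- difference
    have h5 := hbes (x i - x k) (g i - g k) (fun j => by
      simp only [Pi.sub_apply, hxΦ])
    rw [ip_sub_sub, hxx i i, hxx i k, hxx k i, hxx k k, if_pos rfl, if_pos rfl,
      if_neg hk.symm, if_neg hk] at h5
    have h6 : g i = g k := by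
      by_contra hne
      have h7 : 1 ≤ (g i - g k) * (g i - g k) := by
        have : g i - g k ≠ 0 := sub_ne_zero.2 hne
        rcases lt_or_gt_of_ne this with h | h <;> nlinarith
      nlinarith
    -- sum
    have h8 := hbes (x i + x k) (g i + g k) (fun j => by
      simp only [Pi.add_apply, hxΦ])
    rw [ip_add_add, hxx i i, hxx i k, hxx k i, hxx k k, if_pos rfl, if_pos rfl,
      if_neg hk.symm, if_neg hk, ← h6] at h8
    have h9 : 2 * w * g i ≤ q * g i := mul_le_mul_of_nonneg_right h2w (by linarith)
    have h10 : q * g i ≤ q * (g i * g i) := mul_le_mul_of_nonneg_left (by nlinarith) (by omega)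
    have h11 : 1 ≤ g i * g i := by nlinarith
    nlinarith

end Cfsg.Agent.Lib.Zass.SuzNum
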