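import Mathlib
import Cfsg.Agent.Lib.Zass.SuzFS
import Cfsg.Agent.Lib.Zass.SuzNum

/-!
# Zassenhaus groups with a Suzuki kernel: the numerical conclusion
-/

set_option autoImplicit false
set_option linter.unusedSectionVars false
set_option linter.style.haveILetI false

namespace Cfsg.Agent.Lib.Zass.SuzMain

open Cfsg Cfsg.Agent.Lib.Char.Induced Cfsg.Agent.Lib.Zass.Rows1 Cfsg.Agent.Lib.Zass.Rows2
  Cfsg.Agent.Lib.Zass.Rows3 Cfsg.Agent.Lib.Zass.Rows4 Cfsg.Agent.Lib.Zass.SuzChar
  Cfsg.Agent.Lib.Zass.SuzFS Cfsg.Agent.Lib.Zass.CohAbs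
open Cfsg.Agent.Lib.CharFS.Indicator (nu sqrtCount)
open Cfsg.Agent.Lib.Char.Ortho (classInner_irr fintype_irr)
open scoped ComplexConjugate
open Finset
open scoped Classical

universe u

/-- A column with the indicator sum equal to its norm. -/
theorem fs_support {X : Type*} [Fintype X] (y ν : X → ℤ) (c : ℤ) (hy0 : ∀ x, 0 ≤ y x)
    (hν : ∀ x, -1 ≤ ν x ∧ ν x ≤ 1) (h1 : ip y y = 1 + c) (h2 : ∑ x, ν x * y x = 1 + c) (x : X) :
    y x = 0 ∨ (y x = 1 ∧ ν x = 1) := by
  have h3 : ∑ x, (y x * y x - ν x * y x) = 0 := by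
    rw [Finset.sum_sub_distrib, h2]
    have : ∑ x, y x * y x = ip y y := rfl
    rw [this, h1]
    ring
  have hnn : ∀ x, 0 ≤ y x * y x - ν x * y x := by
    intro x
    have h4 := hy0 x
    have h5 := (hν x).2
    rcases eq_or_lt_of_le h4 with h6 | h6
    · rw [← h6]
      simp
    · have h7 : 1 ≤ y x := h6
      nlinarith
  have h4 := (Finset.sum_eq_zero_iff_of_nonneg (fun x _ => hnn x)).1 h3 x (mem_univ x)
  have h5 : y x * (y x - ν x) = 0 := by linear_combination h4
  rcases mul_eq_zero.1 h5 with h6 | h6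
  · exact Or.inl h6
  · have h7 : y x = ν x := by linarith
    have h8 := (hν x).2
    have h9 := hy0 x
    rcases eq_or_lt_of_le h9 with h10 | h10
    · exact Or.inl h10.symm
    · right
      have : y x = 1 := by omega
      exact ⟨this, by omega⟩

/-- A power of two equal to `a b²` forces `a = 1` or `a ≥ 4`. -/
theorem card_one_or_four {a b n : ℕ} (h : a * (b * b) = 2 ^ n * 2 ^ n) : a = 1 ∨ 4 ≤ a := by
  have h1 : a ∣ 2 ^ (2 * n) := ⟨b * b, by
    have : 2 ^ (2 * n) = 2 ^ n * 2 ^ n := by ring
    rw [this, ← h]⟩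
  have h2 : b ∣ 2 ^ (2 * n) := ⟨a * b, by
    have : 2 ^ (2 * n) = 2 ^ n * 2 ^ n := by ring
    rw [this, ← h]
    ring⟩
  obtain ⟨k, -, rfl⟩ := (Nat.dvd_prime_pow Nat.prime_two).1 h1
  obtain ⟨m, -, rfl⟩ := (Nat.dvd_prime_pow Nat.prime_two).1 h2
  have h3 : 2 ^ (k + 2 * m) = 2 ^ (2 * n) := by
    calc 2 ^ (k + 2 * m) = 2 ^ k * (2 ^ m * 2 ^ m) := by ring
      _ = 2 ^ n * 2 ^ n := h
      _ = 2 ^ (2 * n) := by ring
  have h4 := Nat.pow_right_injective (le_refl 2) h3
  rcases Nat.lt_or_ge k 2 with h5 | h5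
  · left
    have : k = 0 := by omega
    rw [this]
    rfl
  · right
    calc 4 = 2 ^ 2 := by norm_num
      _ ≤ 2 ^ k := Nat.pow_le_pow_right (by norm_num) h5

variable {G : Type u} [Group G] [Fintype G] {H B D : Subgroup G} [Fintype H] [Fintype D]
  {χ₁ : IrrCharacter G} {hz : ZChar H B D}

section Main

variable (hS : SuzKer hz) (hY : YData H χ₁) (hI : outInv H = Nat.card H * Nat.card D)
  (hH : 1 < Nat.card H) (he : 1 < Nat.card D)
  (hcount : Nat.card D ≤ Nat.card {C : ConjClasses G // ∀ g : G, ConjClasses.mk g = C → g ∉ H})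
include hS hY hI hH he hcount

/-- The columns of the linear characters are indicator functions. -/
theorem lin_support (j : JT hz) (x : XT H) : cC hz j.1 x = 0 ∨ (cC hz j.1 x = 1 ∧ nuZ x.1 = 1) := by
  have hθ := (rep hz j.1).1.2
  have h1 : dg (((rep hz j.1).1 : IrrCharacter H) : H → ℂ) = 1 := by
    have := j.2
    rw [cf] at this
    exact_mod_cast this
  have h2 := fs_col hz hY hI hH (rep hz j.1)
  have h3 : nuZ (rep hz j.1).1 = 1 := by
    have h4 := nuZ_coe (rep hz j.1).1
    rw [nu_lin hS hθ h1] at h4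
    exact_mod_cast h4.symm
  rw [h3, h1] at h2
  have h4 := hgram hz hH hY j.1 j.1
  rw [if_pos rfl, j.2] at h4
  exact fs_support (cC hz j.1) (fun x => nuZ x.1) ((Ks H χ₁).card : ℤ)
    (fun x => by simp [cC]) (fun x => ⟨neg_one_le_nuZ _, nuZ_le _⟩) (by rw [h4]; ring)
    (by
      have : ∑ x : XT H, nuZ x.1 * cC hz j.1 x = 1 + ((Ks H χ₁).card : ℤ) * ((1 : ℕ) : ℤ) := h2
      rw [this]
      push_cast
      ring) x

/-- `RT` is the union of its parts. -/
theorem card_RT : Fintype.card (JT hz) + Fintype.card (NT hz) = Fintype.card (RT hz) := by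
  have := Fintype.sum_subtype_add_sum_subtype (fun i : RT hz => cf hz i = 1) (fun _ => (1 : ℕ))
  simpa using this

theorem index_center : (Subgroup.center H).index * (Nat.card D + 1) = Nat.card H := by
  have h5 : (Subgroup.center H).index * Nat.card (Subgroup.center H) = Nat.card H :=
    Subgroup.index_mul_card _
  rwa [hS.card_z] at h5

/-- There are nonlinear coordinates. -/
theorem exists_NT : Nonempty (NT hz) := by
  by_contra hcon
  rw [not_nonempty_iff] at hcon
  have h1 := sum_cf_sq hz
  have h2 := card_JT hS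
  have h3 := index_center hS hY hI hH he hcount
  have hsplit := Fintype.sum_subtype_add_sum_subtype (fun i : RT hz => cf hz i = 1)
    (fun i : RT hz => cf hz i * cf hz i)
  have h4 : ∑ i : JT hz, cf hz i.1 * cf hz i.1 = Fintype.card (JT hz) := by
    rw [Finset.sum_congr rfl (g := fun _ => (1 : ℤ)) (fun i _ => by rw [i.2]; norm_num)]
    simp
  have h5 : ∑ i : NT hz, cf hz i.1 * cf hz i.1 = 0 := Finset.sum_of_isEmpty _
  rw [← hsplit, h4, h5, add_zero] at h1
  have h6 : Nat.card D * Fintype.card (JT hz) + 1 = Nat.card H := by exact_mod_cast h1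
  rw [h2] at h6
  rw [← h6] at h3
  have h7 : 0 < (Subgroup.center H).index := Nat.pos_of_ne_zero (Subgroup.index_ne_zero_of_finite)
  nlinarith

/-- The common nonlinear degree. -/
theorem exists_w : ∃ w : ℤ, 1 < w ∧ ∀ i : NT hz, cf hz i.1 = w := by
  obtain ⟨i₀⟩ := exists_NT hS hY hI hH he hcount
  refine ⟨cf hz i₀.1, one_lt_cf i₀.2, fun i => ?_⟩
  have h1 : 1 < dg (((rep hz i.1).1 : IrrCharacter H) : H → ℂ) := by
    have := one_lt_cf i.2
    rw [cf] at this
    exact_mod_cast this
  have h2 : 1 < dg (((rep hz i₀.1).1 : IrrCharacter H) : H → ℂ) := by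
    have := one_lt_cf i₀.2
    rw [cf] at this
    exact_mod_cast this
  have h3 := dg_eq_of_nl hS (rep hz i.1).1.2 (rep hz i₀.1).1.2 h1 h2
  simp only [cf]
  rw [h3]

/-- A nontrivial central element. -/
theorem exists_z : ∃ z : H, z ∈ Subgroup.center H ∧ z ≠ 1 := by
  have h1 := hS.card_z
  have h2 : 1 < Nat.card (Subgroup.center H) := by omega
  have h3 := Finite.one_lt_card_iff_nontrivial.1 h2
  obtain ⟨z, hz1⟩ := exists_ne (1 : Subgroup.center H)
  exact ⟨z, z.2, fun h => hz1 (Subtype.ext h)⟩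

/-- The degree equation in the square case. -/
theorem sq_case (hodd : Odd (Nat.card D)) (hsq : Nat.card H = Nat.card (Subgroup.center H) ^ 2) :
    ∃ w : ℕ, 0 < w ∧ Nat.card (Subgroup.center H) = 2 * (w * w) := by
  set c := (Ks H χ₁).card with hc
  have hec := e_eq hz hH hY
  have hq := hS.card_z
  set q := Nat.card (Subgroup.center H) with hqdef
  obtain ⟨w, hw1, hw⟩ := exists_w hS hY hI hH he hcount
  have hidx := index_center hS hY hI hH he hcount
  have hidxq : (Subgroup.center H).index = q := by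
    have h1 : 0 < q := by omega
    rw [← hq, hsq] at hidx
    have : (Subgroup.center H).index * q = q * q := by rw [hidx]; ring
    exact Nat.eq_of_mul_eq_mul_right h1 this
  -- one linear coordinate
  have hJ : Fintype.card (JT hz) = 1 := by
    have h1 := card_JT hS
    rw [hidxq, hq] at h1
    have hD : 0 < Nat.card D := Nat.card_pos
    have h2 : Nat.card D * Fintype.card (JT hz) = Nat.card D * 1 := by omega
    exact Nat.eq_of_mul_eq_mul_left hD h2
  obtain ⟨l₀, hl₀⟩ := Fintype.card_eq_one_iff.1 hJ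
  have hN := card_NT_mul hS w hw
  rw [hidxq] at hN
  have hsumJ : ∀ x : XT H, ∑ i : JT hz, cC hz i.1 x = cC hz l₀.1 x := by
    intro x
    rw [Finset.sum_eq_single l₀ (fun b _ hb => absurd (hl₀ b) hb) (by simp)]
  have hsumN : ∀ x : XT H, ∑ i : NT hz, cf hz i.1 * cC hz i.1 x = w * ∑ i : NT hz, cC hz i.1 x := by
    intro x
    rw [Finset.mul_sum]
    exact Finset.sum_congr rfl fun i _ => by rw [hw i]
  obtain ⟨z, hzc, hz1⟩ := exists_z hS hY hI hH he hcount
  have hNl : ∀ i : NT hz, i.1 ≠ l₀.1 := by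
    intro i h
    apply i.2
    rw [h]
    exact l₀.2
  -- the upper bound
  have hle : Fintype.card (NT hz) ≤ 2 := by
    by_contra hcon
    push Not at hcon
    refine Cfsg.Agent.Lib.Zass.SuzNum.sq_case (X := XT H) (ι := NT hz) (fun i => cC hz i.1) (cC hz l₀.1)
      cdeg w (c : ℤ) (by omega) ?_ ?_ ?_ ?_ ?_ cdeg_pos hcon ?_ ?_ ?_ ?_
    · intro x
      rcases lin_support hS hY hI hH he hcount l₀ x with h | h
      · exact Or.inl h
      · exact Or.inr h.1
    · have h4 := hgram hz hH hY l₀.1 l₀.1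
      rw [if_pos rfl, l₀.2] at h4
      rw [h4]
      ring
    · intro i
      have h4 := hgram hz hH hY i.1 l₀.1
      rw [if_neg (hNl i), l₀.2, hw i] at h4
      rw [h4]
      ring
    · intro i j
      have h4 := hgram hz hH hY i.1 j.1
      rw [hw i, hw j] at h4
      rw [h4]
      by_cases hij : i = j
      · rw [if_pos hij, if_pos (congrArg Subtype.val hij)]
      · rw [if_neg hij, if_neg (fun h => hij (Subtype.ext h))]
    · intro i j
      have h4 := hdeg hz hH hY i.1 j.1
      rw [hw i, hw j] at h4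
      have hw0 : w ≠ 0 := by omega
      apply mul_left_cancel₀ hw0
      rw [mul_zero, Finset.mul_sum, ← h4]
      refine Finset.sum_congr rfl fun x _ => ?_
      simp only [Pi.sub_apply, Pi.smul_apply, smul_eq_mul]
      ring
    · rw [hN]
      have : (q : ℤ) = 2 * (c + 1) := by
        have h1 : q = 2 * (c + 1) := by omega
        exact_mod_cast h1
      exact this
    · intro x hx heq
      have h1 := row_dvd hS x z hzc hz1
      rw [hsumJ, hsumN, hx, heq, hN] at h1
      have hh : ((Nat.card H : ℕ) : ℤ) = (q : ℤ) * q := by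
        rw [hsq]
        push_cast
        ring
      have he' : ((Nat.card D : ℕ) : ℤ) = (q : ℤ) - 1 := by
        rw [hq]
        push_cast
        ring
      rw [hh, he'] at h1
      have h2 : ((q : ℤ) * q + 1) * (((q : ℤ) - 1) * 1 - q) = - ((q : ℤ) * q + 1) := by ring
      rw [h2, dvd_neg] at h1
      have h3 : (q : ℤ) * q + 1 = (1 + q) * ((q : ℤ) - 1) + 2 := by ring
      rw [h3] at h1
      have h4 : (1 + (q : ℤ)) ∣ 2 := (dvd_add_right (dvd_mul_right _ _)).1 h1
      have h5 := Int.le_of_dvd (by norm_num) h4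
      have hq2 : (2 : ℤ) ≤ q := by
        have : 2 ≤ q := by omega
        exact_mod_cast this
      omega
    · intro x hx
      obtain ⟨i, hi⟩ := hrow (hz := hz) x
      by_cases hcf : cf hz i = 1
      · exfalso
        have h1 := hl₀ ⟨i, hcf⟩
        have h2 : i = l₀.1 := congrArg Subtype.val h1
        rw [h2] at hi
        exact hi hx
      · exact ⟨⟨i, hcf⟩, hi⟩
    · have h1 := hcard_of_count hz hH hY hcount
      rw [← card_RT hS hY hI hH he hcount, hJ] at h1
      push_cast at h1
      linarith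
  -- the lower bound
  have hge : 2 ≤ Fintype.card (NT hz) := by
    obtain ⟨i₀⟩ := exists_NT hS hY hI hH he hcount
    have hθ := (rep hz i₀.1).1.2
    set θ : H → ℂ := (((rep hz i₀.1).1 : IrrCharacter H) : H → ℂ) with hθdef
    have h1 : 1 < dg θ := by
      have := one_lt_cf i₀.2
      rw [cf] at this
      exact_mod_cast this
    have hq1 : 1 < Nat.card D := he
    have hnu := nu_nl_sq hS hsq he hθ h1
    have hθb : IsIrrCharacter H (fun u => conj (θ u)) :=
      Cfsg.Agent.Lib.Char.IndNormal.isIrrCharacter_conj hθ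
    have hdgb : dg (fun u => conj (θ u)) = dg θ := by
      have h2 := dg_coe hθ
      have h3 := dg_coe hθb
      rw [← h2, Complex.conj_natCast] at h3
      exact_mod_cast h3.symm
    have hne : (⟨_, hθb⟩ : IrrCharacter H) ≠ one H := by
      intro h
      have h2 : dg (fun u => conj (θ u)) = 1 := by
        have := congrArg (fun t : IrrCharacter H => dg (t : H → ℂ)) h
        simp only at this
        rw [this]
        exact dg_one_H
      omega
    set θ' : IT H := ⟨⟨_, hθb⟩, hne⟩ with hθ'
    set i' := Quotient.mk (rowSetoid hz) θ' with hi'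
    have hcf' : ¬ cf hz i' = 1 := by
      intro h
      rw [cf, hi', rel_dg hz (rep_rel hz θ')] at h
      have h2 : dg (fun u => conj (θ u)) = 1 := by exact_mod_cast h
      omega
    have hne' : (⟨i', hcf'⟩ : NT hz) ≠ i₀ := by
      intro h
      have h2 : i' = i₀.1 := congrArg Subtype.val h
      have h3 := rep_rel hz θ'
      rw [← hi', h2] at h3
      obtain ⟨d, hd, h4⟩ := (rowSetoid hz).symm h3
      exact conj_ne_cj hz hodd hθ hnu hd h4
    exact Fintype.one_lt_card_iff.2 ⟨_, _, hne'⟩
  have h2 : Fintype.card (NT hz) = 2 := by omega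
  rw [h2] at hN
  refine ⟨w.toNat, by omega, ?_⟩
  have h3 : ((w.toNat : ℕ) : ℤ) = w := Int.toNat_of_nonneg (by omega)
  have h4 : ((q : ℕ) : ℤ) = ((2 * (w.toNat * w.toNat) : ℕ) : ℤ) := by
    push_cast
    rw [h3, ← hN]
    push_cast
    ring
  exact_mod_cast h4

/-- The cube case does not occur. -/
theorem cube_case (hodd : Odd (Nat.card D)) (hcube : Nat.card H = Nat.card (Subgroup.center H) ^ 3)
    (h2 : ∃ n, Nat.card (Subgroup.center H) = 2 ^ n) : False := by
  set c := (Ks H χ₁).card with hc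
  have hec := e_eq hz hH hY
  have hq := hS.card_z
  set q := Nat.card (Subgroup.center H) with hqdef
  obtain ⟨w, hw1, hw⟩ := exists_w hS hY hI hH he hcount
  have hidx := index_center hS hY hI hH he hcount
  have hq4 : 4 ≤ q := by
    have : 1 ≤ c := by
      by_contra h
      have : c = 0 := by omega
      omega
    omega
  have hidxq : (Subgroup.center H).index = q * q := by
    have h1 : 0 < q := by omega
    rw [← hq, hcube] at hidx
    have : (Subgroup.center H).index * q = (q * q) * q := by rw [hidx]; ring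
    exact Nat.eq_of_mul_eq_mul_right h1 this
  have hJ : Fintype.card (JT hz) = q + 1 := by
    have h1 := card_JT hS
    rw [hidxq] at h1
    have hD : 0 < Nat.card D := Nat.card_pos
    have h3 : Nat.card D * Fintype.card (JT hz) = Nat.card D * (q + 1) := by
      have h4 : q * q = (Nat.card D + 1) * (Nat.card D + 1) := by rw [hq]
      have h5 : q + 1 = Nat.card D + 2 := by omega
      rw [h5]
      nlinarith
    exact Nat.eq_of_mul_eq_mul_left hD h3
  have hN := card_NT_mul hS w hw
  rw [hidxq] at hN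
  push_cast at hN
  have hJNe : ∀ (i : NT hz) (j : JT hz), i.1 ≠ j.1 := by
    intro i j h
    apply i.2
    rw [h]
    exact j.2
  have hsumN : ∀ x : XT H, ∑ i : NT hz, cf hz i.1 * cC hz i.1 x = w * ∑ i : NT hz, cC hz i.1 x := by
    intro x
    rw [Finset.mul_sum]
    exact Finset.sum_congr rfl fun i _ => by rw [hw i]
  obtain ⟨z, hzc, hz1⟩ := exists_z hS hY hI hH he hcount
  refine Cfsg.Agent.Lib.Zass.SuzNum.cube_case (X := XT H) (ι := NT hz) (J := JT hz)
    (fun j => cC hz j.1) (fun i => cC hz i.1) (fun x => nuZ x.1) cdeg (q : ℤ) w (c : ℤ) (by omega)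
    ?_ (by exact_mod_cast hq4) ?_ ?_ ?_ cdeg_pos ?_ ?_ ?_ ?_ ?_ ?_ ?_ ?_ ?_ ?_ ?_
  · have : q = 2 * (c + 1) := by omega
    exact_mod_cast this
  · intro j x
    rcases lin_support hS hY hI hH he hcount j x with h | h
    · exact Or.inl h
    · exact Or.inr h.1
  · intro j k
    have h4 := hgram hz hH hY j.1 k.1
    rw [j.2, k.2] at h4
    rw [h4]
    by_cases hij : j = k
    · rw [if_pos hij, if_pos (congrArg Subtype.val hij)]
      ring
    · rw [if_neg hij, if_neg (fun h => hij (Subtype.ext h))]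
      ring
  · intro j k
    have h4 := hdeg hz hH hY j.1 k.1
    rw [j.2, k.2] at h4
    simpa using h4
  · rw [hJ]
    push_cast
    ring
  · intro i x
    simp [cC]
  · intro i j
    have h4 := hgram hz hH hY i.1 j.1
    rw [if_neg (hJNe i j), j.2, hw i] at h4
    rw [h4]
    ring
  · intro i j
    have h4 := hgram hz hH hY i.1 j.1
    rw [hw i, hw j] at h4
    rw [h4]
    by_cases hij : i = j
    · rw [if_pos hij, if_pos (congrArg Subtype.val hij)]
    · rw [if_neg hij, if_neg (fun h => hij (Subtype.ext h))]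
  · exact hN
  · obtain ⟨n, hn⟩ := h2
    have hw0 : 0 < w := by omega
    have hwn : ((w.toNat : ℕ) : ℤ) = w := Int.toNat_of_nonneg hw0.le
    apply card_one_or_four (b := w.toNat) (n := n)
    have h5 : ((Fintype.card (NT hz) * (w.toNat * w.toNat) : ℕ) : ℤ) = ((2 ^ n * 2 ^ n : ℕ) : ℤ) := by
      push_cast
      rw [hwn, hN, hn]
      push_cast
      ring
    exact_mod_cast h5
  · intro x j₀ hx
    by_contra hcon
    push Not at hcon
    have hb := bound_of_pure hz hH hY he (x := x) (l := j₀.1) j₀.2 (by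
      intro i
      by_cases hi : cf hz i = 1
      · have h1 := hx ⟨i, hi⟩
        simp only at h1
        rw [h1]
        by_cases hij : i = j₀.1
        · rw [if_pos hij, if_pos (Subtype.ext hij)]
        · rw [if_neg hij, if_neg (fun h => hij (congrArg Subtype.val h))]
      · rw [hcon ⟨i, hi⟩, if_neg]
        intro h
        apply hi
        rw [h]
        exact j₀.2)
    rw [hcube] at hb
    have hq5 : q ^ 3 = q * q * q := by ring
    rw [hq5] at hb
    nlinarith
  · intro x
    exact ⟨neg_one_le_nuZ _, nuZ_le _⟩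
  · intro j x hx
    rcases lin_support hS hY hI hH he hcount j x with h | h
    · omega
    · exact h.2
  · intro i
    have h1 := fs_col hz hY hI hH (rep hz i.1)
    have h3 : ((dg (((rep hz i.1).1 : IrrCharacter H) : H → ℂ) : ℕ) : ℤ) = w := hw i
    rw [h3] at h1
    have h4 : ∑ x : XT H, nuZ x.1 * cC hz i.1 x = nuZ (rep hz i.1).1 + (c : ℤ) * w := h1
    rw [h4]
    have := nuZ_le (rep hz i.1).1
    linarith
  · intro x
    have h1 := row_dvd hS x z hzc hz1
    rw [hsumN] at h1
    set LL := ∑ j : JT hz, cC hz j.1 x with hLL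
    set NN := w * ∑ i : NT hz, cC hz i.1 x with hNN
    have hh : ((Nat.card H : ℕ) : ℤ) = (q : ℤ) * q * q := by
      rw [hcube]
      push_cast
      ring
    have he' : ((Nat.card D : ℕ) : ℤ) = (q : ℤ) - 1 := by
      rw [hq]
      push_cast
      ring
    rw [hh, he'] at h1
    have h3 : ((q : ℤ) * q * q + 1) * q * LL =
        ((q : ℤ) * q * q + 1) * (((q : ℤ) - 1) * LL - NN) + (LL + NN) * ((q : ℤ) * q * q + 1) := by ring
    rw [h3]
    exact dvd_add h1 (dvd_mul_right _ _)

end Main

end Cfsg.Agent.Lib.Zass.SuzMain
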