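import Mathlib
import Cfsg.Agent.Lib.Zass.SuzMain
import Cfsg.Agent.Lib.Zass.Rows5
import Cfsg.Agent.Lib.Zass.OddClasses
import Cfsg.Agent.S1137
import Cfsg.Agent.S1138
import Cfsg.Agent.S0884

/-!
# Simple Zassenhaus groups with a nonabelian 2-kernel
-/

set_option autoImplicit false
set_option linter.unusedSectionVars false
set_option linter.style.haveILetI false

namespace Cfsg.Agent.Lib.Zass.SuzSetup

open MulAction Cfsg Cfsg.Agent.Lib.Zass.Basic Cfsg.Agent.Lib.Zass.Simple Cfsg.Agent.Lib.Zass.Invol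
  Cfsg.Agent.Lib.Zass.OddSimple Cfsg.Agent.Lib.Zass.OddClasses Cfsg.Agent.Lib.Zass.Rows1
  Cfsg.Agent.Lib.Zass.Rows2 Cfsg.Agent.Lib.Zass.Rows3 Cfsg.Agent.Lib.Zass.Rows5
  Cfsg.Agent.Lib.Zass.SuzChar Cfsg.Agent.Lib.Zass.SuzFS Cfsg.Agent.Lib.Zass.SuzMain
open Finset
open scoped Classical commutatorElement

universe u v

theorem card_ne_one_add (A : Type*) [Group A] [Finite A] : Nat.card {x : A // x ≠ 1} + 1 = Nat.card A := by
  haveI := Fintype.ofFinite A
  rw [Nat.card_eq_fintype_card, Nat.card_eq_fintype_card, Fintype.card_subtype]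
  have h5 : (univ.filter fun x : A => x ≠ 1) = univ.erase 1 := by
    ext x
    simp
  rw [h5, Finset.card_erase_of_mem (mem_univ _), Finset.card_univ]
  have : 0 < Fintype.card A := Fintype.card_pos
  omega

section Aut

variable {G : Type u} [Group G] {H B D : Subgroup G}

/-- `D` acts on `H` by automorphisms. -/
noncomputable def dAut (hz : ZChar H B D) : D →* MulAut H where
  toFun d := MulEquiv.ofBijective (conjHom hz (d : G)⁻¹ (B.inv_mem (hz.D_le d.2)))
    (conjHom_bijective hz _ _)
  map_one' := by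
    ext u
    simp [MulEquiv.ofBijective_apply]
  map_mul' d d' := by
    ext u
    simp only [MulEquiv.ofBijective_apply, MulAut.mul_apply, conjHom_coe, Subgroup.coe_mul]
    group

theorem dAut_coe (hz : ZChar H B D) (d : D) (u : H) :
    ((dAut hz d u : H) : G) = (d : G) * u * (d : G)⁻¹ := by
  show ((conjHom hz (d : G)⁻¹ (B.inv_mem (hz.D_le d.2)) u : H) : G) = _
  rw [conjHom_coe, inv_inv]

end Aut

variable {G : Type u} {Ω : Type v} [Group G] [MulAction G Ω]

section

variable (hZ : IsZassenhausGroup G Ω) [Finite Ω] [IsSimpleGroup G]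
  {a b : Ω} (hab : a ≠ b) (h2 : IsPGroup 2 (kernel hZ a))
  (hna : ∃ x y : kernel hZ a, x * y ≠ y * x)
include hZ hab h2 hna

theorem kernel_even : Even (Nat.card (kernel hZ a)) := by
  haveI := finite_of_finite hZ
  obtain ⟨x, y, hxy⟩ := hna
  have h3 : Nontrivial (kernel hZ a) := by
    by_contra hcon
    rw [not_nontrivial_iff_subsingleton] at hcon
    exact hxy (Subsingleton.elim _ _)
  obtain ⟨n, hn⟩ := IsPGroup.iff_card.1 h2
  have h4 : 1 < Nat.card (kernel hZ a) := Finite.one_lt_card_iff_nontrivial.2 h3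
  rw [hn] at h4 ⊢
  have h5 : n ≠ 0 := by
    rintro rfl
    simp at h4
  exact (Nat.even_pow.2 ⟨even_two, h5⟩)

theorem two_odd : Odd (Nat.card ↥(stabilizer G a ⊓ stabilizer G b)) := by
  have h1 := card_two_point_dvd hZ hab
  have h3 := kernel_even hZ hab h2 hna
  have h4 : 0 < Nat.card (kernel hZ a) := by
    haveI := finite_of_finite hZ
    exact Nat.card_pos
  have h5 : Odd (Nat.card (kernel hZ a) - 1) := by
    rcases h3 with ⟨k, hk⟩
    exact ⟨k - 1, by omega⟩
  exact Odd.of_dvd_nat h5 h1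

/-- The number of involutions of the kernel. -/
theorem card_inv : Nat.card {x : kernel hZ a // x * x = 1 ∧ x ≠ 1} =
    Nat.card ↥(stabilizer G a ⊓ stabilizer G b) := by
  haveI := finite_of_finite hZ
  haveI := Fintype.ofFinite G
  haveI := Fintype.ofFinite Ω
  have hO := odd_all hZ hab (two_odd hZ hab h2 hna)
  have h3 := card_invols_kernel hZ hO hab (kernel_even hZ hab h2 hna) a
  rw [← h3]
  have h4 : Nat.card {x : kernel hZ a // x * x = 1 ∧ x ≠ 1} =
      Nat.card {z : G // z ∈ (invols G).filter (fun z => z ∈ kernel hZ a)} := by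
    refine Nat.card_congr ⟨fun x => ⟨(x.1 : G), ?_⟩, fun z => ⟨⟨z.1, ?_⟩, ?_⟩, ?_, ?_⟩
    · simp only [mem_filter, mem_invols]
      refine ⟨⟨?_, ?_⟩, x.1.2⟩
      · exact congrArg Subtype.val x.2.1
      · exact fun h => x.2.2 (Subtype.ext h)
    · exact (mem_filter.1 z.2).2
    · have h5 := mem_invols.1 (mem_filter.1 z.2).1
      exact ⟨Subtype.ext h5.1, fun h => h5.2 (congrArg Subtype.val h)⟩
    · intro x
      rfl
    · intro z
      rfl
  rw [h4, Nat.card_eq_fintype_card, Fintype.card_coe]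

/-- `D` is transitive on the involutions of the kernel. -/
theorem trans_inv (x y : kernel hZ a) (hx : x * x = 1) (hx1 : x ≠ 1) (hy : y * y = 1) (hy1 : y ≠ 1) :
    ∃ d : ↥(stabilizer G a ⊓ stabilizer G b), (d : G) * x * (d : G)⁻¹ = y := by
  haveI := finite_of_finite hZ
  haveI := Fintype.ofFinite G
  haveI : Fintype (kernel hZ a) := Fintype.ofFinite _
  haveI : Fintype ↥(stabilizer G a ⊓ stabilizer G b) := Fintype.ofFinite _
  have hz := zchar hZ hab
  let f : ↥(stabilizer G a ⊓ stabilizer G b) → {x : kernel hZ a // x * x = 1 ∧ x ≠ 1} := fun d =>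
    ⟨dAut hz d x, by rw [← map_mul, hx, map_one], fun h => hx1 ((dAut hz d).injective (by rw [h, map_one]))⟩
  have hinj : Function.Injective f := by
    intro d d' h
    have h1 : dAut hz d x = dAut hz d' x := congrArg Subtype.val h
    have h3 := congrArg (fun t : kernel hZ a => (t : G)) h1
    simp only [dAut_coe] at h3
    have h4 : (d : G)⁻¹ = (d' : G)⁻¹ :=
      conj_free hz x hx1 (Subgroup.inv_mem _ d.2) (Subgroup.inv_mem _ d'.2) (by simpa using h3)
    exact Subtype.ext (inv_injective h4)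
  have hbij := hinj.bijective_of_nat_card_le (by rw [card_inv hZ hab h2 hna])
  obtain ⟨d, hd⟩ := hbij.2 ⟨y, hy, hy1⟩
  refine ⟨d, ?_⟩
  have h1 : dAut hz d x = y := congrArg Subtype.val hd
  rw [← dAut_coe hz d x, h1]

/-- The kernel is a Suzuki 2-group. -/
theorem isSuzuki : IsSuzukiTwoGroup (kernel hZ a) := by
  haveI := finite_of_finite hZ
  haveI := Fintype.ofFinite G
  haveI : Fintype (kernel hZ a) := Fintype.ofFinite _
  haveI : Fintype ↥(stabilizer G a ⊓ stabilizer G b) := Fintype.ofFinite _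
  have hz := zchar hZ hab
  have hodd := two_odd hZ hab h2 hna
  obtain ⟨hcyc, -, -⟩ := cyclic_inverted hZ hab hodd
  refine ⟨inferInstance, h2, hna, ?_, (dAut hz).range, ?_, ?_⟩
  · have h1 := card_inv hZ hab h2 hna
    have he : 1 < Nat.card ↥(stabilizer G a ⊓ stabilizer G b) := by
      have h3 : 0 < Nat.card ↥(stabilizer G a ⊓ stabilizer G b) := Nat.card_pos
      have h4 : Nat.card ↥(stabilizer G a ⊓ stabilizer G b) ≠ 1 := fun h =>
        two_point_ne_bot hZ hab (Subgroup.eq_bot_of_card_eq _ h)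
      omega
    rw [← h1] at he
    have h3 := Finite.one_lt_card_iff_nontrivial.1 he
    obtain ⟨x, y, hxy⟩ := exists_pair_ne {x : kernel hZ a // x * x = 1 ∧ x ≠ 1}
    exact ⟨x.1, y.1, fun h => hxy (Subtype.ext h), x.2.2, x.2.1, y.2.2, y.2.1⟩
  · exact isCyclic_of_surjective (dAut hz).rangeRestrict (dAut hz).rangeRestrict_surjective
  · intro x y hx1 hx hy1 hy
    obtain ⟨d, hd⟩ := trans_inv hZ hab h2 hna x y hx hx1 hy hy1
    refine ⟨⟨dAut hz d, ⟨d, rfl⟩⟩, ?_, ?_⟩
    · apply Subtype.ext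
      show ((dAut hz d x : kernel hZ a) : G) = y
      rw [dAut_coe, hd]
    · rintro ⟨_, ⟨d', rfl⟩⟩ h
      have h1 : dAut hz d' x = y := h
      have h3 : (d' : G) * x * (d' : G)⁻¹ = y := by rw [← dAut_coe hz d' x, h1]
      have h4 : (d' : G)⁻¹ = (d : G)⁻¹ :=
        conj_free hz x hx1 (Subgroup.inv_mem _ d'.2) (Subgroup.inv_mem _ d.2) (by
          rw [inv_inv, inv_inv, h3, hd])
      have h5 : d' = d := Subtype.ext (inv_injective h4)
      rw [h5]

/-- The data of the kernel. -/
theorem suzKer : SuzKer (zchar hZ hab) := by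
  haveI := finite_of_finite hZ
  have hz := zchar hZ hab
  have hP := isSuzuki hZ hab h2 hna
  have S1 := Cfsg.Agent.S1137.result hP
  have S2 := Cfsg.Agent.S1138.result hP
  have hle : commutator (kernel hZ a) ≤ Subgroup.center (kernel hZ a) := by
    rw [commutator_def, Subgroup.commutator_le]
    intro x _ y _
    have := S2.2.1 x⁻¹ y⁻¹
    simpa [commutatorElement_def] using this
  have htr : ∀ z z' : kernel hZ a, z ∈ Subgroup.center (kernel hZ a) → z' ∈ Subgroup.center (kernel hZ a) →
      z ≠ 1 → z' ≠ 1 → ∃ d : ↥(stabilizer G a ⊓ stabilizer G b), (d : G) * z * (d : G)⁻¹ = z' := by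
    intro z z' hzc hz'c hz1 hz'1
    exact trans_inv hZ hab h2 hna z z' (S1.2 z hzc) hz1 (S1.2 z' hz'c) hz'1
  refine ⟨S2.1, ?_, S1.2, ?_, ?_, ?_, ?_⟩
  · intro x y
    have := S2.2.1 x⁻¹ y⁻¹
    simpa using this
  · intro x hx
    by_cases hx1 : x = 1
    · rw [hx1]
      exact Subgroup.one_mem _
    · exact ((S1.1 x).1 ⟨hx1, hx⟩).1
  · intro z z' hzc hz'c hz1 hz'1
    obtain ⟨d, hd⟩ := htr z z' hzc hz'c hz1 hz'1
    refine ⟨(d : G)⁻¹, Subgroup.inv_mem _ d.2, ?_⟩
    rw [inv_inv, hd]
  · apply le_antisymm hle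
    obtain ⟨x, y, hxy⟩ := hna
    have hc : ⁅x, y⁆ ∈ commutator (kernel hZ a) := by
      rw [commutator_def]
      exact Subgroup.commutator_mem_commutator (Subgroup.mem_top _) (Subgroup.mem_top _)
    have hc1 : ⁅x, y⁆ ≠ 1 := by
      intro h
      apply hxy
      rwa [commutatorElement_eq_one_iff_mul_comm] at h
    intro z hzc
    by_cases hz1 : z = 1
    · rw [hz1]
      exact Subgroup.one_mem _
    obtain ⟨d, hd⟩ := htr _ z (hle hc) hzc hc1 hz1
    have hchar : (commutator (kernel hZ a)).Characteristic := inferInstance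
    have h3 : ⁅x, y⁆ ∈ (commutator (kernel hZ a)).comap (dAut hz d).toMonoidHom := by
      rw [hchar.fixed]
      exact hc
    have h4 : dAut hz d ⁅x, y⁆ ∈ commutator (kernel hZ a) := h3
    have h5 : dAut hz d ⁅x, y⁆ = z := by
      apply Subtype.ext
      rw [dAut_coe, hd]
    rwa [h5] at h4
  · have h3 := card_inv hZ hab h2 hna
    rw [← h3]
    have h4 : Nat.card {x : kernel hZ a // x * x = 1 ∧ x ≠ 1} =
        Nat.card {x : Subgroup.center (kernel hZ a) // x ≠ 1} := by
      refine Nat.card_congr ⟨fun x => ⟨⟨x.1, ((S1.1 x.1).1 ⟨x.2.2, x.2.1⟩).1⟩, fun h => x.2.2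
        (congrArg Subtype.val h)⟩, fun x => ⟨x.1.1, S1.2 _ x.1.2, fun h => x.2 (Subtype.ext h)⟩, ?_, ?_⟩
      · intro x
        rfl
      · intro x
        rfl
    rw [h4, card_ne_one_add]

/-- The main structural conclusion. -/
theorem main : ∃ m : ℕ, 1 ≤ m ∧ Nat.card (Subgroup.center (kernel hZ a)) = 2 ^ (2 * m + 1) ∧
    Nat.card (kernel hZ a) = (2 ^ (2 * m + 1)) ^ 2 ∧
    Nat.card ↥(stabilizer G a ⊓ stabilizer G b) + 1 = 2 ^ (2 * m + 1) := by
  haveI := finite_of_finite hZ
  haveI := Fintype.ofFinite G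
  haveI := Fintype.ofFinite Ω
  haveI : Fintype (kernel hZ a) := Fintype.ofFinite _
  haveI : Fintype ↥(stabilizer G a ⊓ stabilizer G b) := Fintype.ofFinite _
  have hz := zchar hZ hab
  have hS := suzKer hZ hab h2 hna
  have hP := isSuzuki hZ hab h2 hna
  have S2 := Cfsg.Agent.S1138.result hP
  have hodd := two_odd hZ hab h2 hna
  have hO := odd_all hZ hab hodd
  have heven := kernel_even hZ hab h2 hna
  set H := kernel hZ a with hH
  set D := (stabilizer G a ⊓ stabilizer G b : Subgroup G) with hD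
  have he : 1 < Nat.card D := by
    have h3 : 0 < Nat.card D := Nat.card_pos
    have h4 : Nat.card D ≠ 1 := fun h => two_point_ne_bot hZ hab (Subgroup.eq_bot_of_card_eq _ h)
    omega
  set q := Nat.card (Subgroup.center H) with hqdef
  have hq : q = Nat.card D + 1 := hS.card_z
  have hq4 : 2 ≤ q := by omega
  have hHq : q * q ≤ Nat.card H := by
    rcases S2.2.2.1 with h | h
    · rw [h]
      exact le_of_eq (by ring)
    · rw [h]
      nlinarith [Nat.le_mul_of_pos_right (q * q) (by omega : 0 < q)]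
  have hcardH : Nat.card H + 1 = Fintype.card Ω := by
    rw [hH, card_kernel_add_one, Nat.card_eq_fintype_card]
  have h3' : Nat.card D * Nat.card D + 2 * Nat.card D + 1 ≤ Nat.card H := by
    rw [hq] at hHq
    nlinarith
  have h4' : 0 < Nat.card D * Nat.card D := by nlinarith
  have hlt : Nat.card D < Fintype.card Ω - 2 := by
    omega
  obtain ⟨χ₁, -, hπ⟩ := exists_chi1 hZ hab
  have hY : YData H χ₁ := yData hZ hab hodd hlt hπ
  have hHm : 1 < Nat.card H := by nlinarith
  have hlt2 : 2 * Nat.card D < Nat.card H - 1 := by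
    omega
  have hS' : Nat.card D ≤ Nat.card {C : ConjClasses G // ∀ g : G, ConjClasses.mk g = C → g ∉ H} :=
    Cfsg.Agent.S0884.result hZ hab (Nat.card H) (Nat.card D) hcardH.symm rfl hodd hlt2 H
    (kernel_le hZ a) hcardH (fun u hu hu1 c hc => kernel_fix hZ hu hu1 hc)
  have hI : outInv H = Nat.card H * Nat.card D := by
    have h3 : Nat.card {z : G // z * z = 1 ∧ z ≠ 1} = Nat.card D * (Nat.card H + 1) :=
      (card_invol hZ hO hab).1 heven
    have h4 : ((invols G).filter (fun z => z ∈ H)).card = Nat.card D :=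
      card_invols_kernel hZ hO hab heven a
    have h5 : Nat.card {z : G // z * z = 1 ∧ z ≠ 1} = (invols G).card := by
      rw [Nat.card_eq_fintype_card, Fintype.card_subtype]
      rfl
    rw [h5] at h3
    have h6 := Finset.card_filter_add_card_filter_not (s := invols G) (fun z => z ∈ H)
    have h7 : ((invols G).filter (fun z => ¬ z ∈ H)) = univ.filter fun g : G => g ^ 2 = 1 ∧ g ∉ H := by
      ext g
      simp only [mem_filter, mem_invols, mem_univ, true_and, pow_two]
      constructor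
      · rintro ⟨⟨h8, -⟩, h9⟩
        exact ⟨h8, h9⟩
      · rintro ⟨h8, h9⟩
        exact ⟨⟨h8, fun h => h9 (by rw [h]; exact H.one_mem)⟩, h9⟩
    rw [h7, h3, h4] at h6
    change Nat.card D + outInv H = _ at h6
    rw [mul_comm]
    have h8 : Nat.card D * (Nat.card H + 1) = Nat.card D * Nat.card H + Nat.card D := by ring
    omega
  have h2q : ∃ n, q = 2 ^ n := by
    have h3 : IsPGroup 2 (Subgroup.center H) := IsPGroup.to_subgroup h2 _
    exact IsPGroup.iff_card.1 h3
  rcases S2.2.2.1 with hsq | hcube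
  · obtain ⟨w, hw0, hw⟩ := sq_case hS hY hI hHm he hS' hodd hsq
    have hw : q = 2 * (w * w) := hw
    obtain ⟨n, hn⟩ := h2q
    obtain ⟨k, rfl⟩ : ∃ k, n = k + 1 := by
      refine ⟨n - 1, ?_⟩
      have : n ≠ 0 := by
        rintro rfl
        simp at hn
        omega
      omega
    have h3 : w * w = 2 ^ k := by
      have : 2 * (w * w) = 2 * 2 ^ k := by rw [← hw, hn, pow_succ]; ring
      omega
    have h4 : w ∣ 2 ^ k := ⟨w, h3.symm⟩
    obtain ⟨j, -, rfl⟩ := (Nat.dvd_prime_pow Nat.prime_two).1 h4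
    have h5 : 2 ^ (2 * j) = 2 ^ k := by
      rw [← h3]
      ring
    have h6 := Nat.pow_right_injective (le_refl 2) h5
    subst h6
    have hj : 1 ≤ j := by
      by_contra hcon
      have : j = 0 := by omega
      subst this
      simp at hn
      omega
    refine ⟨j, hj, ?_, ?_, ?_⟩
    · rw [hn]
    · rw [hsq, hn]
    · rw [← hq, hn]
  · exact (cube_case hS hY hI hHm he hS' hodd hcube h2q).elim

end

/-- A subgroup of a point stabiliser regular on the remaining points is the kernel. -/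
theorem eq_kernel_of_regular (hZ : IsZassenhausGroup G Ω) [Finite Ω] {a : Ω} (U : Subgroup G)
    (hUle : U ≤ stabilizer G a)
    (hreg : ∀ c d : Ω, c ≠ a → d ≠ a → ∃! u : U, (u : G) • c = d) : U = kernel hZ a := by
  haveI := finite_of_finite hZ
  obtain ⟨b, hb⟩ := exists_other hZ a
  apply eq_kernel hZ U hUle
  · have h1 : Nat.card U = Nat.card {c : Ω // c ≠ a} := by
      refine Nat.card_congr (Equiv.ofBijective (fun u : U => (⟨(u : G) • b, ?_⟩ : {c : Ω // c ≠ a})) ⟨?_, ?_⟩)
      · intro h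
        have h2 : (u : G) • a = a := hUle u.2
        have h3 : (u : G) • b = (u : G) • a := by rw [h, h2]
        exact hb (smul_left_cancel _ h3).symm
      · intro u v h
        have h2 : (u : G) • b = (v : G) • b := congrArg Subtype.val h
        exact (hreg b _ hb.symm (by
          intro h3
          have h4 : (v : G) • a = a := hUle v.2
          rw [← h4] at h3
          exact hb (smul_left_cancel _ h3).symm)).unique h2 rfl
      · intro c
        obtain ⟨u, hu, -⟩ := hreg b c.1 hb.symm c.2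
        exact ⟨u, Subtype.ext hu⟩
    rw [h1]
    haveI := Fintype.ofFinite Ω
    rw [Nat.card_eq_fintype_card, Nat.card_eq_fintype_card, Fintype.card_subtype]
    have h5 : (univ.filter fun x : Ω => x ≠ a) = univ.erase a := by
      ext x
      simp
    rw [h5, Finset.card_erase_of_mem (mem_univ _), Finset.card_univ]
    have : 0 < Fintype.card Ω := Fintype.card_pos_iff.2 ⟨a⟩
    omega
  · intro u hu hu1 c hc
    by_contra hca
    have h2 := (hreg c c hca hca).unique (y₁ := ⟨u, hu⟩) (y₂ := 1) hc (by simp)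
    exact hu1 (congrArg Subtype.val h2)

end Cfsg.Agent.Lib.Zass.SuzSetup
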