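import Mathlib
import Cfsg.Agent.Lib.Transfer.Frobenius
import Cfsg.Agent.Lib.Transfer.Basic

/-!
# Dihedral Sylow subgroups: elementary facts

Cyclic subgroups of index two of dihedral groups, and the normal two-complement of a group with a
dihedral Sylow 2-subgroup and a central involution in the cyclic part.
-/

set_option autoImplicit false
set_option linter.unusedSectionVars false
set_option linter.unreachableTactic false
set_option linter.unusedTactic false
set_option linter.style.haveILetI false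
set_option linter.unusedSimpArgs false

namespace Cfsg.Agent.Lib.Zass.BSWDih

open Subgroup Cfsg

universe u

section dih

open DihedralGroup

/-- In a dihedral group, the elements outside a cyclic subgroup of index two are involutions
inverting it. -/
theorem dih_out {n : ℕ} (hn : 2 ≤ n) (R : Subgroup (DihedralGroup n)) (hR : IsCyclic R)
    (hidx : R.index = 2) : ∀ x, x ∉ R → x * x = 1 ∧ ∀ y ∈ R, x * y * x⁻¹ = y⁻¹ := by
  by_cases h2 : n = 2
  · subst h2
    intro x _
    have h1 : ∀ x : DihedralGroup 2, x * x = 1 := by decide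
    have h3 : ∀ x y : DihedralGroup 2, x * y * x⁻¹ = y⁻¹ := by decide
    exact ⟨h1 x, fun y _ => h3 x y⟩
  · have hn3 : 3 ≤ n := by omega
    haveI : NeZero n := ⟨by omega⟩
    have hcard : Nat.card R = n := by
      have h3 := R.card_mul_index
      rw [hidx, DihedralGroup.nat_card] at h3
      omega
    obtain ⟨g, hg⟩ := hR.exists_generator
    have hgord : orderOf (g : DihedralGroup n) = n := by
      rw [Subgroup.orderOf_coe, orderOf_eq_card_of_forall_mem_zpowers hg, hcard]
    have hgrot : ∃ i, (g : DihedralGroup n) = r i := by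
      rcases hgv : (g : DihedralGroup n) with i | i
      · exact ⟨i, rfl⟩
      · exfalso
        rw [hgv, orderOf_sr] at hgord
        omega
    obtain ⟨i, hi⟩ := hgrot
    have hrot : ∀ y ∈ R, ∃ j, y = r j := by
      intro y hy
      obtain ⟨k, hk⟩ := Subgroup.mem_zpowers_iff.1 (hg ⟨y, hy⟩)
      have h3 : (g : DihedralGroup n) ^ k = y := congrArg Subtype.val hk
      rw [hi, r_zpow] at h3
      exact ⟨_, h3.symm⟩
    have hRle : R ≤ zpowers (r 1 : DihedralGroup n) := by
      intro y hy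
      obtain ⟨j, rfl⟩ := hrot y hy
      refine Subgroup.mem_zpowers_iff.2 ⟨(j.val : ℤ), ?_⟩
      rw [r_one_zpow]
      simp
    have hReq : R = zpowers (r 1 : DihedralGroup n) := by
      refine Subgroup.eq_of_le_of_card_ge hRle ?_
      rw [Nat.card_zpowers, orderOf_r_one, hcard]
    intro x hx
    rcases x with k | j
    · exfalso
      apply hx
      rw [hReq]
      refine Subgroup.mem_zpowers_iff.2 ⟨(k.val : ℤ), ?_⟩
      rw [r_one_zpow]
      simp
    · refine ⟨sr_mul_self j, fun y hy => ?_⟩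
      obtain ⟨l, rfl⟩ := hrot y hy
      rw [inv_sr, inv_r, sr_mul_r, sr_mul_sr]
      congr 1
      ring

/-- Existence of a cyclic subgroup of index two through a central involution. -/
theorem dih_exists_R {n : ℕ} (hn : 2 ≤ n) {t : DihedralGroup n} (htc : ∀ x, x * t = t * x) :
    ∃ R : Subgroup (DihedralGroup n), IsCyclic R ∧ orderOf t ∣ Nat.card R ∧ t ∈ R ∧
      (n = 2 → R = zpowers t) ∧ (n ≠ 2 → R = zpowers (r 1 : DihedralGroup n)) := by
  by_cases h2 : n = 2
  · refine ⟨zpowers t, inferInstance, ?_, mem_zpowers t, fun _ => rfl, fun h => absurd h2 h⟩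
    rw [Nat.card_zpowers]
  · have hn3 : 3 ≤ n := by omega
    haveI : NeZero n := ⟨by omega⟩
    have htr : ∃ k, t = r k := by
      rcases t with k | j
      · exact ⟨k, rfl⟩
      · exfalso
        have h3 := htc (r 1)
        rw [r_mul_sr, sr_mul_r] at h3
        have h4 : (j - 1 : ZMod n) = j + 1 := by
          injection h3
        have h5 : ((2 : ℕ) : ZMod n) = 0 := by
          push_cast
          linear_combination -h4
        rw [ZMod.natCast_eq_zero_iff] at h5
        have := Nat.le_of_dvd (by norm_num) h5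
        omega
    obtain ⟨k, rfl⟩ := htr
    have hmem : (r k : DihedralGroup n) ∈ zpowers (r 1 : DihedralGroup n) := by
      refine Subgroup.mem_zpowers_iff.2 ⟨(k.val : ℤ), ?_⟩
      rw [r_one_zpow]
      simp
    refine ⟨zpowers (r 1), inferInstance, ?_, hmem, fun h => absurd h h2, fun _ => rfl⟩
    exact Subgroup.orderOf_dvd_natCard _ hmem

end dih

variable {G : Type u} [Group G]

/-- Transport of `dih_out`. -/
theorem out_of_dih {S R : Subgroup G} {n : ℕ} (hn : 2 ≤ n) (e : S ≃* DihedralGroup n)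
    (hRS : R ≤ S) (hidx : R.relIndex S = 2) (hR : IsCyclic R) :
    ∀ x ∈ S, x ∉ R → x * x = 1 ∧ ∀ y ∈ R, x * y * x⁻¹ = y⁻¹ := by
  set R₁ : Subgroup (DihedralGroup n) := (R.subgroupOf S).comap e.symm.toMonoidHom with hR₁
  have hi : R₁.index = 2 := by
    rw [hR₁, Subgroup.index_comap_of_surjective _ e.symm.surjective]
    exact hidx
  have hmem : ∀ (x : G) (hx : x ∈ S), e ⟨x, hx⟩ ∈ R₁ ↔ x ∈ R := by
    intro x hx
    rw [hR₁, Subgroup.mem_comap]
    simp [Subgroup.mem_subgroupOf]
  have hcy : IsCyclic R₁ := by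
    let f : R →* R₁ :=
      { toFun := fun r => ⟨e ⟨r, hRS r.2⟩, (hmem _ _).2 r.2⟩
        map_one' := by
          apply Subtype.ext
          have : (⟨((1 : R) : G), hRS (1 : R).2⟩ : S) = 1 := rfl
          simp [this]
        map_mul' := by
          intro a b
          apply Subtype.ext
          show e ⟨((a * b : R) : G), _⟩ = e ⟨(a : G), _⟩ * e ⟨(b : G), _⟩
          rw [← map_mul]
          rfl }
    have hf : Function.Surjective f := by
      rintro ⟨y, hy⟩
      have h1 : ((e.symm y : S) : G) ∈ R := by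
        have := hy
        rw [hR₁, Subgroup.mem_comap] at this
        exact Subgroup.mem_subgroupOf.1 this
      refine ⟨⟨_, h1⟩, ?_⟩
      apply Subtype.ext
      show e ⟨((e.symm y : S) : G), _⟩ = y
      simp
    exact isCyclic_of_surjective f hf
  have key := dih_out hn R₁ hcy hi
  intro x hx hxR
  have hx1 : e ⟨x, hx⟩ ∉ R₁ := fun h => hxR ((hmem _ _).1 h)
  obtain ⟨h1, h2⟩ := key _ hx1
  constructor
  · have h3 : e (⟨x, hx⟩ * ⟨x, hx⟩) = 1 := by rw [map_mul, h1]
    have h4 : (⟨x, hx⟩ * ⟨x, hx⟩ : S) = 1 := by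
      apply e.injective
      rw [h3, map_one]
    exact congrArg Subtype.val h4
  · intro y hy
    have h3 := h2 (e ⟨y, hRS hy⟩) ((hmem _ _).2 hy)
    have h4 : e (⟨x, hx⟩ * ⟨y, hRS hy⟩ * ⟨x, hx⟩⁻¹) = e (⟨y, hRS hy⟩⁻¹) := by
      rw [map_mul, map_mul, map_inv, map_inv, h3]
    have h5 := e.injective h4
    exact congrArg Subtype.val h5

/-- A subgroup of relative index two, from the orders. -/
theorem relIndex_eq_two_of_card {S R : Subgroup G} (hRS : R ≤ S) [Finite S]
    (h : Nat.card S = 2 * Nat.card R) (hR : 0 < Nat.card R) : R.relIndex S = 2 := by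
  have h1 := (R.subgroupOf S).card_mul_index
  have h2 : Nat.card (R.subgroupOf S) = Nat.card R :=
    Nat.card_congr (Subgroup.subgroupOfEquivOfLe hRS).toEquiv
  rw [h2, h] at h1
  have h3 : Nat.card R * R.relIndex S = Nat.card R * 2 := by
    rw [mul_comm 2] at h1
    exact h1
  exact Nat.eq_of_mul_eq_mul_left hR h3

/-- Transport of `dih_exists_R`. -/
theorem exists_R_of_dih [Finite G] {S : Subgroup G} {n : ℕ} (hn : 2 ≤ n) (e : S ≃* DihedralGroup n)
    {t : G} (htS : t ∈ S) (ht : orderOf t = 2) (htc : ∀ s ∈ S, s * t = t * s) :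
    ∃ R : Subgroup G, R ≤ S ∧ R.relIndex S = 2 ∧ IsCyclic R ∧ t ∈ R := by
  have hcS : Nat.card S = 2 * n := by
    rw [Nat.card_congr e.toEquiv, DihedralGroup.nat_card]
  have htc' : ∀ x, x * e ⟨t, htS⟩ = e ⟨t, htS⟩ * x := by
    intro x
    obtain ⟨a, rfl⟩ := e.surjective x
    rw [← map_mul, ← map_mul]
    congr 1
    exact Subtype.ext (htc a a.2)
  obtain ⟨R₁, hcy, -, hmem, h2, h3⟩ := dih_exists_R hn htc'
  set R := (R₁.map e.symm.toMonoidHom).map S.subtype with hR
  have hRS : R ≤ S := by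
    rintro _ ⟨a, -, rfl⟩
    exact a.2
  have hRc : Nat.card R = Nat.card R₁ := by
    rw [hR, Nat.card_congr (Subgroup.equivMapOfInjective _ _ S.subtype_injective).toEquiv.symm,
      Nat.card_congr (Subgroup.equivMapOfInjective _ _ e.symm.injective).toEquiv.symm]
  have hmemR : t ∈ R := by
    refine ⟨⟨t, htS⟩, ⟨e ⟨t, htS⟩, hmem, ?_⟩, rfl⟩
    simp
  have hcyR : IsCyclic R := by
    let f : R₁ →* R := ((S.subtype.comp e.symm.toMonoidHom).comp R₁.subtype).codRestrict R (by
      intro x
      exact ⟨e.symm x, ⟨x, x.2, rfl⟩, rfl⟩)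
    have hf : Function.Surjective f := by
      rintro ⟨y, hy⟩
      obtain ⟨a, ⟨b, hb, rfl⟩, rfl⟩ := hy
      exact ⟨⟨b, hb⟩, rfl⟩
    exact isCyclic_of_surjective f hf
  refine ⟨R, hRS, ?_, hcyR, hmemR⟩
  have hR1c : Nat.card R₁ = n := by
    by_cases h : n = 2
    · rw [h2 h, Nat.card_zpowers]
      have h4 : orderOf (e ⟨t, htS⟩) = 2 := by
        rw [MulEquiv.orderOf_eq e, Subgroup.orderOf_mk, ht]
      rw [h4, h]
    · rw [h3 h, Nat.card_zpowers, DihedralGroup.orderOf_r_one]
  have hn0 : 0 < n := by omega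
  refine relIndex_eq_two_of_card hRS ?_ ?_
  · rw [hRc, hR1c, hcS]
  · rw [hRc, hR1c]
    exact hn0

section frob

variable {Γ : Type u} [Group Γ] [Finite Γ]

/-- An element of order prime to `2` normalizing a cyclic `2`-subgroup centralizes it. -/
theorem comm_of_cyclic {A : Subgroup Γ} (hcy : IsCyclic A) (hp : IsPGroup 2 A) {g : Γ}
    (hg : g ∈ normalizer (A : Set Γ)) (hc : Nat.Coprime (orderOf g) 2) {a : Γ} (ha : a ∈ A) :
    g * a = a * g := by
  have hF : Fact (Nat.Prime 2) := ⟨Nat.prime_two⟩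
  obtain ⟨k, hk⟩ := hp.exists_card_eq
  set f := A.normalizerMonoidHom ⟨g, hg⟩ with hf
  have h1 : f ^ orderOf g = 1 := by
    rw [hf, ← map_pow]
    have : (⟨g, hg⟩ : normalizer (A : Set Γ)) ^ orderOf g = 1 :=
      Subtype.ext (by simpa using pow_orderOf_eq_one g)
    rw [this, map_one]
  have h2 : orderOf f ∣ orderOf g := orderOf_dvd_of_pow_eq_one h1
  have h3 : orderOf f ∣ Nat.totient (Nat.card A) := by
    rw [← IsCyclic.card_mulAut]
    exact orderOf_dvd_natCard f
  have h4 : Nat.Coprime (orderOf g) (Nat.totient (Nat.card A)) := by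
    rw [hk]
    rcases k with _ | k
    · simp
    · rw [Nat.totient_prime_pow_succ Nat.prime_two]
      simp only [Nat.add_one_sub_one, pow_one, mul_one]
      exact Nat.Coprime.pow_right _ hc
  have h5 : orderOf f = 1 := Nat.eq_one_of_dvd_coprimes h4 h2 h3
  have h6 : f = 1 := orderOf_eq_one_iff.1 h5
  have h7 : f ⟨a, ha⟩ = ⟨a, ha⟩ := by rw [h6]; rfl
  have h8 : g * a * g⁻¹ = a := congrArg Subtype.val h7
  calc g * a = g * a * g⁻¹ * g := by group
    _ = a * g := by rw [h8]

/-- **A group with a dihedral Sylow `2`-subgroup and a central involution in the cyclic part has a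
normal `2`-complement.** -/
theorem normal_complement (S₁ : Sylow 2 Γ) (R₁ : Subgroup Γ) (hRS : R₁ ≤ S₁)
    (hidx : R₁.relIndex S₁ = 2) (hcyc : IsCyclic R₁)
    (hout : ∀ x ∈ (S₁ : Subgroup Γ), x ∉ R₁ → x * x = 1) {τ : Γ} (hτ : τ ∈ R₁) (hτ2 : orderOf τ = 2)
    (hτc : ∀ g, g * τ = τ * g) : HasNormalPComplement 2 Γ := by
  classical
  have hF : Fact (Nat.Prime 2) := ⟨Nat.prime_two⟩
  have hR2 : IsPGroup 2 R₁ := S₁.isPGroup'.to_le hRS
  -- unique involution in `R₁`
  have huniq : ∀ y ∈ R₁, y * y = 1 → y = 1 ∨ y = τ := by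
    intro y hy hyy
    by_contra hcon
    push Not at hcon
    have hF' : Fintype R₁ := Fintype.ofFinite _
    have h1 := IsCyclic.card_pow_eq_one_le (α := R₁) (n := 2) (by norm_num)
    have hsub : ({1, ⟨τ, hτ⟩, ⟨y, hy⟩} : Finset R₁) ⊆ Finset.univ.filter fun a : R₁ => a ^ 2 = 1 := by
      intro a ha
      simp only [Finset.mem_insert, Finset.mem_singleton] at ha
      simp only [Finset.mem_filter, Finset.mem_univ, true_and]
      rcases ha with rfl | rfl | rfl
      · exact one_pow _
      · apply Subtype.ext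
        have := pow_orderOf_eq_one τ
        rw [hτ2] at this
        simpa using this
      · apply Subtype.ext
        simpa [pow_two] using hyy
    have hcard3 : ({1, ⟨τ, hτ⟩, ⟨y, hy⟩} : Finset R₁).card = 3 := by
      have h01 : (1 : R₁) ≠ ⟨τ, hτ⟩ := by
        intro h
        have h2 : (1 : Γ) = τ := congrArg Subtype.val h
        rw [← h2, orderOf_one] at hτ2
        omega
      have h02 : (1 : R₁) ≠ ⟨y, hy⟩ := by
        intro h
        exact hcon.1 (congrArg Subtype.val h).symm
      have h12 : (⟨τ, hτ⟩ : R₁) ≠ ⟨y, hy⟩ := by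
        intro h
        exact hcon.2 (congrArg Subtype.val h).symm
      rw [Finset.card_insert_of_notMem, Finset.card_insert_of_notMem, Finset.card_singleton]
      · simpa using h12
      · simp only [Finset.mem_insert, Finset.mem_singleton]
        push Not
        exact ⟨h01, h02⟩
    have h3 := Finset.card_le_card hsub
    have h4 : (Finset.univ.filter fun a : R₁ => a ^ 2 = 1).card ≤ 2 := by
      convert h1
    omega
  refine Cfsg.Agent.Lib.Transfer.Frobenius.hasNormalPComplement_of_hyp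
    (Cfsg.Agent.Lib.Transfer.Frobenius.frobeniusHyp_of_sylow S₁ ?_)
  intro Q hQ g hg hc
  set A := Q ⊓ R₁ with hA
  -- `g` normalizes `A`
  have hnorm : ∀ h : Γ, h ∈ normalizer (Q : Set Γ) → ∀ y ∈ A, h * y * h⁻¹ ∈ A := by
    intro h hh y hy
    have hzQ : h * y * h⁻¹ ∈ Q := (Subgroup.mem_normalizer_iff.1 hh y).1 hy.1
    refine ⟨hzQ, ?_⟩
    by_contra hzR
    have hz2 := hout _ (hQ hzQ) hzR
    have hy2 : y * y = 1 := by
      have h1 : h * (y * y) * h⁻¹ = (h * y * h⁻¹) * (h * y * h⁻¹) := by group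
      rw [hz2] at h1
      have h2 : y * y = h⁻¹ * (h * (y * y) * h⁻¹) * h := by group
      rw [h2, h1]
      group
    rcases huniq y hy.2 hy2 with rfl | rfl
    · apply hzR
      simp [R₁.one_mem]
    · apply hzR
      have h3 : h * y * h⁻¹ = y := by
        rw [hτc h]
        group
      rw [h3]
      exact hτ
  have hgN : g ∈ normalizer (A : Set Γ) := by
    rw [Subgroup.mem_normalizer_iff]
    intro y
    constructor
    · exact hnorm g hg y
    · intro h
      have := hnorm g⁻¹ (inv_mem hg) _ h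
      have h2 : g⁻¹ * (g * y * g⁻¹) * g⁻¹⁻¹ = y := by group
      rwa [h2] at this
  have hAcy : IsCyclic A := by
    have : IsCyclic (A.subgroupOf R₁) := inferInstance
    exact isCyclic_of_surjective (Subgroup.subgroupOfEquivOfLe (inf_le_right : A ≤ R₁)).toMonoidHom
      (MulEquiv.surjective _)
  have hA2 : IsPGroup 2 A := hR2.to_le inf_le_right
  have hcomA : ∀ a ∈ A, g * a = a * g := fun a ha => comm_of_cyclic hAcy hA2 hgN hc ha
  -- index two
  have hi2 : (R₁.subgroupOf (S₁ : Subgroup Γ)).index = 2 := hidx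
  have hprod : ∀ x ∈ (S₁ : Subgroup Γ), ∀ z ∈ (S₁ : Subgroup Γ), x ∉ R₁ → z ∉ R₁ → x⁻¹ * z ∈ R₁ := by
    intro x hx z hz hxR hzR
    have h1 := Subgroup.mul_mem_iff_of_index_two hi2 (a := (⟨x, hx⟩ : (S₁ : Subgroup Γ))⁻¹)
      (b := ⟨z, hz⟩)
    have h2 : ((⟨x, hx⟩ : (S₁ : Subgroup Γ))⁻¹ * ⟨z, hz⟩ ∈ R₁.subgroupOf (S₁ : Subgroup Γ)) ↔ x⁻¹ * z ∈ R₁ := by
      rw [Subgroup.mem_subgroupOf]
      simp
    have h3 : ((⟨x, hx⟩ : (S₁ : Subgroup Γ))⁻¹ ∈ R₁.subgroupOf (S₁ : Subgroup Γ)) ↔ x ∈ R₁ := by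
      rw [Subgroup.mem_subgroupOf]
      simp
    have h4 : ((⟨z, hz⟩ : (S₁ : Subgroup Γ)) ∈ R₁.subgroupOf (S₁ : Subgroup Γ)) ↔ z ∈ R₁ := by
      rw [Subgroup.mem_subgroupOf]
    rw [h2, h3, h4] at h1
    rw [h1]
    simp [hxR, hzR]
  rw [Subgroup.mem_centralizer_iff]
  intro x hx
  by_cases hxR : x ∈ R₁
  · exact (hcomA x ⟨hx, hxR⟩).symm
  · set z := g * x * g⁻¹ with hz
    have hzQ : z ∈ Q := (Subgroup.mem_normalizer_iff.1 hg x).1 hx
    have hzR : z ∉ R₁ := by
      intro h
      apply hxR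
      have h1 := hcomA z ⟨hzQ, h⟩
      have h2 : x = g⁻¹ * z * g := by rw [hz]; group
      have h3 : g⁻¹ * z * g = z := by
        rw [mul_assoc, ← h1]
        group
      rw [h2, h3]
      exact h
    set a := x⁻¹ * z with ha
    have haA : a ∈ A := Subgroup.mem_inf.2 ⟨mul_mem (inv_mem hx) hzQ, hprod x (hQ hx) z (hQ hzQ) hxR hzR⟩
    have hzeq : z = x * a := by rw [ha]; group
    have hpow : ∀ m : ℕ, g ^ m * x * (g ^ m)⁻¹ = x * a ^ m := by
      intro m
      induction m with
      | zero => simp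
      | succ m ih =>
        have h1 : g ^ (m + 1) * x * (g ^ (m + 1))⁻¹ = g ^ m * (g * x * g⁻¹) * (g ^ m)⁻¹ := by
          rw [pow_succ]
          group
        rw [h1, ← hz, hzeq]
        have h2 : ∀ b ∈ A, g ^ m * b = b * g ^ m := by
          intro b hb
          have hm : Commute g b := hcomA b hb
          exact (hm.pow_left m)
        calc g ^ m * (x * a) * (g ^ m)⁻¹ = (g ^ m * x * (g ^ m)⁻¹) * (g ^ m * a * (g ^ m)⁻¹) := by group
          _ = x * a ^ m * a := by
              rw [ih, h2 a haA]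
              group
          _ = x * a ^ (m + 1) := by rw [pow_succ]; group
    have h1 := hpow (orderOf g)
    rw [pow_orderOf_eq_one] at h1
    have h2 : a ^ orderOf g = 1 := by
      have h3 : x = x * a ^ orderOf g := by
        rw [← h1]
        group
      exact (mul_eq_left.1 h3.symm)
    have h3 : a = 1 := by
      obtain ⟨k, hk⟩ := hA2 ⟨a, haA⟩
      have h4 : a ^ 2 ^ k = 1 := congrArg Subtype.val hk
      have h5 := orderOf_dvd_of_pow_eq_one h2
      have h6 := orderOf_dvd_of_pow_eq_one h4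
      have h7 : Nat.Coprime (orderOf g) (2 ^ k) := Nat.Coprime.pow_right _ hc
      rw [← orderOf_eq_one_iff]
      exact Nat.eq_one_of_dvd_coprimes h7 h5 h6
    have h4 : z = x := by rw [hzeq, h3, mul_one]
    have h5 : g * x * g⁻¹ = x := h4
    calc x * g = g * x * g⁻¹ * g := by rw [h5]
      _ = g * x := by group

end frob

end Cfsg.Agent.Lib.Zass.BSWDih
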