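import Mathlib
import Cfsg.Agent.Lib.Zass.BSWEnd
import Cfsg.Agent.S0731

/-!
# From the Brauer–Suzuki–Wall conclusion to `PSL₂`

A simple group with a self-centralizing subgroup `Q` of order `q` with `2 |G| = q (q² - 1)`,
`N(Q) = Q ⋊ D`, `2 |D| + 1 = q`, is a Zassenhaus group on the `q + 1` cosets of `N(Q)`, hence
isomorphic to `PSL₂(K)`.
-/

set_option autoImplicit false
set_option linter.unusedSectionVars false
set_option linter.unreachableTactic false
set_option linter.unusedTactic false

namespace Cfsg.Agent.Lib.Zass.BSWPSL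

open MulAction Subgroup Cfsg Cfsg.Agent.Lib.Zass.BSWGroup

universe u

variable {G : Type u} [Group G] [Finite G] {Q D : Subgroup G}

theorem card_sup_of (hN : normalizer (Q : Set G) = Q ⊔ D) (hQD : Q ⊓ D = ⊥) :
    Nat.card (Q ⊔ D : Subgroup G) = Nat.card Q * Nat.card D := by
  have hle : D ≤ normalizer (Q : Set G) := by
    rw [hN]
    exact le_sup_right
  have hset := coe_mul_of_right_le_normalizer_left Q D hle
  let f : Q × D → (Q ⊔ D : Subgroup G) := fun p =>
    ⟨(p.1 : G) * p.2, mul_mem (mem_sup_left p.1.2) (mem_sup_right p.2.2)⟩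
  have hinj : Function.Injective f := by
    rintro ⟨a, b⟩ ⟨c, d⟩ h
    have h1 : (a : G) * b = c * d := congrArg Subtype.val h
    have h2 : (c : G)⁻¹ * a = d * (b : G)⁻¹ := by
      calc (c : G)⁻¹ * a = (c : G)⁻¹ * ((a : G) * b) * (b : G)⁻¹ := by group
        _ = (c : G)⁻¹ * ((c : G) * d) * (b : G)⁻¹ := by rw [h1]
        _ = d * (b : G)⁻¹ := by group
    have h3 : (c : G)⁻¹ * a ∈ Q ⊓ D :=
      Subgroup.mem_inf.2 ⟨mul_mem (inv_mem c.2) a.2, by rw [h2]; exact mul_mem d.2 (inv_mem b.2)⟩
    rw [hQD, mem_bot] at h3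
    have h4 : (a : G) = c := by
      have := inv_mul_eq_one.1 h3
      exact this.symm
    have h5 : (b : G) = d := by
      rw [h4] at h1
      exact mul_left_cancel h1
    exact Prod.ext (Subtype.ext h4) (Subtype.ext h5)
  have hsurj : Function.Surjective f := by
    rintro ⟨x, hx⟩
    have h1 : x ∈ ((Q ⊔ D : Subgroup G) : Set G) := hx
    rw [hset] at h1
    obtain ⟨a, ha, b, hb, rfl⟩ := Set.mem_mul.1 h1
    exact ⟨(⟨a, ha⟩, ⟨b, hb⟩), rfl⟩
  rw [← Nat.card_prod]
  exact (Nat.card_congr (Equiv.ofBijective f ⟨hinj, hsurj⟩)).symm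

theorem pow_mul_mem {a d : G} (ha : a ∈ Q) (hd : d ∈ normalizer (Q : Set G)) (n : ℕ) :
    ∃ a' ∈ Q, (a * d) ^ n = a' * d ^ n := by
  induction n with
  | zero => exact ⟨1, Q.one_mem, by simp⟩
  | succ n ih =>
    obtain ⟨a', ha', h⟩ := ih
    have hdn : d ^ n ∈ normalizer (Q : Set G) := pow_mem hd n
    refine ⟨a' * (d ^ n * a * (d ^ n)⁻¹), mul_mem ha' (conj_mem_of_normalizer hdn ha), ?_⟩
    rw [pow_succ, h, pow_succ]
    group

/-- Elements of `N(Q)` of order dividing `|Q|` lie in `Q`. -/
theorem mem_of_pow_eq_one (hN : normalizer (Q : Set G) = Q ⊔ D) (hQD : Q ⊓ D = ⊥)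
    (hcop : Nat.Coprime (Nat.card Q) (Nat.card D)) {y : G} (hy : y ∈ normalizer (Q : Set G))
    (hy1 : y ^ Nat.card Q = 1) : y ∈ Q := by
  have hle : D ≤ normalizer (Q : Set G) := by
    rw [hN]
    exact le_sup_right
  have hset := coe_mul_of_right_le_normalizer_left Q D hle
  rw [hN] at hy
  have h1 : y ∈ ((Q ⊔ D : Subgroup G) : Set G) := hy
  rw [hset] at h1
  obtain ⟨a, ha, d, hd, rfl⟩ := Set.mem_mul.1 h1
  obtain ⟨a', ha', h2⟩ := pow_mul_mem ha (hle hd) (Nat.card Q)
  rw [h2] at hy1
  have h3 : d ^ Nat.card Q = a'⁻¹ := eq_inv_of_mul_eq_one_right hy1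
  have h4 : d ^ Nat.card Q ∈ Q ⊓ D := Subgroup.mem_inf.2 ⟨by rw [h3]; exact inv_mem ha', pow_mem hd _⟩
  rw [hQD, mem_bot] at h4
  have h5 : d = 1 := by
    rw [← orderOf_eq_one_iff, ← Nat.dvd_one]
    have h6 : orderOf d ∣ Nat.card Q := orderOf_dvd_of_pow_eq_one h4
    have h7 : orderOf d ∣ Nat.card D := Subgroup.orderOf_dvd_natCard D hd
    have h8 := Nat.dvd_gcd h6 h7
    rwa [Nat.Coprime.gcd_eq_one hcop] at h8
  rw [h5, mul_one]
  exact ha

/-- The action on cosets of the normalizer: trivial intersection. -/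
theorem eq_one_of_fix (hQx : ∀ x ∈ Q, x ≠ 1 → centralizer ({x} : Set G) = Q)
    (hN : normalizer (Q : Set G) = Q ⊔ D) (hQD : Q ⊓ D = ⊥)
    (hcop : Nat.Coprime (Nat.card Q) (Nat.card D)) {x g : G} (hx : x ∈ Q)
    (hg : g⁻¹ * x * g ∈ normalizer (Q : Set G)) (hgW : g ∉ normalizer (Q : Set G)) : x = 1 := by
  by_contra hx1
  have h1 : (g⁻¹ * x * g) ^ Nat.card Q = 1 := by
    have h2 : x ^ Nat.card Q = 1 := by
      rw [← orderOf_dvd_iff_pow_eq_one]
      exact Subgroup.orderOf_dvd_natCard Q hx
    have h3 := conj_pow (a := g⁻¹) (b := x) (i := Nat.card Q)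
    rw [inv_inv] at h3
    rw [h3, h2]
    group
  have h2 := mem_of_pow_eq_one hN hQD hcop hg h1
  apply hgW
  refine mem_normalizer_of_conj hQx h2 ?_ ?_
  · intro h
    apply hx1
    have h3 : x = g * (g⁻¹ * x * g) * g⁻¹ := by group
    rw [h3, h]
    group
  · have h3 : g * (g⁻¹ * x * g) * g⁻¹ = x := by group
    rw [h3]
    exact hx

/-- There is no simple group of order `12`. -/
theorem not_simple_twelve [IsSimpleGroup G] (h12 : Nat.card G = 12) : False := by
  have hF : Fact (Nat.Prime 2) := ⟨Nat.prime_two⟩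
  obtain ⟨S⟩ : Nonempty (Sylow 2 G) := inferInstance
  obtain ⟨k, hk⟩ := S.isPGroup'.exists_card_eq
  have h1 := (S : Subgroup G).card_mul_index
  rw [h12, hk] at h1
  have h2 : ¬ 2 ∣ (S : Subgroup G).index := S.not_dvd_index
  have hk4 : 2 ^ k = 4 := by
    have hk3 : k ≤ 3 := by
      by_contra hk3
      have h3 : 2 ^ 4 ∣ 2 ^ k := pow_dvd_pow 2 (by omega)
      have h4 : 2 ^ k ∣ 12 := Dvd.intro _ h1
      have h5 := h3.trans h4
      norm_num at h5
    interval_cases k <;> omega
  have hidx : (S : Subgroup G).index = 3 := by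
    rw [hk4] at h1
    omega
  have hcards : Nat.card (Sylow 2 G) ∣ 3 := by
    rw [← hidx]
    exact S.card_dvd_index
  let φ := MulAction.toPermHom G (Sylow 2 G)
  have hne : (S : Subgroup G) ≠ ⊤ := by
    intro h
    rw [h, Subgroup.index_top] at hidx
    omega
  have hne2 : (S : Subgroup G) ≠ ⊥ := by
    intro h
    rw [h, Subgroup.card_bot] at hk
    rw [hk4] at hk
    omega
  rcases (inferInstance : φ.ker.Normal).eq_bot_or_eq_top with h | h
  · -- faithful: `G` embeds into a symmetric group on at most three points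
    have hinj : Function.Injective φ := (MonoidHom.ker_eq_bot_iff φ).1 h
    have h3 : Nat.card (Sylow 2 G) = 1 ∨ Nat.card (Sylow 2 G) = 3 :=
      (Nat.dvd_prime Nat.prime_three).1 hcards
    have h4 : Nat.card G ≤ Nat.card (Equiv.Perm (Sylow 2 G)) := Nat.card_le_card_of_injective φ hinj
    rw [Nat.card_perm, h12] at h4
    rcases h3 with h3 | h3 <;> rw [h3] at h4 <;> simp [Nat.factorial] at h4
  · -- trivial action: the Sylow subgroup is normal
    have h3 : (S : Subgroup G).Normal := by
      have h4 : normalizer ((S : Subgroup G) : Set G) = ⊤ := by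
        rw [eq_top_iff]
        intro g _
        have h5 : g ∈ φ.ker := by
          rw [h]
          exact mem_top g
        have h6 : φ g S = S := by
          rw [MonoidHom.mem_ker.1 h5]
          rfl
        exact Sylow.smul_eq_iff_mem_normalizer.1 h6
      exact Subgroup.normalizer_eq_top_iff.1 h4
    rcases h3.eq_bot_or_eq_top with h4 | h4
    · exact hne2 h4
    · exact hne h4

section main

variable [IsSimpleGroup G]

/-- A simple group with the Brauer–Suzuki–Wall configuration is `PSL₂`. -/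
theorem psl_of_goal (hcard : 2 * Nat.card G = Nat.card Q * (Nat.card Q + 1) * (Nat.card Q - 1))
    (hQx : ∀ x ∈ Q, x ≠ 1 → centralizer ({x} : Set G) = Q)
    (hD : 2 * Nat.card D + 1 = Nat.card Q) (hQD : Q ⊓ D = ⊥)
    (hN : normalizer (Q : Set G) = Q ⊔ D) :
    ∃ (K : Type) (_ : Field K) (_ : Fintype K), ringChar K ≠ 2 ∧
      Nonempty (G ≃* Matrix.ProjectiveSpecialLinearGroup (Fin 2) K) := by
  classical
  have hsup := card_sup_of hN hQD
  set e := Nat.card D with he
  set q := Nat.card Q with hq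
  have he0 : 0 < e := Nat.card_pos
  have hq0 : 0 < q := Nat.card_pos
  have hcop : Nat.Coprime q e := by
    rw [← hD, ← Nat.isCoprime_iff_coprime]
    exact ⟨1, -2, by push_cast; ring⟩
  have he2 : 2 ≤ e := by
    by_contra h
    have h1 : e = 1 := by omega
    have h2 : q = 3 := by omega
    rw [h2] at hcard
    exact not_simple_twelve (G := G) (by omega)
  set W := normalizer (Q : Set G) with hW
  have hcardW : Nat.card W = q * e := by
    rw [hN]
    exact hsup
  have hindex : W.index = q + 1 := by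
    have h1 := W.index_mul_card
    rw [hcardW] at h1
    have h2 : (2 * (q * e)) * W.index = (2 * (q * e)) * (q + 1) := by
      have h3 : q - 1 = 2 * e := by omega
      rw [h3] at hcard
      calc (2 * (q * e)) * W.index = 2 * (W.index * (q * e)) := by ring
        _ = q * (q + 1) * (2 * e) := by rw [h1, hcard]
        _ = (2 * (q * e)) * (q + 1) := by ring
    exact Nat.eq_of_mul_eq_mul_left (Nat.mul_pos (by norm_num) (Nat.mul_pos hq0 he0)) h2
  let Ω := G ⧸ W
  let o : Ω := ((1 : G) : G ⧸ W)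
  have hfin : Finite Ω := inferInstance
  have hcardΩ : Nat.card Ω = q + 1 := by
    rw [← hindex]
    rfl
  have hstab : ∀ g : G, g • o = o ↔ g ∈ W := by
    intro g
    have h1 : g • o = ((g * 1 : G) : G ⧸ W) := rfl
    rw [h1, eq_comm, QuotientGroup.eq]
    simp
  have hfree : ∀ x ∈ Q, ∀ p : Ω, p ≠ o → x • p = p → x = 1 := by
    intro x hx p hp hfix
    obtain ⟨g, rfl⟩ := MulAction.exists_smul_eq G o p
    have hg : g ∉ W := fun h => hp ((hstab g).2 h)
    refine eq_one_of_fix hQx hN hQD (by rwa [← hq, ← he]) hx ?_ hg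
    rw [← hstab]
    have h1 : (g⁻¹ * x * g) • o = g⁻¹ • (x • (g • o)) := by
      rw [mul_smul, mul_smul]
    rw [h1, hfix, inv_smul_smul]
  have hQW : ∀ x ∈ Q, x • o = o := fun x hx => (hstab x).2 (Subgroup.le_normalizer hx)
  have hbij : ∀ (p : Ω) (hp : p ≠ o), Function.Bijective (fun u : Q => (⟨(u : G) • p, by
      intro h
      apply hp
      have h2 := congrArg (fun z => (u : G)⁻¹ • z) h
      simp only [inv_smul_smul] at h2
      rw [h2]
      exact hQW _ (inv_mem u.2)⟩ : {r : Ω // r ≠ o})) := by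
    intro p hp
    refine Function.Injective.bijective_of_nat_card_le ?_ ?_
    · intro u v huv
      have h1 : (u : G) • p = (v : G) • p := congrArg Subtype.val huv
      have h2 : ((v : G)⁻¹ * u) • p = p := by rw [mul_smul, h1, inv_smul_smul]
      have h3 := hfree _ (mul_mem (inv_mem v.2) u.2) p hp h2
      exact Subtype.ext (inv_mul_eq_one.1 h3).symm
    · have h3 : Nat.card (Option {r : Ω // r ≠ o}) = Nat.card Ω :=
        Nat.card_congr (Equiv.optionSubtypeNe o)
      rw [Finite.card_option, hcardΩ] at h3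
      rw [← hq]
      omega
  have hreg : ∀ y z : Ω, y ≠ o → z ≠ o → ∃! u : Q, (u : G) • y = z := by
    intro y z hy hz
    obtain ⟨u, hu⟩ := (hbij y hy).2 ⟨z, hz⟩
    refine ⟨u, congrArg Subtype.val hu, ?_⟩
    intro v hv
    apply (hbij y hy).1
    exact Subtype.ext (by simpa using hv.trans (congrArg Subtype.val hu).symm)
  have h2tr : IsMultiplyPretransitive G Ω 2 := by
    rw [is_two_pretransitive_iff]
    intro a b c d hab hcd
    obtain ⟨g₁, hg₁⟩ := MulAction.exists_smul_eq G a o
    obtain ⟨g₂, hg₂⟩ := MulAction.exists_smul_eq G c o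
    have hb : g₁ • b ≠ o := by
      intro h
      apply hab
      rw [← hg₁] at h
      exact (smul_left_cancel _ h).symm
    have hd : g₂ • d ≠ o := by
      intro h
      apply hcd
      rw [← hg₂] at h
      exact (smul_left_cancel _ h).symm
    obtain ⟨u, hu, -⟩ := hreg _ _ hb hd
    refine ⟨g₂⁻¹ * u * g₁, ?_, ?_⟩
    · rw [mul_smul, mul_smul, hg₁, hQW _ u.2, ← hg₂, inv_smul_smul]
    · rw [mul_smul, mul_smul, hu, inv_smul_smul]
  have hthree : ∀ g : G, ∀ a b c : Ω, a ≠ b → b ≠ c → a ≠ c → g • a = a → g • b = b → g • c = c →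
      g = 1 := by
    intro g a b c hab hbc hac ha hb hc
    obtain ⟨g₁, hg₁⟩ := MulAction.exists_smul_eq G a o
    set x := g₁ * g * g₁⁻¹ with hx
    have hxa : ∀ r : Ω, g • r = r → x • (g₁ • r) = g₁ • r := by
      intro r hr
      rw [hx, mul_smul, mul_smul, inv_smul_smul, hr]
    have hxo : x ∈ W := by
      rw [← hstab, ← hg₁]
      exact hxa a ha
    have hb' : g₁ • b ≠ o := by
      intro h
      apply hab
      rw [← hg₁] at h
      exact (smul_left_cancel _ h).symm
    have hc' : g₁ • c ≠ o := by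
      intro h
      apply hac
      rw [← hg₁] at h
      exact (smul_left_cancel _ h).symm
    obtain ⟨u, hu, -⟩ := hreg _ _ hb' hc'
    have hconj : x * u * x⁻¹ ∈ Q := conj_mem_of_normalizer hxo u.2
    have hu1 : (u : G) ≠ 1 := by
      intro h
      rw [h, one_smul] at hu
      exact hbc (smul_left_cancel _ hu)
    have hsame : (x * u * x⁻¹) • (g₁ • b) = (u : G) • (g₁ • b) := by
      have h1 : x⁻¹ • (g₁ • b) = g₁ • b := by
        rw [inv_smul_eq_iff, hxa b hb]
      rw [mul_smul, mul_smul, h1, hu, hxa c hc]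
    have h2 : x * u * x⁻¹ = u := by
      have h3 : ((u : G)⁻¹ * (x * u * x⁻¹)) • (g₁ • b) = g₁ • b := by
        rw [mul_smul, hsame, inv_smul_smul]
      have h4 := hfree _ (mul_mem (inv_mem u.2) hconj) _ hb' h3
      exact (inv_mul_eq_one.1 h4).symm
    have hxQ : x ∈ Q := by
      rw [← hQx _ u.2 hu1, mem_centralizer_singleton_iff]
      calc x * u = x * u * x⁻¹ * x := by group
        _ = u * x := by rw [h2]
    have hx1 := hfree x hxQ _ hb' (hxa b hb)
    rw [hx] at hx1
    have h5 : g = g₁⁻¹ * (g₁ * g * g₁⁻¹) * g₁ := by group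
    rw [h5, hx1]
    group
  have hnontriv : ∃ g : G, g ≠ 1 ∧ ∃ a b : Ω, a ≠ b ∧ g • a = a ∧ g • b = b := by
    obtain ⟨p, hp⟩ : ∃ p : Ω, p ≠ o := by
      by_contra h
      push_neg at h
      have h1 : Nat.card Ω = 1 := Nat.card_eq_one_iff_unique.2 ⟨⟨fun a b => by rw [h a, h b]⟩, ⟨o⟩⟩
      have hq0 : 0 < q := Nat.card_pos
      omega
    let f : W → {r : Ω // r ≠ o} := fun w => ⟨(w : G) • p, by
      intro h
      apply hp
      have h2 := congrArg (fun z => (w : G)⁻¹ • z) h
      simp only [inv_smul_smul] at h2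
      rw [h2]
      exact (hstab _).2 (inv_mem w.2)⟩
    have h3 : Nat.card (Option {r : Ω // r ≠ o}) = Nat.card Ω :=
      Nat.card_congr (Equiv.optionSubtypeNe o)
    rw [Finite.card_option, hcardΩ] at h3
    have hlt : Nat.card {r : Ω // r ≠ o} < Nat.card W := by
      rw [hcardW]
      have hq0 : 0 < q := Nat.card_pos
      nlinarith
    have hninj : ¬ Function.Injective f := fun h => absurd (Nat.card_le_card_of_injective f h) (by omega)
    obtain ⟨v, w, hf, hvw⟩ := Function.not_injective_iff.1 hninj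
    have h4 : (v : G) • p = (w : G) • p := congrArg Subtype.val hf
    refine ⟨(w : G)⁻¹ * v, ?_, o, p, hp.symm, ?_, ?_⟩
    · intro h
      apply hvw
      exact Subtype.ext (inv_mul_eq_one.1 h).symm
    · rw [hstab]
      exact mul_mem (inv_mem w.2) v.2
    · rw [mul_smul, h4, inv_smul_smul]
  have hWne : W ≠ ⊤ := by
    intro h
    rw [h, Subgroup.index_top] at hindex
    have hq0 : 0 < q := Nat.card_pos
    omega
  have hfaith : FaithfulSMul G Ω := by
    let φ := MulAction.toPermHom G Ω
    rcases (inferInstance : φ.ker.Normal).eq_bot_or_eq_top with h | h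
    · refine ⟨fun {a b} hab => ?_⟩
      have hinj : Function.Injective φ := (MonoidHom.ker_eq_bot_iff φ).1 h
      apply hinj
      exact Equiv.ext hab
    · exfalso
      apply hWne
      rw [eq_top_iff]
      intro g _
      have h5 : g ∈ φ.ker := by
        rw [h]
        exact mem_top g
      have h6 : φ g o = o := by
        rw [MonoidHom.mem_ker.1 h5]
        rfl
      exact (hstab g).1 h6
  have hZ : IsZassenhausGroup G Ω := by
    refine ⟨hfaith, h2tr, hthree, hnontriv, ?_⟩
    intro N hNn hNt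
    rcases hNn.eq_bot_or_eq_top with h | h
    · exfalso
      subst h
      obtain ⟨p, hp⟩ : ∃ p : Ω, p ≠ o := by
        by_contra h
        push_neg at h
        have h1 : Nat.card Ω = 1 := Nat.card_eq_one_iff_unique.2 ⟨⟨fun a b => by rw [h a, h b]⟩, ⟨o⟩⟩
        have hq0 : 0 < q := Nat.card_pos
        omega
      obtain ⟨⟨u, hu⟩, hup⟩ := hNt.exists_smul_eq o p
      rw [mem_bot] at hu
      apply hp
      rw [← hup]
      subst hu
      exact one_smul G o
    · refine ⟨o, ?_⟩
      obtain ⟨g, hg1, a, b, hab, ha, hb⟩ := hnontriv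
      obtain ⟨g₁, hg₁⟩ := MulAction.exists_smul_eq G a o
      intro hbot
      have hgN : g₁ * g * g₁⁻¹ ∈ N := by
        rw [h]
        exact mem_top _
      have h1 : (⟨g₁ * g * g₁⁻¹, hgN⟩ : N) ∈ (⊥ : Subgroup N) := by
        rw [← hbot, MulAction.mem_stabilizer_iff]
        show (g₁ * g * g₁⁻¹) • o = o
        rw [← hg₁, mul_smul, mul_smul, inv_smul_smul, ha]
      rw [mem_bot] at h1
      have h2 : g₁ * g * g₁⁻¹ = 1 := congrArg Subtype.val h1
      apply hg1
      have h5 : g = g₁⁻¹ * (g₁ * g * g₁⁻¹) * g₁ := by group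
      rw [h5, h2]
      group
  have hFn : (Q.subgroupOf (MulAction.stabilizer G o)).Normal := by
    have hst : MulAction.stabilizer G o = W := by
      ext g
      exact hstab g
    rw [hst]
    exact Subgroup.normal_in_normalizer
  have hFle : Q ≤ MulAction.stabilizer G o := by
    intro x hx
    exact hQW x hx
  have hab : IsMulCommutative Q := by
    refine ⟨⟨fun a b => ?_⟩⟩
    by_cases hb : (b : G) = 1
    · apply Subtype.ext
      simp [hb]
    · have h1 : (a : G) ∈ centralizer ({(b : G)} : Set G) := by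
        rw [hQx _ b.2 hb]
        exact a.2
      rw [mem_centralizer_singleton_iff] at h1
      exact Subtype.ext h1
  rcases Cfsg.Agent.S0731.result hZ o Q hFle hFn hab hreg with h3 | h3
  · exfalso
    obtain ⟨h3, -⟩ := h3
    have hFΩ : Fintype Ω := Fintype.ofFinite _
    have hne : Nonempty (Fin 3 ↪ Ω) := by
      apply Function.Embedding.nonempty_of_card_le
      rw [Fintype.card_fin, ← Nat.card_eq_fintype_card, hcardΩ]
      omega
    obtain ⟨em⟩ := hne
    have h4 : Nat.card (Fin 3 ↪ Ω) ≤ Nat.card G := by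
      have hsurj : Function.Surjective (fun g : G => g • em) :=
        MulAction.surjective_smul G _
      exact Nat.card_le_card_of_surjective _ hsurj
    have h5 : Nat.card (Fin 3 ↪ Ω) = (q + 1) * q * (q - 1) := by
      rw [Nat.card_eq_fintype_card, Fintype.card_embedding_eq, Fintype.card_fin,
        ← Nat.card_eq_fintype_card, hcardΩ]
      obtain ⟨r, hr⟩ : ∃ r, q = r + 1 := ⟨q - 1, by omega⟩
      rw [hr]
      simp [Nat.descFactorial]
      ring
    rw [h5] at h4
    have h6 : q * (q + 1) * (q - 1) = (q + 1) * q * (q - 1) := by ring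
    rw [h6] at hcard
    have hG0 : 0 < Nat.card G := Nat.card_pos
    omega
  · exact h3

end main

end Cfsg.Agent.Lib.Zass.BSWPSL
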