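import Mathlib
import Cfsg.Agent.Lib.Zass.BSWDih
import Cfsg.Agent.Lib.Zass.BSWPSL
import Cfsg.Agent.Lib.Zass.BSWNeg3
import Cfsg.Agent.Lib.Transfer.IndexTwo
import Cfsg.Agent.Lib.Solvable.PSeries

/-!
# The abstract Brauer–Suzuki–Wall configuration from a dihedral Sylow subgroup
-/

set_option autoImplicit false
set_option linter.unusedSectionVars false
set_option linter.unreachableTactic false
set_option linter.unusedTactic false
set_option linter.style.haveILetI false
set_option linter.unusedSimpArgs false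

namespace Cfsg.Agent.Lib.Zass.BSWDih

open Subgroup Cfsg Cfsg.Agent.Lib.Zass.BSWGroup

universe u

variable {G : Type u} [Group G] [Finite G]

/-- The data extracted from a group with a dihedral Sylow subgroup: `C = C(t) = O S`, with `R` a
cyclic subgroup of index two in `S` through `t`, centralizing `O`, and elements of `S ∖ R` inverting
`O` and `R`. -/
structure Data (G : Type u) [Group G] where
  S : Sylow 2 G
  t : G
  R : Subgroup G
  O : Subgroup G
  ht : orderOf t = 2
  hRS : R ≤ S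
  hidx : R.relIndex S = 2
  hcyc : IsCyclic R
  htR : t ∈ R
  hSC : (S : Subgroup G) ≤ centralizer ({t} : Set G)
  hOC : O ≤ centralizer ({t} : Set G)
  hOn : ∀ c ∈ centralizer ({t} : Set G), ∀ o ∈ O, c * o * c⁻¹ ∈ O
  hOodd : Odd (Nat.card O)
  hCsup : ∀ c ∈ centralizer ({t} : Set G), ∃ o ∈ O, ∃ x ∈ (S : Subgroup G), c = o * x
  hRO : ∀ r ∈ R, ∀ o ∈ O, r * o = o * r
  hout : ∀ x ∈ (S : Subgroup G), x ∉ R → x * x = 1 ∧ ∀ y ∈ R, x * y * x⁻¹ = y⁻¹
  hinvO : ∀ x ∈ (S : Subgroup G), x ∉ R → ∀ y ∈ O, x * y * x⁻¹ = y⁻¹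
  hc : ∀ Y : Subgroup G, Y ≤ O → Y ≠ ⊥ → normalizer (Y : Set G) ≤ centralizer ({t} : Set G)

namespace Data

variable (D : Data G)

theorem R_two : IsPGroup 2 D.R := D.S.isPGroup'.to_le D.hRS

theorem t_ne : D.t ≠ 1 := by
  intro h
  have := D.ht
  rw [h, orderOf_one] at this
  omega

/-- Cyclic subgroups: at most one involution. -/
theorem R_uniq {y : G} (hy : y ∈ D.R) (hyy : y * y = 1) : y = 1 ∨ y = D.t := by
  classical
  by_contra hcon
  push Not at hcon
  have hF' : Fintype D.R := Fintype.ofFinite _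
  have hcy := D.hcyc
  have h1 := IsCyclic.card_pow_eq_one_le (α := D.R) (n := 2) (by norm_num)
  have hsub : ({1, ⟨D.t, D.htR⟩, ⟨y, hy⟩} : Finset D.R) ⊆ Finset.univ.filter fun a : D.R => a ^ 2 = 1 := by
    intro a ha
    simp only [Finset.mem_insert, Finset.mem_singleton] at ha
    simp only [Finset.mem_filter, Finset.mem_univ, true_and]
    rcases ha with rfl | rfl | rfl
    · exact one_pow _
    · apply Subtype.ext
      have := pow_orderOf_eq_one D.t
      rw [D.ht] at this
      simpa using this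
    · apply Subtype.ext
      simpa [pow_two] using hyy
  have hcard3 : ({1, ⟨D.t, D.htR⟩, ⟨y, hy⟩} : Finset D.R).card = 3 := by
    have h01 : (1 : D.R) ≠ ⟨D.t, D.htR⟩ := by
      intro h
      exact D.t_ne (congrArg Subtype.val h).symm
    have h02 : (1 : D.R) ≠ ⟨y, hy⟩ := by
      intro h
      exact hcon.1 (congrArg Subtype.val h).symm
    have h12 : (⟨D.t, D.htR⟩ : D.R) ≠ ⟨y, hy⟩ := by
      intro h
      exact hcon.2 (congrArg Subtype.val h).symm
    rw [Finset.card_insert_of_notMem, Finset.card_insert_of_notMem, Finset.card_singleton]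
    · simpa using h12
    · simp only [Finset.mem_insert, Finset.mem_singleton]
      push Not
      exact ⟨h01, h02⟩
  have h3 := Finset.card_le_card hsub
  have h4 : (Finset.univ.filter fun a : D.R => a ^ 2 = 1).card ≤ 2 := by
    convert h1
  omega

theorem O_two {x : G} (hx : x ∈ D.O) {m : ℕ} (h : x ^ 2 ^ m = 1) : x = 1 := by
  rw [← orderOf_eq_one_iff]
  have h1 : orderOf x ∣ Nat.card D.O := Subgroup.orderOf_dvd_natCard _ hx
  have h2 : orderOf x ∣ 2 ^ m := orderOf_dvd_of_pow_eq_one h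
  have h3 : Nat.Coprime (Nat.card D.O) (2 ^ m) :=
    Nat.Coprime.pow_right _ (Nat.coprime_two_right.2 D.hOodd)
  exact Nat.eq_one_of_dvd_coprimes h3 h1 h2

theorem O_inf_R {x : G} (hx : x ∈ D.O) (hx' : x ∈ D.R) : x = 1 := by
  obtain ⟨k, hk⟩ := D.R_two ⟨x, hx'⟩
  exact D.O_two hx (congrArg Subtype.val hk)

theorem R_comm {a b : G} (ha : a ∈ D.R) (hb : b ∈ D.R) : a * b = b * a := by
  obtain ⟨g, hg⟩ := D.hcyc.exists_generator
  obtain ⟨i, hi⟩ := Subgroup.mem_zpowers_iff.1 (hg ⟨a, ha⟩)
  obtain ⟨j, hj⟩ := Subgroup.mem_zpowers_iff.1 (hg ⟨b, hb⟩)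
  have h1 : (g : G) ^ i = a := congrArg Subtype.val hi
  have h2 : (g : G) ^ j = b := congrArg Subtype.val hj
  rw [← h1, ← h2]
  exact zpow_mul_comm _ _ _

/-- An element of `S` outside `R`. -/
theorem exists_s : ∃ s ∈ (D.S : Subgroup G), s ∉ D.R := by
  by_contra hcon
  push Not at hcon
  have h := D.hidx
  have h1 : D.R.relIndex D.S = 1 := by
    rw [Subgroup.relIndex_eq_one]
    exact hcon
  omega

theorem O_comm {a b : G} (ha : a ∈ D.O) (hb : b ∈ D.O) : a * b = b * a := by
  obtain ⟨s, hs, hsR⟩ := D.exists_s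
  have h1 := D.hinvO s hs hsR a ha
  have h2 := D.hinvO s hs hsR b hb
  have h3 := D.hinvO s hs hsR _ (mul_mem ha hb)
  have h4 : s * (a * b) * s⁻¹ = (s * a * s⁻¹) * (s * b * s⁻¹) := by group
  rw [h4, h1, h2, mul_inv_rev] at h3
  have h5 : (a⁻¹ * b⁻¹)⁻¹ = (b⁻¹ * a⁻¹)⁻¹ := by rw [h3]
  exact (by simpa using h5 : b * a = a * b).symm

/-- The subgroup `K = O R`. -/
def K : Subgroup G := D.O ⊔ D.R

theorem R_le_norm : D.R ≤ normalizer (D.O : Set G) := by
  intro r hr
  rw [Subgroup.mem_normalizer_iff]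
  intro o
  have h := fun o ho => D.hRO r hr o ho
  constructor
  · intro ho
    rw [h o ho]
    simpa using ho
  · intro ho
    have h1 := h _ ho
    have h2 : o = r⁻¹ * (r * o * r⁻¹) * r := by group
    have h3 : r⁻¹ * (r * o * r⁻¹) * r = r * o * r⁻¹ := by
      rw [mul_assoc, ← h1]
      group
    rw [h2, h3]
    exact ho

theorem mem_K {k : G} (hk : k ∈ D.K) : ∃ a ∈ D.O, ∃ b ∈ D.R, k = a * b := by
  have h1 : k ∈ ((D.O ⊔ D.R : Subgroup G) : Set G) := hk
  rw [coe_mul_of_right_le_normalizer_left D.O D.R D.R_le_norm] at h1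
  obtain ⟨a, ha, b, hb, rfl⟩ := Set.mem_mul.1 h1
  exact ⟨a, ha, b, hb, rfl⟩

theorem K_comm {x y : G} (hx : x ∈ D.K) (hy : y ∈ D.K) : x * y = y * x := by
  obtain ⟨a, ha, b, hb, rfl⟩ := D.mem_K hx
  obtain ⟨c, hc, d, hd, rfl⟩ := D.mem_K hy
  have h1 := D.O_comm ha hc
  have h2 := D.R_comm hb hd
  have h3 := D.hRO b hb c hc
  have h4 := D.hRO d hd a ha
  calc a * b * (c * d) = a * (b * c) * d := by group
    _ = a * (c * b) * d := by rw [h3]
    _ = (a * c) * (b * d) := by group
    _ = (c * a) * (d * b) := by rw [h1, h2]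
    _ = c * (a * d) * b := by group
    _ = c * (d * a) * b := by rw [h4]
    _ = c * d * (a * b) := by group

theorem K_le : D.K ≤ centralizer ({D.t} : Set G) :=
  sup_le D.hOC (D.hRS.trans D.hSC)

theorem t_mem_K : D.t ∈ D.K := mem_sup_right D.htR

/-- Involutions of `K`. -/
theorem K_invol {k : G} (hk : k ∈ D.K) (hkk : k * k = 1) : k = 1 ∨ k = D.t := by
  obtain ⟨a, ha, b, hb, rfl⟩ := D.mem_K hk
  have h1 : a * a * (b * b) = 1 := by
    have h3 := D.hRO b hb a ha
    calc a * a * (b * b) = a * (a * b) * b := by group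
      _ = a * (b * a) * b := by rw [h3]
      _ = a * b * (a * b) := by group
      _ = 1 := hkk
  have h2 : a * a = (b * b)⁻¹ := eq_inv_of_mul_eq_one_left h1
  have h3 : a * a = 1 := by
    refine D.O_inf_R (mul_mem ha ha) ?_
    rw [h2]
    exact inv_mem (mul_mem hb hb)
  have h4 : a = 1 := D.O_two ha (m := 1) (by rw [pow_one, pow_two, h3])
  have h5 : b * b = 1 := by
    rw [h3] at h1
    simpa using h1
  rw [h4, one_mul]
  exact D.R_uniq hb h5

/-- Two elements of `S ∖ R` differ by an element of `R`. -/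
theorem out_mul {x z : G} (hx : x ∈ (D.S : Subgroup G)) (hz : z ∈ (D.S : Subgroup G)) (hxR : x ∉ D.R)
    (hzR : z ∉ D.R) : x * z ∈ D.R := by
  have hi2 : (D.R.subgroupOf (D.S : Subgroup G)).index = 2 := D.hidx
  have h1 := Subgroup.mul_mem_iff_of_index_two hi2 (a := (⟨x, hx⟩ : (D.S : Subgroup G)))
    (b := ⟨z, hz⟩)
  have h2 : ((⟨x, hx⟩ : (D.S : Subgroup G)) * ⟨z, hz⟩ ∈ D.R.subgroupOf (D.S : Subgroup G)) ↔ x * z ∈ D.R := by
    rw [Subgroup.mem_subgroupOf]
    simp
  have h3 : ((⟨x, hx⟩ : (D.S : Subgroup G)) ∈ D.R.subgroupOf (D.S : Subgroup G)) ↔ x ∈ D.R := by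
    rw [Subgroup.mem_subgroupOf]
  have h4 : ((⟨z, hz⟩ : (D.S : Subgroup G)) ∈ D.R.subgroupOf (D.S : Subgroup G)) ↔ z ∈ D.R := by
    rw [Subgroup.mem_subgroupOf]
  rw [h2, h3, h4] at h1
  rw [h1]
  simp [hxR, hzR]

variable {s : G}

/-- The element `s` inverts `K`. -/
theorem s_inv (hs : s ∈ (D.S : Subgroup G)) (hsR : s ∉ D.R) {k : G} (hk : k ∈ D.K) :
    s * k * s⁻¹ = k⁻¹ := by
  obtain ⟨a, ha, b, hb, rfl⟩ := D.mem_K hk
  have h1 := D.hinvO s hs hsR a ha
  have h2 := (D.hout s hs hsR).2 b hb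
  have h3 : s * (a * b) * s⁻¹ = (s * a * s⁻¹) * (s * b * s⁻¹) := by group
  rw [h3, h1, h2, mul_inv_rev]
  have h4 := D.hRO b⁻¹ (inv_mem hb) a⁻¹ (inv_mem ha)
  exact h4.symm

theorem s_not_K (hs : s ∈ (D.S : Subgroup G)) (hsR : s ∉ D.R) : s ∉ D.K := by
  intro h
  rcases D.K_invol h (D.hout s hs hsR).1 with h1 | h1
  · apply hsR
    rw [h1]
    exact one_mem _
  · apply hsR
    rw [h1]
    exact D.htR

theorem s_order (hs : s ∈ (D.S : Subgroup G)) (hsR : s ∉ D.R) : orderOf s = 2 := by
  refine orderOf_eq_two (D.hout s hs hsR).1 ?_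
  rintro rfl
  exact hsR (one_mem _)

theorem C_le (hs : s ∈ (D.S : Subgroup G)) (hsR : s ∉ D.R) {c : G} (hc : c ∈ centralizer ({D.t} : Set G)) :
    c ∈ D.K ∨ ∃ k ∈ D.K, c = k * s := by
  obtain ⟨o, ho, x, hx, rfl⟩ := D.hCsup c hc
  by_cases hxR : x ∈ D.R
  · exact Or.inl (mul_mem (mem_sup_left ho) (mem_sup_right hxR))
  · right
    refine ⟨o * (x * s), mul_mem (mem_sup_left ho) (mem_sup_right (D.out_mul hx hs hxR hsR)), ?_⟩
    have h1 : s * s = 1 := (D.hout s hs hsR).1
    calc o * x = o * x * (s * s) := by rw [h1, mul_one]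
      _ = o * (x * s) * s := by group

theorem hH (hs : s ∈ (D.S : Subgroup G)) (hsR : s ∉ D.R) :
    D.K ⊔ zpowers s = centralizer ({D.t} : Set G) := by
  apply le_antisymm
  · exact sup_le D.K_le (zpowers_le.2 (D.hSC hs))
  · intro c hc
    rcases D.C_le hs hsR hc with h | ⟨k, hk, rfl⟩
    · exact mem_sup_left h
    · exact mul_mem (mem_sup_left hk) (mem_sup_right (mem_zpowers s))

theorem hCK (hs : s ∈ (D.S : Subgroup G)) (hsR : s ∉ D.R) :
    D.K ⊓ centralizer ({s} : Set G) = zpowers D.t := by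
  apply le_antisymm
  · intro k hk'
    obtain ⟨hk, hks⟩ := Subgroup.mem_inf.1 hk'
    rw [mem_centralizer_singleton_iff] at hks
    have h1 := D.s_inv hs hsR hk
    have h2 : k * k = 1 := by
      have h3 : s * k * s⁻¹ = k := by
        rw [← hks]
        group
      rw [h3] at h1
      nth_rewrite 1 [h1]
      group
    rcases D.K_invol hk h2 with h | h
    · rw [h]
      exact one_mem _
    · rw [h]
      exact mem_zpowers _
  · rw [zpowers_le]
    refine Subgroup.mem_inf.2 ⟨D.t_mem_K, ?_⟩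
    rw [mem_centralizer_singleton_iff]
    have h1 := D.hSC hs
    rw [mem_centralizer_singleton_iff] at h1
    exact h1.symm

/-- `K` meets its conjugates outside `C(t)` trivially. -/
theorem hTI (hs : s ∈ (D.S : Subgroup G)) (hsR : s ∉ D.R) (g : G)
    (hg : g ∉ centralizer ({D.t} : Set G)) : D.K ⊓ D.K.map (MulAut.conj g).toMonoidHom = ⊥ := by
  rw [eq_bot_iff]
  rintro x ⟨hx, k₀, hk₀, hxk⟩
  have hxk' : g * k₀ * g⁻¹ = x := hxk
  rw [Subgroup.mem_bot]
  by_contra hx1
  have hord1 : orderOf x ≠ 1 := fun h => hx1 (orderOf_eq_one_iff.1 h)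
  obtain ⟨p, hp, hpd⟩ := Nat.exists_prime_and_dvd hord1
  have hF : Fact p.Prime := ⟨hp⟩
  set m := orderOf x / p with hm
  set y := x ^ m with hy
  have hordy : orderOf y = p := orderOf_pow_orderOf_div (Nat.pos_iff_ne_zero.1 (orderOf_pos x)) hpd
  have hyK : y ∈ D.K := pow_mem hx m
  set k := k₀ ^ m with hk
  have hkK : k ∈ D.K := pow_mem hk₀ m
  have hyk : y = g * k * g⁻¹ := by
    rw [hy, hk, ← hxk']
    exact conj_pow
  have hordk : orderOf k = p := by
    rw [← hordy, hyk]
    have h0 := (MulAut.conj g).orderOf_eq k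
    simpa [MulAut.conj_apply] using h0.symm
  have hy1 : y ≠ 1 := by
    intro h
    rw [h, orderOf_one] at hordy
    exact hp.one_lt.ne hordy
  have hk1 : k ≠ 1 := by
    intro h
    rw [h, orderOf_one] at hordk
    exact hp.one_lt.ne hordk
  have hgfix : g * D.t * g⁻¹ = D.t → False := by
    intro h
    apply hg
    rw [mem_centralizer_singleton_iff]
    calc g * D.t = g * D.t * g⁻¹ * g := by group
      _ = D.t * g := by rw [h]
  by_cases hp2 : p = 2
  · subst hp2
    have hyy : y * y = 1 := by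
      have := pow_orderOf_eq_one y
      rwa [hordy, pow_two] at this
    have hkk : k * k = 1 := by
      have := pow_orderOf_eq_one k
      rwa [hordk, pow_two] at this
    have h1 := (D.K_invol hyK hyy).resolve_left hy1
    have h2 := (D.K_invol hkK hkk).resolve_left hk1
    apply hgfix
    rw [← h2, ← hyk, h1, h2]
  · -- odd prime order
    have hodd : ∀ z ∈ D.K, z ^ p = 1 → z ∈ D.O := by
      intro z hz hzp
      obtain ⟨a, ha, b, hb, rfl⟩ := D.mem_K hz
      have hcomm : Commute a b := (D.hRO b hb a ha).symm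
      rw [hcomm.mul_pow] at hzp
      have h3 : a ^ p = (b ^ p)⁻¹ := eq_inv_of_mul_eq_one_left hzp
      have h4 : a ^ p = 1 := D.O_inf_R (pow_mem ha p) (by rw [h3]; exact inv_mem (pow_mem hb p))
      have h5 : b ^ p = 1 := by
        rw [h4, one_mul] at hzp
        exact hzp
      have h6 : b = 1 := by
        obtain ⟨n, hn⟩ := D.R_two ⟨b, hb⟩
        have h7 : b ^ 2 ^ n = 1 := congrArg Subtype.val hn
        rw [← orderOf_eq_one_iff]
        have h8 := orderOf_dvd_of_pow_eq_one h5
        have h9 := orderOf_dvd_of_pow_eq_one h7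
        have h10 : Nat.Coprime p (2 ^ n) :=
          Nat.Coprime.pow_right _ ((Nat.coprime_primes hp Nat.prime_two).2 hp2)
        exact Nat.eq_one_of_dvd_coprimes h10 h8 h9
      rw [h6, mul_one]
      exact ha
    have hyO : y ∈ D.O := hodd y hyK (by rw [← hordy]; exact pow_orderOf_eq_one y)
    have hkO : k ∈ D.O := hodd k hkK (by rw [← hordk]; exact pow_orderOf_eq_one k)
    -- `C(y) ≤ C(t)`
    have hCy : ∀ c, c * y = y * c → c ∈ centralizer ({D.t} : Set G) := by
      intro c hc
      apply D.hc (zpowers y) (zpowers_le.2 hyO) (by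
        intro h
        rw [zpowers_eq_bot] at h
        exact hy1 h)
      rw [Subgroup.mem_normalizer_iff]
      have hle : zpowers y ≤ centralizer ({c} : Set G) := by
        rw [zpowers_le, mem_centralizer_singleton_iff]
        exact hc.symm
      have hcom : ∀ z ∈ zpowers y, c * z = z * c := by
        intro z hz
        have := hle hz
        rw [mem_centralizer_singleton_iff] at this
        exact this.symm
      intro z
      constructor
      · intro hz
        rw [hcom z hz]
        simpa using hz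
      · intro hz
        have h1 := hcom _ hz
        have h2 : z = c⁻¹ * (c * z * c⁻¹) * c := by group
        have h3 : c⁻¹ * (c * z * c⁻¹) * c = c * z * c⁻¹ := by
          rw [mul_assoc, ← h1]
          group
        rw [h2, h3]
        exact hz
    set v := g * D.t * g⁻¹ with hv
    have hvy : v * y = y * v := by
      have h1 := D.hOC hkO
      rw [mem_centralizer_singleton_iff] at h1
      rw [hv, hyk]
      calc g * D.t * g⁻¹ * (g * k * g⁻¹) = g * (D.t * k) * g⁻¹ := by group
        _ = g * (k * D.t) * g⁻¹ := by rw [h1]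
        _ = g * k * g⁻¹ * (g * D.t * g⁻¹) := by group
    have hvC := hCy v hvy
    have hvv : v * v = 1 := by
      rw [hv]
      have h1 := mul_self_of_orderOf D.ht
      calc g * D.t * g⁻¹ * (g * D.t * g⁻¹) = g * (D.t * D.t) * g⁻¹ := by group
        _ = 1 := by rw [h1]; group
    have hv1 : v ≠ 1 := by
      intro h
      apply D.t_ne
      have h1 : D.t = g⁻¹ * (g * D.t * g⁻¹) * g := by group
      rw [h1, ← hv, h]
      group
    rcases D.C_le hs hsR hvC with h | ⟨k', hk', h⟩
    · exact hgfix ((D.K_invol h hvv).resolve_left hv1)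
    · -- `v` inverts `y`, contradiction
      have h1 := D.s_inv hs hsR hyK
      have h2 : v * y * v⁻¹ = y⁻¹ := by
        rw [h]
        have h3 : k' * s * y * (k' * s)⁻¹ = k' * (s * y * s⁻¹) * k'⁻¹ := by group
        rw [h3, h1, D.K_comm hk' (inv_mem hyK)]
        group
      have h3 : v * y * v⁻¹ = y := by
        rw [hvy]
        group
      rw [h3] at h2
      have h4 : y * y = 1 := by
        nth_rewrite 1 [h2]
        group
      have h5 := orderOf_dvd_of_pow_eq_one (x := y) (n := 2) (by rw [pow_two, h4])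
      rw [hordy] at h5
      exact hp2 ((Nat.prime_dvd_prime_iff_eq hp Nat.prime_two).1 h5)

variable [IsSimpleGroup G]

/-- All involutions are conjugate. -/
theorem hconj (hcard : 4 ≤ Nat.card (D.S : Subgroup G)) (x y : G) (hx : orderOf x = 2) (hy : orderOf y = 2) :
    IsConj x y := by
  have key : ∀ x : G, orderOf x = 2 → IsConj x D.t := by
    intro x hx
    have hxx := mul_self_of_orderOf hx
    have hx1 : x ≠ 1 := by
      rintro rfl
      rw [orderOf_one] at hx
      omega
    by_contra hcon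
    -- no conjugate of `x` lies in `R`
    have hnot : ∀ g : G, g⁻¹ * x * g ∈ D.R → False := by
      intro g hg
      have h1 : (g⁻¹ * x * g) * (g⁻¹ * x * g) = 1 := by
        calc (g⁻¹ * x * g) * (g⁻¹ * x * g) = g⁻¹ * (x * x) * g := by group
          _ = 1 := by rw [hxx]; group
      rcases D.R_uniq hg h1 with h2 | h2
      · apply hx1
        have h3 : x = g * (g⁻¹ * x * g) * g⁻¹ := by group
        rw [h3, h2]
        group
      · apply hcon
        rw [isConj_iff]
        refine ⟨g⁻¹, ?_⟩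
        rw [inv_inv]
        exact h2
    -- transfer
    have hoddidx : Odd (D.S : Subgroup G).index := by
      rw [← Nat.not_even_iff_odd, even_iff_two_dvd]
      exact D.S.not_dvd_index
    obtain ⟨N, hNn, hNi, -⟩ := Cfsg.Agent.Lib.Transfer.IndexTwo.exists_normal_index_two_of_relIndex
      (D.S : Subgroup G) hoddidx D.R D.hidx x 1 (by rw [pow_one, pow_two]; exact hxx)
      (fun g _ h => hnot g h) (by
        intro k hk hk2 g _
        have h2 : k = 2 := by
          have h3 := Nat.le_of_dvd (by norm_num) hk2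
          rw [pow_one] at h3
          omega
        subst h2
        have h3 : x ^ 2 = 1 := by rw [pow_two]; exact hxx
        rw [h3]
        simp [D.R.one_mem])
    rcases hNn.eq_bot_or_eq_top with h | h
    · rw [h, Subgroup.index_bot] at hNi
      have h3 := Subgroup.card_le_card_group (D.S : Subgroup G)
      omega
    · rw [h, Subgroup.index_top] at hNi
      omega
  exact (key x hx).trans (key y hy).symm

/-- The configuration. -/
noncomputable def conf (hcard : 4 ≤ Nat.card (D.S : Subgroup G)) (s : G) (hs : s ∈ (D.S : Subgroup G))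
    (hsR : s ∉ D.R) : Conf G :=
  { t := D.t
    s := s
    K := D.K
    ht := D.ht
    hKab := ⟨⟨fun a b => Subtype.ext (D.K_comm a.2 b.2)⟩⟩
    hKH := D.K_le
    htK := D.t_mem_K
    hs := D.s_order hs hsR
    hsH := D.hSC hs
    hsK := D.s_not_K hs hsR
    hH := D.hH hs hsR
    hCK := D.hCK hs hsR
    hinv := fun _ hx => D.s_inv hs hsR hx
    hTI := D.hTI hs hsR
    hconj := D.hconj hcard }

/-- **Brauer–Suzuki–Wall, dihedral form.** -/
theorem psl (hcard : 4 ≤ Nat.card (D.S : Subgroup G)) :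
    ∃ (K : Type) (_ : Field K) (_ : Fintype K), ringChar K ≠ 2 ∧
      Nonempty (G ≃* Matrix.ProjectiveSpecialLinearGroup (Fin 2) K) := by
  classical
  haveI : Fintype G := Fintype.ofFinite G
  obtain ⟨s, hs, hsR⟩ := D.exists_s
  have hgoal : Goal G := by
    obtain ⟨O⟩ := Cfsg.Agent.Lib.Zass.BSWChar.exists_out (D.conf hcard s hs hsR)
    have M := O.main
    rcases O.hε with h | h
    · exact Cfsg.Agent.Lib.Zass.BSWChar.Out.goal_plus M h
    · exact Cfsg.Agent.Lib.Zass.BSWChar.goal_minus ⟨M, h⟩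
  obtain ⟨Q, D', h1, h2, -, h4, h5, h6, -⟩ := hgoal
  exact Cfsg.Agent.Lib.Zass.BSWPSL.psl_of_goal h1 h2 h4 h5 h6

end Data

end Cfsg.Agent.Lib.Zass.BSWDih
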