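import Cfsg.Agent.Lib.Zass.EvenBasic

/-!
# Commuting squares under the hypothesis `HII`

For commuting involutions `a ≠ b` which are squares, `v² = a`, `w² = b`: either `b` inverts `v`
and then `C(v)` has the unique involution `a` (Lemma A); or `b` commutes with `v` and then
`C(a) = C(b)` (Lemma B).
-/

set_option autoImplicit false
set_option linter.unusedSectionVars false

namespace Cfsg.Agent.Lib.Zass.EvenAB

open Subgroup Cfsg.Agent.Lib.Zass.EvenBasic

universe u

variable {G : Type u} [Group G]

theorem inv_eq_self {x : G} (h : x * x = 1) : x⁻¹ = x := inv_eq_of_mul_eq_one_left h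

theorem sq_mem {v a : G} (hv : v * v = a) : a ∈ zpowers v := by
  rw [← hv]
  exact mul_mem (mem_zpowers v) (mem_zpowers v)

variable [Finite G]

theorem sign (hii : HII G) {a v g : G} (ha : a * a = 1) (ha1 : a ≠ 1) (hv : v * v = a)
    (hg : g * a = a * g) : g * v * g⁻¹ = v ∨ g * v * g⁻¹ = v⁻¹ :=
  sign_of_mem hv ha ha1 (conj_mem_of_comm hii ha ha1 (sq_mem hv) hg)

/-- If `g` normalizes `⟨v⟩`, `v² = a`, then `g²` commutes with `v`. -/
theorem sq_comm (hii : HII G) {a v g : G} (ha : a * a = 1) (ha1 : a ≠ 1) (hv : v * v = a)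
    (hg : g * a = a * g) : (g * g) * v = v * (g * g) := by
  rcases sign hii ha ha1 hv hg with h | h
  · have h1 : g * v = v * g := by
      calc g * v = g * v * g⁻¹ * g := by group
        _ = v * g := by rw [h]
    calc g * g * v = g * (g * v) := by group
      _ = g * (v * g) := by rw [h1]
      _ = (g * v) * g := by group
      _ = (v * g) * g := by rw [h1]
      _ = v * (g * g) := by group
  · have h1 : g * v = v⁻¹ * g := by
      calc g * v = g * v * g⁻¹ * g := by group
        _ = v⁻¹ * g := by rw [h]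
    have h2 : g * v⁻¹ = v * g := by
      calc g * v⁻¹ = (g * v * g⁻¹)⁻¹ * g := by group
        _ = v * g := by rw [h, inv_inv]
    calc g * g * v = g * (g * v) := by group
      _ = g * (v⁻¹ * g) := by rw [h1]
      _ = (g * v⁻¹) * g := by group
      _ = (v * g) * g := by rw [h2]
      _ = v * (g * g) := by group

/-- Lemma (b): an involution `z` commuting with `v` has at most two conjugates under `C(v²)`. -/
theorem orbit_two (hii : HII G) {a v z g : G} (ha : a * a = 1) (ha1 : a ≠ 1) (hv : v * v = a)
    (hz : z * z = 1) (hzv : z * v = v * z) (hg : g * a = a * g) :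
    g * z * g⁻¹ = z ∨ g * z * g⁻¹ = a * z := by
  have hzi : z⁻¹ = z := inv_eq_self hz
  have hq : (v * z) * (v * z) = a := by
    calc (v * z) * (v * z) = v * (z * v) * z := by group
      _ = v * (v * z) * z := by rw [hzv]
      _ = (v * v) * (z * z) := by group
      _ = a := by rw [hv, hz, mul_one]
  have hdec : g * z * g⁻¹ = (g * v * g⁻¹)⁻¹ * (g * (v * z) * g⁻¹) := by group
  have hzvi : z * v⁻¹ = v⁻¹ * z := by
    calc z * v⁻¹ = v⁻¹ * (v * z) * v⁻¹ := by group
      _ = v⁻¹ * (z * v) * v⁻¹ := by rw [hzv]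
      _ = v⁻¹ * z := by group
  have haz : a * z = z * a := by
    rw [← hv]
    calc v * v * z = v * (v * z) := by group
      _ = v * (z * v) := by rw [hzv]
      _ = (v * z) * v := by group
      _ = (z * v) * v := by rw [hzv]
      _ = z * (v * v) := by group
  have hai : a⁻¹ = a := inv_eq_self ha
  rcases sign hii ha ha1 hv hg with h | h <;> rcases sign hii ha ha1 hq hg with h' | h'
  · left
    rw [hdec, h, h']
    group
  · right
    rw [hdec, h, h', mul_inv_rev, hzi]
    calc v⁻¹ * (z * v⁻¹) = v⁻¹ * (v⁻¹ * z) := by rw [hzvi]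
      _ = (v * v)⁻¹ * z := by group
      _ = a * z := by rw [hv, hai]
  · right
    rw [hdec, h, h', inv_inv]
    calc v * (v * z) = (v * v) * z := by group
      _ = a * z := by rw [hv]
  · left
    rw [hdec, h, h', inv_inv, mul_inv_rev, hzi]
    calc v * (z * v⁻¹) = v * (v⁻¹ * z) := by rw [hzvi]
      _ = z := by group

/-- `(*)`: square roots of distinct commuting involutions with `+` type commute. -/
theorem star_comm (hii : HII G) {e f u w : G} (he : e * e = 1) (he1 : e ≠ 1) (hf : f * f = 1)
    (hf1 : f ≠ 1) (hef : e ≠ f) (hu : u * u = e) (hw : w * w = f) (hfu : u * f = f * u)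
    (hew : w * e = e * w) : u * w = w * u := by
  have hu4 : u ^ 2 ^ 2 = 1 := by
    have : u ^ 2 ^ 2 = (u * u) * (u * u) := by
      simp only [pow_succ, pow_zero, one_mul, mul_assoc]; norm_num
      simp only [pow_succ, pow_zero, one_mul, mul_assoc]
    rw [this, hu, he]
  refine comm_of_cross (conj_mem_of_comm hii he he1 (sq_mem hu) hew)
    (conj_mem_of_comm hii hf hf1 (sq_mem hw) hfu) ?_
  exact inter_triv hu4 (sq_mem hu) (sq_mem hw) he hf he1 hf1 hef

theorem two_pow_mod3 (k : ℕ) : 2 ^ k % 3 = 1 ∨ 2 ^ k % 3 = 2 := by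
  induction k with
  | zero => left; norm_num
  | succ k ih =>
    rw [pow_succ]
    omega

/-- A 3-cycle action, iterated. -/
theorem cycle_pow {g a b c : G} (h1 : g * a * g⁻¹ = b) (h2 : g * b * g⁻¹ = c) (h3 : g * c * g⁻¹ = a)
    (j : ℕ) : (j % 3 = 0 → g ^ j * a * (g ^ j)⁻¹ = a) ∧ (j % 3 = 1 → g ^ j * a * (g ^ j)⁻¹ = b) ∧
      (j % 3 = 2 → g ^ j * a * (g ^ j)⁻¹ = c) := by
  induction j with
  | zero => simp
  | succ j ih =>
    obtain ⟨i0, i1, i2⟩ := ih
    have hstep : g ^ (j + 1) * a * (g ^ (j + 1))⁻¹ = g * (g ^ j * a * (g ^ j)⁻¹) * g⁻¹ := by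
      rw [pow_succ']
      group
    refine ⟨fun h => ?_, fun h => ?_, fun h => ?_⟩
    · rw [hstep, i2 (by omega), h3]
    · rw [hstep, i0 (by omega), h1]
    · rw [hstep, i1 (by omega), h2]

/-- **Lemma A**. -/
theorem lemmaA (hii : HII G) {a b v w t : G} (ha : a * a = 1) (ha1 : a ≠ 1) (hb : b * b = 1)
    (hb1 : b ≠ 1) (hab : a ≠ b) (hcomm : a * b = b * a) (hv : v * v = a) (hw : w * w = b)
    (hnc : b * v ≠ v * b) (ht : t * t = 1) (ht1 : t ≠ 1) (hta : t ≠ a) (htv : t * v = v * t) :
    False := by
  have hbi : b⁻¹ = b := inv_eq_self hb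
  have hai : a⁻¹ = a := inv_eq_self ha
  have hti : t⁻¹ = t := inv_eq_self ht
  -- homogeneity
  have hhom : ∀ q : G, q * q = a → b * q ≠ q * b := by
    intro q hq hbq
    have h1 : a * w = w * a := by
      rw [← hq]
      exact sq_comm hii hb hb1 hw hbq.symm
    have h2 : b * v = v * b := by
      rw [← hw]
      exact sq_comm hii ha ha1 hv h1.symm
    exact hnc h2
  have hbv : b * v * b⁻¹ = v⁻¹ := by
    rcases sign hii ha ha1 hv hcomm.symm with h | h
    · exfalso
      apply hnc
      calc b * v = b * v * b⁻¹ * b := by group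
        _ = v * b := by rw [h]
    · exact h
  have hnc' : a * w ≠ w * a := by
    intro h
    apply hnc
    rw [← hw]
    exact sq_comm hii ha ha1 hv h.symm
  have haw : a * w * a⁻¹ = w⁻¹ := by
    rcases sign hii hb hb1 hw hcomm with h | h
    · exfalso
      apply hnc'
      calc a * w = a * w * a⁻¹ * a := by group
        _ = w * a := by rw [h]
    · exact h
  have hvi : v⁻¹ * a = v := by
    rw [← hv]; group
  have hR1 : b * v⁻¹ = v * b := by
    calc b * v⁻¹ = (b * v * b⁻¹)⁻¹ * b := by group
      _ = v * b := by rw [hbv, inv_inv]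
  have hR2 : t * v⁻¹ = v⁻¹ * t := by
    calc t * v⁻¹ = v⁻¹ * (v * t) * v⁻¹ := by group
      _ = v⁻¹ * (t * v) * v⁻¹ := by rw [htv]
      _ = v⁻¹ * t := by group
  have hta' : t * a = a * t := by
    rw [← hv]
    calc t * (v * v) = (t * v) * v := by group
      _ = (v * t) * v := by rw [htv]
      _ = v * (t * v) := by group
      _ = v * (v * t) := by rw [htv]
      _ = v * v * t := by group
  rcases orbit_two hii ha ha1 hv ht htv hcomm.symm with h | h
  · -- `b` commutes with `t`
    have hbt : b * t = t * b := by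
      calc b * t = b * t * b⁻¹ * b := by group
        _ = t * b := by rw [h]
    -- a conjugate of `t` by `a` commuting with `w`
    obtain ⟨t₁, ht₁, ht₁1, ht₁w, ht₁v, ht₁a⟩ : ∃ t₁ : G, t₁ * t₁ = 1 ∧ t₁ ≠ 1 ∧ t₁ * w = w * t₁ ∧
        t₁ * v = v * t₁ ∧ t₁ * a = a * t₁ := by
      have hav : a * v = v * a := by
        rw [← hv]; group
      rcases sign hii hb hb1 hw hbt.symm with h1 | h1
      · refine ⟨t, ht, ht1, ?_, htv, hta'⟩
        calc t * w = t * w * t⁻¹ * t := by group
          _ = w * t := by rw [h1]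
      · refine ⟨a * t, ?_, ?_, ?_, ?_, ?_⟩
        · calc a * t * (a * t) = a * (t * a) * t := by group
            _ = a * (a * t) * t := by rw [hta']
            _ = (a * a) * (t * t) := by group
            _ = 1 := by rw [ha, ht, one_mul]
        · intro h2
          apply hta
          have h3 : a * (a * t) = a * 1 := by rw [h2]
          rw [← mul_assoc, ha, one_mul, mul_one] at h3
          exact h3
        · have h2 : t * w = w⁻¹ * t := by
            calc t * w = t * w * t⁻¹ * t := by group
              _ = w⁻¹ * t := by rw [h1]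
          have h3 : a * w⁻¹ = w * a := by
            calc a * w⁻¹ = (a * w * a⁻¹)⁻¹ * a := by group
              _ = w * a := by rw [haw, inv_inv]
          calc a * t * w = a * (t * w) := by group
            _ = a * (w⁻¹ * t) := by rw [h2]
            _ = (a * w⁻¹) * t := by group
            _ = (w * a) * t := by rw [h3]
            _ = w * (a * t) := by group
        · calc a * t * v = a * (t * v) := by group
            _ = a * (v * t) := by rw [htv]
            _ = (a * v) * t := by group
            _ = (v * a) * t := by rw [hav]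
            _ = v * (a * t) := by group
        · calc a * t * a = a * (t * a) := by group
            _ = a * (a * t) := by rw [hta']
    -- the element of order divisible by three
    set g := v * w with hg
    have hgt : g * t₁ = t₁ * g := by
      rw [hg]
      calc v * w * t₁ = v * (w * t₁) := by group
        _ = v * (t₁ * w) := by rw [ht₁w]
        _ = (v * t₁) * w := by group
        _ = (t₁ * v) * w := by rw [ht₁v]
        _ = t₁ * (v * w) := by group
    have h1v : v * a * v⁻¹ = a := by
      rw [← hv]; group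
    have h2v : v * b * v⁻¹ = a * b := by
      calc v * b * v⁻¹ = (v * b) * v⁻¹ := rfl
        _ = (b * v⁻¹) * v⁻¹ := by rw [hR1]
        _ = b * (v * v)⁻¹ := by group
        _ = b * a := by rw [hv, hai]
        _ = a * b := hcomm.symm
    have h1w : w * b * w⁻¹ = b := by
      rw [← hw]; group
    have h2w : w * a * w⁻¹ = a * b := by
      have h3 : a * w⁻¹ = w * a := by
        calc a * w⁻¹ = (a * w * a⁻¹)⁻¹ * a := by group
          _ = w * a := by rw [haw, inv_inv]
      calc w * a * w⁻¹ = (w * a) * w⁻¹ := rfl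
        _ = (a * w⁻¹) * w⁻¹ := by rw [h3]
        _ = a * (w * w)⁻¹ := by group
        _ = a * b := by rw [hw, hbi]
    have hg1 : g * a * g⁻¹ = b := by
      have : g * a * g⁻¹ = v * (w * a * w⁻¹) * v⁻¹ := by rw [hg]; group
      rw [this, h2w]
      have h3 : v * (a * b) * v⁻¹ = (v * a * v⁻¹) * (v * b * v⁻¹) := by group
      rw [h3, h1v, h2v, ← mul_assoc, ha, one_mul]
    have hg2 : g * b * g⁻¹ = a * b := by
      have : g * b * g⁻¹ = v * (w * b * w⁻¹) * v⁻¹ := by rw [hg]; group
      rw [this, h1w, h2v]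
    have hg3 : g * (a * b) * g⁻¹ = a := by
      have h3 : g * (a * b) * g⁻¹ = (g * a * g⁻¹) * (g * b * g⁻¹) := by group
      rw [h3, hg1, hg2, ← mul_assoc, ← hcomm, mul_assoc, hb, mul_one]
    -- the odd part
    have hn0 : orderOf g ≠ 0 := (orderOf_pos g).ne'
    obtain ⟨k, m, hm, hkm⟩ := Nat.exists_eq_two_pow_mul_odd hn0
    set y := g ^ 2 ^ k with hy
    have hyo : Odd (orderOf y) := by
      have h3 : y ^ m = 1 := by
        rw [hy, ← pow_mul, ← hkm]
        exact pow_orderOf_eq_one g
      exact Odd.of_dvd_nat hm (orderOf_dvd_of_pow_eq_one h3)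
    have hyt : y * t₁ = t₁ * y := by
      have : Commute g t₁ := hgt
      exact (this.pow_left _)
    have hcyc := cycle_pow hg1 hg2 hg3 (2 ^ k)
    have h3 : 2 ^ k % 3 = 1 ∨ 2 ^ k % 3 = 2 := two_pow_mod3 k
    have hconj : a * y * a⁻¹ ∈ zpowers y :=
      odd_conj_mem hii ht₁ ht₁1 hyo hyt ht₁a.symm
    set c := a * y * a⁻¹ * y⁻¹ with hc
    have hcm : c ∈ zpowers y := mul_mem hconj (inv_mem (mem_zpowers y))
    have hcval : c = a * (y * a * y⁻¹) := by
      rw [hc, hai]
      group
    have hcinv : c * c = 1 ∧ c ≠ 1 := by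
      rcases h3 with h3 | h3
      · have h4 := hcyc.2.1 h3
        rw [← hy] at h4
        rw [hcval, h4]
        refine ⟨?_, ?_⟩
        · calc a * b * (a * b) = a * (b * a) * b := by group
            _ = a * (a * b) * b := by rw [hcomm]
            _ = (a * a) * (b * b) := by group
            _ = 1 := by rw [ha, hb, one_mul]
        · intro h5
          apply hab
          exact eq_inv_of_mul_eq_one_left h5 |>.trans hbi
      · have h4 := hcyc.2.2 h3
        rw [← hy] at h4
        have h5 : a * (a * b) = b := by rw [← mul_assoc, ha, one_mul]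
        rw [hcval, h4, h5]
        exact ⟨hb, hb1⟩
    have h5 : orderOf c ∣ orderOf y := orderOf_dvd_of_mem_zpowers hcm
    have h6 : orderOf c = 2 := orderOf_eq_prime (by rw [pow_two]; exact hcinv.1) hcinv.2
    rw [h6] at h5
    exact (Nat.not_even_iff_odd.2 hyo) (even_iff_two_dvd.2 h5)
  · -- `b` moves `t` to `a t`
    have hbt : b * t = a * t * b := by
      calc b * t = b * t * b⁻¹ * b := by group
        _ = a * t * b := by rw [h]
    set r := v⁻¹ * b * t with hr
    have hrr : r * r = a := by
      rw [hr]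
      calc v⁻¹ * b * t * (v⁻¹ * b * t) = v⁻¹ * b * (t * v⁻¹) * b * t := by group
        _ = v⁻¹ * b * (v⁻¹ * t) * b * t := by rw [hR2]
        _ = v⁻¹ * (b * v⁻¹) * t * b * t := by group
        _ = v⁻¹ * (v * b) * t * b * t := by rw [hR1]
        _ = (b * t) * b * t := by group
        _ = (a * t * b) * b * t := by rw [hbt]
        _ = a * t * (b * b) * t := by group
        _ = a * (t * t) := by rw [hb]; group
        _ = a := by rw [ht, mul_one]
    have hr2 : r = v * t * b := by
      rw [hr]
      calc v⁻¹ * b * t = v⁻¹ * (b * t) := by group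
        _ = v⁻¹ * (a * t * b) := by rw [hbt]
        _ = (v⁻¹ * a) * t * b := by group
        _ = v * t * b := by rw [hvi]
    have hbr : b * r = r * b := by
      calc b * r = b * (v⁻¹ * b * t) := by rw [hr]
        _ = (b * v⁻¹) * b * t := by group
        _ = (v * b) * b * t := by rw [hR1]
        _ = v * (b * b) * t := by group
        _ = v * t := by rw [hb]; group
        _ = v * t * (b * b) := by rw [hb, mul_one]
        _ = (v * t * b) * b := by group
        _ = r * b := by rw [← hr2]
    exact hhom r hrr hbr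

/-- The main step of Lemma B. -/
theorem lemmaB_core (hii : HII G) {a b w r : G} {n : ℕ} (ha : a * a = 1) (ha1 : a ≠ 1)
    (hb : b * b = 1) (hb1 : b ≠ 1) (hab : a ≠ b) (hcomm : a * b = b * a) (hw : w * w = b)
    (haw : w * a = a * w) (hr : r ^ 2 ^ n = 1) (hra : r * a = a * r)
    (hrb : r * b * r⁻¹ = a * b) (hrr : r * r ≠ 1) : False := by
  have hbi : b⁻¹ = b := inv_eq_self hb
  have hai : a⁻¹ = a := inv_eq_self ha
  set ζ := r * r with hζ
  have hrab : r * (a * b) * r⁻¹ = b := by
    have h1 : r * a * r⁻¹ = a := by rw [hra]; group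
    have h2 : r * (a * b) * r⁻¹ = (r * a * r⁻¹) * (r * b * r⁻¹) := by group
    rw [h2, h1, hrb, ← mul_assoc, ha, one_mul]
  have hζb : ζ * b = b * ζ := by
    have h1 : ζ * b * ζ⁻¹ = b := by
      have h2 : ζ * b * ζ⁻¹ = r * (r * b * r⁻¹) * r⁻¹ := by rw [hζ]; group
      rw [h2, hrb, hrab]
    calc ζ * b = ζ * b * ζ⁻¹ * ζ := by group
      _ = b * ζ := by rw [h1]
  have hζn : ζ ^ 2 ^ n = 1 := by
    rw [hζ, ← pow_two, ← pow_mul, mul_comm, pow_mul, hr, one_pow]
  obtain ⟨c, hcζ, hc2, hc1⟩ := exists_inv_of_two hζn hrr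
  have hζr : ζ ∈ zpowers r := mul_mem (mem_zpowers r) (mem_zpowers r)
  have hcr : c ∈ zpowers r := (zpowers_le.2 hζr) hcζ
  have hcb : b * c = c * b := by
    obtain ⟨k, rfl⟩ := mem_zpowers_iff.1 hcζ
    exact ((show Commute ζ b from hζb).zpow_left k).symm
  have hbr : b * r * b⁻¹ ∈ zpowers r := conj_mem_of_comm hii hc2 hc1 hcr hcb
  have hbr2 : b * r * b⁻¹ = a * r := by
    have h1 : r * b = a * b * r := by
      calc r * b = r * b * r⁻¹ * r := by group
        _ = a * b * r := by rw [hrb]
    rw [hbi]
    calc b * r * b = b * (r * b) := by group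
      _ = b * (a * b * r) := by rw [h1]
      _ = (b * a) * b * r := by group
      _ = (a * b) * b * r := by rw [hcomm]
      _ = a * (b * b) * r := by group
      _ = a * r := by rw [hb, mul_one]
  have har : a ∈ zpowers r := by
    have h1 : a * r * r⁻¹ ∈ zpowers r := by
      rw [← hbr2]
      exact mul_mem hbr (inv_mem (mem_zpowers r))
    simpa using h1
  have hac : a = c := uniq_inv_zp har hcr ha hc2 ha1 hc1
  have haζ : a ∈ zpowers ζ := by rw [hac]; exact hcζ
  have hwr : w * r * w⁻¹ ∈ zpowers r := conj_mem_of_comm hii ha ha1 har haw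
  have hζw : ζ * w * ζ⁻¹ ∈ zpowers w := conj_mem_of_comm hii hb hb1 (sq_mem hw) hζb
  have hwζ : w * ζ * w⁻¹ ∈ zpowers ζ := by
    obtain ⟨k, hk⟩ := mem_zpowers_iff.1 hwr
    have h1 : w * ζ * w⁻¹ = (w * r * w⁻¹) * (w * r * w⁻¹) := by rw [hζ]; group
    rw [h1, ← hk, ← (Commute.refl r).mul_zpow k]
    exact zpow_mem (mem_zpowers ζ) k
  have hcomm2 : ζ * w = w * ζ := by
    refine comm_of_cross hwζ hζw ?_
    exact inter_triv hζn haζ (sq_mem hw) ha hb ha1 hb1 hab
  set r₁ := w * r * w⁻¹ with hr₁
  have hr₁₁ : r₁ * r₁ = ζ := by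
    have h1 : r₁ * r₁ = w * ζ * w⁻¹ := by rw [hr₁, hζ]; group
    rw [h1, ← hcomm2]
    group
  have hcr₁ : Commute r⁻¹ r₁ := by
    obtain ⟨k, hk⟩ := mem_zpowers_iff.1 hwr
    rw [← hk]
    exact ((Commute.refl r).zpow_right k).inv_left
  have hemem : r⁻¹ * r₁ ∈ zpowers r := mul_mem (inv_mem (mem_zpowers r)) hwr
  have hee : (r⁻¹ * r₁) * (r⁻¹ * r₁) = 1 := by
    calc (r⁻¹ * r₁) * (r⁻¹ * r₁) = r⁻¹ * (r₁ * r⁻¹) * r₁ := by group
      _ = r⁻¹ * (r⁻¹ * r₁) * r₁ := by rw [hcr₁.eq]
      _ = (r * r)⁻¹ * (r₁ * r₁) := by group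
      _ = 1 := by rw [hr₁₁, hζ]; group
  have hbcomm : b * r = r * b := by
    have hsq : (w * w) * r * (w * w)⁻¹ = r := by
      by_cases he : r⁻¹ * r₁ = 1
      · have h1 : r₁ = r := by
          have := inv_mul_eq_one.1 he
          exact this.symm
        have h2 : w * r₁ * w⁻¹ = r₁ := by rw [h1]; exact h1
        have h3 : (w * w) * r * (w * w)⁻¹ = w * r₁ * w⁻¹ := by rw [hr₁]; group
        rw [h3, h2, h1]
      · have h1 : r⁻¹ * r₁ = a := uniq_inv_zp hemem har hee ha he ha1
        have h2 : r₁ = r * a := by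
          rw [← h1]; group
        have h3 : (w * w) * r * (w * w)⁻¹ = w * r₁ * w⁻¹ := by rw [hr₁]; group
        have h4 : w * a * w⁻¹ = a := by rw [haw]; group
        have h5 : w * (r * a) * w⁻¹ = (w * r * w⁻¹) * (w * a * w⁻¹) := by group
        rw [h3, h2, h5, h4, ← hr₁, h2, mul_assoc, ha, mul_one]
    rw [hw] at hsq
    calc b * r = b * r * b⁻¹ * b := by group
      _ = r * b := by rw [hsq]
  apply ha1
  have h1 : a * r = r := by
    rw [← hbr2, hbcomm]
    group
  exact mul_right_cancel (b := r) (by rw [h1, one_mul])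

/-- **Lemma B**: commuting squares of `+` type have comparable centralizers. -/
theorem lemmaB (hii : HII G) {a b v w : G} (ha : a * a = 1) (ha1 : a ≠ 1) (hb : b * b = 1)
    (hb1 : b ≠ 1) (hab : a ≠ b) (hcomm : a * b = b * a) (hv : v * v = a) (hw : w * w = b)
    (hbv : b * v = v * b) (r : G) (hra : r * a = a * r) : r * b = b * r := by
  by_contra hne
  have hbi : b⁻¹ = b := inv_eq_self hb
  have hai : a⁻¹ = a := inv_eq_self ha
  have haw : w * a = a * w := by
    rw [← hv]
    exact (sq_comm hii hb hb1 hw hbv.symm).symm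
  -- `r` moves `b` to `a b`
  have hmove : r * b * r⁻¹ = a * b := by
    rcases orbit_two hii ha ha1 hv hb hbv hra with h | h
    · exfalso
      apply hne
      calc r * b = r * b * r⁻¹ * r := by group
        _ = b * r := by rw [h]
    · exact h
  -- pass to the 2-part of `r`
  obtain ⟨k, m, hm, hkm⟩ := Nat.exists_eq_two_pow_mul_odd (orderOf_pos r).ne'
  set r' := r ^ m with hr'
  have hr'n : r' ^ 2 ^ k = 1 := by
    rw [hr', ← pow_mul, mul_comm, ← hkm]
    exact pow_orderOf_eq_one r
  have hr'a : r' * a = a * r' := (show Commute r a from hra).pow_left m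
  have hrab : r * (a * b) * r⁻¹ = b := by
    have h1 : r * a * r⁻¹ = a := by rw [hra]; group
    have h2 : r * (a * b) * r⁻¹ = (r * a * r⁻¹) * (r * b * r⁻¹) := by group
    rw [h2, h1, hmove, ← mul_assoc, ha, one_mul]
  have hpow : ∀ j : ℕ, (Even j → r ^ j * b * (r ^ j)⁻¹ = b) ∧ (Odd j → r ^ j * b * (r ^ j)⁻¹ = a * b) := by
    intro j
    induction j with
    | zero => simp
    | succ j ih =>
      have hstep : r ^ (j + 1) * b * (r ^ (j + 1))⁻¹ = r * (r ^ j * b * (r ^ j)⁻¹) * r⁻¹ := by
        rw [pow_succ']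
        group
      refine ⟨fun h => ?_, fun h => ?_⟩
      · have h1 : Odd j := by
          rcases Nat.even_or_odd j with h2 | h2
          · exact absurd h (by simp [Nat.even_add_one, h2])
          · exact h2
        rw [hstep, ih.2 h1, hrab]
      · have h1 : Even j := by
          rcases Nat.even_or_odd j with h2 | h2
          · exact h2
          · exact absurd h (by simp [Nat.odd_add_one, h2])
        rw [hstep, ih.1 h1, hmove]
  have hr'b : r' * b * r'⁻¹ = a * b := (hpow m).2 hm
  by_cases hrr : r' * r' = 1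
  · -- an involution: multiply by `w`
    have hr'i : r'⁻¹ = r' := inv_eq_self hrr
    set w₂ := r' * w * r'⁻¹ with hw₂
    have hw₂2 : w₂ * w₂ = a * b := by
      have h1 : w₂ * w₂ = r' * (w * w) * r'⁻¹ := by rw [hw₂]; group
      rw [h1, hw, hr'b]
    have hab2 : (a * b) * (a * b) = 1 := by
      calc a * b * (a * b) = a * (b * a) * b := by group
        _ = a * (a * b) * b := by rw [hcomm]
        _ = (a * a) * (b * b) := by group
        _ = 1 := by rw [ha, hb, one_mul]
    have hab1 : a * b ≠ 1 := by
      intro h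
      apply hab
      exact (eq_inv_of_mul_eq_one_left h).trans hbi
    have hbab : b ≠ a * b := by
      intro h
      apply ha1
      exact mul_right_cancel (b := b) (by rw [one_mul]; exact h.symm)
    have hbw : w * b = b * w := by
      rw [← hw]; group
    have hcb : b * (a * b) = (a * b) * b := by
      rw [← mul_assoc, ← hcomm]
    have hw₂b : w₂ * b = b * w₂ := by
      -- `b` commutes with `w₂` as `r'⁻¹ b r' = a b` commutes with `w`
      have h1 : r'⁻¹ * b * r' = a * b := by
        rw [hr'i]
        exact (by simpa [hr'i] using hr'b)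
      have h2 : w * (a * b) = (a * b) * w := by
        calc w * (a * b) = (w * a) * b := by group
          _ = (a * w) * b := by rw [haw]
          _ = a * (w * b) := by group
          _ = a * (b * w) := by rw [hbw]
          _ = a * b * w := by group
      have h3 : b * r' = r' * (a * b) := by
        calc b * r' = r' * (r'⁻¹ * b * r') := by group
          _ = r' * (a * b) := by rw [h1]
      rw [hw₂, hr'i]
      calc r' * w * r' * b = r' * w * (r' * b) := by group
        _ = r' * w * ((a * b) * r') := by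
            have h4 : r' * b = (a * b) * r' := by
              calc r' * b = r' * b * r'⁻¹ * r' := by group
                _ = (a * b) * r' := by rw [hr'b]
            rw [h4]
        _ = r' * (w * (a * b)) * r' := by group
        _ = r' * ((a * b) * w) * r' := by rw [h2]
        _ = (r' * (a * b)) * w * r' := by group
        _ = (b * r') * w * r' := by rw [h3]
        _ = b * (r' * w * r') := by group
    have habw : w * (a * b) = (a * b) * w := by
      calc w * (a * b) = (w * a) * b := by group
        _ = (a * w) * b := by rw [haw]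
        _ = a * (w * b) := by group
        _ = a * (b * w) := by rw [hbw]
        _ = a * b * w := by group
    have hww₂ : w * w₂ = w₂ * w :=
      star_comm hii hb hb1 hab2 hab1 hbab hw hw₂2 habw hw₂b
    set x := r' * w with hx
    have hxx : x * x = w₂ * w := by
      rw [hw₂, hr'i, hx]
      simp only [mul_assoc]
    have hxxxx : (x * x) * (x * x) = a := by
      rw [hxx]
      calc w₂ * w * (w₂ * w) = w₂ * (w * w₂) * w := by group
        _ = w₂ * (w₂ * w) * w := by rw [hww₂]
        _ = (w₂ * w₂) * (w * w) := by group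
        _ = a * b * b := by rw [hw₂2, hw]
        _ = a * (b * b) := by group
        _ = a := by rw [hb, mul_one]
    have hx8 : x ^ 2 ^ 3 = 1 := by
      have : x ^ 2 ^ 3 = ((x * x) * (x * x)) * ((x * x) * (x * x)) := by
        simp only [pow_succ, pow_zero, one_mul, mul_assoc]; norm_num
        simp only [pow_succ, pow_zero, one_mul, mul_assoc]
      rw [this, hxxxx, ha]
    have hxa : x * a = a * x := by
      rw [hx]
      calc r' * w * a = r' * (w * a) := by group
        _ = r' * (a * w) := by rw [haw]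
        _ = (r' * a) * w := by group
        _ = (a * r') * w := by rw [hr'a]
        _ = a * (r' * w) := by group
    have hxb : x * b * x⁻¹ = a * b := by
      have h1 : x * b * x⁻¹ = r' * (w * b * w⁻¹) * r'⁻¹ := by rw [hx]; group
      have h2 : w * b * w⁻¹ = b := by rw [hbw]; group
      rw [h1, h2, hr'b]
    have hxx1 : x * x ≠ 1 := by
      intro h
      apply ha1
      rw [← hxxxx, h, one_mul]
    exact lemmaB_core hii ha ha1 hb hb1 hab hcomm hw haw hx8 hxa hxb hxx1
  · exact lemmaB_core hii ha ha1 hb hb1 hab hcomm hw haw hr'n hr'a hr'b hrr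

/-- Both directions of Lemma B. -/
theorem lemmaB_iff (hii : HII G) {a b v w : G} (ha : a * a = 1) (ha1 : a ≠ 1) (hb : b * b = 1)
    (hb1 : b ≠ 1) (hab : a ≠ b) (hcomm : a * b = b * a) (hv : v * v = a) (hw : w * w = b)
    (hbv : b * v = v * b) (r : G) : r * a = a * r ↔ r * b = b * r := by
  have haw : a * w = w * a := by
    rw [← hv]
    exact sq_comm hii hb hb1 hw hbv.symm
  exact ⟨lemmaB hii ha ha1 hb hb1 hab hcomm hv hw hbv r,
    lemmaB hii hb hb1 ha ha1 hab.symm hcomm.symm hw hv haw r⟩

end Cfsg.Agent.Lib.Zass.EvenAB
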