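import Mathlib

/-!
# Groups in which subgroups of even-order cyclic groups have the same normalizer

Basic consequences of the hypothesis `HII`: for an involution `a` and `x` with `a ∈ ⟨x⟩`,
`⟨x⟩` is normal in `C(a)`; the same for odd-order elements of `C(a)`; `N(⟨y⟩) = C(a)` for
`1 ≠ y ∈ C(a)` of odd order.
-/

set_option autoImplicit false

namespace Cfsg.Agent.Lib.Zass.EvenBasic

open Subgroup

universe u

/-- The hypothesis of the theorem: every non-trivial subgroup of a cyclic subgroup of even order has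
the same normalizer as the cyclic subgroup. -/
def HII (G : Type u) [Group G] : Prop :=
  ∀ X : Subgroup G, IsCyclic ↥X → Even (Nat.card ↥X) → ∀ Y : Subgroup G, Y ≤ X → Y ≠ ⊥ →
    Subgroup.normalizer (X : Set G) = Subgroup.normalizer (Y : Set G)

variable {G : Type u} [Group G]

theorem conj_mem_of_norm {x g : G} (h : g ∈ normalizer (zpowers x : Set G)) :
    g * x * g⁻¹ ∈ zpowers x :=
  (Subgroup.mem_normalizer_iff.1 h x).1 (mem_zpowers x)

theorem norm_of_conj_mem [Finite G] {x g : G} (h : g * x * g⁻¹ ∈ zpowers x) :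
    g ∈ normalizer (zpowers x : Set G) := by
  classical
  have hle : (zpowers x).map (MulAut.conj g).toMonoidHom ≤ zpowers x := by
    rintro _ ⟨y, hy, rfl⟩
    obtain ⟨k, rfl⟩ := mem_zpowers_iff.1 hy
    have : (MulAut.conj g).toMonoidHom (x ^ k) = (g * x * g⁻¹) ^ k := by
      simp [MulAut.conj_apply, conj_zpow]
    rw [this]
    exact zpow_mem h k
  have hcard : Nat.card ↥((zpowers x).map (MulAut.conj g).toMonoidHom) = Nat.card ↥(zpowers x) :=
    Nat.card_congr (Subgroup.equivMapOfInjective _ _ (MulAut.conj g).injective).symm.toEquiv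
  have heq : (zpowers x).map (MulAut.conj g).toMonoidHom = zpowers x :=
    Subgroup.eq_of_le_of_card_ge hle (le_of_eq hcard.symm)
  rw [Subgroup.mem_normalizer_iff]
  intro y
  constructor
  · intro hy
    rw [← heq]
    exact ⟨y, hy, rfl⟩
  · intro hy
    rw [← heq] at hy
    obtain ⟨z, hz, hzy⟩ := hy
    have : z = y := by
      have h1 : g * z * g⁻¹ = g * y * g⁻¹ := by simpa [MulAut.conj_apply] using hzy
      have h2 : g * z = g * y := mul_right_cancel h1
      exact mul_left_cancel h2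
    rwa [← this]

theorem mem_norm_zp_inv_iff [Finite G] {a g : G} (ha : a * a = 1) (ha1 : a ≠ 1) :
    g ∈ normalizer (zpowers a : Set G) ↔ g * a = a * g := by
  constructor
  · intro h
    have h1 := conj_mem_of_norm h
    obtain ⟨k, hk⟩ := mem_zpowers_iff.1 h1
    have h2 : a ^ (2 : ℤ) = 1 := by
      rw [zpow_two]; exact ha
    have h3 : a ^ k = 1 ∨ a ^ k = a := by
      rcases Int.emod_two_eq_zero_or_one k with h4 | h4
      · left
        have := Int.emod_add_mul_ediv k 2
        rw [← this, zpow_add, zpow_mul, h2, h4]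
        simp
      · right
        have := Int.emod_add_mul_ediv k 2
        rw [← this, zpow_add, zpow_mul, h2, h4]
        simp
    rcases h3 with h3 | h3
    · exfalso
      rw [h3] at hk
      apply ha1
      have : g * a * g⁻¹ = 1 := hk.symm
      have h5 : g * a = g := by
        calc g * a = g * a * g⁻¹ * g := by group
          _ = g := by rw [this, one_mul]
      exact mul_left_cancel (a := g) (by rw [h5, mul_one])
    · rw [h3] at hk
      calc g * a = g * a * g⁻¹ * g := by group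
        _ = a * g := by rw [← hk]
  · intro h
    apply norm_of_conj_mem
    have : g * a * g⁻¹ = a := by rw [h]; group
    rw [this]
    exact mem_zpowers a

/-- An element of `⟨x⟩` which is an involution: `N(⟨x⟩) = C(a)`. -/
theorem norm_zp_iff [Finite G] (hii : HII G) {a x g : G} (ha : a * a = 1) (ha1 : a ≠ 1)
    (hax : a ∈ zpowers x) : g ∈ normalizer (zpowers x : Set G) ↔ g * a = a * g := by
  have hoa : orderOf a = 2 := orderOf_eq_prime (by rwa [pow_two]) ha1
  have hcard : Even (Nat.card ↥(zpowers x)) := by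
    rw [Nat.card_zpowers]
    have h1 : orderOf a ∣ orderOf x := orderOf_dvd_of_mem_zpowers hax
    rw [hoa] at h1
    exact even_iff_two_dvd.2 h1
  have hle : zpowers a ≤ zpowers x := (zpowers_le).2 hax
  have hne : zpowers a ≠ ⊥ := by
    rwa [Ne, zpowers_eq_bot]
  rw [hii _ inferInstance hcard _ hle hne]
  exact mem_norm_zp_inv_iff ha ha1

theorem conj_mem_of_comm [Finite G] (hii : HII G) {a x g : G} (ha : a * a = 1) (ha1 : a ≠ 1)
    (hax : a ∈ zpowers x) (hg : g * a = a * g) : g * x * g⁻¹ ∈ zpowers x :=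
  conj_mem_of_norm ((norm_zp_iff hii ha ha1 hax).2 hg)

theorem comm_of_conj_mem [Finite G] (hii : HII G) {a x g : G} (ha : a * a = 1) (ha1 : a ≠ 1)
    (hax : a ∈ zpowers x) (hg : g * x * g⁻¹ ∈ zpowers x) : g * a = a * g :=
  (norm_zp_iff hii ha ha1 hax).1 (norm_of_conj_mem hg)

/-- For `y` of odd order commuting with the involution `a`, both `y` and `a` lie in `⟨y a⟩`. -/
theorem odd_mul_mem {a y : G} (ha : a * a = 1) (hy : Odd (orderOf y)) (hc : y * a = a * y) :
    a ∈ zpowers (y * a) ∧ y ∈ zpowers (y * a) := by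
  have hcm : Commute y a := hc
  obtain ⟨m, hm⟩ := hy
  have h1 : (y * a) ^ orderOf y = a := by
    rw [hcm.mul_pow, pow_orderOf_eq_one, one_mul, hm, pow_succ, pow_mul, pow_two, ha, one_pow,
      one_mul]
  have h2 : a ∈ zpowers (y * a) := by
    have h4 := pow_mem (mem_zpowers (y * a)) (orderOf y)
    rwa [h1] at h4
  refine ⟨h2, ?_⟩
  have h3 : (y * a) * a ∈ zpowers (y * a) := mul_mem (mem_zpowers _) h2
  rwa [mul_assoc, ha, mul_one] at h3

theorem odd_norm_iff [Finite G] (hii : HII G) {a y g : G} (ha : a * a = 1) (ha1 : a ≠ 1)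
    (hy : Odd (orderOf y)) (hc : y * a = a * y) (hy1 : y ≠ 1) :
    g ∈ normalizer (zpowers y : Set G) ↔ g * a = a * g := by
  obtain ⟨h1, h2⟩ := odd_mul_mem ha hy hc
  have hoa : orderOf a = 2 := orderOf_eq_prime (by rwa [pow_two]) ha1
  have hcard : Even (Nat.card ↥(zpowers (y * a))) := by
    rw [Nat.card_zpowers]
    have h3 : orderOf a ∣ orderOf (y * a) := orderOf_dvd_of_mem_zpowers h1
    rw [hoa] at h3
    exact even_iff_two_dvd.2 h3
  have hle : zpowers y ≤ zpowers (y * a) := (zpowers_le).2 h2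
  have hne : zpowers y ≠ ⊥ := by
    rwa [Ne, zpowers_eq_bot]
  rw [← hii _ inferInstance hcard _ hle hne]
  exact norm_zp_iff hii ha ha1 h1

theorem odd_conj_mem [Finite G] (hii : HII G) {a y g : G} (ha : a * a = 1) (ha1 : a ≠ 1)
    (hy : Odd (orderOf y)) (hc : y * a = a * y) (hg : g * a = a * g) : g * y * g⁻¹ ∈ zpowers y := by
  by_cases hy1 : y = 1
  · subst hy1
    simp
  · exact conj_mem_of_norm ((odd_norm_iff hii ha ha1 hy hc hy1).2 hg)

theorem odd_comm_of_conj_mem [Finite G] (hii : HII G) {a y g : G} (ha : a * a = 1) (ha1 : a ≠ 1)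
    (hy : Odd (orderOf y)) (hc : y * a = a * y) (hy1 : y ≠ 1) (hg : g * y * g⁻¹ ∈ zpowers y) :
    g * a = a * g :=
  (odd_norm_iff hii ha ha1 hy hc hy1).1 (norm_of_conj_mem hg)

/-- Two involutions centralizing a non-trivial odd element have the same centralizer. -/
theorem same_cent [Finite G] (hii : HII G) {a b y g : G} (ha : a * a = 1) (ha1 : a ≠ 1)
    (hb : b * b = 1) (hb1 : b ≠ 1) (hy : Odd (orderOf y)) (hya : y * a = a * y) (hyb : y * b = b * y)
    (hy1 : y ≠ 1) : g * a = a * g ↔ g * b = b * g := by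
  rw [← odd_norm_iff hii ha ha1 hy hya hy1, odd_norm_iff hii hb hb1 hy hyb hy1]

/-- Commutation from mutual normalization with trivial intersection. -/
theorem comm_of_cross {x y : G} (h1 : y * x * y⁻¹ ∈ zpowers x) (h2 : x * y * x⁻¹ ∈ zpowers y)
    (h3 : ∀ c, c ∈ zpowers x → c ∈ zpowers y → c = 1) : x * y = y * x := by
  have h4 : x * y * x⁻¹ * y⁻¹ = 1 := by
    apply h3
    · have : x * y * x⁻¹ * y⁻¹ = x * (y * x * y⁻¹)⁻¹ := by group
      rw [this]
      exact mul_mem (mem_zpowers x) (inv_mem h1)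
    · exact mul_mem h2 (inv_mem (mem_zpowers y))
  calc x * y = x * y * x⁻¹ * y⁻¹ * (y * x) := by group
    _ = y * x := by rw [h4, one_mul]

/-- A cyclic group has at most one involution. -/
theorem uniq_inv_zp [Finite G] {x c d : G} (hc : c ∈ zpowers x) (hd : d ∈ zpowers x) (hc2 : c * c = 1)
    (hd2 : d * d = 1) (hc1 : c ≠ 1) (hd1 : d ≠ 1) : c = d := by
  classical
  by_contra hne
  have : Fintype ↥(zpowers x) := Fintype.ofFinite _
  have h := IsCyclic.card_pow_eq_one_le (α := ↥(zpowers x)) (n := 2) (by norm_num)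
  have hsub : ({1, ⟨c, hc⟩, ⟨d, hd⟩} : Finset ↥(zpowers x)) ⊆
      Finset.univ.filter (fun a : ↥(zpowers x) => a ^ 2 = 1) := by
    intro z hz
    simp only [Finset.mem_insert, Finset.mem_singleton] at hz
    simp only [Finset.mem_filter, Finset.mem_univ, true_and]
    rcases hz with rfl | rfl | rfl
    · simp
    · apply Subtype.ext
      simpa [pow_two] using hc2
    · apply Subtype.ext
      simpa [pow_two] using hd2
  have h3 : ({1, ⟨c, hc⟩, ⟨d, hd⟩} : Finset ↥(zpowers x)).card = 3 := by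
    rw [Finset.card_eq_three]
    refine ⟨1, ⟨c, hc⟩, ⟨d, hd⟩, ?_, ?_, ?_, rfl⟩
    · intro h; exact hc1 (congrArg Subtype.val h).symm
    · intro h; exact hd1 (congrArg Subtype.val h).symm
    · intro h; exact hne (congrArg Subtype.val h)
  have h4 := Finset.card_le_card hsub
  rw [h3] at h4
  have h5 : (Finset.univ.filter (fun a : ↥(zpowers x) => a ^ 2 = 1)).card ≤ 2 := by
    convert h
  omega

/-- A non-trivial `2`-element has a power which is an involution. -/
theorem exists_inv_of_two {y : G} {n : ℕ} (hy : y ^ 2 ^ n = 1) (hy1 : y ≠ 1) :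
    ∃ c ∈ zpowers y, c * c = 1 ∧ c ≠ 1 := by
  classical
  have hex : ∃ m, y ^ 2 ^ m = 1 := ⟨n, hy⟩
  have hm := Nat.find_spec hex
  have hmin := fun k => Nat.find_min hex (m := k)
  set m := Nat.find hex
  cases hm0 : m with
  | zero =>
    rw [hm0] at hm
    exact absurd (by simpa using hm) hy1
  | succ k =>
    refine ⟨y ^ 2 ^ k, pow_mem (mem_zpowers _) _, ?_, hmin k (by omega)⟩
    rw [hm0, pow_succ, pow_mul, pow_two] at hm
    exact hm

theorem pow_two_pow_of_orderOf_dvd {x : G} (n : ℕ) (h : orderOf x ∣ 2 ^ n) : x ^ 2 ^ n = 1 :=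
  orderOf_dvd_iff_pow_eq_one.1 h

/-- Two `2`-elements with different involutions generate cyclic groups with trivial intersection. -/
theorem inter_triv [Finite G] {x y e f : G} {n : ℕ} (hx : x ^ 2 ^ n = 1) (he : e ∈ zpowers x)
    (hf : f ∈ zpowers y) (he2 : e * e = 1) (hf2 : f * f = 1) (he1 : e ≠ 1) (hf1 : f ≠ 1)
    (hef : e ≠ f) (c : G) (h1 : c ∈ zpowers x) (h2 : c ∈ zpowers y) : c = 1 := by
  by_contra hc
  obtain ⟨k, rfl⟩ := mem_zpowers_iff.1 h1
  have hc2 : (x ^ k) ^ 2 ^ n = 1 := by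
    rw [← zpow_natCast, ← zpow_mul, mul_comm, zpow_mul, zpow_natCast, hx, one_zpow]
  obtain ⟨d, hd, hd2, hd1⟩ := exists_inv_of_two hc2 hc
  have hdx : d ∈ zpowers x := (zpowers_le.2 h1) hd
  have hdy : d ∈ zpowers y := (zpowers_le.2 h2) hd
  exact hef ((uniq_inv_zp he hdx he2 hd2 he1 hd1).trans (uniq_inv_zp hf hdy hf2 hd2 hf1 hd1).symm)

/-- A `2`-element and an odd element have trivially intersecting cyclic groups. -/
theorem inter_triv_odd [Finite G] {x y : G} {n : ℕ} (hx : x ^ 2 ^ n = 1) (hy : Odd (orderOf y))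
    (c : G) (h1 : c ∈ zpowers x) (h2 : c ∈ zpowers y) : c = 1 := by
  have h3 : orderOf c ∣ orderOf y := orderOf_dvd_of_mem_zpowers h2
  have h4 : orderOf c ∣ 2 ^ n := by
    have h5 : orderOf c ∣ orderOf x := orderOf_dvd_of_mem_zpowers h1
    exact h5.trans (orderOf_dvd_of_pow_eq_one hx)
  have h5 : Nat.Coprime (orderOf y) (2 ^ n) := (Nat.Coprime.pow_right n (Nat.coprime_comm.1
    (Nat.coprime_two_left.2 hy)))
  have h6 : orderOf c ∣ Nat.gcd (orderOf y) (2 ^ n) := Nat.dvd_gcd h3 h4
  rw [h5] at h6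
  exact orderOf_eq_one_iff.1 (Nat.dvd_one.1 h6)

/-- An element of order four: a normalizing element acts as `1` or inversion. -/
theorem sign_of_mem {v a g : G} (hv : v * v = a) (ha : a * a = 1) (ha1 : a ≠ 1)
    (h : g * v * g⁻¹ ∈ zpowers v) : g * v * g⁻¹ = v ∨ g * v * g⁻¹ = v⁻¹ := by
  obtain ⟨k, hk⟩ := mem_zpowers_iff.1 h
  have hv4 : v ^ (4 : ℤ) = 1 := by
    have : v ^ (4 : ℤ) = (v * v) * (v * v) := by
      rw [show (4 : ℤ) = 2 + 2 by norm_num, zpow_add, zpow_two]
    rw [this, hv, ha]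
  have hv1 : v ^ (2 : ℤ) = a := by rw [zpow_two, hv]
  have hne : ∀ {u : G}, g * u * g⁻¹ = 1 → u = 1 := by
    intro u hu
    have : u = g⁻¹ * (g * u * g⁻¹) * g := by group
    rw [this, hu]
    group
  have hrw : v ^ k = v ^ (k % 4) := by
    conv_lhs => rw [← Int.emod_add_mul_ediv k 4, zpow_add, zpow_mul, hv4, one_zpow, mul_one]
  have hcases : k % 4 = 0 ∨ k % 4 = 1 ∨ k % 4 = 2 ∨ k % 4 = 3 := by omega
  rcases hcases with h0 | h0 | h0 | h0
  · exfalso
    rw [hrw, h0, zpow_zero] at hk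
    have := hne hk.symm
    apply ha1
    rw [← hv, this, one_mul]
  · left
    rw [← hk, hrw, h0, zpow_one]
  · exfalso
    rw [hrw, h0, hv1] at hk
    have h2 : a = g * (v * v) * g⁻¹ := by rw [hv]; exact (by
      have h3 : (g * v * g⁻¹) * (g * v * g⁻¹) = a * a := by rw [← hk]
      have h4 : g * (v * v) * g⁻¹ = (g * v * g⁻¹) * (g * v * g⁻¹) := by group
      rw [ha] at h3
      rw [hv] at h4
      rw [h3] at h4
      have h5 := hne h4
      exact absurd h5 ha1)
    have h3 : (g * v * g⁻¹) * (g * v * g⁻¹) = a * a := by rw [← hk]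
    have h4 : g * (v * v) * g⁻¹ = (g * v * g⁻¹) * (g * v * g⁻¹) := by group
    rw [ha] at h3
    rw [hv] at h4
    rw [h3] at h4
    exact ha1 (hne h4)
  · right
    rw [← hk, hrw, h0]
    have h4 : v ^ (3 : ℤ) * v = 1 := by
      rw [← zpow_add_one]
      exact hv4
    exact eq_inv_of_mul_eq_one_left h4

/-- An involution and an element of order `p`: `±1` action. -/
theorem sign_prime [Finite G] {y u : G} {p : ℕ} (hp : p.Prime) (hy : orderOf y = p) (hu : u * u = 1)
    (h : u * y * u⁻¹ ∈ zpowers y) : u * y * u⁻¹ = y ∨ u * y * u⁻¹ = y⁻¹ := by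
  obtain ⟨k, hk⟩ := mem_zpowers_iff.1 h
  have h1 : u * (u * y * u⁻¹) * u⁻¹ = y := by
    have hinv : u⁻¹ = u := inv_eq_of_mul_eq_one_left hu
    rw [hinv]
    calc u * (u * y * u) * u = (u * u) * y * (u * u) := by group
      _ = y := by rw [hu]; group
  have h2 : u * (y ^ k) * u⁻¹ = (u * y * u⁻¹) ^ k := by
    rw [conj_zpow]
  have h3 : y ^ (k * k) = y := by
    rw [← hk] at h1
    rw [h2, ← hk] at h1
    rwa [← zpow_mul] at h1
  have h4 : y ^ (k * k - 1) = 1 := by
    rw [zpow_sub, h3]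
    simp
  have h5 : (p : ℤ) ∣ (k - 1) * (k + 1) := by
    have h6 : (orderOf y : ℤ) ∣ k * k - 1 := orderOf_dvd_iff_zpow_eq_one.2 h4
    rw [hy] at h6
    have h7 : (k - 1) * (k + 1) = k * k - 1 := by ring
    rwa [h7]
  rcases (Nat.prime_iff_prime_int.1 hp).dvd_or_dvd h5 with h6 | h6
  · left
    rw [← hk]
    rw [← hy] at h6
    have := orderOf_dvd_iff_zpow_eq_one.1 h6
    rw [zpow_sub_one] at this
    have h7 : y ^ k = y := by
      have h8 : y ^ k * y⁻¹ * y = y := by rw [this, one_mul]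
      simpa using h8
    exact h7
  · right
    rw [← hk]
    rw [← hy] at h6
    have := orderOf_dvd_iff_zpow_eq_one.1 h6
    rw [zpow_add_one] at this
    exact eq_inv_of_mul_eq_one_left this

end Cfsg.Agent.Lib.Zass.EvenBasic
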