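import Cfsg.Agent.Lib.Zass.EvenFT
import Cfsg.Agent.S2202

/-!
# Application of the classification of groups with abelian involution centralizers
-/

set_option autoImplicit false
set_option linter.unusedSectionVars false
set_option linter.style.haveILetI false

namespace Cfsg.Agent.Lib.Zass.EvenCE

open Subgroup Matrix Cfsg.Agent.Lib.Zass.EvenBasic Cfsg.Agent.Lib.Zass.EvenAB
  Cfsg.Agent.Lib.Zass.EvenSub Cfsg.Agent.Lib.Zass.EvenFT
open scoped MatrixGroups

universe u

section SL2

variable {F : Type*} [Field F] [CharP F 2]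

theorem two_eq_zero' : (2 : F) = 0 := by
  simpa using CharP.cast_eq_zero F 2

theorem sq_eq_one_of_trace_zero (M : SpecialLinearGroup (Fin 2) F) (h : M.1 0 0 + M.1 1 1 = 0) :
    M * M = 1 := by
  have h2 : (2 : F) = 0 := two_eq_zero'
  have hdet := M.2
  rw [Matrix.det_fin_two] at hdet
  apply Subtype.ext
  ext i j
  fin_cases i <;> fin_cases j <;> simp
  · linear_combination (M.1 0 0) * h - hdet - h2
  · linear_combination (M.1 0 1) * h
  · linear_combination (M.1 1 0) * h
  · linear_combination (M.1 1 1) * h - hdet - h2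

/-- In characteristic two an element of `SL₂` with `M⁴ = 1` has `M² = 1`. -/
theorem sl2_sq_of_four (M : SpecialLinearGroup (Fin 2) F) (h : M * M * (M * M) = 1) : M * M = 1 := by
  have h2 : (2 : F) = 0 := two_eq_zero'
  have hdet := M.2
  rw [Matrix.det_fin_two] at hdet
  have hM : M.1 = !![M.1 0 0, M.1 0 1; M.1 1 0, M.1 1 1] := by
    ext i j; fin_cases i <;> fin_cases j <;> rfl
  have h4 : M.1 * M.1 * (M.1 * M.1) = 1 := by
    have := congrArg Subtype.val h
    simpa using this
  have e00 := congrFun (congrFun h4 0) 0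
  have e11 := congrFun (congrFun h4 1) 1
  simp only [Matrix.mul_apply, Fin.sum_univ_two, Matrix.one_apply_eq] at e00 e11
  apply sq_eq_one_of_trace_zero
  set a := M.1 0 0
  set b := M.1 0 1
  set c := M.1 1 0
  set d := M.1 1 1
  have hτ : (a + d) ^ 4 = 0 := by
    linear_combination e00 + e11 + (1 + 2 * (a + d) ^ 2 * (a * d - b * c) - (a * d - b * c) ^ 2) * h2
  exact pow_eq_zero_iff (by norm_num) |>.1 hτ

/-- In characteristic two an element commuting with an involution of `SL₂` squares to one. -/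
theorem sl2_sq_of_comm (t y : SpecialLinearGroup (Fin 2) F) (ht : t * t = 1) (ht1 : t ≠ 1)
    (hc : y * t = t * y) : y * y = 1 := by
  have h2 : (2 : F) = 0 := two_eq_zero'
  have hdet := t.2
  rw [Matrix.det_fin_two] at hdet
  have htt : t.1 * t.1 = 1 := by
    have := congrArg Subtype.val ht
    simpa using this
  have hyt : y.1 * t.1 = t.1 * y.1 := by
    have := congrArg Subtype.val hc
    simpa using this
  have e00 := congrFun (congrFun htt 0) 0
  have e11 := congrFun (congrFun htt 1) 1
  have f01 := congrFun (congrFun hyt 0) 1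
  have f10 := congrFun (congrFun hyt 1) 0
  simp only [Matrix.mul_apply, Fin.sum_univ_two, Matrix.one_apply_eq] at e00 e11 f01 f10
  apply sq_eq_one_of_trace_zero
  set A := t.1 0 0 with hA
  set B := t.1 0 1 with hB
  set C := t.1 1 0 with hC
  set D := t.1 1 1 with hD
  set p := y.1 0 0
  set q := y.1 0 1
  set r := y.1 1 0
  set s := y.1 1 1
  have hAD : A + D = 0 := by
    have : (A + D) ^ 2 = 0 := by
      linear_combination e00 - e11 + (D * D + A * D) * h2
    exact pow_eq_zero_iff (by norm_num) |>.1 this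
  have h1 : B * (p + s) = 0 := by
    linear_combination f01 + q * hAD + (B * s - q * D) * h2
  have h3 : C * (p + s) = 0 := by
    linear_combination -f10 + r * hAD + (C * s - r * D) * h2
  by_cases hB0 : B = 0
  · by_cases hC0 : C = 0
    · exfalso
      apply ht1
      have hA1 : A = 1 := by
        have : (A + 1) ^ 2 = 0 := by
          rw [hB0] at e00
          linear_combination e00 + (A + 1) * h2
        have h5 : A + 1 = 0 := pow_eq_zero_iff (by norm_num) |>.1 this
        linear_combination h5 - h2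
      have hD1 : D = 1 := by
        rw [hA1] at hAD
        linear_combination hAD - h2
      apply Subtype.ext
      ext i j
      fin_cases i <;> fin_cases j
      · simpa using hA1
      · simpa using hB0
      · simpa using hC0
      · simpa using hD1
    · exact (mul_eq_zero.1 h3).resolve_left hC0
  · exact (mul_eq_zero.1 h1).resolve_left hB0

end SL2

/-- **The trichotomy**: in a normal subgroup `N` whose involutions have abelian centralizers in `N`,
with a non-trivial Sylow `2`-subgroup, one gets `SL₂(F) × A`. -/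
theorem ce_main {G : Type u} [Group G] [Finite G] (hss : NS G) (hFT : FT G) (T : Sylow 2 G)
    {N : Subgroup G} (hN : N.Normal) {z₀ : G} (hz₀T : z₀ ∈ (T : Subgroup G)) (hz₀N : z₀ ∈ N)
    (hz₀ : z₀ ≠ 1)
    (hcomm : ∀ z ∈ (T : Subgroup G), z ∈ N → z * z = 1 → z ≠ 1 → ∀ u ∈ N, ∀ v ∈ N, u * z = z * u →
      v * z = z * v → u * v = v * u) :
    ∃ (F : Type) (_ : Field F) (_ : Fintype F) (A : Type) (_ : CommGroup A) (_ : Finite A),
      CharP F 2 ∧ Odd (Nat.card A) ∧ Nonempty (↥N ≃* SpecialLinearGroup (Fin 2) F × A) := by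
  classical
  haveI : Fact (Nat.Prime 2) := ⟨Nat.prime_two⟩
  haveI := hN
  -- an involution in `T ∩ N`
  obtain ⟨n₀, hn₀⟩ := two_elt T hz₀T
  obtain ⟨z₁, hz₁m, hz₁2, hz₁1⟩ := exists_inv_of_two hn₀ hz₀
  have hz₁T : z₁ ∈ (T : Subgroup G) := (zpowers_le.2 hz₀T) hz₁m
  have hz₁N : z₁ ∈ N := (zpowers_le.2 hz₀N) hz₁m
  have hTN : (⟨z₁, hz₁N⟩ : N) ≠ 1 := fun h => hz₁1 (congrArg Subtype.val h)
  have heven : Even (Nat.card N) := by
    have h1 : orderOf (⟨z₁, hz₁N⟩ : N) = 2 := by
      rw [Subgroup.orderOf_mk]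
      exact orderOf_eq_prime (by rwa [pow_two]) hz₁1
    rw [even_iff_two_dvd, ← h1]
    exact orderOf_dvd_natCard _
  have hS := Cfsg.Agent.S2202.result (G := N) heven (by
    intro t ht
    have ht2 : (t : G) * t = 1 := by
      have := pow_orderOf_eq_one t
      rw [ht, pow_two] at this
      exact congrArg Subtype.val this
    have ht1 : (t : G) ≠ 1 := by
      intro h
      have h1 : t = 1 := Subtype.ext h
      rw [h1, orderOf_one] at ht
      omega
    obtain ⟨g, hgN, hgT⟩ := exists_conj_mem (n := 1) T N t.2 (by simpa [pow_two] using ht2)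
    set z := g * (t : G) * g⁻¹ with hz
    have hz2 : z * z = 1 := by
      rw [hz]
      calc g * (t : G) * g⁻¹ * (g * t * g⁻¹) = g * ((t : G) * t) * g⁻¹ := by group
        _ = 1 := by rw [ht2]; group
    have hz1 : z ≠ 1 := by
      intro h
      apply ht1
      have : (t : G) = g⁻¹ * z * g := by rw [hz]; group
      rw [this, h]
      group
    have hzN : z ∈ N := mul_mem (mul_mem hgN t.2) (inv_mem hgN)
    refine ⟨⟨fun a b => ?_⟩⟩
    apply Subtype.ext
    apply Subtype.ext
    have ha : (a : N) * t = t * (a : N) := (mem_centralizer_singleton_iff.1 a.2)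
    have hb : (b : N) * t = t * (b : N) := (mem_centralizer_singleton_iff.1 b.2)
    have ha' : ((a : N) : G) * t = t * ((a : N) : G) := congrArg Subtype.val ha
    have hb' : ((b : N) : G) * t = t * ((b : N) : G) := congrArg Subtype.val hb
    have hconj : ∀ c : G, c * t = t * c → (g * c * g⁻¹) * z = z * (g * c * g⁻¹) := by
      intro c hc
      rw [hz]
      calc g * c * g⁻¹ * (g * (t : G) * g⁻¹) = g * (c * t) * g⁻¹ := by group
        _ = g * (t * c) * g⁻¹ := by rw [hc]
        _ = g * (t : G) * g⁻¹ * (g * c * g⁻¹) := by group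
    have h5 := hcomm z hgT hzN hz2 hz1 (g * ((a : N) : G) * g⁻¹)
      (mul_mem (mul_mem hgN (a : N).2) (inv_mem hgN)) (g * ((b : N) : G) * g⁻¹)
      (mul_mem (mul_mem hgN (b : N).2) (inv_mem hgN)) (hconj _ ha') (hconj _ hb')
    have h6 : g * (((a : N) : G) * ((b : N) : G)) * g⁻¹ = g * (((b : N) : G) * ((a : N) : G)) * g⁻¹ := by
      calc g * (((a : N) : G) * ((b : N) : G)) * g⁻¹
          = (g * ((a : N) : G) * g⁻¹) * (g * ((b : N) : G) * g⁻¹) := by group
        _ = (g * ((b : N) : G) * g⁻¹) * (g * ((a : N) : G) * g⁻¹) := h5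
        _ = g * (((b : N) : G) * ((a : N) : G)) * g⁻¹ := by group
    simpa using h6)
  rcases hS with hc | hnorm | hsl
  · exfalso
    have hcyc : IsCyclic ↥((T : Subgroup G).subgroupOf N) := hc (sylowOf T N)
    have := no_cyclic hss hFT T hN hcyc
    rw [this, mem_bot] at hz₁N
    exact hz₁1 hz₁N
  · exfalso
    have hnS : ((sylowOf T N : Sylow 2 N) : Subgroup N).Normal := hnorm _
    -- `T ∩ N` is normal in `G`
    have hD : ((T : Subgroup G) ⊓ N).Normal := by
      constructor
      rintro x ⟨hxT, hxN⟩ g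
      have hgx : g * x * g⁻¹ ∈ N := hN.conj_mem x hxN g
      obtain ⟨m, hm⟩ := two_elt T hxT
      have hm2 : (g * x * g⁻¹) ^ 2 ^ m = 1 := by
        rw [conj_pow, hm]
        group
      obtain ⟨h, hhN, hhT⟩ := exists_conj_mem T N hgx hm2
      have h1 : (⟨h * (g * x * g⁻¹) * h⁻¹, mul_mem (mul_mem hhN hgx) (inv_mem hhN)⟩ : N) ∈
          ((sylowOf T N : Sylow 2 N) : Subgroup N) := by
        rw [coe_sylowOf, mem_subgroupOf]
        exact hhT
      have h2 := hnS.conj_mem _ h1 (⟨h, hhN⟩ : N)⁻¹
      rw [coe_sylowOf, mem_subgroupOf] at h2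
      refine ⟨?_, hgx⟩
      have h3 : g * x * g⁻¹ = h⁻¹ * (h * (g * x * g⁻¹) * h⁻¹) * h := by group
      show g * x * g⁻¹ ∈ (T : Subgroup G)
      rw [h3]
      simp only [Subgroup.coe_mul, Subgroup.coe_inv, inv_inv] at h2
      exact h2
    have h2 : IsPGroup 2 ↥((T : Subgroup G) ⊓ N) := T.isPGroup'.to_le inf_le_left
    have := no_two hss hD h2
    have h5 : z₁ ∈ (T : Subgroup G) ⊓ N := ⟨hz₁T, hz₁N⟩
    rw [this, mem_bot] at h5
    exact hz₁1 h5
  · exact hsl

end Cfsg.Agent.Lib.Zass.EvenCE
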