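import Cfsg.Agent.Lib.Zass.EvenCE

/-!
# The configuration with several central involutions

`T` a Sylow `2`-subgroup inside `H = C(a)`, `M ≤ T` of index at most two, all involutions of `M` with
centralizer `H`, `M` containing two distinct involutions.  Then, inside the normal subgroup `N` with
`T ∩ N = M`, one has `N ≃ SL₂(F) × A`.
-/

set_option autoImplicit false
set_option linter.unusedSectionVars false
set_option linter.style.haveILetI false

namespace Cfsg.Agent.Lib.Zass.EvenCE2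

open Subgroup Matrix Cfsg.Agent.Lib.Zass.EvenBasic Cfsg.Agent.Lib.Zass.EvenAB
  Cfsg.Agent.Lib.Zass.EvenSub Cfsg.Agent.Lib.Zass.EvenFT Cfsg.Agent.Lib.Zass.EvenCE
open scoped MatrixGroups Pointwise

universe u

variable {G : Type u} [Group G] [Finite G]

/-- Two involutions and a third commuting involution generate a `2`-group. -/
theorem isPGroup_three {a b x : G} (ha : a * a = 1) (hb : b * b = 1) (hx : x * x = 1)
    (hab : a * b = b * a) (hax : a * x = x * a) (hbx : b * x = x * b) :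
    IsPGroup 2 ↥(zpowers a ⊔ zpowers b ⊔ zpowers x) := by
  have h2 : ∀ {c : G}, c * c = 1 → c ^ 2 ^ 1 = 1 := by
    intro c hc
    simpa [pow_two] using hc
  have hpa := isPGroup_zpowers (h2 ha)
  have hpb := isPGroup_zpowers (h2 hb)
  have hpx := isPGroup_zpowers (h2 hx)
  have hnorm : ∀ {c d : G}, c * d = d * c → zpowers c ≤ normalizer (zpowers d : Set G) := by
    intro c d hcd
    rw [zpowers_le]
    apply norm_of_conj_mem
    have : c * d * c⁻¹ = d := by rw [hcd]; group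
    rw [this]
    exact mem_zpowers d
  have h1 : IsPGroup 2 ↥(zpowers a ⊔ zpowers b) :=
    IsPGroup.to_sup_of_normal_right' hpa hpb (hnorm hab)
  refine IsPGroup.to_sup_of_normal_right' h1 hpx ?_
  exact sup_le (hnorm hax) (hnorm hbx)

/-- An odd-order element lies in every subgroup of index two. -/
theorem odd_mem_of_index_two {N : Subgroup G} (h : N.index = 2) {y : G} (hy : Odd (orderOf y)) :
    y ∈ N := by
  obtain ⟨m, hm⟩ := hy
  have h1 : y * y ∈ N := Subgroup.mul_self_mem_of_index_two h y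
  have h2 : y = (y * y) ^ (m + 1) := by
    rw [← pow_two, ← pow_mul]
    have h3 : 2 * (m + 1) = orderOf y + 1 := by omega
    rw [h3, pow_succ, pow_orderOf_eq_one, one_mul]
  rw [h2]
  exact pow_mem h1 _

theorem relIndex_two_of {T M : Subgroup G} (hMT : M ≤ T) {x₀ : G} (hx₀ : x₀ ∈ T) (hx₀M : x₀ ∉ M)
    (h : ∀ x₁ ∈ T, ∀ x₂ ∈ T, x₁ ∉ M → x₂ ∉ M → x₁ * x₂ ∈ M) : M.relIndex T = 2 := by
  rw [Subgroup.relIndex, Subgroup.index_eq_two_iff]
  refine ⟨⟨x₀, hx₀⟩, ?_⟩
  rintro ⟨b, hb⟩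
  simp only [mem_subgroupOf, Subgroup.coe_mul]
  by_cases hbM : b ∈ M
  · refine Or.inr ⟨hbM, ?_⟩
    intro h1
    apply hx₀M
    have := mul_mem (inv_mem hbM) h1
    simpa using this
  · refine Or.inl ⟨h b hb x₀ hx₀ hbM hx₀M, hbM⟩

/-- **Configuration E.** -/
theorem confE (hii : HII G) (hss : NS G) (hFT : FT G) (T : Sylow 2 G) {a b : G} (ha : a * a = 1)
    (ha1 : a ≠ 1) (hb : b * b = 1) (hb1 : b ≠ 1) (hab : a ≠ b)
    (hTH : ∀ τ ∈ (T : Subgroup G), τ * a = a * τ) (M : Subgroup G) (hMT : M ≤ (T : Subgroup G))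
    (haM : a ∈ M) (hbM : b ∈ M) (hMab : ∀ x ∈ M, ∀ y ∈ M, x * y = y * x)
    (hE1 : ∀ z ∈ M, z * z = 1 → z ≠ 1 → ∀ g : G, g * z = z * g ↔ g * a = a * g)
    (hE2 : ∀ x ∈ (T : Subgroup G), x ∉ M → x * x = 1 ∧ ∃ w : G, w * a = a * w ∧ x * w ≠ w * x)
    (hE3 : ∀ x₁ ∈ (T : Subgroup G), ∀ x₂ ∈ (T : Subgroup G), x₁ ∉ M → x₂ ∉ M → x₁ * x₂ ∈ M) :
    ∃ N : Subgroup G, N.Normal ∧ (N = ⊤ ∨ N.index = 2) ∧ (∀ x ∈ (T : Subgroup G), x ∈ N ↔ x ∈ M) ∧
      ∃ (F : Type) (_ : Field F) (_ : Fintype F) (A : Type) (_ : CommGroup A) (_ : Finite A),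
        CharP F 2 ∧ Odd (Nat.card A) ∧ Nonempty (↥N ≃* SpecialLinearGroup (Fin 2) F × A) := by
  classical
  haveI : Fact (Nat.Prime 2) := ⟨Nat.prime_two⟩
  set O := oddSub hii ha ha1 with hO
  -- the elements of `M` and `O` commute
  have hMO : ∀ m ∈ M, ∀ y ∈ O, m * y = y * m := by
    intro m hm y hy
    by_cases hm1 : m = 1
    · subst hm1; simp
    obtain ⟨n, hn⟩ := two_elt T (hMT hm)
    obtain ⟨e, hem, he2, he1⟩ := exists_inv_of_two hn hm1
    have heM : e ∈ M := (zpowers_le.2 hm) hem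
    exact comm_two_odd hii he2 he1 hem hn hy.2 ((hE1 e heM he2 he1 y).2 hy.1)
  have hab' : a * b = b * a := hMab a haM b hbM
  -- elements `O M` commute
  have hcomm2 : ∀ y₁ ∈ O, ∀ m₁ ∈ M, ∀ y₂ ∈ O, ∀ m₂ ∈ M, (y₁ * m₁) * (y₂ * m₂) = (y₂ * m₂) * (y₁ * m₁) := by
    intro y₁ hy₁ m₁ hm₁ y₂ hy₂ m₂ hm₂
    calc y₁ * m₁ * (y₂ * m₂) = y₁ * (m₁ * y₂) * m₂ := by group
      _ = y₁ * (y₂ * m₁) * m₂ := by rw [hMO m₁ hm₁ y₂ hy₂]
      _ = (y₁ * y₂) * (m₁ * m₂) := by group
      _ = (y₂ * y₁) * (m₂ * m₁) := by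
        rw [oddSub_comm hii ha ha1 hy₁ hy₂, hMab m₁ hm₁ m₂ hm₂]
      _ = y₂ * (y₁ * m₂) * m₁ := by group
      _ = y₂ * (m₂ * y₁) * m₁ := by rw [hMO m₂ hm₂ y₁ hy₁]
      _ = (y₂ * m₂) * (y₁ * m₁) := by group
  -- the normal subgroup
  obtain ⟨N, hNn, hNtop, hNT, hNO⟩ : ∃ N : Subgroup G, N.Normal ∧ (N = ⊤ ∨ N.index = 2) ∧
      (∀ x ∈ (T : Subgroup G), x ∈ N ↔ x ∈ M) ∧ (∀ y ∈ O, y ∈ N) := by
    by_cases hall : ∀ x ∈ (T : Subgroup G), x ∈ M
    · refine ⟨⊤, inferInstance, Or.inl rfl, fun x hx => ⟨fun _ => hall x hx, fun _ => mem_top x⟩,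
        fun y _ => mem_top y⟩
    · -- no fusion
      have hnofus : ∀ x ∈ (T : Subgroup G), x ∉ M → ∀ g : G, g⁻¹ * x * g ∈ (T : Subgroup G) →
          g⁻¹ * x * g ∉ M := by
        intro x hxT hxM g _ heM
        obtain ⟨hx2, w, hwa, hxw⟩ := hE2 x hxT hxM
        set e := g⁻¹ * x * g with he
        have hx1 : x ≠ 1 := by
          intro h
          apply hxM
          rw [h]
          exact one_mem _
        have he2 : e * e = 1 := by
          rw [he]
          calc g⁻¹ * x * g * (g⁻¹ * x * g) = g⁻¹ * (x * x) * g := by group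
            _ = 1 := by rw [hx2]; group
        have he1 : e ≠ 1 := by
          intro h
          apply hx1
          have : x = g * e * g⁻¹ := by rw [he]; group
          rw [this, h]
          group
        have hCe := hE1 e heM he2 he1
        have hxH : x * a = a * x := hTH x hxT
        have hbH : b * a = a * b := hab'.symm
        -- `a`, `b` are central in `H`
        have hcentral : ∀ u ∈ M, u * u = 1 → u ≠ 1 → ∀ g : G, g * a = a * g → g * u = u * g := by
          intro u hu hu2 hu1 g hg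
          exact (hE1 u hu hu2 hu1 g).2 hg
        have hax : a * x = x * a := hxH.symm
        have hbx : b * x = x * b := (hcentral b hbM hb hb1 x hxH).symm
        set C := centralizer ({x} : Set G) with hC
        have hmemC : ∀ {y : G}, y ∈ C ↔ y * x = x * y := by
          intro y
          rw [hC, mem_centralizer_singleton_iff]
        let T₁ : Sylow 2 G := g • T
        have hmemT₁ : ∀ {y : G}, y ∈ (T₁ : Subgroup G) ↔ g⁻¹ * y * g ∈ (T : Subgroup G) := by
          intro y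
          have h1 : ((T₁ : Sylow 2 G) : Subgroup G) = MulAut.conj g • (T : Subgroup G) := by
            show ((g • T : Sylow 2 G) : Subgroup G) = _
            rw [Sylow.smul_def, Sylow.pointwise_smul_def]
          rw [h1, Subgroup.mem_pointwise_smul_iff_inv_smul_mem]
          simp [MulAut.smul_def, MulAut.conj_inv_apply]
        have hT₁C : (T₁ : Subgroup G) ≤ C := by
          intro y hy
          rw [hmemC]
          have h1 := hmemT₁.1 hy
          have h2 : (g⁻¹ * y * g) * e = e * (g⁻¹ * y * g) := (hCe _).2 (hTH _ h1)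
          rw [he] at h2
          have h3 : g⁻¹ * (y * x) * g = g⁻¹ * (x * y) * g := by
            calc g⁻¹ * (y * x) * g = g⁻¹ * y * g * (g⁻¹ * x * g) := by group
              _ = g⁻¹ * x * g * (g⁻¹ * y * g) := h2
              _ = g⁻¹ * (x * y) * g := by group
          have h4 := mul_right_cancel h3
          exact mul_left_cancel h4
        have hBC : zpowers a ⊔ zpowers b ⊔ zpowers x ≤ C := by
          refine sup_le (sup_le ?_ ?_) ?_ <;> rw [zpowers_le, hmemC]
          · exact hax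
          · exact hbx
        obtain ⟨h, hhC, hhB⟩ := exists_adjust C T₁ hT₁C _ hBC (isPGroup_three ha hb hx2 hab' hax hbx)
        have hh : h * x = x * h := hmemC.1 hhC
        set g₁ := h * g with hg₁
        have hconjT : ∀ y ∈ zpowers a ⊔ zpowers b ⊔ zpowers x, g₁⁻¹ * y * g₁ ∈ (T : Subgroup G) := by
          intro y hy
          have h1 := hmemT₁.1 (hhB y hy)
          have h2 : g₁⁻¹ * y * g₁ = g⁻¹ * (h⁻¹ * y * h) * g := by rw [hg₁]; group
          rw [h2]
          exact h1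
        have haT := hconjT a (mem_sup_left (mem_sup_left (mem_zpowers a)))
        have hbT := hconjT b (mem_sup_left (mem_sup_right (mem_zpowers b)))
        have hg₁x : g₁⁻¹ * x * g₁ = e := by
          rw [he, hg₁]
          have : h⁻¹ * x * h = x := by rw [mul_assoc, ← hh]; group
          calc (h * g)⁻¹ * x * (h * g) = g⁻¹ * (h⁻¹ * x * h) * g := by group
            _ = g⁻¹ * x * g := by rw [this]
        -- an involution `u` of `M` with conjugate in `M`
        have hinv_conj : ∀ u : G, u * u = 1 → (g₁⁻¹ * u * g₁) * (g₁⁻¹ * u * g₁) = 1 := by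
          intro u hu
          calc g₁⁻¹ * u * g₁ * (g₁⁻¹ * u * g₁) = g₁⁻¹ * (u * u) * g₁ := by group
            _ = 1 := by rw [hu]; group
        have hne_conj : ∀ u : G, u ≠ 1 → g₁⁻¹ * u * g₁ ≠ 1 := by
          intro u hu h1
          apply hu
          have : u = g₁ * (g₁⁻¹ * u * g₁) * g₁⁻¹ := by group
          rw [this, h1]
          group
        obtain ⟨u, huM, hu2, hu1, hu₁M⟩ : ∃ u ∈ M, u * u = 1 ∧ u ≠ 1 ∧ g₁⁻¹ * u * g₁ ∈ M := by
          by_cases h1 : g₁⁻¹ * a * g₁ ∈ M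
          · exact ⟨a, haM, ha, ha1, h1⟩
          by_cases h2 : g₁⁻¹ * b * g₁ ∈ M
          · exact ⟨b, hbM, hb, hb1, h2⟩
          refine ⟨a * b, mul_mem haM hbM, ?_, ?_, ?_⟩
          · calc a * b * (a * b) = a * (b * a) * b := by group
              _ = a * (a * b) * b := by rw [hab']
              _ = (a * a) * (b * b) := by group
              _ = 1 := by rw [ha, hb, one_mul]
          · intro h3
            apply hab
            exact (eq_inv_of_mul_eq_one_left h3).trans (inv_eq_self hb)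
          · have h3 := hE3 _ haT _ hbT h1 h2
            have h4 : g₁⁻¹ * (a * b) * g₁ = g₁⁻¹ * a * g₁ * (g₁⁻¹ * b * g₁) := by group
            rw [h4]
            exact h3
        -- `g₁` normalizes `H`
        have hCu := hE1 u huM hu2 hu1
        have hCu₁ := hE1 _ hu₁M (hinv_conj u hu2) (hne_conj u hu1)
        have hnormH : ∀ y : G, (g₁ * y * g₁⁻¹) * a = a * (g₁ * y * g₁⁻¹) ↔ y * a = a * y := by
          intro y
          rw [← hCu, ← hCu₁]
          constructor
          · intro h1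
            calc y * (g₁⁻¹ * u * g₁) = g₁⁻¹ * ((g₁ * y * g₁⁻¹) * u) * g₁ := by group
              _ = g₁⁻¹ * (u * (g₁ * y * g₁⁻¹)) * g₁ := by rw [h1]
              _ = g₁⁻¹ * u * g₁ * y := by group
          · intro h1
            calc g₁ * y * g₁⁻¹ * u = g₁ * (y * (g₁⁻¹ * u * g₁)) * g₁⁻¹ := by group
              _ = g₁ * ((g₁⁻¹ * u * g₁) * y) * g₁⁻¹ := by rw [h1]
              _ = u * (g₁ * y * g₁⁻¹) := by group
        apply hxw
        -- `w ∈ H` commutes with `x = g₁ e g₁⁻¹`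
        have hw₁ : (g₁⁻¹ * w * g₁) * a = a * (g₁⁻¹ * w * g₁) := by
          have h1 := (hnormH (g₁⁻¹ * w * g₁)).1
          have h2 : g₁ * (g₁⁻¹ * w * g₁) * g₁⁻¹ = w := by group
          rw [h2] at h1
          exact h1 hwa
        have h5 : (g₁⁻¹ * w * g₁) * e = e * (g₁⁻¹ * w * g₁) := (hCe _).2 hw₁
        rw [← hg₁x] at h5
        have h6 : g₁⁻¹ * (w * x) * g₁ = g₁⁻¹ * (x * w) * g₁ := by
          calc g₁⁻¹ * (w * x) * g₁ = g₁⁻¹ * w * g₁ * (g₁⁻¹ * x * g₁) := by group
            _ = g₁⁻¹ * x * g₁ * (g₁⁻¹ * w * g₁) := h5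
            _ = g₁⁻¹ * (x * w) * g₁ := by group
        exact (mul_left_cancel (mul_right_cancel h6)).symm
      push_neg at hall
      obtain ⟨x₀, hx₀T, hx₀M⟩ := hall
      have hrel := relIndex_two_of hMT hx₀T hx₀M hE3
      obtain ⟨N, hNn, hNi, hNT⟩ := transfer_index_two T M hrel (fun x hx hxM =>
        ⟨(hE2 x hx hxM).1, hnofus x hx hxM⟩)
      exact ⟨N, hNn, Or.inr hNi, hNT, fun y hy => odd_mem_of_index_two hNi hy.2⟩
  refine ⟨N, hNn, hNtop, hNT, ?_⟩
  refine ce_main hss hFT T hNn (hMT haM) ((hNT a (hMT haM)).2 haM) ha1 ?_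
  intro z hzT hzN hz2 hz1 u huN v hvN huz hvz
  have hzM : z ∈ M := (hNT z hzT).1 hzN
  have hu : u * a = a * u := (hE1 z hzM hz2 hz1 u).1 huz
  have hv : v * a = a * v := (hE1 z hzM hz2 hz1 v).1 hvz
  obtain ⟨y₁, hy₁, τ₁, hτ₁, rfl⟩ := decomp hii ha ha1 T hTH hu
  obtain ⟨y₂, hy₂, τ₂, hτ₂, rfl⟩ := decomp hii ha ha1 T hTH hv
  have hτ₁M : τ₁ ∈ M := by
    rw [← hNT τ₁ hτ₁]
    have := mul_mem (inv_mem (hNO y₁ hy₁)) huN
    simpa using this
  have hτ₂M : τ₂ ∈ M := by
    rw [← hNT τ₂ hτ₂]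
    have := mul_mem (inv_mem (hNO y₂ hy₂)) hvN
    simpa using this
  exact hcomm2 y₁ hy₁ τ₁ hτ₁M y₂ hy₂ τ₂ hτ₂M

/-- `SL₂(F) × A`, characteristic two: elements of order dividing four have square one. -/
theorem no_four {X : Type*} [Group X] {F : Type} [Field F] {A : Type} [CommGroup A] [Finite A]
    [CharP F 2] (hA : Odd (Nat.card A)) (φ : X ≃* SpecialLinearGroup (Fin 2) F × A) {v : X}
    (hv : v * v * (v * v) = 1) : v * v = 1 := by
  apply φ.injective
  rw [map_mul, map_one]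
  have h1 : φ v * φ v * (φ v * φ v) = 1 := by
    rw [← map_mul, ← map_mul, hv, map_one]
  have h2 : (φ v).1 * (φ v).1 * ((φ v).1 * (φ v).1) = 1 := congrArg Prod.fst h1
  have h3 : (φ v).2 * (φ v).2 * ((φ v).2 * (φ v).2) = 1 := congrArg Prod.snd h1
  have h4 := sl2_sq_of_four _ h2
  have h5 : ((φ v).2 * (φ v).2) = 1 := by
    have h6 : orderOf ((φ v).2 * (φ v).2) ∣ 2 := orderOf_dvd_of_pow_eq_one (by rw [pow_two]; exact h3)
    have h7 : orderOf ((φ v).2 * (φ v).2) ∣ Nat.card A := orderOf_dvd_natCard _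
    have h8 : Nat.Coprime 2 (Nat.card A) := Nat.coprime_two_left.2 hA
    have h9 := Nat.dvd_gcd h6 h7
    rw [h8] at h9
    exact orderOf_eq_one_iff.1 (Nat.dvd_one.1 h9)
  exact Prod.ext h4 h5

/-- `SL₂(F) × A`, characteristic two: an odd element commuting with an involution is central. -/
theorem central_of_odd {X : Type*} [Group X] {F : Type} [Field F] {A : Type} [CommGroup A] [Finite A]
    [CharP F 2] (hA : Odd (Nat.card A)) (φ : X ≃* SpecialLinearGroup (Fin 2) F × A) {y z : X}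
    (hz2 : z * z = 1) (hz1 : z ≠ 1) (hy : Odd (orderOf y)) (hyz : y * z = z * y) (u : X) :
    u * y = y * u := by
  apply φ.injective
  rw [map_mul, map_mul]
  have hz21 : φ z * φ z = 1 := by rw [← map_mul, hz2, map_one]
  have hoddA : ∀ c : A, c * c = 1 → c = 1 := by
    intro c hc
    have h6 : orderOf c ∣ 2 := orderOf_dvd_of_pow_eq_one (by rw [pow_two]; exact hc)
    have h7 : orderOf c ∣ Nat.card A := orderOf_dvd_natCard _
    have h8 : Nat.Coprime 2 (Nat.card A) := Nat.coprime_two_left.2 hA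
    have h9 := Nat.dvd_gcd h6 h7
    rw [h8] at h9
    exact orderOf_eq_one_iff.1 (Nat.dvd_one.1 h9)
  have hz22 : (φ z).2 = 1 := hoddA _ (congrArg Prod.snd hz21)
  have hz11 : (φ z).1 ≠ 1 := by
    intro h
    apply hz1
    apply φ.injective
    rw [map_one]
    exact Prod.ext h hz22
  have hc : φ y * φ z = φ z * φ y := by rw [← map_mul, ← map_mul, hyz]
  have hc1 : (φ y).1 * (φ z).1 = (φ z).1 * (φ y).1 := congrArg Prod.fst hc
  have h1 := sl2_sq_of_comm _ _ (congrArg Prod.fst hz21) hz11 hc1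
  have hy1 : (φ y).1 = 1 := by
    have h6 : orderOf (φ y).1 ∣ 2 := orderOf_dvd_of_pow_eq_one (by rw [pow_two]; exact h1)
    have h7 : (φ y).1 ^ orderOf y = 1 := by
      have := congrArg Prod.fst (map_pow φ y (orderOf y))
      rw [pow_orderOf_eq_one, map_one] at this
      exact this.symm
    have h8 : orderOf (φ y).1 ∣ orderOf y := orderOf_dvd_of_pow_eq_one h7
    have h9 : Nat.Coprime 2 (orderOf y) := Nat.coprime_two_left.2 hy
    have h10 := Nat.dvd_gcd h6 h8
    rw [h9] at h10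
    exact orderOf_eq_one_iff.1 (Nat.dvd_one.1 h10)
  apply Prod.ext
  · simp [hy1]
  · simp [mul_comm]

end Cfsg.Agent.Lib.Zass.EvenCE2
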