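import Cfsg.Agent.Lib.Zass.EvenPlus
import Cfsg.Agent.Lib.Zass.BSWDih2
import Cfsg.Agent.Lib.PGroup.CyclicMax2

/-!
# Assembling the data of the Brauer–Suzuki–Wall configuration
-/

set_option autoImplicit false
set_option linter.unusedSectionVars false
set_option linter.style.haveILetI false

namespace Cfsg.Agent.Lib.Zass.EvenData

open Subgroup Cfsg.Agent.Lib.Zass.EvenBasic Cfsg.Agent.Lib.Zass.EvenAB
  Cfsg.Agent.Lib.Zass.EvenSub Cfsg.Agent.Lib.Zass.EvenFT Cfsg.Agent.Lib.Zass.EvenCE2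
  Cfsg.Agent.Lib.Zass.BSWDih Cfsg.Agent.Lib.Zass.BSWGroup

universe u

variable {G : Type u} [Group G] [Finite G]

theorem odd_sq_eq_one {y : G} (hy : Odd (orderOf y)) (h : y * y = 1) : y = 1 := by
  have h6 : orderOf y ∣ 2 := orderOf_dvd_of_pow_eq_one (by rw [pow_two]; exact h)
  have h9 : Nat.Coprime 2 (orderOf y) := Nat.coprime_two_left.2 hy
  have h10 := Nat.dvd_gcd h6 (dvd_refl _)
  rw [h9] at h10
  exact orderOf_eq_one_iff.1 (Nat.dvd_one.1 h10)

/-- An abelian subgroup of a Sylow `2`-subgroup with a unique involution is cyclic. -/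
theorem isCyclic_of_uniq (S : Sylow 2 G) {t : G} (R : Subgroup G) (hRS : R ≤ (S : Subgroup G))
    (hcomm : ∀ x ∈ R, ∀ y ∈ R, x * y = y * x) (hRu : ∀ x ∈ R, x * x = 1 → x ≠ 1 → x = t) :
    IsCyclic R := by
  haveI : Fact (Nat.Prime 2) := ⟨Nat.prime_two⟩
  refine Cfsg.Agent.Lib.PGroup.CyclicMax2.isCyclic_of_comm_uniqueP (p := 2) ?_ ?_ ?_
  · intro x y
    exact Subtype.ext (hcomm _ x.2 _ y.2)
  · exact S.isPGroup'.to_le hRS
  · intro y z hy hz hy1 hz1
    have h1 : (y : G) = t := hRu y y.2 (by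
      have := congrArg Subtype.val hy
      simpa [pow_two] using this) (fun h => hy1 (Subtype.ext h))
    have h2 : (z : G) = t := hRu z z.2 (by
      have := congrArg Subtype.val hz
      simpa [pow_two] using this) (fun h => hz1 (Subtype.ext h))
    have h3 : y = z := Subtype.ext (h1.trans h2.symm)
    rw [h3]
    exact mem_zpowers z

section config

variable (hii : HII G) {t s : G} (ht : t * t = 1) (ht1 : t ≠ 1) (S : Sylow 2 G)
  (hS : ∀ τ ∈ (S : Subgroup G), τ * t = t * τ) (R : Subgroup G) (hRS : R ≤ (S : Subgroup G))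
  (htR : t ∈ R) (hRu : ∀ x ∈ R, x * x = 1 → x ≠ 1 → x = t) (hs : s ∈ (S : Subgroup G)) (hsR : s ∉ R)
  (hs2 : s * s = 1) (hmul : ∀ x ∈ (S : Subgroup G), x ∉ R → s * x ∈ R)
  (hinvR : ∀ r ∈ R, s * r * s⁻¹ = r⁻¹) (hinvO : ∀ y ∈ oddSub hii ht ht1, s * y * s⁻¹ = y⁻¹)

include hs2 hinvR in
theorem R_comm' {x y : G} (hx : x ∈ R) (hy : y ∈ R) : x * y = y * x := by
  have h1 := hinvR x hx
  have h2 := hinvR y hy
  have h3 := hinvR _ (mul_mem hx hy)
  have h4 : s * (x * y) * s⁻¹ = (s * x * s⁻¹) * (s * y * s⁻¹) := by group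
  rw [h4, h1, h2, _root_.mul_inv_rev] at h3
  have h5 : (x⁻¹ * y⁻¹)⁻¹ = (y⁻¹ * x⁻¹)⁻¹ := by rw [h3]
  simp only [_root_.mul_inv_rev, inv_inv] at h5
  exact h5.symm

include hs hS hRS htR hRu in
theorem t_mem_zp {r : G} (hr : r ∈ R) (hr1 : r ≠ 1) : t ∈ zpowers r := by
  obtain ⟨n, hn⟩ := two_elt S (hRS hr)
  obtain ⟨c, hc, hc2, hc1⟩ := exists_inv_of_two hn hr1
  have hcR : c ∈ R := (zpowers_le.2 hr) hc
  have := hRu c hcR hc2 hc1
  rwa [this] at hc

include hii hRS hRu htR in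
theorem R_O_comm {r y : G} (hr : r ∈ R) (hy : y ∈ oddSub hii ht ht1) : r * y = y * r := by
  by_cases hr1 : r = 1
  · subst hr1; simp
  obtain ⟨n, hn⟩ := two_elt S (hRS hr)
  obtain ⟨c, hc, hc2, hc1⟩ := exists_inv_of_two hn hr1
  have hcR : c ∈ R := (zpowers_le.2 hr) hc
  have hct := hRu c hcR hc2 hc1
  rw [hct] at hc
  exact comm_two_odd hii ht ht1 hc hn hy.2 hy.1

include hs2 hinvR in
theorem out_sq {x : G} (hxm : s * x ∈ R) : x * x = 1 := by
  set r := s * x with hr
  have h1 : x = s * r := by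
    rw [hr, ← mul_assoc, hs2, one_mul]
  have h2 := hinvR r hxm
  have hsi : s⁻¹ = s := inv_eq_self hs2
  rw [hsi] at h2
  rw [h1]
  calc s * r * (s * r) = (s * r * s) * r := by group
    _ = 1 := by rw [h2]; group

include hs2 hinvR in
theorem out_invR {x y : G} (hxm : s * x ∈ R) (hy : y ∈ R) : x * y * x⁻¹ = y⁻¹ := by
  set r := s * x with hr
  have h1 : x = s * r := by
    rw [hr, ← mul_assoc, hs2, one_mul]
  have hry := R_comm' (s := s) R hs2 hinvR hxm hy
  rw [h1]
  calc s * r * y * (s * r)⁻¹ = s * (r * y) * r⁻¹ * s⁻¹ := by group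
    _ = s * (y * r) * r⁻¹ * s⁻¹ := by rw [hry]
    _ = s * y * s⁻¹ := by group
    _ = y⁻¹ := hinvR y hy

include hii hRS hRu htR hinvO hs2 in
theorem out_invO {x y : G} (hxm : s * x ∈ R) (hy : y ∈ oddSub hii ht ht1) : x * y * x⁻¹ = y⁻¹ := by
  set r := s * x with hr
  have h1 : x = s * r := by
    rw [hr, ← mul_assoc, hs2, one_mul]
  have hry := R_O_comm hii ht ht1 S R hRS htR hRu hxm hy
  rw [h1]
  calc s * r * y * (s * r)⁻¹ = s * (r * y) * r⁻¹ * s⁻¹ := by group
    _ = s * (y * r) * r⁻¹ * s⁻¹ := by rw [hry]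
    _ = s * y * s⁻¹ := by group
    _ = y⁻¹ := hinvO y hy

include hs2 hinvR hmul hs hRS hsR in
theorem relIndex_R : R.relIndex (S : Subgroup G) = 2 := by
  refine relIndex_two_of hRS hs hsR ?_
  intro x₁ h₁ x₂ h₂ hn₁ hn₂
  have hsi : s⁻¹ = s := inv_eq_self hs2
  have h3 := hmul x₁ h₁ hn₁
  have h4 := hmul x₂ h₂ hn₂
  have h5 := hinvR _ h3
  rw [hsi] at h5
  have h6 : x₁ * x₂ = (s * (s * x₁) * s) * (s * x₂) := by
    have : s * (s * x₁) * s * (s * x₂) = (s * s) * x₁ * (s * s) * x₂ := by group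
    rw [this, hs2]
    group
  rw [h6, h5]
  exact mul_mem (inv_mem h3) h4

include hii hS hRS hRu htR hinvO hs2 hinvR hmul in
theorem normalizer_le (Y : Subgroup G) (hY : Y ≤ oddSub hii ht ht1) (hY1 : Y ≠ ⊥) :
    normalizer (Y : Set G) ≤ centralizer ({t} : Set G) := by
  intro g hg
  rw [mem_centralizer_singleton_iff]
  obtain ⟨⟨y, hyY⟩, hy1'⟩ := (Subgroup.ne_bot_iff_exists_ne_one).1 hY1
  have hy1 : y ≠ 1 := fun h => hy1' (Subtype.ext h)
  have hyO := hY hyY
  have hy' : g⁻¹ * y * g ∈ Y := by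
    have h1 := (mem_normalizer_iff.1 hg (g⁻¹ * y * g)).2
    apply h1
    have : g * (g⁻¹ * y * g) * g⁻¹ = y := by group
    rw [this]
    exact hyY
  have hy'O := hY hy'
  set t' := g * t * g⁻¹ with ht'
  have ht'2 : t' * t' = 1 := by
    rw [ht']
    calc g * t * g⁻¹ * (g * t * g⁻¹) = g * (t * t) * g⁻¹ := by group
      _ = 1 := by rw [ht]; group
  have ht'1 : t' ≠ 1 := by
    intro h
    apply ht1
    have : t = g⁻¹ * t' * g := by rw [ht']; group
    rw [this, h]
    group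
  have hyt' : y * t' = t' * y := by
    have h1 : (g⁻¹ * y * g) * t = t * (g⁻¹ * y * g) := hy'O.1
    rw [ht']
    calc y * (g * t * g⁻¹) = g * ((g⁻¹ * y * g) * t) * g⁻¹ := by group
      _ = g * (t * (g⁻¹ * y * g)) * g⁻¹ := by rw [h1]
      _ = g * t * g⁻¹ * y := by group
  have hyo := hyO.2
  have hsame : ∀ h : G, h * t = t * h ↔ h * t' = t' * h := fun h =>
    same_cent hii ht ht1 ht'2 ht'1 hyo hyO.1 hyt' hy1
  have ht't : t' * t = t * t' := (hsame t').2 rfl
  obtain ⟨o, ho, x, hx, hdec⟩ := decomp hii ht ht1 S hS ht't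
  have htt : t' = t := by
    by_cases hxR : x ∈ R
    · have hxo := R_O_comm hii ht ht1 S R hRS htR hRu hxR ho
      have h1 : (o * o) * (x * x) = 1 := by
        rw [hdec] at ht'2
        calc o * o * (x * x) = o * (o * x) * x := by group
          _ = o * (x * o) * x := by rw [hxo]
          _ = o * x * (o * x) := by group
          _ = 1 := ht'2
      have h2 : o * o = (x * x)⁻¹ := eq_inv_of_mul_eq_one_left h1
      obtain ⟨n, hn⟩ := two_elt S (hRS hxR)
      have h3 : o * o = 1 := by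
        refine inter_triv_odd hn ho.2 _ ?_ ?_
        · rw [h2]
          exact inv_mem (mul_mem (mem_zpowers x) (mem_zpowers x))
        · exact mul_mem (mem_zpowers o) (mem_zpowers o)
      have h4 : o = 1 := odd_sq_eq_one ho.2 h3
      rw [h4, one_mul] at hdec
      have h5 : x * x = 1 := by
        rw [h3, one_mul] at h1
        exact h1
      have h6 : x ≠ 1 := by
        intro h
        apply ht'1
        rw [hdec, h]
      rw [hdec]
      exact hRu x hxR h5 h6
    · exfalso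
      have hxm := hmul x hx hxR
      have h1 : x * y * x⁻¹ = y⁻¹ := out_invO hii ht ht1 S R hRS htR hRu hs2 hinvO hxm hyO
      have h2 : t' * y * t'⁻¹ = y⁻¹ := by
        rw [hdec]
        calc o * x * y * (o * x)⁻¹ = o * (x * y * x⁻¹) * o⁻¹ := by group
          _ = o * y⁻¹ * o⁻¹ := by rw [h1]
          _ = y⁻¹ * o * o⁻¹ := by
            rw [oddSub_comm hii ht ht1 ho (inv_mem hyO)]
          _ = y⁻¹ := by group
      have h3 : t' * y * t'⁻¹ = y := by
        rw [← hyt']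
        group
      rw [h3] at h2
      apply hy1
      apply odd_sq_eq_one hyo
      nth_rewrite 1 [h2]
      group
  rw [ht'] at htt
  calc g * t = g * t * g⁻¹ * g := by group
    _ = t * g := by rw [htt]

/-- The data of the configuration. -/
noncomputable def dataOf : Data G where
  S := S
  t := t
  R := R
  O := oddSub hii ht ht1
  ht := orderOf_eq_two ht ht1
  hRS := hRS
  hidx := relIndex_R S R hRS hs hsR hs2 hmul hinvR
  hcyc := isCyclic_of_uniq S R hRS (fun _ hx _ hy => R_comm' R hs2 hinvR hx hy) hRu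
  htR := htR
  hSC := fun τ hτ => by
    rw [mem_centralizer_singleton_iff]
    exact hS τ hτ
  hOC := fun y hy => by
    rw [mem_centralizer_singleton_iff]
    exact hy.1
  hOn := fun c hc o ho => oddSub_conj hii ht ht1 ho (mem_centralizer_singleton_iff.1 hc)
  hOodd := odd_card_oddSub hii ht ht1
  hCsup := fun c hc => decomp hii ht ht1 S hS (mem_centralizer_singleton_iff.1 hc)
  hRO := fun r hr o ho => R_O_comm hii ht ht1 S R hRS htR hRu hr ho
  hout := fun x hx hxR => ⟨out_sq R hs2 hinvR (hmul x hx hxR),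
    fun y hy => out_invR R hs2 hinvR (hmul x hx hxR) hy⟩
  hinvO := fun x hx hxR y hy => out_invO hii ht ht1 S R hRS htR hRu hs2 hinvO (hmul x hx hxR) hy
  hc := fun Y hY hY1 => normalizer_le hii ht ht1 S hS R hRS htR hRu hs2 hmul hinvR hinvO Y hY hY1

end config

end Cfsg.Agent.Lib.Zass.EvenData
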