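import Mathlib

/-!
# A Dedekind-type lemma

A finite group in which every cyclic subgroup is normal, and in which two elements of order four with
the same square commute, is abelian.
-/

set_option autoImplicit false

namespace Cfsg.Agent.Lib.Zass.EvenDed

open Subgroup

variable {P : Type*} [Group P]

/-- The class-two power formula. -/
theorem pow_mul_class_two {y z d : P} (hdy : Commute d y) (hdz : Commute d z)
    (hzy : z * y = y * z * d) (n : ℕ) : (y * z) ^ n = y ^ n * z ^ n * d ^ (n.choose 2) := by
  have hz : ∀ m : ℕ, z ^ m * y = y * z ^ m * d ^ m := by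
    intro m
    induction m with
    | zero => simp
    | succ m ih =>
      have h3 : d ^ m * z = z * d ^ m := (hdz.pow_left m).eq
      calc z ^ (m + 1) * y = z ^ m * (z * y) := by rw [pow_succ]; group
        _ = z ^ m * (y * z * d) := by rw [hzy]
        _ = (z ^ m * y) * z * d := by group
        _ = (y * z ^ m * d ^ m) * z * d := by rw [ih]
        _ = y * z ^ m * (d ^ m * z) * d := by group
        _ = y * z ^ m * (z * d ^ m) * d := by rw [h3]
        _ = y * z ^ (m + 1) * d ^ (m + 1) := by rw [pow_succ, pow_succ]; group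
  induction n with
  | zero => simp
  | succ n ih =>
    have hC : (n + 1).choose 2 = n + n.choose 2 := by
      have := Nat.choose_succ_succ' n 1
      rw [Nat.choose_one_right] at this
      exact this
    have h1 : d ^ (n.choose 2) * y = y * d ^ (n.choose 2) := (hdy.pow_left _).eq
    have h2 : d ^ (n.choose 2) * z = z * d ^ (n.choose 2) := (hdz.pow_left _).eq
    have h3 : d ^ n * z = z * d ^ n := (hdz.pow_left _).eq
    calc (y * z) ^ (n + 1) = (y * z) ^ n * (y * z) := pow_succ _ _
      _ = (y ^ n * z ^ n * d ^ (n.choose 2)) * (y * z) := by rw [ih]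
      _ = y ^ n * z ^ n * (d ^ (n.choose 2) * y) * z := by group
      _ = y ^ n * z ^ n * (y * d ^ (n.choose 2)) * z := by rw [h1]
      _ = y ^ n * (z ^ n * y) * (d ^ (n.choose 2) * z) := by group
      _ = y ^ n * (y * z ^ n * d ^ n) * (z * d ^ (n.choose 2)) := by rw [hz, h2]
      _ = y ^ n * y * z ^ n * (d ^ n * z) * d ^ (n.choose 2) := by group
      _ = y ^ n * y * z ^ n * (z * d ^ n) * d ^ (n.choose 2) := by rw [h3]
      _ = y ^ (n + 1) * z ^ (n + 1) * d ^ ((n + 1).choose 2) := by
        rw [hC, pow_add, pow_succ, pow_succ]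
        group

variable [Finite P]

/-- In a cyclic group: elements of order dividing a prime `p` are powers of an element of order `p`. -/
theorem mem_zp_of_prime {x a b : P} {p : ℕ} (hp : p.Prime) (ha : a ∈ zpowers x) (hb : b ∈ zpowers x)
    (hao : orderOf a = p) (hbp : b ^ p = 1) : b ∈ zpowers a := by
  classical
  obtain ⟨i, rfl⟩ := mem_zpowers_iff.1 ha
  obtain ⟨j, rfl⟩ := mem_zpowers_iff.1 hb
  set n := orderOf x with hn
  have hn0 : 0 < n := orderOf_pos x
  have hpn : p ∣ n := by
    rw [← hao]
    exact orderOf_dvd_of_mem_zpowers ha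
  obtain ⟨n₁, hn₁⟩ := hpn
  have hn₁0 : 0 < n₁ := by
    rcases Nat.eq_zero_or_pos n₁ with h | h
    · rw [h, mul_zero] at hn₁; omega
    · exact h
  have hap : (x ^ i) ^ (p : ℤ) = 1 := by
    rw [zpow_natCast, ← hao]
    exact pow_orderOf_eq_one _
  have hi : (n : ℤ) ∣ i * p := by
    apply orderOf_dvd_iff_zpow_eq_one.2
    rwa [zpow_mul]
  have hj : (n : ℤ) ∣ j * p := by
    apply orderOf_dvd_iff_zpow_eq_one.2
    rw [zpow_mul, zpow_natCast]
    exact hbp
  have hpz : (p : ℤ) ≠ 0 := by exact_mod_cast hp.ne_zero
  have hi' : (n₁ : ℤ) ∣ i := by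
    rw [hn₁] at hi
    push_cast at hi
    rw [mul_comm (p : ℤ)] at hi
    exact Int.dvd_of_mul_dvd_mul_right hpz hi
  have hj' : (n₁ : ℤ) ∣ j := by
    rw [hn₁] at hj
    push_cast at hj
    rw [mul_comm (p : ℤ)] at hj
    exact Int.dvd_of_mul_dvd_mul_right hpz hj
  obtain ⟨i₁, rfl⟩ := hi'
  obtain ⟨j₁, rfl⟩ := hj'
  have hcop : IsCoprime i₁ (p : ℤ) := by
    rw [isCoprime_comm]
    apply (Nat.prime_iff_prime_int.1 hp).coprime_iff_not_dvd.2
    intro hd
    obtain ⟨w, rfl⟩ := hd
    apply hp.one_lt.ne'
    have h1 : x ^ ((n₁ : ℤ) * (p * w)) = 1 := by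
      have h2 : ((n₁ : ℤ) * (p * w)) = (n : ℤ) * w := by
        rw [hn₁]; push_cast; ring
      rw [h2, zpow_mul, zpow_natCast, hn, pow_orderOf_eq_one, one_zpow]
    rw [← hao, h1, orderOf_one]
  obtain ⟨u, v, huv⟩ := hcop
  rw [mem_zpowers_iff]
  refine ⟨j₁ * u, ?_⟩
  rw [← zpow_mul]
  have h1 : (n₁ : ℤ) * i₁ * (j₁ * u) = (n₁ : ℤ) * j₁ + (n : ℤ) * (- (j₁ * v)) := by
    rw [hn₁]
    push_cast
    linear_combination (n₁ : ℤ) * j₁ * huv
  rw [h1, zpow_add, zpow_mul (x) (n : ℤ), zpow_natCast, hn, pow_orderOf_eq_one, one_zpow, mul_one]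

/-- The core of the Dedekind argument. -/
theorem core {x y : P} {p a b : ℕ} (hp : p.Prime) (hx : orderOf x = p ^ a) (hy : orderOf y = p ^ b)
    (hb1 : 1 ≤ b) (hba : b ≤ a)
    (hcx : x * y * x⁻¹ * y⁻¹ ∈ zpowers x) (hcy : x * y * x⁻¹ * y⁻¹ ∈ zpowers y)
    (hco : orderOf (x * y * x⁻¹ * y⁻¹) = p)
    (hQ : orderOf x = 4 → orderOf y = 4 → x * x = y * y → x * y = y * x)
    (hIH : ∀ y' : P, orderOf y' < orderOf y → x * y' = y' * x) : False := by
  classical
  set c := x * y * x⁻¹ * y⁻¹ with hc
  have hc1 : c ≠ 1 := by
    intro h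
    rw [h, orderOf_one] at hco
    exact hp.one_lt.ne hco
  have hcp : c ^ p = 1 := by
    rw [← hco]
    exact pow_orderOf_eq_one c
  have hne : x * y ≠ y * x := by
    intro h
    apply hc1
    rw [hc, h]
    group
  obtain ⟨k₀, hk₀⟩ := mem_zpowers_iff.1 hcx
  obtain ⟨k₁, hk₁⟩ := mem_zpowers_iff.1 hcy
  have hcxc : Commute c x := by
    rw [← hk₀]
    exact (Commute.refl x).zpow_left k₀
  have hcyc : Commute c y := by
    rw [← hk₁]
    exact (Commute.refl y).zpow_left k₁
  have hpb : ∃ b', b = b' + 1 := ⟨b - 1, by omega⟩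
  obtain ⟨b', rfl⟩ := hpb
  have hpa : ∃ a', a = a' + b' + 1 := ⟨a - b' - 1, by omega⟩
  obtain ⟨a', rfl⟩ := hpa
  set n := p ^ b' with hn
  have hn0 : 0 < n := pow_pos hp.pos _
  have hyn : (y ^ n)⁻¹ ^ p = 1 := by
    rw [inv_pow, ← pow_mul, ← pow_succ, ← hy, pow_orderOf_eq_one, inv_one]
  have hyc : (y ^ n)⁻¹ ∈ zpowers c :=
    mem_zp_of_prime hp hcy (inv_mem (pow_mem (mem_zpowers y) n)) hco hyn
  have hyx : (y ^ n)⁻¹ ∈ zpowers x := (zpowers_le.2 hcx) hyc
  set x₁ := x ^ (p ^ (a' + b')) with hx₁
  have hx₁o : orderOf x₁ = p := by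
    rw [hx₁, orderOf_pow_of_dvd, hx]
    · rw [pow_succ]
      exact Nat.mul_div_cancel_left _ (pow_pos hp.pos _)
    · exact (pow_pos hp.pos _).ne'
    · rw [hx, pow_succ]
      exact Dvd.intro _ rfl
  have hyx₁ : (y ^ n)⁻¹ ∈ zpowers x₁ :=
    mem_zp_of_prime hp (pow_mem (mem_zpowers x) _) hyx hx₁o hyn
  have hyx₁' : (y ^ n)⁻¹ ∈ Submonoid.powers x₁ := by
    rwa [mem_powers_iff_mem_zpowers]
  obtain ⟨e, he⟩ := hyx₁'
  set k := p ^ a' * e with hk
  set z := x ^ k with hz
  have he' : x₁ ^ e = (y ^ n)⁻¹ := he
  have hzn : z ^ n = (y ^ n)⁻¹ := by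
    rw [← he']
    calc z ^ n = x ^ (k * n) := by rw [hz, ← pow_mul]
      _ = x ^ (p ^ (a' + b') * e) := by
        congr 1
        rw [hk, hn, pow_add]
        ring
      _ = x₁ ^ e := by rw [hx₁, pow_mul]
  set d := c ^ k with hd
  have hdy : Commute d y := hcyc.pow_left k
  have hdz : Commute d z := (hcxc.pow_left k).pow_right k
  have hxp : ∀ m : ℕ, x ^ m * y = c ^ m * y * x ^ m := by
    intro m
    induction m with
    | zero => simp
    | succ m ih =>
      have h1 : x * y = c * y * x := by
        rw [hc]; group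
      have h2 : x * c = c * x := hcxc.eq.symm
      have h3 : c ^ m * c = c * c ^ m := ((Commute.refl c).pow_left m).eq
      have h4 : x * (c ^ m) = c ^ m * x := ((hcxc.pow_left m).symm).eq
      calc x ^ (m + 1) * y = x * (x ^ m * y) := by rw [pow_succ']; group
        _ = x * (c ^ m * y * x ^ m) := by rw [ih]
        _ = (x * c ^ m) * y * x ^ m := by group
        _ = (c ^ m * x) * y * x ^ m := by rw [h4]
        _ = c ^ m * (x * y) * x ^ m := by group
        _ = c ^ m * (c * y * x) * x ^ m := by rw [h1]
        _ = c ^ (m + 1) * y * x ^ (m + 1) := by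
          rw [pow_succ, pow_succ']
          group
  have hzy : z * y = y * z * d := by
    rw [hz, hxp k, ← hd]
    calc d * y * x ^ k = (d * y) * x ^ k := rfl
      _ = (y * d) * x ^ k := by rw [hdy.eq]
      _ = y * (d * x ^ k) := by group
      _ = y * (x ^ k * d) := by rw [← hz, hdz.eq]
      _ = y * x ^ k * d := by group
  set y' := y * z with hy'
  have hy'n : y' ^ n = d ^ (n.choose 2) := by
    rw [hy', pow_mul_class_two hdy hdz hzy n, hzn]
    group
  have hdC : d ^ (n.choose 2) = 1 := by
    -- either `p ∣ k` or `p ∣ C(n,2)`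
    by_cases ha' : a' = 0
    · subst ha'
      by_cases hC : p ∣ n.choose 2
      · obtain ⟨w, hw⟩ := hC
        rw [hw, hd, ← pow_mul, mul_comm k, mul_assoc, pow_mul, hcp, one_pow]
      · exfalso
        -- then `p = 2`, `n = 2`
        have hb'0 : b' ≠ 0 := by
          intro h
          apply hC
          rw [hn, h]
          simp
        obtain ⟨b'', rfl⟩ : ∃ b'', b' = b'' + 1 := ⟨b' - 1, by omega⟩
        have hnp : n = p * p ^ b'' := by rw [hn, pow_succ']
        have hchoose : n.choose 2 * 2 = n * (n - 1) := by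
          rw [Nat.choose_two_right]
          exact Nat.div_mul_cancel (Nat.even_mul_pred_self n).two_dvd
        rcases hp.eq_two_or_odd' with h2 | hodd
        · subst h2
          by_cases hb2 : b'' = 0
          · subst hb2
            -- orders are both four
            have hx4 : orderOf x = 4 := by rw [hx]; norm_num
            have hy4 : orderOf y = 4 := by rw [hy]; norm_num
            have hxx : x * x = c := by
              have h3 : x * x ∈ zpowers c := by
                apply mem_zp_of_prime Nat.prime_two hcx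
                  (mul_mem (mem_zpowers x) (mem_zpowers x)) hco
                have : (x * x) ^ 2 = x ^ 4 := by
                  rw [← pow_two, ← pow_mul]
                rw [this, ← hx4]
                exact pow_orderOf_eq_one x
              have hc2 : c * c = 1 := by rw [← pow_two]; exact hcp
              rcases (mem_zpowers_iff.1 h3) with ⟨l, hl⟩
              have h4 : c ^ l = 1 ∨ c ^ l = c := by
                rcases Int.emod_two_eq_zero_or_one l with h5 | h5
                · left
                  rw [← Int.emod_add_mul_ediv l 2, zpow_add, zpow_mul, h5, zpow_two, hc2]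
                  simp
                · right
                  rw [← Int.emod_add_mul_ediv l 2, zpow_add, zpow_mul, h5, zpow_two, hc2]
                  simp
              rcases h4 with h4 | h4
              · exfalso
                rw [h4] at hl
                have h5 : orderOf x ∣ 2 := orderOf_dvd_of_pow_eq_one (by rw [pow_two]; exact hl.symm)
                rw [hx4] at h5
                omega
              · rw [← hl, h4]
            have hyy : y * y = c := by
              have h3 : y * y ∈ zpowers c := by
                apply mem_zp_of_prime Nat.prime_two hcy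
                  (mul_mem (mem_zpowers y) (mem_zpowers y)) hco
                have : (y * y) ^ 2 = y ^ 4 := by
                  rw [← pow_two, ← pow_mul]
                rw [this, ← hy4]
                exact pow_orderOf_eq_one y
              have hc2 : c * c = 1 := by rw [← pow_two]; exact hcp
              rcases (mem_zpowers_iff.1 h3) with ⟨l, hl⟩
              have h4 : c ^ l = 1 ∨ c ^ l = c := by
                rcases Int.emod_two_eq_zero_or_one l with h5 | h5
                · left
                  rw [← Int.emod_add_mul_ediv l 2, zpow_add, zpow_mul, h5, zpow_two, hc2]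
                  simp
                · right
                  rw [← Int.emod_add_mul_ediv l 2, zpow_add, zpow_mul, h5, zpow_two, hc2]
                  simp
              rcases h4 with h4 | h4
              · exfalso
                rw [h4] at hl
                have h5 : orderOf y ∣ 2 := orderOf_dvd_of_pow_eq_one (by rw [pow_two]; exact hl.symm)
                rw [hy4] at h5
                omega
              · rw [← hl, h4]
            exact hne (hQ hx4 hy4 (hxx.trans hyy.symm))
          · apply hC
            obtain ⟨b₃, rfl⟩ : ∃ b₃, b'' = b₃ + 1 := ⟨b'' - 1, by omega⟩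
            have h4 : n = 2 * (2 * 2 ^ b₃) := by
              rw [hnp, pow_succ']
            have hpos : 0 < 2 * 2 ^ b₃ := by positivity
            have h5 : n.choose 2 * 2 = 2 * (2 * 2 ^ b₃) * (n - 1) := by
              rw [hchoose]
              exact congrArg (· * (n - 1)) h4
            have h6 : n.choose 2 = 2 * (2 ^ b₃ * (n - 1)) := by
              have : n.choose 2 * 2 = (2 * (2 ^ b₃ * (n - 1))) * 2 := by
                rw [h5]; ring
              exact Nat.eq_of_mul_eq_mul_right (by norm_num) this
            rw [h6]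
            exact Dvd.intro _ rfl
        · apply hC
          have hnodd : Odd n := by
            rw [hn]
            exact hodd.pow
          have hev : Even (n - 1) := by
            obtain ⟨w, hw⟩ := hnodd
            rw [hw]
            simp
          obtain ⟨w, hw⟩ := hev
          have h6 : n.choose 2 = n * w := by
            have : n.choose 2 * 2 = (n * w) * 2 := by
              rw [hchoose, hw]; ring
            exact Nat.eq_of_mul_eq_mul_right (by norm_num) this
          rw [h6, hnp, mul_assoc]
          exact Dvd.intro _ rfl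
    · obtain ⟨a'', rfl⟩ : ∃ a'', a' = a'' + 1 := ⟨a' - 1, by omega⟩
      have : k = p * (p ^ a'' * e) := by
        rw [hk, pow_succ']
        ring
      rw [hd, this, pow_mul, hcp, one_pow, one_pow]
  have hord : orderOf y' < orderOf y := by
    have h1 : orderOf y' ∣ n := orderOf_dvd_of_pow_eq_one (by rw [hy'n, hdC])
    have h2 : orderOf y' ≤ n := Nat.le_of_dvd hn0 h1
    have h3 : n < p ^ (b' + 1) := by
      rw [hn, pow_succ]
      nlinarith [hp.two_le, pow_pos hp.pos b']
    rw [hy]
    omega
  have hcomm := hIH y' hord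
  apply hc1
  have hxz : x * z = z * x := ((Commute.refl x).pow_right k).eq
  have h5 : x * y' = c * y' * x := by
    have h1 : x * y = c * y * x := by rw [hc]; group
    calc x * y' = x * y * z := by rw [hy']; group
      _ = c * y * x * z := by rw [h1]
      _ = c * y * (x * z) := by group
      _ = c * y * (z * x) := by rw [hxz]
      _ = c * y' * x := by rw [hy']; group
  have h6 : c * y' * x = y' * x := by rw [← h5, hcomm]
  have h7 : c * (y' * x) = 1 * (y' * x) := by
    rw [one_mul, ← mul_assoc, h6]
  exact mul_right_cancel h7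

/-- **Dedekind-type theorem.** -/
theorem dedekind_comm (hn : ∀ x y : P, y * x * y⁻¹ ∈ zpowers x)
    (hQ : ∀ x y : P, orderOf x = 4 → orderOf y = 4 → x * x = y * y → x * y = y * x) (x y : P) :
    x * y = y * x := by
  classical
  suffices h : ∀ N : ℕ, ∀ x y : P, orderOf x * orderOf y = N → x * y = y * x from h _ x y rfl
  intro N
  induction N using Nat.strong_induction_on with
  | _ N ih =>
    intro x y hN
    by_contra hne
    have hxpos := orderOf_pos x
    have hypos := orderOf_pos y
    set c := x * y * x⁻¹ * y⁻¹ with hc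
    have hcx : c ∈ zpowers x := by
      have : c = x * (y * x * y⁻¹)⁻¹ := by rw [hc]; group
      rw [this]
      exact mul_mem (mem_zpowers x) (inv_mem (hn x y))
    have hcy : c ∈ zpowers y := mul_mem (hn y x) (inv_mem (mem_zpowers y))
    have hc1 : c ≠ 1 := by
      intro h
      apply hne
      calc x * y = x * y * x⁻¹ * y⁻¹ * (y * x) := by group
        _ = y * x := by rw [← hc, h, one_mul]
    have hcxc : Commute c x := by
      obtain ⟨k, hk⟩ := mem_zpowers_iff.1 hcx
      rw [← hk]
      exact (Commute.refl x).zpow_left k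
    have hcyc : Commute c y := by
      obtain ⟨k, hk⟩ := mem_zpowers_iff.1 hcy
      rw [← hk]
      exact (Commute.refl y).zpow_left k
    have hIHy : ∀ y' : P, orderOf y' < orderOf y → x * y' = y' * x := by
      intro y' h
      exact ih _ (by rw [← hN]; exact Nat.mul_lt_mul_of_pos_left h hxpos) x y' rfl
    have hIHx : ∀ x' : P, orderOf x' < orderOf x → y * x' = x' * y := by
      intro x' h
      refine (ih _ ?_ x' y rfl).symm
      rw [← hN]
      exact Nat.mul_lt_mul_of_pos_right h hypos
    -- commutator formulas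
    have hyp : ∀ m : ℕ, x * y ^ m = c ^ m * y ^ m * x := by
      intro m
      induction m with
      | zero => simp
      | succ m ihm =>
        have h1 : x * y = c * y * x := by
          rw [hc]; group
        have h3 : y ^ m * c = c * y ^ m := ((hcyc.pow_right m).symm).eq
        calc x * y ^ (m + 1) = (x * y ^ m) * y := by rw [pow_succ]; group
          _ = c ^ m * y ^ m * x * y := by rw [ihm]
          _ = c ^ m * y ^ m * (x * y) := by group
          _ = c ^ m * y ^ m * (c * y * x) := by rw [h1]
          _ = c ^ m * (y ^ m * c) * y * x := by group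
          _ = c ^ m * (c * y ^ m) * y * x := by rw [h3]
          _ = c ^ (m + 1) * y ^ (m + 1) * x := by
            rw [pow_succ, pow_succ]
            group
    have hxp : ∀ m : ℕ, x ^ m * y = c ^ m * y * x ^ m := by
      intro m
      induction m with
      | zero => simp
      | succ m ihm =>
        have h1 : x * y = c * y * x := by
          rw [hc]; group
        have h2 : y * c = c * y := hcyc.eq.symm
        have h4 : x * (c ^ m) = c ^ m * x := ((hcxc.pow_left m).symm).eq
        calc x ^ (m + 1) * y = x * (x ^ m * y) := by rw [pow_succ']; group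
          _ = x * (c ^ m * y * x ^ m) := by rw [ihm]
          _ = (x * c ^ m) * y * x ^ m := by group
          _ = (c ^ m * x) * y * x ^ m := by rw [h4]
          _ = c ^ m * (x * y) * x ^ m := by group
          _ = c ^ m * (c * y * x) * x ^ m := by rw [h1]
          _ = c ^ (m + 1) * y * x ^ (m + 1) := by
            rw [pow_succ, pow_succ']
            group
    -- primes dividing the orders
    have hcy_pow : ∀ ℓ : ℕ, ℓ.Prime → ℓ ∣ orderOf y → c ^ ℓ = 1 := by
      intro ℓ hℓ hd
      have h1 : orderOf (y ^ ℓ) < orderOf y := by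
        rw [orderOf_pow_of_dvd hℓ.ne_zero hd]
        exact Nat.div_lt_self hypos hℓ.one_lt
      have h2 := hIHy _ h1
      have h3 := hyp ℓ
      rw [h2] at h3
      have h4 : y ^ ℓ * x = c ^ ℓ * (y ^ ℓ * x) := by rw [← mul_assoc]; exact h3
      have h5 : 1 * (y ^ ℓ * x) = c ^ ℓ * (y ^ ℓ * x) := by rw [one_mul]; exact h4
      exact (mul_right_cancel h5).symm
    have hcx_pow : ∀ ℓ : ℕ, ℓ.Prime → ℓ ∣ orderOf x → c ^ ℓ = 1 := by
      intro ℓ hℓ hd
      have h1 : orderOf (x ^ ℓ) < orderOf x := by
        rw [orderOf_pow_of_dvd hℓ.ne_zero hd]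
        exact Nat.div_lt_self hxpos hℓ.one_lt
      have h2 := hIHx _ h1
      have h3 := hxp ℓ
      rw [← h2] at h3
      have h4 : c ^ ℓ * y * x ^ ℓ = c ^ ℓ * (y * x ^ ℓ) := by group
      rw [h4] at h3
      have h5 : 1 * (y * x ^ ℓ) = c ^ ℓ * (y * x ^ ℓ) := by rw [one_mul]; exact h3
      exact (mul_right_cancel h5).symm
    -- `c` has prime order
    have hco1 : orderOf c ≠ 1 := by
      rwa [Ne, orderOf_eq_one_iff]
    obtain ⟨p, hp, hpc⟩ := Nat.exists_prime_and_dvd hco1
    have hcpow : c ^ p = 1 := hcy_pow p hp (hpc.trans (orderOf_dvd_of_mem_zpowers hcy))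
    have hco : orderOf c = p := by
      have h1 : orderOf c ∣ p := orderOf_dvd_of_pow_eq_one hcpow
      rcases (Nat.dvd_prime hp).1 h1 with h2 | h2
      · exact absurd h2 hco1
      · exact h2
    have huy : ∀ {ℓ : ℕ}, ℓ.Prime → ℓ ∣ orderOf y → ℓ = p := by
      intro ℓ hℓ hd
      have h1 : orderOf c ∣ ℓ := orderOf_dvd_of_pow_eq_one (hcy_pow ℓ hℓ hd)
      rw [hco] at h1
      exact ((Nat.prime_dvd_prime_iff_eq hp hℓ).1 h1).symm
    have hux : ∀ {ℓ : ℕ}, ℓ.Prime → ℓ ∣ orderOf x → ℓ = p := by
      intro ℓ hℓ hd
      have h1 : orderOf c ∣ ℓ := orderOf_dvd_of_pow_eq_one (hcx_pow ℓ hℓ hd)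
      rw [hco] at h1
      exact ((Nat.prime_dvd_prime_iff_eq hp hℓ).1 h1).symm
    have hy1 := Nat.eq_prime_pow_of_unique_prime_dvd hypos.ne' huy
    have hx1 := Nat.eq_prime_pow_of_unique_prime_dvd hxpos.ne' hux
    set a := (orderOf x).primeFactorsList.length with ha
    set b := (orderOf y).primeFactorsList.length with hb
    have ha1 : 1 ≤ a := by
      by_contra h
      have h0 : a = 0 := by omega
      rw [h0, pow_zero] at hx1
      have h1 : p ∣ orderOf x := by
        rw [← hco]
        exact orderOf_dvd_of_mem_zpowers hcx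
      rw [hx1] at h1
      exact hp.one_lt.ne' (Nat.dvd_one.1 h1)
    have hb1 : 1 ≤ b := by
      by_contra h
      have h0 : b = 0 := by omega
      rw [h0, pow_zero] at hy1
      have h1 : p ∣ orderOf y := by
        rw [← hco]
        exact orderOf_dvd_of_mem_zpowers hcy
      rw [hy1] at h1
      exact hp.one_lt.ne' (Nat.dvd_one.1 h1)
    rcases le_total b a with hba | hab
    · exact core hp hx1 hy1 hb1 hba hcx hcy hco (hQ x y) hIHy
    · -- swap the roles
      have hc' : y * x * y⁻¹ * x⁻¹ = c⁻¹ := by
        rw [hc]; group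
      refine core (x := y) (y := x) hp hy1 hx1 ha1 hab ?_ ?_ ?_ ?_ hIHx
      · rw [hc']; exact inv_mem hcy
      · rw [hc']; exact inv_mem hcx
      · rw [hc', orderOf_inv]; exact hco
      · intro h1 h2 h3
        exact (hQ x y h2 h1 h3.symm).symm

end Cfsg.Agent.Lib.Zass.EvenDed
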