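import Cfsg.Agent.Lib.Zass.EvenMinus
import Cfsg.Agent.Lib.PSL2.Basic

/-!
# The case without elements of order four
-/

set_option autoImplicit false
set_option linter.unusedSectionVars false
set_option linter.style.haveILetI false

namespace Cfsg.Agent.Lib.Zass.EvenElem

open Subgroup Cfsg.Agent.Lib.Zass.EvenBasic Cfsg.Agent.Lib.Zass.EvenAB
  Cfsg.Agent.Lib.Zass.EvenSub Cfsg.Agent.Lib.Zass.EvenFT Cfsg.Agent.Lib.Zass.EvenCE2
  Cfsg.Agent.Lib.Zass.EvenCE
  Cfsg.Agent.Lib.Zass.BSWDih Cfsg.Agent.Lib.Zass.BSWGroup Cfsg.Agent.Lib.Zass.EvenPlus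
  Cfsg.Agent.Lib.Zass.EvenData Cfsg.Agent.Lib.Zass.EvenMinus

universe u

variable {G : Type u} [Group G] [Finite G]

theorem sq_of_two_elt (h4 : ∀ v : G, v * v * (v * v) = 1 → v * v = 1) :
    ∀ (n : ℕ) (x : G), x ^ 2 ^ n = 1 → x * x = 1 := by
  intro n
  induction n with
  | zero =>
    intro x hx
    rw [pow_zero, pow_one] at hx
    rw [hx, one_mul]
  | succ n ih =>
    cases n with
    | zero =>
      intro x hx
      rw [zero_add, pow_one, pow_two] at hx
      exact hx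
    | succ n =>
      intro x hx
      apply ih
      have h1 := h4 (x ^ 2 ^ n) (by
        have : x ^ 2 ^ n * x ^ 2 ^ n * (x ^ 2 ^ n * x ^ 2 ^ n) = x ^ 2 ^ (n + 1 + 1) := by
          rw [show 2 ^ (n + 1 + 1) = 2 ^ n + 2 ^ n + (2 ^ n + 2 ^ n) by ring, pow_add, pow_add]
        rw [this]
        exact hx)
      have : x ^ 2 ^ (n + 1) = x ^ 2 ^ n * x ^ 2 ^ n := by
        rw [show 2 ^ (n + 1) = 2 ^ n + 2 ^ n by ring, pow_add]
      rw [this]
      exact h1

/-- A subgroup with at most two elements in `T ∩ N` is cyclic. -/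
theorem cyclic_of_two (T N : Subgroup G) {t : G} (ht : ∀ x ∈ T, x ∈ N → x = 1 ∨ x = t) :
    IsCyclic ↥(T.subgroupOf N) := by
  by_cases hex : ∃ x ∈ T, x ∈ N ∧ x = t
  · obtain ⟨x, hxT, hxN, rfl⟩ := hex
    refine ⟨⟨⟨⟨x, hxN⟩, mem_subgroupOf.2 hxT⟩, ?_⟩⟩
    rintro ⟨⟨y, hyN⟩, hyT⟩
    have hyT' : y ∈ T := mem_subgroupOf.1 hyT
    rcases ht y hyT' hyN with h | h
    · subst h
      exact ⟨0, by simp; rfl⟩
    · subst h
      exact ⟨1, zpow_one _⟩
  · refine ⟨⟨1, ?_⟩⟩
    rintro ⟨⟨y, hyN⟩, hyT⟩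
    have hyT' : y ∈ T := mem_subgroupOf.1 hyT
    rcases ht y hyT' hyN with h | h
    · subst h
      exact ⟨0, by simp; rfl⟩
    · exact absurd ⟨y, hyT', hyN, h⟩ hex

/-- The centre of a normal subgroup is normal; so, without solvable normal subgroups, it is trivial. -/
theorem central_eq_one (hss : NS G) {N : Subgroup G} (hN : N.Normal) {y : G} (hyN : y ∈ N)
    (hy : ∀ u ∈ N, u * y = y * u) : y = 1 := by
  classical
  set Z : Subgroup G := N ⊓ centralizer (N : Set G) with hZ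
  have hZn : Z.Normal := by
    haveI := hN
    haveI : (centralizer (N : Set G)).Normal := Subgroup.normal_centralizer
    exact Subgroup.normal_inf_normal _ _
  have hyZ : y ∈ Z := by
    refine mem_inf.2 ⟨hyN, ?_⟩
    rw [mem_centralizer_iff]
    intro u hu
    exact hy u hu
  have hab : ∀ a b : Z, a * b = b * a := by
    intro a b
    apply Subtype.ext
    have h1 := (mem_inf.1 a.2).1
    have h2 := (mem_inf.1 b.2).2
    rw [mem_centralizer_iff] at h2
    exact h2 _ h1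
  haveI : Group.IsSolvable Z := Group.isSolvable_of_comm hab
  have h3 := hss Z hZn inferInstance
  rw [h3, mem_bot] at hyZ
  exact hyZ

open Matrix in
/-- **The case without elements of order four.** -/
theorem elem_case [Nontrivial G] (hii : HII G) (hss : NS G) (hFT : FT G)
    (h4 : ∀ v : G, v * v * (v * v) = 1 → v * v = 1) :
    (∃ (F : Type) (_ : Field F) (_ : Fintype F), 3 < Fintype.card F ∧
      Nonempty (G ≃* ProjectiveSpecialLinearGroup (Fin 2) F)) ∨
    ∃ (D : Data G) (s : G), s ∈ (D.S : Subgroup G) ∧ s ∉ D.R ∧ ∃ h : G, h * D.t * h⁻¹ = s := by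
  classical
  haveI : Fact (Nat.Prime 2) := ⟨Nat.prime_two⟩
  obtain ⟨T⟩ : Nonempty (Sylow 2 G) := inferInstance
  have hT2 : ∀ x ∈ (T : Subgroup G), x * x = 1 := by
    intro x hx
    obtain ⟨n, hn⟩ := two_elt T hx
    exact sq_of_two_elt h4 n x hn
  have hTc : ∀ x ∈ (T : Subgroup G), ∀ y ∈ (T : Subgroup G), x * y = y * x := by
    intro x hx y hy
    have h1 := hT2 _ (mul_mem hx hy)
    have h2 : x * y = (x * y)⁻¹ := eq_inv_of_mul_eq_one_left h1
    rw [_root_.mul_inv_rev, inv_eq_self (hT2 y hy), inv_eq_self (hT2 x hx)] at h2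
    exact h2
  have hNC : ∀ t : G, ∃ x ∈ (T : Subgroup G), x ≠ 1 ∧ x ≠ t := by
    intro t
    by_contra hcon
    push Not at hcon
    have h1 : IsCyclic ↥((T : Subgroup G).subgroupOf (⊤ : Subgroup G)) := by
      refine cyclic_of_two (T : Subgroup G) ⊤ (t := t) ?_
      intro x hx _
      by_cases hx1 : x = 1
      · exact Or.inl hx1
      · exact Or.inr (hcon x hx hx1)
    have h2 := no_cyclic hss hFT T (inferInstance : (⊤ : Subgroup G).Normal) h1
    exact top_ne_bot h2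
  obtain ⟨t, htT, ht1, -⟩ := hNC 1
  by_cases hA : ∀ t ∈ (T : Subgroup G), t ≠ 1 → ∀ x ∈ (T : Subgroup G), ∀ y : G, y * t = t * y →
      Odd (orderOf y) → x * y = y * x
  · left
    have hcommN : ∀ z ∈ (T : Subgroup G), z ∈ (⊤ : Subgroup G) → z * z = 1 → z ≠ 1 →
        ∀ u ∈ (⊤ : Subgroup G), ∀ v ∈ (⊤ : Subgroup G), u * z = z * u → v * z = z * v →
          u * v = v * u := by
      intro z hzT _ hz hz1 u _ v _ hu hv
      have hTz : ∀ τ ∈ (T : Subgroup G), τ * z = z * τ := fun τ hτ => hTc τ hτ z hzT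
      obtain ⟨y₁, hy₁, τ₁, hτ₁, rfl⟩ := decomp hii hz hz1 T hTz hu
      obtain ⟨y₂, hy₂, τ₂, hτ₂, rfl⟩ := decomp hii hz hz1 T hTz hv
      have h1 := hA z hzT hz1 τ₁ hτ₁ y₂ hy₂.1 hy₂.2
      have h2 := hA z hzT hz1 τ₂ hτ₂ y₁ hy₁.1 hy₁.2
      calc y₁ * τ₁ * (y₂ * τ₂) = y₁ * (τ₁ * y₂) * τ₂ := by group
        _ = y₁ * (y₂ * τ₁) * τ₂ := by rw [h1]
        _ = (y₁ * y₂) * (τ₁ * τ₂) := by group
        _ = (y₂ * y₁) * (τ₂ * τ₁) := by
          rw [oddSub_comm hii hz hz1 hy₁ hy₂, hTc τ₁ hτ₁ τ₂ hτ₂]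
        _ = y₂ * (y₁ * τ₂) * τ₁ := by group
        _ = y₂ * (τ₂ * y₁) * τ₁ := by rw [h2]
        _ = y₂ * τ₂ * (y₁ * τ₁) := by group
    obtain ⟨F, _, _, A, _, _, hch, hoddA, ⟨φ⟩⟩ :=
      ce_main hss hFT T (inferInstance : (⊤ : Subgroup G).Normal) htT (mem_top t) ht1 hcommN
    let ψ : G ≃* SpecialLinearGroup (Fin 2) F × A := (Subgroup.topEquiv.symm).trans φ
    have hA1 : ∀ c : A, c = 1 := by
      intro c
      have h1 : ψ.symm (1, c) = 1 := by
        refine central_eq_one hss (inferInstance : (⊤ : Subgroup G).Normal) (mem_top _) ?_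
        intro u _
        apply ψ.injective
        rw [map_mul, map_mul, MulEquiv.apply_symm_apply]
        apply Prod.ext
        · simp
        · simp [mul_comm]
      have h2 : ((1 : SpecialLinearGroup (Fin 2) F), c) = 1 := by
        have := congrArg ψ h1
        rwa [MulEquiv.apply_symm_apply, map_one] at this
      exact congrArg Prod.snd h2
    haveI : Unique A := ⟨⟨1⟩, hA1⟩
    let χ : G ≃* SpecialLinearGroup (Fin 2) F := ψ.trans MulEquiv.prodUnique
    have h2F : (2 : F) = 0 := by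
      have := CharP.cast_eq_zero F 2
      simpa using this
    refine ⟨F, inferInstance, inferInstance, ?_, ⟨χ.trans (Cfsg.Agent.Lib.PSL2.Basic.pslEquivSL h2F).symm⟩⟩
    have hq1 : 1 < Fintype.card F := Fintype.one_lt_card
    by_contra hq
    have hq3 : Fintype.card F ≠ 3 := by
      intro h
      have h1 : Nat.card F = 3 := by rw [Nat.card_eq_fintype_card, h]
      have h5 : ((Fintype.card F : ℕ) : F) = 0 := Nat.cast_card_eq_zero F
      rw [h] at h5
      have h6 : (3 : F) = 0 := by exact_mod_cast h5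
      have h7 : (1 : F) = 0 := by
        have : (1 : F) = 3 - 2 := by ring
        rw [this, h6, h2F, sub_zero]
      exact one_ne_zero h7
    have hq2 : Fintype.card F = 2 := by omega
    have hcard : Nat.card G = 6 := by
      rw [Nat.card_congr χ.toEquiv, Cfsg.Agent.Lib.PSL2.Basic.card_SL2, hq2]
      norm_num
    obtain ⟨x, hxT, hx1, hxt⟩ := hNC t
    have h3 : 3 ≤ Nat.card (T : Subgroup G) := by
      let f : Fin 3 → (T : Subgroup G) := ![1, ⟨t, htT⟩, ⟨x, hxT⟩]
      have hf : Function.Injective f := by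
        intro i j hij
        have h5 : ∀ i : Fin 3, (f i : G) = (![1, t, x] : Fin 3 → G) i := by
          intro i
          fin_cases i <;> rfl
        have h6 : (![1, t, x] : Fin 3 → G) i = (![1, t, x] : Fin 3 → G) j := by
          rw [← h5, ← h5, hij]
        fin_cases i <;> fin_cases j <;> simp_all
      have := Nat.card_le_card_of_injective f hf
      simpa using this
    obtain ⟨k, hk⟩ := T.isPGroup'.exists_card_eq
    have h5 : Nat.card (T : Subgroup G) ∣ 6 := by
      rw [← hcard]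
      exact Subgroup.card_subgroup_dvd_card _
    rw [hk] at h3 h5
    have hk2 : 2 ≤ k := by
      by_contra h
      have : k = 0 ∨ k = 1 := by omega
      rcases this with rfl | rfl <;> norm_num at h3
    have h6 : 2 ^ 2 ∣ 6 := (pow_dvd_pow 2 hk2).trans h5
    norm_num at h6
  · right
    push Not at hA
    obtain ⟨t, htT, ht1, x₀, hx₀T, y₀, hy₀t, hy₀o, hx₀y₀⟩ := hA
    have ht := hT2 t htT
    have hTt : ∀ τ ∈ (T : Subgroup G), τ * t = t * τ := fun τ hτ => hTc τ hτ t htT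
    set O := oddSub hii ht ht1 with hO
    have hy₀O : y₀ ∈ O := ⟨hy₀t, hy₀o⟩
    have hy₀1 : y₀ ≠ 1 := by
      intro h
      apply hx₀y₀
      rw [h]
      simp
    set E : Subgroup G := (T : Subgroup G) ⊓ centralizer (O : Set G) with hE
    have hmemE : ∀ {y : G}, y ∈ E ↔ y ∈ (T : Subgroup G) ∧ ∀ o ∈ O, y * o = o * y := by
      intro y
      rw [hE, mem_inf, mem_centralizer_iff]
      constructor
      · rintro ⟨h1, h2⟩
        exact ⟨h1, fun o ho => (h2 o ho).symm⟩
      · rintro ⟨h1, h2⟩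
        exact ⟨h1, fun o ho => (h2 o ho).symm⟩
    have hEle : E ≤ (T : Subgroup G) := inf_le_left
    have hout : ∀ x ∈ (T : Subgroup G), x ∉ E → ∃ y₁ ∈ O, x * y₁ ≠ y₁ * x := by
      intro x hx hxE
      by_contra hcon
      push Not at hcon
      exact hxE (hmemE.2 ⟨hx, hcon⟩)
    have hinv : ∀ x ∈ (T : Subgroup G), x ∉ E → ∀ y ∈ O, x * y * x⁻¹ = y⁻¹ := by
      intro x hx hxE y hy
      obtain ⟨y₁, hy₁, hxy₁⟩ := hout x hx hxE
      have hx1 : x ≠ 1 := by
        rintro rfl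
        exact hxE (one_mem _)
      exact odd_invert hii ht ht1 (hT2 x hx) hx1 (hTt x hx) hy hy₁.1 (fun h => hxy₁ h.symm)
    have htE : t ∈ E := hmemE.2 ⟨htT, fun o ho => ho.1.symm⟩
    have hx₀E : x₀ ∉ E := fun h => hx₀y₀ ((hmemE.1 h).2 y₀ hy₀O)
    have hmulE : ∀ x₁ ∈ (T : Subgroup G), ∀ x₂ ∈ (T : Subgroup G), x₁ ∉ E → x₂ ∉ E → x₁ * x₂ ∈ E := by
      intro x₁ h₁ x₂ h₂ hn₁ hn₂
      refine hmemE.2 ⟨mul_mem h₁ h₂, fun o ho => ?_⟩
      have h3 : (x₁ * x₂) * o * (x₁ * x₂)⁻¹ = o := by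
        calc x₁ * x₂ * o * (x₁ * x₂)⁻¹ = x₁ * (x₂ * o * x₂⁻¹) * x₁⁻¹ := by group
          _ = x₁ * o⁻¹ * x₁⁻¹ := by rw [hinv x₂ h₂ hn₂ o ho]
          _ = (x₁ * o * x₁⁻¹)⁻¹ := by group
          _ = o := by rw [hinv x₁ h₁ hn₁ o ho]; group
      calc x₁ * x₂ * o = x₁ * x₂ * o * (x₁ * x₂)⁻¹ * (x₁ * x₂) := by group
        _ = o * (x₁ * x₂) := by rw [h3]
    have heC : ∀ e ∈ E, e * e = 1 → e ≠ 1 → ∀ g : G, g * e = e * g ↔ g * t = t * g := by
      intro e he he2 he1 g
      have h1 : y₀ * e = e * y₀ := ((hmemE.1 he).2 y₀ hy₀O).symm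
      exact (same_cent hii ht ht1 he2 he1 hy₀o hy₀t h1 hy₀1).symm
    have hrel : E.relIndex (T : Subgroup G) = 2 := relIndex_two_of hEle hx₀T hx₀E hmulE
    by_cases hE2 : ∃ e ∈ E, e ≠ 1 ∧ e ≠ t
    · exfalso
      obtain ⟨e, heE, he1, het⟩ := hE2
      have he := hT2 e (hEle heE)
      obtain ⟨N, hNn, hNtop, hNT, F, _, _, A, _, _, hch, hoddA, ⟨φ⟩⟩ :=
        confE hii hss hFT T ht ht1 he he1 (Ne.symm het) hTt E hEle htE heE
          (fun x hx y hy => hTc x (hEle hx) y (hEle hy))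
          (fun z hz hz2 hz1 g => heC z hz hz2 hz1 g)
          (fun x hx hxE => ⟨hT2 x hx, by
            obtain ⟨y₁, hy₁, hxy₁⟩ := hout x hx hxE
            exact ⟨y₁, hy₁.1, hxy₁⟩⟩)
          hmulE
      have hy₀N : y₀ ∈ N := by
        rcases hNtop with h | h
        · rw [h]
          exact mem_top _
        · exact odd_mem_of_index_two h hy₀o
      have htN : t ∈ N := (hNT t htT).2 htE
      haveI := hch
      have hcen : ∀ u : N, u * ⟨y₀, hy₀N⟩ = ⟨y₀, hy₀N⟩ * u := fun u =>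
        central_of_odd (z := (⟨t, htN⟩ : N)) hoddA φ (Subtype.ext ht) (fun h => ht1 (congrArg Subtype.val h))
          (by rw [Subgroup.orderOf_mk]; exact hy₀o) (Subtype.ext hy₀t) u
      exact hy₀1 (central_eq_one hss hNn hy₀N (fun u hu => congrArg Subtype.val (hcen ⟨u, hu⟩)))
    · push Not at hE2
      have hRu : ∀ x ∈ E, x * x = 1 → x ≠ 1 → x = t := fun x hx _ hx1 => hE2 x hx hx1
      have hS : ∃ s ∈ (T : Subgroup G), s ∉ E ∧ ∃ h : G, h * t * h⁻¹ = s := by
        by_contra hcon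
        push Not at hcon
        obtain ⟨N, hNn, hNi, hNT⟩ := transfer_index_two T E hrel (fun x hx hxE => ⟨hT2 x hx, by
          intro g hg hgE
          have hx1 : x ≠ 1 := by
            rintro rfl
            exact hxE (one_mem _)
          have h1 : g⁻¹ * x * g ≠ 1 := by
            intro h
            apply hx1
            have : x = g * (g⁻¹ * x * g) * g⁻¹ := by group
            rw [this, h]
            group
          have h2 := hE2 _ hgE h1
          apply hcon x hx hxE g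
          rw [← h2]
          group⟩)
        have h1 := no_cyclic hss hFT T hNn (cyclic_of_two (T : Subgroup G) N (t := t) (by
          intro x hx hxN
          have hxE := (hNT x hx).1 hxN
          by_cases hx1 : x = 1
          · exact Or.inl hx1
          · exact Or.inr (hE2 x hxE hx1)))
        have h2 := odd_mem_of_index_two hNi hy₀o
        rw [h1, mem_bot] at h2
        exact hy₀1 h2
      obtain ⟨s, hsT, hsE, h, hh⟩ := hS
      refine ⟨dataOf hii ht ht1 T hTt E hEle htE hRu hsT hsE (hT2 s hsT) (fun x hx hxE => hmulE s hsT x hx hsE hxE) ?_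
        (hinv s hsT hsE), s, hsT, hsE, h, hh⟩
      intro r hr
      have hrT := hEle hr
      rw [inv_eq_self (hT2 r hrT), hTc s hsT r hrT]
      group

end Cfsg.Agent.Lib.Zass.EvenElem
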