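import Cfsg.Agent.Lib.Zass.EvenSub
import Cfsg.Agent.Lib.Transfer.IndexTwo
import Cfsg.Agent.Lib.PGroup.QDSylow6
import Cfsg.Agent.Lib.Transfer.Basic

/-!
# Normal subgroups and Sylow subgroups in groups without solvable normal subgroups
-/

set_option autoImplicit false
set_option linter.unusedSectionVars false
set_option linter.style.haveILetI false

namespace Cfsg.Agent.Lib.Zass.EvenFT

open Subgroup Cfsg.Agent.Lib.Zass.EvenBasic Cfsg.Agent.Lib.Zass.EvenAB Cfsg.Agent.Lib.Zass.EvenSub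

universe u

variable {G : Type u} [Group G] [Finite G]

/-- No non-trivial solvable normal subgroups. -/
def NS (G : Type u) [Group G] : Prop := ∀ N : Subgroup G, N.Normal → Group.IsSolvable ↥N → N = ⊥

/-- The Feit–Thompson theorem, for the subgroups of `G`. -/
def FT (G : Type u) [Group G] : Prop := ∀ N : Subgroup G, Odd (Nat.card ↥N) → Group.IsSolvable ↥N

theorem no_odd (hss : NS G) (hFT : FT G) {N : Subgroup G} (hN : N.Normal) (hodd : Odd (Nat.card N)) :
    N = ⊥ := hss N hN (hFT N hodd)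

theorem no_two (hss : NS G) {N : Subgroup G} (hN : N.Normal) (h2 : IsPGroup 2 N) : N = ⊥ := by
  haveI : Fact (Nat.Prime 2) := ⟨Nat.prime_two⟩
  haveI : Group.IsNilpotent N := h2.isNilpotent
  exact hss N hN inferInstance

theorem no_exp_two (hss : NS G) {N : Subgroup G} (hN : N.Normal) (h2 : ∀ x ∈ N, x * x = 1) : N = ⊥ := by
  apply no_two hss hN
  intro x
  refine ⟨1, Subtype.ext ?_⟩
  simpa [pow_two] using h2 x x.2

/-- Odd index of `T ∩ N` in `N`, `N` normal. -/
theorem relIndex_dvd_index_of_normal_right (T N : Subgroup G) [hN : N.Normal] :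
    T.relIndex N ∣ T.index := by
  have h1 := relIndex_inf_mul_relIndex T N ⊤
  have h2 := relIndex_inf_mul_relIndex N T ⊤
  simp only [inf_top_eq, relIndex_top_right] at h1 h2
  rw [inf_comm] at h2
  rw [← h2] at h1
  obtain ⟨m, hm⟩ := Subgroup.relIndex_dvd_index_of_normal N T
  rw [hm] at h1
  have hpos : N.relIndex T ≠ 0 := by
    have : N.relIndex T ∣ N.index := Subgroup.relIndex_dvd_index_of_normal N T
    intro h0
    rw [h0, zero_dvd_iff] at this
    exact (Subgroup.index_ne_zero_of_finite) this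
  have h3 : T.relIndex N * m = T.index := by
    have h4 : N.relIndex T * (T.relIndex N * m) = N.relIndex T * T.index := by
      rw [← h1]; ring
    exact Nat.eq_of_mul_eq_mul_left (Nat.pos_of_ne_zero hpos) h4
  exact Dvd.intro _ h3

/-- The Sylow subgroup of a normal subgroup, from a Sylow subgroup of the group. -/
noncomputable def sylowOf (T : Sylow 2 G) (N : Subgroup G) [hN : N.Normal] : Sylow 2 N := by
  haveI : Fact (Nat.Prime 2) := ⟨Nat.prime_two⟩
  refine IsPGroup.toSylow (P := (T : Subgroup G).subgroupOf N) (IsPGroup.comap_subtype T.isPGroup') ?_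
  intro h
  exact T.not_dvd_index (h.trans (relIndex_dvd_index_of_normal_right (T : Subgroup G) N))

theorem coe_sylowOf (T : Sylow 2 G) (N : Subgroup G) [hN : N.Normal] :
    ((sylowOf T N : Sylow 2 N) : Subgroup N) = (T : Subgroup G).subgroupOf N := rfl

theorem isPGroup_zpowers {x : G} {n : ℕ} (hx : x ^ 2 ^ n = 1) : IsPGroup 2 (zpowers x) := by
  intro g
  obtain ⟨k, hk⟩ := mem_zpowers_iff.1 g.2
  refine ⟨n, Subtype.ext ?_⟩
  have h1 : (g : G) ^ 2 ^ n = 1 := by
    rw [← hk, ← zpow_natCast, ← zpow_mul, mul_comm, zpow_mul, zpow_natCast, hx, one_zpow]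
  simpa using h1

/-- Conjugating a `2`-element of a normal subgroup into a given Sylow subgroup. -/
theorem exists_conj_mem (T : Sylow 2 G) (N : Subgroup G) [hN : N.Normal] {t : G} {n : ℕ} (ht : t ∈ N)
    (ht2 : t ^ 2 ^ n = 1) : ∃ g ∈ N, g * t * g⁻¹ ∈ (T : Subgroup G) := by
  classical
  haveI : Fact (Nat.Prime 2) := ⟨Nat.prime_two⟩
  let t' : N := ⟨t, ht⟩
  have ht' : t' ^ 2 ^ n = 1 := Subtype.ext (by simpa [t'] using ht2)
  obtain ⟨Q, hQ⟩ := (isPGroup_zpowers ht').exists_le_sylow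
  obtain ⟨g, hg⟩ := MulAction.exists_smul_eq (↥N) Q (sylowOf T N)
  refine ⟨g, g.2, ?_⟩
  have h1 : t' ∈ (Q : Subgroup N) := hQ (mem_zpowers t')
  have h2 : g * t' * g⁻¹ ∈ ((g • Q : Sylow 2 N) : Subgroup N) := by
    rw [Sylow.smul_def, Sylow.pointwise_smul_def]
    exact Subgroup.smul_mem_pointwise_smul _ (MulAut.conj g) _ h1
  rw [hg, coe_sylowOf, mem_subgroupOf] at h2
  simpa [t'] using h2

/-- A `2`-element normalizing a Sylow `2`-subgroup lies in it. -/
theorem mem_of_norm_two (T : Sylow 2 G) {x : G} {n : ℕ} (hx : x ^ 2 ^ n = 1)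
    (hN : x ∈ normalizer ((T : Subgroup G) : Set G)) : x ∈ (T : Subgroup G) := by
  have h1 : IsPGroup 2 ↥(zpowers x ⊔ (T : Subgroup G)) :=
    IsPGroup.to_sup_of_normal_right' (isPGroup_zpowers hx) T.isPGroup' ((zpowers_le).2 hN)
  have h2 := T.is_maximal' h1 le_sup_right
  rw [← h2]
  exact mem_sup_left (mem_zpowers x)

/-- Adjusting: a `2`-subgroup of `C` and a Sylow subgroup of `G` inside `C`. -/
theorem exists_adjust (C : Subgroup G) (T : Sylow 2 G) (hT : (T : Subgroup G) ≤ C) (B : Subgroup G)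
    (hB : B ≤ C) (h2 : IsPGroup 2 B) : ∃ h ∈ C, ∀ b ∈ B, h⁻¹ * b * h ∈ (T : Subgroup G) := by
  classical
  haveI : Fact (Nat.Prime 2) := ⟨Nat.prime_two⟩
  have hB' : IsPGroup 2 (B.subgroupOf C) := IsPGroup.comap_subtype h2
  obtain ⟨Q, hQ⟩ := hB'.exists_le_sylow
  obtain ⟨g, hg⟩ := MulAction.exists_smul_eq (↥C) Q (T.subtype hT)
  refine ⟨g⁻¹, inv_mem g.2, ?_⟩
  intro b hb
  have hbC : b ∈ C := hB hb
  have h1 : (⟨b, hbC⟩ : C) ∈ (Q : Subgroup C) := hQ (mem_subgroupOf.2 hb)
  have h3 : g * ⟨b, hbC⟩ * g⁻¹ ∈ ((g • Q : Sylow 2 C) : Subgroup C) := by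
    rw [Sylow.smul_def, Sylow.pointwise_smul_def]
    exact Subgroup.smul_mem_pointwise_smul _ (MulAut.conj g) _ h1
  rw [hg, Sylow.coe_subtype, mem_subgroupOf] at h3
  simpa using h3

/-- A normal subgroup with cyclic Sylow `2`-subgroups vanishes. -/
theorem no_cyclic (hss : NS G) (hFT : FT G) (T : Sylow 2 G) {N : Subgroup G} (hN : N.Normal)
    (hc : IsCyclic ↥((T : Subgroup G).subgroupOf N)) : N = ⊥ := by
  classical
  haveI : Fact (Nat.Prime 2) := ⟨Nat.prime_two⟩
  have h1 := Cfsg.Agent.Lib.PGroup.QDSylow6.hasNormalPComplement_of_isCyclic (sylowOf T N)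
    (by rw [coe_sylowOf]; exact hc)
  obtain ⟨N₁, hN₁, hcop, hp⟩ := Cfsg.Agent.Lib.Transfer.Basic.hasNormalPComplement_iff.1 h1
  have hmem := Cfsg.Agent.Lib.Transfer.Basic.mem_iff_coprime_of_normal N₁ hcop hp
  have hcard : Nat.card (N₁.map N.subtype) = Nat.card N₁ :=
    Nat.card_congr (Subgroup.equivMapOfInjective _ _ N.subtype_injective).symm.toEquiv
  have hbot : N₁.map N.subtype = ⊥ := by
    apply no_odd hss hFT
    · constructor
      rintro _ ⟨x, hx, rfl⟩ g
      have h2 : (g * (x : G) * g⁻¹) ∈ N := hN.conj_mem _ x.2 g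
      refine ⟨⟨_, h2⟩, ?_, rfl⟩
      have hx' : x ∈ N₁ := hx
      show _ ∈ N₁
      rw [hmem] at hx' ⊢
      have h3 : orderOf (⟨_, h2⟩ : N) = orderOf (x : G) := by
        rw [Subgroup.orderOf_mk]
        exact orderOf_injective (MulAut.conj g).toMonoidHom (MulAut.conj g).injective _
      rw [h3, Subgroup.orderOf_coe]
      exact hx'
    · rw [hcard]
      exact Nat.coprime_two_right.1 hcop
  apply no_two hss hN
  have hN₁bot : N₁ = ⊥ := by
    rw [Subgroup.map_eq_bot_iff_of_injective _ N.subtype_injective] at hbot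
    exact hbot
  intro x
  obtain ⟨k, hk⟩ := hp (QuotientGroup.mk x)
  refine ⟨k, ?_⟩
  rw [← QuotientGroup.mk_pow, QuotientGroup.eq_one_iff, hN₁bot, mem_bot] at hk
  exact hk

/-- Thompson transfer with an index two subgroup whose outside consists of involutions not fused
into it. -/
theorem transfer_index_two (T : Sylow 2 G) (M : Subgroup G) (hM : M.relIndex (T : Subgroup G) = 2)
    (hx : ∀ x ∈ (T : Subgroup G), x ∉ M → x * x = 1 ∧ ∀ g : G, g⁻¹ * x * g ∈ (T : Subgroup G) →
      g⁻¹ * x * g ∉ M) :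
    ∃ N : Subgroup G, N.Normal ∧ N.index = 2 ∧ ∀ x ∈ (T : Subgroup G), x ∈ N ↔ x ∈ M := by
  classical
  open Cfsg.Agent.Lib.Transfer.IndexTwo in
  let ε := eps (T : Subgroup G) M hM
  have hodd : Odd (T : Subgroup G).index :=
    Nat.odd_iff.2 (Nat.mod_two_ne_zero.1 (fun h => T.not_dvd_index (Nat.dvd_of_mod_eq_zero h)))
  let V := MonoidHom.transfer ε
  have hV : ∀ x ∈ (T : Subgroup G), x ∉ M → V x ≠ 1 := by
    intro x hxT hxM
    obtain ⟨h2, h3⟩ := hx x hxT hxM
    refine Cfsg.Agent.Lib.Transfer.IndexTwo.transfer_ne_one (T : Subgroup G) hodd ε x 1 (by simpa [pow_two] using h2) ?_ ?_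
    · intro g h he
      exact h3 g h ((Cfsg.Agent.Lib.Transfer.IndexTwo.eps_eq_one_iff _ _ hM _).1 he)
    · intro k hk hkn g h
      apply (Cfsg.Agent.Lib.Transfer.IndexTwo.eps_eq_one_iff _ _ hM _).2
      have hk2 : k = 2 := by
        have := Nat.le_of_dvd (by norm_num) hkn
        simp at this
        omega
      subst hk2
      have h4 : x ^ 2 = 1 := by simpa [pow_two] using h2
      simp [h4]
  have hall : ∀ a : Multiplicative (ZMod 2), a = 1 ∨ a = Multiplicative.ofAdd 1 := by decide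
  have hex : ∃ x₀ ∈ (T : Subgroup G), x₀ ∉ M := by
    by_contra hne
    have h1 : (T : Subgroup G) ≤ M := fun y hy => by
      by_contra hy'
      exact hne ⟨y, hy, hy'⟩
    rw [relIndex_eq_one.2 h1] at hM
    omega
  obtain ⟨x₀, hx₀T, hx₀M⟩ := hex
  refine ⟨V.ker, inferInstance, ?_, ?_⟩
  · have hsurj : Function.Surjective V := by
      intro a
      rcases hall a with rfl | rfl
      · exact ⟨1, map_one _⟩
      · refine ⟨x₀, ?_⟩
        rcases hall (V x₀) with h | h
        · exact absurd h (hV x₀ hx₀T hx₀M)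
        · exact h
    rw [Subgroup.index_ker, MonoidHom.range_eq_top.2 hsurj]
    rw [Nat.card_congr (Subgroup.topEquiv.toEquiv)]
    simp
  · intro x hxT
    rw [MonoidHom.mem_ker]
    constructor
    · intro h
      by_contra hxM
      exact hV x hxT hxM h
    · intro hxM
      have h1 : x * x₀ ∉ M := by
        intro h
        apply hx₀M
        have := mul_mem (inv_mem hxM) h
        simpa using this
      have h2 := hV (x * x₀) (mul_mem hxT hx₀T) h1
      rw [map_mul] at h2
      have h3 : V x₀ = Multiplicative.ofAdd 1 := by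
        rcases hall (V x₀) with h | h
        · exact absurd h (hV x₀ hx₀T hx₀M)
        · exact h
      rw [h3] at h2
      rcases hall (V x) with h | h
      · exact h
      · exfalso
        rw [h] at h2
        exact h2 (by decide)

end Cfsg.Agent.Lib.Zass.EvenFT
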