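import Cfsg.Agent.Lib.Zass.EvenElem
import Cfsg.Agent.Lib.Basic.PCore

/-!
# The normal closure of the central involution is `PSL₂`
-/

set_option autoImplicit false
set_option linter.unusedSectionVars false
set_option linter.style.haveILetI false

namespace Cfsg.Agent.Lib.Zass.EvenG0

open Subgroup Cfsg.Agent.Lib.Zass.EvenBasic Cfsg.Agent.Lib.Zass.EvenAB
  Cfsg.Agent.Lib.Zass.EvenSub Cfsg.Agent.Lib.Zass.EvenFT Cfsg.Agent.Lib.Zass.EvenCE2
  Cfsg.Agent.Lib.Zass.BSWDih Cfsg.Agent.Lib.Zass.BSWGroup Cfsg.Agent.Lib.Zass.EvenPlus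
  Cfsg.Agent.Lib.Zass.EvenData Cfsg.Agent.Lib.Zass.EvenMinus Cfsg.Agent.Lib.Zass.EvenElem

universe u

variable {G : Type u} [Group G] [Finite G]

theorem odd_mem_of_sq_mem {N : Subgroup G} {y : G} (hy : Odd (orderOf y)) (h1 : y * y ∈ N) : y ∈ N := by
  obtain ⟨m, hm⟩ := hy
  have h2 : y = (y * y) ^ (m + 1) := by
    rw [← pow_two, ← pow_mul]
    have h3 : 2 * (m + 1) = orderOf y + 1 := by omega
    rw [h3, pow_succ, pow_orderOf_eq_one, one_mul]
  rw [h2]
  exact pow_mem h1 _

section restrict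

variable (D : Data G) (N : Subgroup G) [hN : N.Normal] (htN : D.t ∈ N) (hON : D.O ≤ N) {s : G}
  (hs : s ∈ (D.S : Subgroup G)) (hsR : s ∉ D.R) (hsN : s ∈ N)

include htN in
theorem R_uniq' (hs2 : True) {y : G} (hy : y ∈ D.R) (hyy : y * y = 1) (hy1 : y ≠ 1) : y = D.t :=
  (D.R_uniq hy hyy).resolve_left hy1

/-- The data, restricted to a normal subgroup. -/
noncomputable def restrict : Data N where
  S := sylowOf D.S N
  t := ⟨D.t, htN⟩
  R := D.R.subgroupOf N
  O := D.O.subgroupOf N
  ht := by rw [Subgroup.orderOf_mk]; exact D.ht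
  hRS := fun x hx => by
    rw [coe_sylowOf, mem_subgroupOf]
    exact D.hRS (mem_subgroupOf.1 hx)
  hidx := by
    refine relIndex_two_of (x₀ := (⟨s, hsN⟩ : N)) ?_ ?_ ?_ ?_
    · intro x hx
      rw [coe_sylowOf, mem_subgroupOf]
      exact D.hRS (mem_subgroupOf.1 hx)
    · rw [coe_sylowOf, mem_subgroupOf]
      exact hs
    · rw [mem_subgroupOf]
      exact hsR
    · intro x₁ h₁ x₂ h₂ hn₁ hn₂
      rw [coe_sylowOf, mem_subgroupOf] at h₁ h₂
      rw [mem_subgroupOf] at hn₁ hn₂ ⊢
      exact D.out_mul h₁ h₂ hn₁ hn₂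
  hcyc := by
    refine isCyclic_of_uniq (sylowOf D.S N) (t := (⟨D.t, htN⟩ : N)) _ ?_ ?_ ?_
    · intro x hx
      rw [coe_sylowOf, mem_subgroupOf]
      exact D.hRS (mem_subgroupOf.1 hx)
    · intro x hx y hy
      exact Subtype.ext (D.R_comm (mem_subgroupOf.1 hx) (mem_subgroupOf.1 hy))
    · intro x hx hxx hx1
      apply Subtype.ext
      exact (D.R_uniq (mem_subgroupOf.1 hx) (congrArg Subtype.val hxx)).resolve_left
        (fun h => hx1 (Subtype.ext h))
  htR := mem_subgroupOf.2 D.htR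
  hSC := fun x hx => by
    rw [coe_sylowOf, mem_subgroupOf] at hx
    rw [mem_centralizer_singleton_iff]
    apply Subtype.ext
    have := D.hSC hx
    rw [mem_centralizer_singleton_iff] at this
    exact this
  hOC := fun x hx => by
    rw [mem_subgroupOf] at hx
    rw [mem_centralizer_singleton_iff]
    apply Subtype.ext
    have := D.hOC hx
    rw [mem_centralizer_singleton_iff] at this
    exact this
  hOn := fun c hc o ho => by
    rw [mem_subgroupOf] at ho ⊢
    rw [mem_centralizer_singleton_iff] at hc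
    have h1 : ((c : G)) ∈ centralizer ({D.t} : Set G) := by
      rw [mem_centralizer_singleton_iff]
      exact congrArg Subtype.val hc
    exact D.hOn _ h1 _ ho
  hOodd := by
    have h1 : Nat.card (D.O.subgroupOf N) = Nat.card D.O :=
      Nat.card_congr (Subgroup.subgroupOfEquivOfLe hON).toEquiv
    rw [h1]
    exact D.hOodd
  hCsup := fun c hc => by
    rw [mem_centralizer_singleton_iff] at hc
    have h1 : ((c : G)) ∈ centralizer ({D.t} : Set G) := by
      rw [mem_centralizer_singleton_iff]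
      exact congrArg Subtype.val hc
    obtain ⟨o, ho, x, hx, hcx⟩ := D.hCsup _ h1
    have hoN := hON ho
    have hxN : x ∈ N := by
      have h2 : x = o⁻¹ * c := by
        rw [hcx]
        group
      rw [h2]
      exact mul_mem (inv_mem hoN) c.2
    refine ⟨⟨o, hoN⟩, mem_subgroupOf.2 ho, ⟨x, hxN⟩, ?_, Subtype.ext hcx⟩
    rw [coe_sylowOf, mem_subgroupOf]
    exact hx
  hRO := fun r hr o ho => Subtype.ext (D.hRO _ (mem_subgroupOf.1 hr) _ (mem_subgroupOf.1 ho))
  hout := fun x hx hxR => by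
    rw [coe_sylowOf, mem_subgroupOf] at hx
    rw [mem_subgroupOf] at hxR
    obtain ⟨h1, h2⟩ := D.hout x hx hxR
    refine ⟨Subtype.ext h1, fun y hy => Subtype.ext ?_⟩
    exact h2 y (mem_subgroupOf.1 hy)
  hinvO := fun x hx hxR y hy => by
    rw [coe_sylowOf, mem_subgroupOf] at hx
    rw [mem_subgroupOf] at hxR
    exact Subtype.ext (D.hinvO x hx hxR y (mem_subgroupOf.1 hy))
  hc := fun Y hY hY1 g hg => by
    have hY' : Y.map N.subtype ≤ D.O := by
      rintro _ ⟨y, hy, rfl⟩
      exact mem_subgroupOf.1 (hY hy)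
    have hY1' : Y.map N.subtype ≠ ⊥ := by
      intro h
      apply hY1
      rw [eq_bot_iff]
      intro y hy
      have : (y : G) ∈ Y.map N.subtype := ⟨y, hy, rfl⟩
      rw [h, mem_bot] at this
      rw [mem_bot]
      exact Subtype.ext this
    have hg' : (g : G) ∈ normalizer ((Y.map N.subtype : Subgroup G) : Set G) := by
      rw [mem_normalizer_iff]
      intro x
      constructor
      · rintro ⟨y, hy, rfl⟩
        refine ⟨g * y * g⁻¹, ?_, rfl⟩
        exact (mem_normalizer_iff.1 hg y).1 hy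
      · rintro ⟨y, hy, hxy⟩
        have hxN : x ∈ N := by
          have h1 : x = (g : G)⁻¹ * (y : G) * g := by
            rw [show ((y : N) : G) = N.subtype y from rfl, hxy]
            group
          rw [h1]
          exact mul_mem (mul_mem (inv_mem g.2) y.2) g.2
        refine ⟨⟨x, hxN⟩, ?_, rfl⟩
        refine (mem_normalizer_iff.1 hg ⟨x, hxN⟩).2 ?_
        have h2 : g * ⟨x, hxN⟩ * g⁻¹ = y := Subtype.ext hxy.symm
        rw [h2]
        exact hy
    have h3 := D.hc _ hY' hY1' hg'
    rw [mem_centralizer_singleton_iff] at h3 ⊢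
    exact Subtype.ext h3

end restrict

section involutions

variable {X : Type u} [Group X] [Finite X]

/-- All involutions are conjugate, in the absence of subgroups of index two. -/
theorem hconj_of_no_index (D : Data X) (hno : ∀ N : Subgroup X, N.Normal → N.index ≠ 2) (x : X)
    (hx : orderOf x = 2) : IsConj x D.t := by
  classical
  have hxx := mul_self_of_orderOf hx
  have hx1 : x ≠ 1 := by
    rintro rfl
    rw [orderOf_one] at hx
    omega
  by_contra hcon
  -- no conjugate of `x` lies in `R`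
  have hnot : ∀ g : X, g⁻¹ * x * g ∈ D.R → False := by
    intro g hg
    have h1 : (g⁻¹ * x * g) * (g⁻¹ * x * g) = 1 := by
      calc (g⁻¹ * x * g) * (g⁻¹ * x * g) = g⁻¹ * (x * x) * g := by group
        _ = 1 := by rw [hxx]; group
    rcases D.R_uniq hg h1 with h2 | h2
    · apply hx1
      have h3 : x = g * (g⁻¹ * x * g) * g⁻¹ := by group
      rw [h3, h2]
      group
    · apply hcon
      rw [isConj_iff]
      refine ⟨g⁻¹, ?_⟩
      rw [inv_inv]
      exact h2
  -- transfer
  have hoddidx : Odd (D.S : Subgroup X).index := by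
    rw [← Nat.not_even_iff_odd, even_iff_two_dvd]
    exact D.S.not_dvd_index
  obtain ⟨N, hNn, hNi, -⟩ := Cfsg.Agent.Lib.Transfer.IndexTwo.exists_normal_index_two_of_relIndex
    (D.S : Subgroup X) hoddidx D.R D.hidx x 1 (by rw [pow_one, pow_two]; exact hxx)
    (fun g _ h => hnot g h) (by
      intro k hk hk2 g _
      have h2 : k = 2 := by
        have h3 := Nat.le_of_dvd (by norm_num) hk2
        rw [pow_one] at h3
        omega
      subst h2
      have h3 : x ^ 2 = 1 := by rw [pow_two]; exact hxx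
      rw [h3]
      simp [D.R.one_mem])
  exact hno N hNn hNi

end involutions

section main

variable (D : Data G) {s h : G} (hs : s ∈ (D.S : Subgroup G)) (hsR : s ∉ D.R) (hh : h * D.t * h⁻¹ = s)
  (hss : NS G) (hFT : FT G)

/-- The normal closure of the central involution. -/
abbrev Gz : Subgroup G := normalClosure ({D.t} : Set G)

theorem t_mem_Gz : D.t ∈ Gz D := subset_normalClosure (Set.mem_singleton _)

include hh in
theorem s_mem_Gz : s ∈ Gz D := by
  rw [← hh]
  exact (normalClosure_normal (s := ({D.t} : Set G))).conj_mem _ (t_mem_Gz D) h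

include hs hsR hh in
theorem O_le_Gz : D.O ≤ Gz D := by
  intro y hy
  have hodd : Odd (orderOf y) := by
    have h1 : orderOf y ∣ Nat.card D.O := Subgroup.orderOf_dvd_natCard D.O hy
    exact Odd.of_dvd_nat D.hOodd h1
  apply odd_mem_of_sq_mem hodd
  have h1 := D.hinvO s hs hsR y hy
  have hsG := s_mem_Gz D hh
  have h2 : y * y = (y * s * y⁻¹) * s⁻¹ := by
    have h3 : s * y⁻¹ * s⁻¹ = y := by
      have : s * y⁻¹ * s⁻¹ = (s * y * s⁻¹)⁻¹ := by group
      rw [this, h1, inv_inv]
    calc y * y = y * (s * y⁻¹ * s⁻¹) := by rw [h3]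
      _ = (y * s * y⁻¹) * s⁻¹ := by group
  rw [h2]
  exact mul_mem ((normalClosure_normal (s := ({D.t} : Set G))).conj_mem _ hsG y) (inv_mem hsG)

include hs hsR hh in
theorem R_sq_mem_Gz {r : G} (hr : r ∈ D.R) : r * r ∈ Gz D := by
  have h1 := (D.hout s hs hsR).2 r hr
  have hsG := s_mem_Gz D hh
  have h2 : r * r = (r * s * r⁻¹) * s⁻¹ := by
    have h3 : s * r⁻¹ * s⁻¹ = r := by
      have : s * r⁻¹ * s⁻¹ = (s * r * s⁻¹)⁻¹ := by group
      rw [this, h1, inv_inv]
    calc r * r = r * (s * r⁻¹ * s⁻¹) := by rw [h3]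
      _ = (r * s * r⁻¹) * s⁻¹ := by group
  rw [h2]
  exact mul_mem ((normalClosure_normal (s := ({D.t} : Set G))).conj_mem _ hsG r) (inv_mem hsG)

include hss hFT hs hsR hh in
/-- No subgroup of index two in the normal closure. -/
theorem no_index_two (L : Subgroup (Gz D)) (hL : L.index = 2) : False := by
  classical
  haveI hGn : (Gz D).Normal := normalClosure_normal
  set L' : Subgroup G := L.map (Gz D).subtype with hL'
  set N : Subgroup G := L'.normalCore with hN
  haveI hNn : N.Normal := Subgroup.normalCore_normal _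
  have hNL : N ≤ L' := Subgroup.normalCore_le _
  have hmemN : ∀ {x : G}, x ∈ N ↔ ∀ g : G, g * x * g⁻¹ ∈ L' := Iff.rfl
  have hsq : ∀ x ∈ Gz D, x * x ∈ N := by
    intro x hx
    rw [hmemN]
    intro g
    have h1 : g * x * g⁻¹ ∈ Gz D := hGn.conj_mem x hx g
    have h2 := Subgroup.mul_self_mem_of_index_two hL ⟨_, h1⟩
    refine ⟨_, h2, ?_⟩
    simp only [Subgroup.subtype_apply, Subgroup.coe_mul]
    group
  have htN : D.t ∉ N := by
    intro h1
    have h2 : Gz D ≤ N := normalClosure_le_normal (by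
      intro x hx
      rw [Set.mem_singleton_iff.1 hx]
      exact h1)
    have h3 : L = ⊤ := by
      rw [eq_top_iff]
      intro x _
      obtain ⟨y, hy, hyx⟩ := hNL (h2 x.2)
      have : y = x := Subtype.ext hyx
      rwa [← this]
    rw [h3, Subgroup.index_top] at hL
    omega
  have hRN : ∀ r ∈ D.R, r ∈ N → r = 1 := by
    intro r hr hrN
    by_contra hr1
    obtain ⟨n, hn⟩ := two_elt D.S (D.hRS hr)
    obtain ⟨c, hc, hc2, hc1⟩ := exists_inv_of_two hn hr1
    have hcR : c ∈ D.R := (zpowers_le.2 hr) hc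
    have hct := (D.R_uniq hcR hc2).resolve_left hc1
    exact htN (hct ▸ (zpowers_le.2 hrN) hc)
  have hcyc : IsCyclic ↥((D.S : Subgroup G).subgroupOf N) := by
    by_cases hex : ∃ c ∈ (D.S : Subgroup G), c ∈ N ∧ c ≠ 1
    · obtain ⟨c, hcS, hcN, hc1⟩ := hex
      refine cyclic_of_two (D.S : Subgroup G) N (t := c) ?_
      intro x hxS hxN
      by_cases hx1 : x = 1
      · exact Or.inl hx1
      right
      have hcR : c ∉ D.R := fun h1 => hc1 (hRN c h1 hcN)
      have hxR : x ∉ D.R := fun h1 => hx1 (hRN x h1 hxN)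
      have h1 := hRN _ (D.out_mul hxS hcS hxR hcR) (mul_mem hxN hcN)
      have h2 := (D.hout c hcS hcR).1
      calc x = x * (c * c) := by rw [h2, mul_one]
        _ = (x * c) * c := by group
        _ = c := by rw [h1, one_mul]
    · push Not at hex
      exact cyclic_of_two (D.S : Subgroup G) N (t := 1) (fun x hx hxN => Or.inl (hex x hx hxN))
  have hNbot := no_cyclic hss hFT D.S hNn hcyc
  have hall : ∀ x ∈ Gz D, x * x = 1 := by
    intro x hx
    have := hsq x hx
    rw [hNbot, mem_bot] at this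
    exact this
  have hGbot := no_exp_two hss hGn hall
  have := t_mem_Gz D
  rw [hGbot, mem_bot] at this
  exact D.t_ne this

include hs hsR hh in
/-- The restricted data. -/
noncomputable def dataZ : Data (Gz D) :=
  haveI : (Gz D).Normal := normalClosure_normal
  restrict D (Gz D) (t_mem_Gz D) (O_le_Gz D hs hsR hh) hs hsR (s_mem_Gz D hh)

theorem dataZ_t : (dataZ D hs hsR hh).t = ⟨D.t, t_mem_Gz D⟩ := rfl

include hss hFT hs hsR hh in
/-- All involutions of the normal closure are conjugate in it. -/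
theorem conj_in_Gz {x : G} (hxG : x ∈ Gz D) (hx2 : x * x = 1) (hx1 : x ≠ 1) :
    ∃ g ∈ Gz D, g * x * g⁻¹ = D.t := by
  have h1 : orderOf (⟨x, hxG⟩ : Gz D) = 2 := by
    rw [Subgroup.orderOf_mk]
    exact orderOf_eq_two hx2 hx1
  have h2 := hconj_of_no_index (dataZ D hs hsR hh)
    (fun N _ hi => no_index_two D hs hsR hh hss hFT N hi) ⟨x, hxG⟩ h1
  rw [isConj_iff] at h2
  obtain ⟨c, hc⟩ := h2
  exact ⟨c, c.2, congrArg Subtype.val hc⟩

include hss hFT hs hsR hh in
/-- The normal closure is simple. -/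
theorem simple_Gz : IsSimpleGroup (Gz D) := by
  classical
  haveI hGn : (Gz D).Normal := normalClosure_normal
  haveI hnt : Nontrivial (Gz D) := ⟨⟨⟨D.t, t_mem_Gz D⟩, 1, fun h => D.t_ne (congrArg Subtype.val h)⟩⟩
  refine ⟨?_⟩
  intro M hM
  by_cases hodd : Odd (Nat.card M)
  · left
    -- the odd core
    set C := Cfsg.pPrimeCore 2 (Gz D) with hC
    have hMC : M ≤ C := Cfsg.Agent.Lib.Basic.PCore.le_pPrimeCore hM (Nat.coprime_two_right.2 hodd)
    haveI hCc : C.Characteristic := Cfsg.Agent.Lib.Solvable.PSeries.pPrimeCore_char 2 (Gz D)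
    have hCn : (C.map (Gz D).subtype).Normal :=
      Cfsg.Agent.Lib.Basic.PCore.map_subtype_normal_of_characteristic C
    have hCcop : (Nat.card C).Coprime 2 := Cfsg.Agent.Lib.Solvable.PSeries.pPrimeCore_coprime 2
    have hCodd : Odd (Nat.card (C.map (Gz D).subtype)) := by
      have h1 : Nat.card (C.map (Gz D).subtype) = Nat.card C :=
        Nat.card_congr (Subgroup.equivMapOfInjective C _ (Subgroup.subtype_injective _)).symm.toEquiv
      rw [h1]
      exact Nat.coprime_two_right.1 hCcop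
    have h2 := no_odd hss hFT hCn hCodd
    rw [eq_bot_iff]
    intro x hx
    have h3 : (x : G) ∈ C.map (Gz D).subtype := ⟨x, hMC hx, rfl⟩
    rw [h2, mem_bot] at h3
    rw [mem_bot]
    exact Subtype.ext h3
  · right
    rw [Nat.not_odd_iff_even, even_iff_two_dvd] at hodd
    haveI : Fact (Nat.Prime 2) := ⟨Nat.prime_two⟩
    obtain ⟨y, hy⟩ := exists_prime_orderOf_dvd_card' 2 hodd
    have hy2 : (y : Gz D) * y = 1 := by
      have hy' : orderOf (y : Gz D) = 2 := by
        rw [← Subgroup.orderOf_coe] at hy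
        exact hy
      exact mul_self_of_orderOf hy'
    have hyG : ((y : Gz D) : G) * (y : Gz D) = 1 := congrArg Subtype.val hy2
    have hy1 : ((y : Gz D) : G) ≠ 1 := by
      intro h
      have : (y : Gz D) = 1 := Subtype.ext h
      rw [← Subgroup.orderOf_coe, this, orderOf_one] at hy
      omega
    obtain ⟨g, hgG, hgy⟩ := conj_in_Gz D hs hsR hh hss hFT (y : Gz D).2 hyG hy1
    have htM : (⟨D.t, t_mem_Gz D⟩ : Gz D) ∈ M := by
      have h1 : (⟨D.t, t_mem_Gz D⟩ : Gz D) = ⟨g, hgG⟩ * (y : Gz D) * ⟨g, hgG⟩⁻¹ := by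
        apply Subtype.ext
        exact hgy.symm
      rw [h1]
      exact hM.conj_mem _ y.2 _
    rw [eq_top_iff]
    intro x _
    -- the closure
    have hle : Gz D ≤ M.map (Gz D).subtype := by
      change closure (Group.conjugatesOfSet ({D.t} : Set G)) ≤ _
      rw [closure_le]
      intro c hc
      rw [Group.mem_conjugatesOfSet_iff] at hc
      obtain ⟨a, ha, hac⟩ := hc
      rw [Set.mem_singleton_iff.1 ha] at hac
      rw [isConj_iff] at hac
      obtain ⟨b, hb⟩ := hac
      have hcG : c ∈ Gz D := by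
        rw [← hb]
        exact hGn.conj_mem _ (t_mem_Gz D) b
      have hc2 : c * c = 1 := by
        rw [← hb]
        have h5 := mul_self_of_orderOf D.ht
        calc b * D.t * b⁻¹ * (b * D.t * b⁻¹) = b * (D.t * D.t) * b⁻¹ := by group
          _ = 1 := by rw [h5]; group
      have hc1 : c ≠ 1 := by
        intro h5
        apply D.t_ne
        have : D.t = b⁻¹ * (b * D.t * b⁻¹) * b := by group
        rw [this, hb, h5]
        group
      obtain ⟨g', hg'G, hg'⟩ := conj_in_Gz D hs hsR hh hss hFT hcG hc2 hc1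
      refine ⟨(⟨g', hg'G⟩ : Gz D)⁻¹ * ⟨D.t, t_mem_Gz D⟩ * ⟨g', hg'G⟩, ?_, ?_⟩
      · have := hM.conj_mem _ htM (⟨g', hg'G⟩ : Gz D)⁻¹
        rwa [inv_inv] at this
      · simp only [Subgroup.subtype_apply, Subgroup.coe_mul, Subgroup.coe_inv, Subgroup.coe_mk]
        rw [← hg']
        group
    obtain ⟨z, hz, hzx⟩ := hle x.2
    have : z = x := Subtype.ext hzx
    rwa [← this]

include hss hFT hs hsR hh in
/-- **The normal closure is `PSL₂`.** -/
theorem psl_Gz : ∃ (K : Type) (_ : Field K) (_ : Fintype K), ringChar K ≠ 2 ∧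
    Nonempty (Gz D ≃* Matrix.ProjectiveSpecialLinearGroup (Fin 2) K) := by
  classical
  haveI := simple_Gz D hs hsR hh hss hFT
  haveI : Fact (Nat.Prime 2) := ⟨Nat.prime_two⟩
  refine Cfsg.Agent.Lib.Zass.BSWDih.Data.psl (dataZ D hs hsR hh) ?_
  set D₀ := dataZ D hs hsR hh with hD₀
  have htS : (⟨D.t, t_mem_Gz D⟩ : Gz D) ∈ (D₀.S : Subgroup (Gz D)) := by
    have h1 : (D₀.S : Subgroup (Gz D)) = (D.S : Subgroup G).subgroupOf (Gz D) := rfl
    rw [h1, mem_subgroupOf]
    exact D.hRS D.htR
  have hsS : (⟨s, s_mem_Gz D hh⟩ : Gz D) ∈ (D₀.S : Subgroup (Gz D)) := by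
    have h1 : (D₀.S : Subgroup (Gz D)) = (D.S : Subgroup G).subgroupOf (Gz D) := rfl
    rw [h1, mem_subgroupOf]
    exact hs
  have h3 : 3 ≤ Nat.card (D₀.S : Subgroup (Gz D)) := by
    let f : Fin 3 → (D₀.S : Subgroup (Gz D)) := ![1, ⟨_, htS⟩, ⟨_, hsS⟩]
    have hts : D.t ≠ s := by
      rintro rfl
      exact hsR D.htR
    have hs1 : s ≠ 1 := by
      rintro rfl
      exact hsR (one_mem _)
    have ht1 := D.t_ne
    have hf : Function.Injective f := by
      intro i j hij
      have h5 : ∀ i : Fin 3, (((f i : (D₀.S : Subgroup (Gz D))) : Gz D) : G) = (![1, D.t, s] : Fin 3 → G) i := by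
        intro i
        fin_cases i <;> rfl
      have h6 : (![1, D.t, s] : Fin 3 → G) i = (![1, D.t, s] : Fin 3 → G) j := by
        rw [← h5, ← h5, hij]
      fin_cases i <;> fin_cases j <;> simp_all
    have := Nat.card_le_card_of_injective f hf
    simpa using this
  obtain ⟨k, hk⟩ := D₀.S.isPGroup'.exists_card_eq
  rw [hk] at h3 ⊢
  have hk2 : 2 ≤ k := by
    by_contra h
    have : k = 0 ∨ k = 1 := by omega
    rcases this with rfl | rfl <;> norm_num at h3
  calc 4 = 2 ^ 2 := by norm_num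
    _ ≤ 2 ^ k := Nat.pow_le_pow_right (by norm_num) hk2

end main

end Cfsg.Agent.Lib.Zass.EvenG0
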