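import Cfsg.Agent.Lib.Zass.EvenPGL3

/-!
# The theorem: groups in which all non-trivial subgroups of a cyclic subgroup of even order have the
same normalizer
-/

set_option autoImplicit false
set_option linter.unusedSectionVars false
set_option linter.style.haveILetI false

namespace Cfsg.Agent.Lib.Zass.EvenMain

open Subgroup Cfsg.Agent.Lib.Zass.EvenBasic Cfsg.Agent.Lib.Zass.EvenAB
  Cfsg.Agent.Lib.Zass.EvenSub Cfsg.Agent.Lib.Zass.EvenFT Cfsg.Agent.Lib.Zass.EvenCE2
  Cfsg.Agent.Lib.Zass.BSWDih Cfsg.Agent.Lib.Zass.BSWGroup Cfsg.Agent.Lib.Zass.EvenPlus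
  Cfsg.Agent.Lib.Zass.EvenData Cfsg.Agent.Lib.Zass.EvenMinus Cfsg.Agent.Lib.Zass.EvenElem
  Cfsg.Agent.Lib.Zass.EvenG0 Cfsg.Agent.Lib.Zass.EvenPGL1 Cfsg.Agent.Lib.Zass.EvenPGL2
  Cfsg.Agent.Lib.Zass.EvenPGL3
  Cfsg.Agent.Lib.PSL2.Basic Cfsg.Agent.Lib.PSL2.AutPSL Cfsg.Agent.Lib.PSL2.OutPSL
  Cfsg.Agent.Lib.Linalg.AutPSLCount Cfsg.Agent.Lib.Linalg.AutPSLStd
open scoped MatrixGroups

universe u

variable {G : Type u} [Group G] [Finite G]

/-- The conclusion from the data. -/
theorem main_of_data (hii : HII G) (hss : NS G) (hFT : FT G) (D : Data G) {s h : G}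
    (hs : s ∈ (D.S : Subgroup G)) (hsR : s ∉ D.R) (hh : h * D.t * h⁻¹ = s) :
    ∃ (F : Type) (_ : Field F) (_ : Fintype F), 3 < Fintype.card F ∧
      (Nonempty (G ≃* Matrix.ProjectiveSpecialLinearGroup (Fin 2) F) ∨
        Nonempty (G ≃* Matrix.ProjGenLinGroup (Fin 2) F)) := by
  classical
  obtain ⟨K, _, _, hK2, ⟨φ⟩⟩ := psl_Gz D hs hsR hh hss hFT
  have h2 : (2 : K) ≠ 0 := Ring.two_ne_zero hK2
  haveI hch : CharP K (ringChar K) := ringChar.charP K
  haveI hpf : Fact (ringChar K).Prime := ⟨CharP.char_is_prime K _⟩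
  haveI hsimple := simple_Gz D hs hsR hh hss hFT
  have hcardP : 2 * Nat.card (Gz D) = Fintype.card K * (Fintype.card K ^ 2 - 1) := by
    rw [Nat.card_congr φ.toEquiv]
    exact card_PSL2_of_two_ne_zero h2
  have hq : 3 < Fintype.card K := by
    have h1 : 1 < Fintype.card K := Fintype.one_lt_card
    by_contra hcon
    have h3 : Fintype.card K = 2 ∨ Fintype.card K = 3 := by omega
    rcases h3 with h3 | h3
    · apply h2
      have h5 : ((Fintype.card K : ℕ) : K) = 0 := Nat.cast_card_eq_zero K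
      rw [h3] at h5
      exact_mod_cast h5
    · rw [h3] at hcardP
      have h12 : Nat.card (Gz D) = 12 := by omega
      exact Cfsg.Agent.Lib.Zass.BSWPSL.not_simple_twelve h12
  refine ⟨K, inferInstance, inferInstance, hq, ?_⟩
  by_cases hne : Gz D = ⊤
  · left
    exact ⟨(Subgroup.topEquiv.symm.trans (MulEquiv.subgroupCongr hne.symm)).trans φ⟩
  · right
    have htau := tau_eq_one (ringChar K) D φ hs hsR hh hii hss hFT h2
    have hinj := Psi_injective D φ hs hsR hh hss hFT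
    let C : GL (Fin 2) K →* MulAut (PSL(2, K)) := conjHom
    have hle : (Psi D φ).range ≤ C.range := by
      rintro _ ⟨g, rfl⟩
      obtain ⟨m, a, hma⟩ := stdHom_spec (ringChar K) (Psi D φ g)
      rw [htau g, fbar_one, mul_one] at hma
      obtain ⟨M, rfl⟩ := mkP_surjective m
      refine ⟨Matrix.SpecialLinearGroup.toGL M * dA a, ?_⟩
      change Cfsg.Agent.Lib.Linalg.AutPSLBasic.conjP _ = _
      rw [hma, Cfsg.Agent.Lib.Linalg.AutPSLBasic.conjP_mul, dbar_eq, ← conj_mk_eq_conjP]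
    have hcardG : Nat.card G = 2 * Nat.card (Gz D) := by
      have h3 := (Gz D).card_mul_index
      rw [index_Gz D hs hsR hh hss hFT hne] at h3
      omega
    have hcardPGL := Cfsg.Agent.Lib.PSL2.FieldEmbed.card_PGL K
    have hcardC : Nat.card C.range = Nat.card (Matrix.ProjGenLinGroup (Fin 2) K) :=
      card_range_conjHom (le_refl 2)
    have hcardR : Nat.card (Psi D φ).range = Nat.card G :=
      (Nat.card_congr (MonoidHom.ofInjective hinj).toEquiv).symm
    have heq : (Psi D φ).range = C.range := by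
      haveI : Finite C.range := Nat.finite_of_card_ne_zero (by
        rw [hcardC, hcardPGL, ← hcardP, ← hcardG]
        exact Nat.card_pos.ne')
      refine Subgroup.eq_of_le_of_card_ge hle ?_
      rw [hcardC, hcardR, hcardPGL, ← hcardP, hcardG]
    let e₃ : Matrix.ProjGenLinGroup (Fin 2) K ≃* C.range :=
      (QuotientGroup.quotientMulEquivOfEq (conjHom_ker (le_refl 2))).symm.trans
        (QuotientGroup.quotientKerEquivRange C)
    exact ⟨(MonoidHom.ofInjective hinj).trans ((MulEquiv.subgroupCongr heq).trans e₃.symm)⟩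

/-- **The theorem**, given the Feit–Thompson theorem for `G`. -/
theorem main [Nontrivial G] (hii : HII G) (hss : NS G) (hFT : FT G) :
    ∃ (F : Type) (_ : Field F) (_ : Fintype F), 3 < Fintype.card F ∧
      (Nonempty (G ≃* Matrix.ProjectiveSpecialLinearGroup (Fin 2) F) ∨
        Nonempty (G ≃* Matrix.ProjGenLinGroup (Fin 2) F)) := by
  by_cases h4 : ∀ v : G, v * v * (v * v) = 1 → v * v = 1
  · rcases elem_case hii hss hFT h4 with ⟨F, i₁, i₂, hq, h⟩ | ⟨D, s, hs, hsR, h, hh⟩
    · exact ⟨F, i₁, i₂, hq, Or.inl h⟩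
    · exact main_of_data hii hss hFT D hs hsR hh
  · push Not at h4
    obtain ⟨v, hv4, hv2⟩ := h4
    obtain ⟨D, s, hs, hsR, h, hh⟩ := minus_case hii hss hFT hv4 hv2
    exact main_of_data hii hss hFT D hs hsR hh

end Cfsg.Agent.Lib.Zass.EvenMain
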