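import Cfsg.Agent.Lib.Zass.EvenData
import Cfsg.Agent.S0215

/-!
# The case of an element of order four: the configuration of Brauer–Suzuki–Wall
-/

set_option autoImplicit false
set_option linter.unusedSectionVars false
set_option linter.style.haveILetI false

namespace Cfsg.Agent.Lib.Zass.EvenMinus

open Subgroup Cfsg.Agent.Lib.Zass.EvenBasic Cfsg.Agent.Lib.Zass.EvenAB
  Cfsg.Agent.Lib.Zass.EvenSub Cfsg.Agent.Lib.Zass.EvenFT Cfsg.Agent.Lib.Zass.EvenCE2
  Cfsg.Agent.Lib.Zass.BSWDih Cfsg.Agent.Lib.Zass.BSWGroup Cfsg.Agent.Lib.Zass.EvenPlus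
  Cfsg.Agent.Lib.Zass.EvenData

universe u

variable {G : Type u} [Group G] [Finite G]

/-- An involution which is not central has a commuting conjugate (Glauberman's `Z*`-theorem). -/
theorem exists_conj_comm (hss : NS G) (hFT : FT G) {a : G} (ha : a * a = 1) (ha1 : a ≠ 1) :
    ∃ h : G, h * a * h⁻¹ ≠ a ∧ (h * a * h⁻¹) * a = a * (h * a * h⁻¹) := by
  classical
  haveI : Fact (Nat.Prime 2) := ⟨Nat.prime_two⟩
  have ha2 : a ^ 2 ^ 1 = 1 := by simpa [pow_two] using ha
  obtain ⟨P, hP⟩ := (isPGroup_zpowers ha2).exists_le_sylow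
  have haP : a ∈ (P : Subgroup G) := hP (mem_zpowers a)
  have hg : ∃ g : G, g * a * g⁻¹ ∈ (P : Subgroup G) ∧ g * a * g⁻¹ ≠ a := by
    by_contra hcon
    push Not at hcon
    obtain ⟨N, hNn, hNo, hNc⟩ := Cfsg.Agent.S0215.result P a (orderOf_eq_two ha ha1) haP hcon
    have hN := no_odd hss hFT hNn hNo
    have hcomm : ∀ g : G, a * g * a⁻¹ * g⁻¹ = 1 := by
      intro g
      have := hNc g
      rw [hN, mem_bot] at this
      exact this
    have hcomm' : ∀ g : G, g * a = a * g := by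
      intro g
      have h1 := hcomm g⁻¹
      have h2 : a * g⁻¹ * a⁻¹ * g = 1 := by simpa using h1
      have h3 : a * g⁻¹ * a⁻¹ = g⁻¹ := by
        have := eq_inv_of_mul_eq_one_left h2
        exact this
      have h4 : g⁻¹ * a = a * g⁻¹ := by
        calc g⁻¹ * a = a * g⁻¹ * a⁻¹ * a := by rw [h3]
          _ = a * g⁻¹ := by group
      calc g * a = g * (a * g⁻¹) * g := by group
        _ = g * (g⁻¹ * a) * g := by rw [h4]
        _ = a * g := by group
    have hzN : (zpowers a).Normal := by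
      constructor
      intro x hx g
      obtain ⟨k, rfl⟩ := mem_zpowers_iff.1 hx
      have h1 : g * a ^ k * g⁻¹ = a ^ k := by
        have : Commute g (a ^ k) := Commute.zpow_right (hcomm' g) k
        rw [this.eq]
        group
      rw [h1]
      exact zpow_mem (mem_zpowers a) k
    have hz2 : ∀ x ∈ zpowers a, x * x = 1 := by
      intro x hx
      obtain ⟨k, rfl⟩ := mem_zpowers_iff.1 hx
      calc a ^ k * a ^ k = (a * a) ^ k := by
            rw [(Commute.refl a).mul_zpow]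
        _ = 1 := by rw [ha, one_zpow]
    have := no_exp_two hss hzN hz2
    rw [zpowers_eq_bot] at this
    exact ha1 this
  obtain ⟨g, hgP, hga⟩ := hg
  set a' := g * a * g⁻¹ with ha'
  have ha'2 : a' * a' = 1 := by
    rw [ha']
    calc g * a * g⁻¹ * (g * a * g⁻¹) = g * (a * a) * g⁻¹ := by group
      _ = 1 := by rw [ha]; group
  set c := a * a' with hc
  have hai : a⁻¹ = a := inv_eq_self ha
  have ha'i : a'⁻¹ = a' := inv_eq_self ha'2
  by_cases hcc : c * c = 1
  · refine ⟨g, hga, ?_⟩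
    have h1 : a * a' * (a * a') = 1 := hcc
    have h2 : a * a' = (a * a')⁻¹ := eq_inv_of_mul_eq_one_left h1
    rw [_root_.mul_inv_rev, hai, ha'i] at h2
    exact h2.symm
  · have hcP : c ∈ (P : Subgroup G) := mul_mem haP hgP
    obtain ⟨n, hn⟩ := two_elt P hcP
    have hcc2 : (c * c) ^ 2 ^ n = 1 := by
      rw [← pow_two, ← pow_mul, mul_comm, pow_mul, hn, one_pow]
    obtain ⟨z, hzm, hz2, hz1⟩ := exists_inv_of_two hcc2 hcc
    obtain ⟨k, hk⟩ := mem_zpowers_iff.1 hzm
    set f := c ^ k with hf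
    have hff : f * f = z := by
      rw [← hk, hf, (Commute.refl c).mul_zpow]
    have hac : a * c * a⁻¹ = c⁻¹ := by
      rw [hc, hai, _root_.mul_inv_rev, hai, ha'i]
      calc a * (a * a') * a = (a * a) * a' * a := by group
        _ = a' * a := by rw [ha]; group
    have haf : a * f * a⁻¹ = f⁻¹ := by
      rw [hf]
      have h1 : a * c ^ k * a⁻¹ = (a * c * a⁻¹) ^ k := by
        rw [conj_zpow]
      rw [h1, hac, inv_zpow]
    have hfaf : f * a * f⁻¹ = z * a := by
      have h1 : a * f⁻¹ = f * a := by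
        have h2 : a * f⁻¹ * a⁻¹ = f := by
          have h3 : a * f⁻¹ * a⁻¹ = (a * f * a⁻¹)⁻¹ := by group
          rw [h3, haf, inv_inv]
        calc a * f⁻¹ = a * f⁻¹ * a⁻¹ * a := by group
          _ = f * a := by rw [h2]
      rw [mul_assoc, h1, ← mul_assoc, hff]
    have hzi : z⁻¹ = z := inv_eq_self hz2
    have haz : a * z * a⁻¹ = z := by
      rw [← hff]
      calc a * (f * f) * a⁻¹ = (a * f * a⁻¹) * (a * f * a⁻¹) := by group
        _ = f⁻¹ * f⁻¹ := by rw [haf]
        _ = (f * f)⁻¹ := by group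
        _ = f * f := by rw [hff, hzi]
    have haz' : a * z = z * a := by
      calc a * z = a * z * a⁻¹ * a := by group
        _ = z * a := by rw [haz]
    refine ⟨f, ?_, ?_⟩
    · rw [hfaf]
      intro h
      exact hz1 (mul_right_cancel (h.trans (one_mul a).symm))
    · rw [hfaf]
      calc z * a * a = z * (a * a) := by group
        _ = (a * a) * z := by rw [ha]; simp
        _ = a * (a * z) := by group
        _ = a * (z * a) := by rw [haz']

/-- An involution `x` commuting with `a`, outside the centre of `C(a)`, inverts the odd part. -/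
theorem odd_invert (hii : HII G) {a x y g : G} (ha : a * a = 1) (ha1 : a ≠ 1) (hx : x * x = 1)
    (hx1 : x ≠ 1) (hxa : x * a = a * x) (hy : y ∈ oddSub hii ha ha1) (hg : g * a = a * g)
    (hgx : g * x ≠ x * g) : x * y * x⁻¹ = y⁻¹ := by
  have hxi : x⁻¹ = x := inv_eq_self hx
  set yc := x * y * x⁻¹ with hyc
  have h1 : yc ∈ zpowers y := odd_conj_mem hii ha ha1 hy.2 hy.1 hxa
  have hcomm : y * yc = yc * y := by
    obtain ⟨k, hk⟩ := mem_zpowers_iff.1 h1
    rw [← hk]
    exact (Commute.zpow_right (Commute.refl y) k)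
  have h2 : yc ∈ oddSub hii ha ha1 := oddSub_conj hii ha ha1 hy hxa
  have h3 : x * yc * x⁻¹ = y := by
    rw [hyc, hxi]
    calc x * (x * y * x) * x = (x * x) * y * (x * x) := by group
      _ = y := by rw [hx]; group
  set c := y * yc with hc
  have hcO : c ∈ oddSub hii ha ha1 := mul_mem hy h2
  have hcx : c * x = x * c := by
    have h4 : x * c * x⁻¹ = c := by
      rw [hc]
      calc x * (y * yc) * x⁻¹ = (x * y * x⁻¹) * (x * yc * x⁻¹) := by group
        _ = yc * y := by rw [h3]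
        _ = y * yc := hcomm.symm
    calc c * x = (x * c * x⁻¹) * x := by rw [h4]
      _ = x * c := by group
  by_cases hc1 : c = 1
  · exact eq_inv_of_mul_eq_one_right hc1
  · exfalso
    exact hgx ((same_cent hii ha ha1 hx hx1 hcO.2 hcO.1 hcx hc1).1 hg)

/-- An involutory automorphism of a cyclic `2`-group inverting the elements of order four, with the
normality property. -/
theorem invert_of_norm {a b w : G} {n : ℕ} (ha : a * a = 1) (ha1 : a ≠ 1) (hb : b * b = 1)
    (hw : w ^ 2 ^ n = 1) (haw : a ∈ zpowers w) (hk : b * w * b⁻¹ ∈ zpowers w) (hbw : b ∉ zpowers w)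
    (h4 : ∀ q : G, q * q = a → b * q * b⁻¹ = q⁻¹)
    (hH : (b * w) * (b * w) ≠ 1 → a ∈ zpowers (b * w) → w * (b * w) * w⁻¹ ∈ zpowers (b * w)) :
    b * w * b⁻¹ = w⁻¹ := by
  classical
  have hbi : b⁻¹ = b := inv_eq_self hb
  obtain ⟨k, hk⟩ := mem_zpowers_iff.1 hk
  obtain ⟨m, -, hm⟩ := (Nat.dvd_prime_pow Nat.prime_two).1 (orderOf_dvd_of_pow_eq_one hw)
  have hw1 : w ≠ 1 := by
    intro h
    rw [h, zpowers_one_eq_bot, mem_bot] at haw
    exact ha1 haw
  have hm1 : m ≠ 0 := by
    intro h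
    rw [h, pow_zero] at hm
    exact hw1 (orderOf_eq_one_iff.1 hm)
  by_cases hm2 : m = 1
  · -- `w` is an involution
    have hww : w * w = 1 := by
      have := pow_orderOf_eq_one w
      rw [hm, hm2, pow_one, pow_two] at this
      exact this
    have h1 : w = a := uniq_inv_zp (mem_zpowers w) haw hww ha hw1 ha1
    have hiw : w⁻¹ = w := inv_eq_self hww
    rw [hiw]
    have h2 : (b * w * b⁻¹) * (b * w * b⁻¹) = 1 := by
      calc b * w * b⁻¹ * (b * w * b⁻¹) = b * (w * w) * b⁻¹ := by group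
        _ = 1 := by rw [hww]; group
    have h3 : b * w * b⁻¹ ≠ 1 := by
      intro h
      apply hw1
      have : w = b⁻¹ * (b * w * b⁻¹) * b := by group
      rw [this, h]
      group
    have h5 : b * w * b⁻¹ ∈ zpowers w := ⟨k, hk⟩
    exact uniq_inv_zp h5 (mem_zpowers w) h2 hww h3 hw1
  · -- the exponent modulo four
    obtain ⟨m', rfl⟩ : ∃ m', m = m' + 2 := ⟨m - 2, by omega⟩
    have hord : orderOf w = 2 ^ (m' + 2) := hm
    set w₁ := w ^ 2 ^ m' with hw₁
    have hw₁o : orderOf w₁ = 4 := by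
      rw [hw₁, orderOf_pow' _ (by positivity), hord]
      have h5 : Nat.gcd (2 ^ (m' + 2)) (2 ^ m') = 2 ^ m' :=
        Nat.gcd_eq_right (pow_dvd_pow 2 (by omega))
      rw [h5, pow_add]
      exact Nat.mul_div_cancel_left 4 (by positivity)
    have hw₁m : w₁ ∈ zpowers w := pow_mem (mem_zpowers w) _
    have hw₁2 : (w₁ * w₁) * (w₁ * w₁) = 1 := by
      have := pow_orderOf_eq_one w₁
      rw [hw₁o] at this
      calc w₁ * w₁ * (w₁ * w₁) = w₁ ^ 4 := by
            rw [show (4 : ℕ) = 2 * 2 from rfl, pow_mul, pow_two, pow_two]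
        _ = 1 := this
    have hw₁1 : w₁ * w₁ ≠ 1 := by
      intro h
      have h1 : orderOf w₁ ∣ 2 := orderOf_dvd_of_pow_eq_one (by rw [pow_two]; exact h)
      rw [hw₁o] at h1
      omega
    have hw₁a : w₁ * w₁ = a :=
      uniq_inv_zp (mul_mem hw₁m hw₁m) haw hw₁2 ha hw₁1 ha1
    have h5 := h4 w₁ hw₁a
    have h6 : b * w₁ * b⁻¹ = w₁ ^ k := by
      rw [hw₁]
      calc b * w ^ 2 ^ m' * b⁻¹ = (b * w * b⁻¹) ^ 2 ^ m' := conj_pow.symm
        _ = (w ^ k) ^ 2 ^ m' := by rw [hk]
        _ = (w ^ 2 ^ m') ^ k := by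
          rw [← zpow_natCast, ← zpow_natCast, ← zpow_mul, ← zpow_mul, mul_comm]
    rw [h6] at h5
    have h7 : w₁ ^ (k + 1) = 1 := by
      rw [zpow_add_one, h5]
      group
    have h8 : (4 : ℤ) ∣ k + 1 := by
      have := (orderOf_dvd_iff_zpow_eq_one).2 h7
      rwa [hw₁o] at this
    obtain ⟨j, hj⟩ := h8
    -- the element `z`
    set z := b * w with hz
    have hzz : z * z = w ^ (k + 1) := by
      rw [zpow_add_one, hk, hbi, hz]
      simp only [mul_assoc]
    by_contra hcon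
    have hzz1 : z * z ≠ 1 := by
      intro h
      apply hcon
      rw [hzz, zpow_add_one] at h
      rw [← hk]
      exact eq_inv_of_mul_eq_one_left h
    have hzzm : z * z ∈ zpowers w := by
      rw [hzz]
      exact zpow_mem (mem_zpowers w) _
    have hzzn : (z * z) ^ 2 ^ n = 1 := by
      rw [hzz, ← zpow_natCast, ← zpow_mul, mul_comm, zpow_mul, zpow_natCast, hw, one_zpow]
    obtain ⟨c, hcm, hc2, hc1⟩ := exists_inv_of_two hzzn hzz1
    have hcw : c ∈ zpowers w := (zpowers_le.2 hzzm) hcm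
    have hca : c = a := uniq_inv_zp hcw haw hc2 ha hc1 ha1
    have haz : a ∈ zpowers z := by
      rw [← hca]
      exact (zpowers_le.2 (mul_mem (mem_zpowers z) (mem_zpowers z))) hcm
    have h9 := hH hzz1 haz
    have h10 : w * z * w⁻¹ = w * b := by
      rw [hz]
      group
    rw [h10] at h9
    obtain ⟨M, hM⟩ := mem_zpowers_iff.1 h9
    have hz2L : ∀ L : ℤ, z ^ (2 * L) = w ^ ((k + 1) * L) := fun L => by
      rw [zpow_mul, zpow_two, hzz, ← zpow_mul]
    obtain ⟨L, hL | hL⟩ := Int.even_or_odd' M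
    · apply hbw
      rw [hL, hz2L] at hM
      have h11 : b = w⁻¹ * w ^ ((k + 1) * L) := by
        rw [hM]
        group
      rw [h11]
      exact mul_mem (inv_mem (mem_zpowers w)) (zpow_mem (mem_zpowers w) _)
    · rw [hL, zpow_add_one, hz2L] at hM
      set E := (k + 1) * L with hE
      have h11 : w * (b * w⁻¹ * b⁻¹) = w ^ E := by
        calc w * (b * w⁻¹ * b⁻¹) = (w * b) * w⁻¹ * b⁻¹ := by group
          _ = (w ^ E * z) * w⁻¹ * b⁻¹ := by rw [hM]
          _ = w ^ E := by rw [hz]; group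
      have h12 : b * w⁻¹ * b⁻¹ = w ^ (-k) := by
        have : b * w⁻¹ * b⁻¹ = (b * w * b⁻¹)⁻¹ := by group
        rw [this, ← hk, zpow_neg]
      rw [h12] at h11
      have h13 : w ^ (1 - k - E) = 1 := by
        have h14 : w ^ (1 - k - E) = w * w ^ (-k) * (w ^ E)⁻¹ := by
          rw [← zpow_neg, ← zpow_one_add, ← zpow_add]
          congr 1
        rw [h14, h11]
        simp
      have h15 : ((orderOf w : ℕ) : ℤ) ∣ 1 - k - E := orderOf_dvd_iff_zpow_eq_one.2 h13
      rw [hord] at h15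
      have h16 : (4 : ℤ) ∣ 1 - k - E := by
        refine dvd_trans ?_ h15
        rw [pow_add]
        push_cast
        exact ⟨2 ^ m', by ring⟩
      rw [hE, hj] at h16
      have h17 : k = 4 * j - 1 := by linarith
      rw [h17] at h16
      have h18 : (1 : ℤ) - (4 * j - 1) - 4 * j * L = 2 - 4 * (j + j * L) := by ring
      rw [h18] at h16
      omega

/-- **The case of an element of order four.** -/
theorem minus_case (hii : HII G) (hss : NS G) (hFT : FT G) {v : G} (hv4 : v * v * (v * v) = 1)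
    (hv2 : v * v ≠ 1) : ∃ (D : Data G) (s : G), s ∈ (D.S : Subgroup G) ∧ s ∉ D.R ∧
      ∃ h : G, h * D.t * h⁻¹ = s := by
  classical
  haveI : Fact (Nat.Prime 2) := ⟨Nat.prime_two⟩
  set a := v * v with ha'
  have hv : v * v = a := rfl
  have ha : a * a = 1 := hv4
  have ha1 : a ≠ 1 := hv2
  obtain ⟨h, hb', hcomm'⟩ := exists_conj_comm hss hFT ha ha1
  set b := h * a * h⁻¹ with hb_def
  set w := h * v * h⁻¹ with hw_def
  have hw : w * w = b := by
    rw [hw_def, hb_def, ← hv]
    group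
  have hb : b * b = 1 := by
    rw [hb_def]
    calc h * a * h⁻¹ * (h * a * h⁻¹) = h * (a * a) * h⁻¹ := by group
      _ = 1 := by rw [ha]; group
  have hb1 : b ≠ 1 := by
    intro h1
    apply ha1
    have : a = h⁻¹ * b * h := by rw [hb_def]; group
    rw [this, h1]
    group
  have hab : a ≠ b := fun h1 => hb' h1.symm
  have hcomm : a * b = b * a := hcomm'.symm
  have hbv : b * v ≠ v * b := fun h1 =>
    plus_false hii hss hFT ha ha1 hb hb1 hab hcomm hv hw h1
  have hplus : ∀ q : G, q * q = a → b * q * b⁻¹ = q⁻¹ := by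
    intro q hq
    rcases sign hii ha ha1 hq hcomm' with h1 | h1
    · exfalso
      refine plus_false hii hss hFT ha ha1 hb hb1 hab hcomm hq hw ?_
      calc b * q = b * q * b⁻¹ * b := by group
        _ = q * b := by rw [h1]
    · exact h1
  have hbi : b * v * b⁻¹ = v⁻¹ := hplus v hv
  have hA : ∀ τ : G, τ * τ = 1 → τ ≠ 1 → τ * v = v * τ → τ = a := by
    intro τ hτ hτ1 hτv
    by_contra hne
    exact lemmaA hii ha ha1 hb hb1 hab hcomm hv hw hbv hτ hτ1 hne hτv
  have hva : v * a = a * v := by rw [← hv]; group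
  -- the Sylow subgroup
  have hv4' : v ^ 2 ^ 2 = 1 := by
    calc v ^ 2 ^ 2 = (v * v) * (v * v) := by
          rw [show (2 : ℕ) ^ 2 = 2 * 2 from rfl, pow_mul, pow_two, pow_two]
      _ = 1 := hv4
  have hb2 : b ^ 2 ^ 1 = 1 := by simpa [pow_two] using hb
  have hPvb : IsPGroup 2 ↥(zpowers b ⊔ zpowers v) := by
    refine IsPGroup.to_sup_of_normal_right' (isPGroup_zpowers hb2) (isPGroup_zpowers hv4') ?_
    rw [zpowers_le]
    apply norm_of_conj_mem
    rw [hbi]
    exact inv_mem (mem_zpowers v)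
  obtain ⟨S, hS⟩ := hPvb.exists_le_sylow
  have hbS : b ∈ (S : Subgroup G) := hS (mem_sup_left (mem_zpowers b))
  have hvS : v ∈ (S : Subgroup G) := hS (mem_sup_right (mem_zpowers v))
  have haS : a ∈ (S : Subgroup G) := mul_mem hvS hvS
  have hSC : ∀ τ ∈ (S : Subgroup G), τ * a = a * τ := by
    by_contra hcon
    push Not at hcon
    obtain ⟨x, hxS, hxa⟩ := hcon
    set P₁ : Subgroup G := (S : Subgroup G) ⊓ centralizer ({a} : Set G) with hP₁
    have hmemP : ∀ {y : G}, y ∈ P₁ ↔ y ∈ (S : Subgroup G) ∧ y * a = a * y := by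
      intro y
      rw [hP₁, mem_inf, mem_centralizer_singleton_iff]
    have hxP : x ∉ P₁ := fun h => hxa (hmemP.1 h).2
    obtain ⟨g, hgT, hgP, hg2, hgn⟩ := exists_norm_step S P₁ inf_le_left hxS hxP
    have hga : g * a ≠ a * g := fun h => hgP (hmemP.2 ⟨hgT, h⟩)
    have hvP : v ∈ P₁ := hmemP.2 ⟨hvS, hva⟩
    have haP : a ∈ P₁ := hmemP.2 ⟨haS, rfl⟩
    have hginv : ∀ y ∈ P₁, g⁻¹ * y * g ∈ P₁ := by
      intro y hy
      have h1 : g⁻¹ * y * g = g * ((g * g)⁻¹ * y * (g * g)) * g⁻¹ := by group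
      rw [h1]
      exact hgn _ (mul_mem (mul_mem (inv_mem hg2) hy) hg2)
    set a₁ := g * a * g⁻¹ with ha₁
    have ha₁2 : a₁ * a₁ = 1 := by
      rw [ha₁]
      calc g * a * g⁻¹ * (g * a * g⁻¹) = g * (a * a) * g⁻¹ := by group
        _ = 1 := by rw [ha]; group
    have ha₁1 : a₁ ≠ 1 := by
      intro h
      apply ha1
      have : a = g⁻¹ * a₁ * g := by rw [ha₁]; group
      rw [this, h]
      group
    have ha₁v : a₁ * v = v * a₁ := by
      have h1 : (g⁻¹ * v * g) * a = a * (g⁻¹ * v * g) := (hmemP.1 (hginv v hvP)).2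
      rw [ha₁]
      calc g * a * g⁻¹ * v = g * (a * (g⁻¹ * v * g)) * g⁻¹ := by group
        _ = g * ((g⁻¹ * v * g) * a) * g⁻¹ := by rw [h1]
        _ = v * (g * a * g⁻¹) := by group
    have h1 := hA a₁ ha₁2 ha₁1 ha₁v
    apply hga
    rw [ha₁] at h1
    calc g * a = g * a * g⁻¹ * g := by group
      _ = a * g := by rw [h1]
  set R : Subgroup G := (S : Subgroup G) ⊓ centralizer ({v} : Set G) with hR
  have hmemR : ∀ {y : G}, y ∈ R ↔ y ∈ (S : Subgroup G) ∧ y * v = v * y := by
    intro y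
    rw [hR, mem_inf, mem_centralizer_singleton_iff]
  have hRS : R ≤ (S : Subgroup G) := inf_le_left
  have haR : a ∈ R := hmemR.2 ⟨haS, hva.symm⟩
  have hRu : ∀ x ∈ R, x * x = 1 → x ≠ 1 → x = a := fun x hx hx2 hx1 =>
    hA x hx2 hx1 (hmemR.1 hx).2
  have hbR : b ∉ R := fun h1 => hbv (hmemR.1 h1).2
  have hmul : ∀ x ∈ (S : Subgroup G), x ∉ R → b * x ∈ R := by
    intro x hx hxR
    refine hmemR.2 ⟨mul_mem hbS hx, ?_⟩
    have hs₂ : x * v * x⁻¹ = v⁻¹ := by
      rcases sign hii ha ha1 hv (hSC x hx) with h | h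
      · exact absurd (hmemR.2 ⟨hx, by
          calc x * v = x * v * x⁻¹ * x := by group
            _ = v * x := by rw [h]⟩) hxR
      · exact h
    have h3 : (b * x) * v * (b * x)⁻¹ = v := by
      calc b * x * v * (b * x)⁻¹ = b * (x * v * x⁻¹) * b⁻¹ := by group
        _ = (b * v * b⁻¹)⁻¹ := by rw [hs₂]; group
        _ = v := by rw [hbi]; group
    calc b * x * v = b * x * v * (b * x)⁻¹ * (b * x) := by group
      _ = v * (b * x) := by rw [h3]
  have hinvR : ∀ r ∈ R, b * r * b⁻¹ = r⁻¹ := by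
    intro r hr
    by_cases hr1 : r = 1
    · subst hr1
      simp
    have hrS := hRS hr
    have har : a ∈ zpowers r := by
      obtain ⟨n, hn⟩ := two_elt S hrS
      obtain ⟨c, hc, hc2, hc1⟩ := exists_inv_of_two hn hr1
      have hcR : c ∈ R := (zpowers_le.2 hr) hc
      have := hRu c hcR hc2 hc1
      rwa [this] at hc
    obtain ⟨n, hn⟩ := two_elt S hrS
    refine invert_of_norm ha ha1 hb hn har (conj_mem_of_comm hii ha ha1 har hcomm') ?_ hplus ?_
    · intro h1
      exact hbR ((zpowers_le.2 hr) h1)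
    · intro _ h2
      exact conj_mem_of_comm hii ha ha1 h2 (hSC r hrS)
  have hinvO : ∀ y ∈ oddSub hii ha ha1, b * y * b⁻¹ = y⁻¹ := by
    intro y hy
    exact odd_invert hii ha ha1 hb hb1 hcomm' hy hva (fun h1 => hbv h1.symm)
  refine ⟨dataOf hii ha ha1 S hSC R hRS haR hRu hbS hbR hb hmul hinvR hinvO, b, hbS, hbR, h, rfl⟩

end Cfsg.Agent.Lib.Zass.EvenMinus
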