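import Cfsg.Agent.Lib.Zass.EvenG0
import Cfsg.Agent.Lib.Linalg.AutPSLCount

/-!
# Field and matrix computations for the last step
-/

set_option autoImplicit false
set_option linter.unusedSectionVars false
set_option linter.style.haveILetI false

namespace Cfsg.Agent.Lib.Zass.EvenPGL1

open Matrix Matrix.SpecialLinearGroup
open scoped MatrixGroups
open Cfsg.Agent.Lib.PSL2.Basic Cfsg.Agent.Lib.PSL2.AutPSL

variable {K : Type*} [Field K]

/-- A field automorphism fixing all squares is trivial. -/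
theorem sigma_eq_one_of_squares (h2 : (2 : K) ≠ 0) (σ : K ≃+* K) (h : ∀ c : K, c ≠ 0 → σ (c * c) = c * c) :
    σ = 1 := by
  have h' : ∀ c : K, σ (c * c) = c * c := by
    intro c
    by_cases hc : c = 0
    · simp [hc]
    · exact h c hc
  apply RingEquiv.ext
  intro x
  have h3 : x = ((x + 1) / 2) * ((x + 1) / 2) - ((x - 1) / 2) * ((x - 1) / 2) := by
    field_simp
    ring
  have h4 := h' ((x + 1) / 2)
  have h5 := h' ((x - 1) / 2)
  rw [h3, map_sub, h4, h5]
  rfl

/-- The fixed point lemma. -/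
theorem exists_fixed (σ : K ≃+* K) (hσ1 : σ ≠ 1) (hσ2 : ∀ x : K, σ (σ x) = x) {δ : K}
    (hδ : δ * σ δ = 1) : ∃ t : K, t ≠ 0 ∧ δ * σ t = t := by
  by_contra hcon
  push Not at hcon
  have h1 : ∀ u : K, u + δ * σ u = 0 := by
    intro u
    by_contra hne
    apply hcon _ hne
    rw [map_add, map_mul, hσ2, mul_add, ← mul_assoc, hδ, one_mul, add_comm]
  apply hσ1
  apply RingEquiv.ext
  intro u
  have h2 := h1 1
  rw [map_one, mul_one] at h2
  have hδ' : δ = -1 := by linear_combination h2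
  have h3 := h1 u
  rw [hδ'] at h3
  show σ u = u
  linear_combination -h3

section finite

variable [Fintype K]

/-- A non-trivial involutory automorphism forces `-1` to be a square. -/
theorem exists_sqrt_neg_one (h2 : (2 : K) ≠ 0) (σ : K ≃+* K) (hσ1 : σ ≠ 1) (hσ2 : σ * σ = 1) :
    ∃ i : K, i * i = -1 := by
  classical
  obtain ⟨p, hp⟩ := CharP.exists K
  haveI hpp : Fact p.Prime := ⟨CharP.char_is_prime K p⟩
  obtain ⟨f, -, hf⟩ := FiniteField.card K p
  have hcard := Cfsg.Agent.Lib.PSL2.OutPSL.card_ringAut (F := K) p hf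
  have hord : orderOf σ = 2 := orderOf_eq_prime (by rw [pow_two]; exact hσ2) hσ1
  haveI : Finite (K ≃+* K) :=
    Finite.of_injective (fun τ : K ≃+* K => (τ : K → K)) DFunLike.coe_injective
  have hdvd : orderOf σ ∣ Nat.card (K ≃+* K) := orderOf_dvd_natCard σ
  rw [hord] at hdvd
  have hcard' : Nat.card (K ≃+* K) = f := hcard
  rw [hcard'] at hdvd
  obtain ⟨m, hm⟩ := hdvd
  have hp2 : p ≠ 2 := by
    rintro rfl
    apply h2
    have := CharP.cast_eq_zero K 2
    simpa using this
  have hodd : Odd (p ^ m) := by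
    apply Odd.pow
    exact hpp.out.odd_of_ne_two hp2
  obtain ⟨r, hr⟩ := hodd
  have hq : Fintype.card K % 4 ≠ 3 := by
    rw [hf, hm, pow_mul', hr]
    have : (2 * r + 1) ^ 2 = 4 * (r * r + r) + 1 := by ring
    rw [this]
    omega
  obtain ⟨i, hi⟩ := FiniteField.isSquare_neg_one_iff.2 hq
  exact ⟨i, hi.symm⟩

end finite

/-- The diagonal elements of `PSL(2, K)`. -/
noncomputable abbrev db (c : K) (hc : c ≠ 0) : PSL(2, K) := mkP (d c hc)

lemma fbar_db (σ : K ≃+* K) (c : K) (hc : c ≠ 0) :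
    fbar σ (db c hc) = db (σ c) ((map_ne_zero σ).2 hc) := by
  rw [db, fbar_mk]
  congr 1
  apply ext2 <;> simp

lemma dbar_db (a : Kˣ) (c : K) (hc : c ≠ 0) : dbar a (db c hc) = db c hc := by
  rw [db, dbar_mk]
  congr 1
  apply ext2 <;> simp

lemma db_mul (c e : K) (hc : c ≠ 0) (he : e ≠ 0) :
    db c hc * db e he = db (c * e) (mul_ne_zero hc he) := by
  rw [db, ← map_mul, d_mul]

lemma db_eq_iff {c e : K} {hc : c ≠ 0} {he : e ≠ 0} (h : db c hc = db e he) : e = c ∨ e = -c := by
  rcases mkP_eq_iff.1 h with h1 | h1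
  · left
    have := congrArg (fun A : SL(2, K) => A.1 0 0) h1
    simpa using this
  · right
    have := congrArg (fun A : SL(2, K) => A.1 0 0) h1
    simpa using this

lemma db_eq_one_iff {c : K} {hc : c ≠ 0} (h : db c hc = 1) : c = 1 ∨ c = -1 := by
  rcases mkP_eq_one_iff.1 h with h1 | h1
  · left
    have := congrArg (fun A : SL(2, K) => A.1 0 0) h1
    simpa using this
  · right
    have := congrArg (fun A : SL(2, K) => A.1 0 0) h1
    simpa using this

lemma db_neg (c : K) (hc : c ≠ 0) : db (-c) (neg_ne_zero.2 hc) = db c hc := by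
  rw [db, db]
  refine (mkP_eq_iff.2 (Or.inr ?_)).symm
  apply ext2 <;> simp [inv_neg]

lemma db_neg_one : db (-1 : K) (neg_ne_zero.2 one_ne_zero) = 1 := by
  rw [db_neg 1 one_ne_zero]
  rw [db, d_one, map_one]

lemma xb_pow (t : K) (n : ℕ) : xb t ^ n = xb ((n : K) * t) := by
  rw [xb, ← map_pow, x_pow]

/-- A lower unipotent element does not normalize a root group. -/
lemma conj_y_x_ne {t₀ t₁ s : K} (h : yb t₁ * xb t₀ * (yb t₁)⁻¹ = xb s) : t₀ * (t₁ * t₁) = 0 := by
  have h1 : mkP (y t₁ * x t₀ * (y t₁)⁻¹) = mkP (x s) := by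
    rw [map_mul, map_mul, map_inv]
    exact h
  rcases mkP_eq_iff.1 h1 with h2 | h2
  · have := congrArg (fun A : SL(2, K) => A.1 1 0) h2
    simp at this
    linear_combination this
  · have := congrArg (fun A : SL(2, K) => A.1 1 0) h2
    simp at this
    linear_combination -this

end Cfsg.Agent.Lib.Zass.EvenPGL1
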