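import Cfsg.Agent.Lib.Zass.EvenPGL1

/-!
# The normal closure has index at most two, and the extension is `PGL₂`
-/

set_option autoImplicit false
set_option linter.unusedSectionVars false
set_option linter.style.haveILetI false

namespace Cfsg.Agent.Lib.Zass.EvenPGL2

open Subgroup Cfsg.Agent.Lib.Zass.EvenBasic Cfsg.Agent.Lib.Zass.EvenAB
  Cfsg.Agent.Lib.Zass.EvenSub Cfsg.Agent.Lib.Zass.EvenFT Cfsg.Agent.Lib.Zass.EvenCE2
  Cfsg.Agent.Lib.Zass.BSWDih Cfsg.Agent.Lib.Zass.BSWGroup Cfsg.Agent.Lib.Zass.EvenPlus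
  Cfsg.Agent.Lib.Zass.EvenData Cfsg.Agent.Lib.Zass.EvenMinus Cfsg.Agent.Lib.Zass.EvenElem
  Cfsg.Agent.Lib.Zass.EvenG0 Cfsg.Agent.Lib.Zass.EvenPGL1
  Cfsg.Agent.Lib.PSL2.Basic Cfsg.Agent.Lib.PSL2.AutPSL Cfsg.Agent.Lib.PSL2.OutPSL
open scoped MatrixGroups

universe u

variable {G : Type u} [Group G] [Finite G]

section

variable (D : Data G) {s h : G} (hs : s ∈ (D.S : Subgroup G)) (hsR : s ∉ D.R) (hh : h * D.t * h⁻¹ = s)
  (hss : NS G) (hFT : FT G)

include hs hsR hh hss hFT in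
/-- `G = G₀ R`. -/
theorem exists_decomp (g : G) : ∃ z ∈ Gz D, ∃ r ∈ D.R, g = z * r := by
  haveI hGn : (Gz D).Normal := normalClosure_normal
  have ht2 := mul_self_of_orderOf D.ht
  have hcG : g * D.t * g⁻¹ ∈ Gz D := hGn.conj_mem _ (t_mem_Gz D) g
  have hc2 : (g * D.t * g⁻¹) * (g * D.t * g⁻¹) = 1 := by
    calc g * D.t * g⁻¹ * (g * D.t * g⁻¹) = g * (D.t * D.t) * g⁻¹ := by group
      _ = 1 := by rw [ht2]; group
  have hc1 : g * D.t * g⁻¹ ≠ 1 := by
    intro h5
    apply D.t_ne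
    have : D.t = g⁻¹ * (g * D.t * g⁻¹) * g := by group
    rw [this, h5]
    group
  obtain ⟨z', hz', hz'c⟩ := conj_in_Gz D hs hsR hh hss hFT hcG hc2 hc1
  have hC : z' * g ∈ centralizer ({D.t} : Set G) := by
    rw [mem_centralizer_singleton_iff]
    have h1 : (z' * g) * D.t * (z' * g)⁻¹ = D.t := by
      calc (z' * g) * D.t * (z' * g)⁻¹ = z' * (g * D.t * g⁻¹) * z'⁻¹ := by group
        _ = D.t := hz'c
    calc z' * g * D.t = (z' * g) * D.t * (z' * g)⁻¹ * (z' * g) := by group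
      _ = D.t * (z' * g) := by rw [h1]
  obtain ⟨o, ho, x, hx, hox⟩ := D.hCsup _ hC
  have hoG := O_le_Gz D hs hsR hh ho
  have hsG := s_mem_Gz D hh
  by_cases hxR : x ∈ D.R
  · refine ⟨z'⁻¹ * o, mul_mem (inv_mem hz') hoG, x, hxR, ?_⟩
    calc g = z'⁻¹ * (z' * g) := by group
      _ = z'⁻¹ * o * x := by rw [hox]; group
  · have h1 := D.out_mul hs hx hsR hxR
    refine ⟨z'⁻¹ * o * s⁻¹, mul_mem (mul_mem (inv_mem hz') hoG) (inv_mem hsG), s * x, h1, ?_⟩
    calc g = z'⁻¹ * (z' * g) := by group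
      _ = z'⁻¹ * (o * x) := by rw [hox]
      _ = z'⁻¹ * o * s⁻¹ * (s * x) := by group

include hs hsR hh hss hFT in
theorem sq_mem_Gz (g : G) : g * g ∈ Gz D := by
  haveI hGn : (Gz D).Normal := normalClosure_normal
  obtain ⟨z, hz, r, hr, rfl⟩ := exists_decomp D hs hsR hh hss hFT g
  have h1 : z * r * (z * r) = z * (r * z * r⁻¹) * (r * r) := by group
  rw [h1]
  exact mul_mem (mul_mem hz (hGn.conj_mem _ hz r)) (R_sq_mem_Gz D hs hsR hh hr)

include hs hsR hh hss hFT in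
theorem index_Gz (hne : Gz D ≠ ⊤) : (Gz D).index = 2 := by
  classical
  haveI hGn : (Gz D).Normal := normalClosure_normal
  obtain ⟨r₀, hr₀⟩ := D.hcyc.exists_generator
  set r₁ : G := r₀.1 with hr₁
  have hr₁R : r₁ ∈ D.R := r₀.2
  have hrr : ∀ r ∈ D.R, r ∈ Gz D ∨ r * r₁⁻¹ ∈ Gz D := by
    intro r hr
    obtain ⟨k, hk⟩ := mem_zpowers_iff.1 (hr₀ ⟨r, hr⟩)
    have h1 : r₁ ^ k = r := congrArg Subtype.val hk
    have hsq : r₁ * r₁ ∈ Gz D := R_sq_mem_Gz D hs hsR hh hr₁R
    obtain ⟨m, hm | hm⟩ := Int.even_or_odd' k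
    · left
      rw [← h1, hm, zpow_mul, zpow_two]
      exact zpow_mem hsq m
    · right
      rw [← h1, hm, zpow_add_one, zpow_mul, zpow_two]
      have : (r₁ * r₁) ^ m * r₁ * r₁⁻¹ = (r₁ * r₁) ^ m := by group
      rw [this]
      exact zpow_mem hsq m
  have hall : ∀ g : G, g ∈ Gz D ∨ g * r₁⁻¹ ∈ Gz D := by
    intro g
    obtain ⟨z, hz, r, hr, rfl⟩ := exists_decomp D hs hsR hh hss hFT g
    rcases hrr r hr with h1 | h1
    · exact Or.inl (mul_mem hz h1)
    · right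
      rw [mul_assoc]
      exact mul_mem hz h1
  have hr₁G : r₁ ∉ Gz D := by
    intro h1
    apply hne
    rw [eq_top_iff]
    intro g _
    rcases hall g with h2 | h2
    · exact h2
    · have := mul_mem h2 h1
      simpa using this
  rw [Subgroup.index_eq_two_iff]
  refine ⟨r₁, ?_⟩
  intro b
  by_cases hb : b ∈ Gz D
  · right
    refine ⟨hb, ?_⟩
    intro h1
    apply hr₁G
    have := mul_mem (inv_mem hb) h1
    simpa using this
  · left
    refine ⟨?_, hb⟩
    have h1 := (hall b).resolve_left hb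
    have h2 : b * r₁ = (b * r₁⁻¹) * (r₁ * r₁) := by group
    rw [h2]
    exact mul_mem h1 (R_sq_mem_Gz D hs hsR hh hr₁R)

end

section psi

variable {K : Type} [Field K] [Fintype K] (D : Data G) (φ : Gz D ≃* PSL(2, K))

/-- The action of `G` on `PSL(2, K)`. -/
noncomputable def Psi : G →* MulAut (PSL(2, K)) :=
  haveI : (Gz D).Normal := normalClosure_normal
  (MulAut.congr φ).toMonoidHom.comp MulAut.conjNormal

lemma Psi_apply (g : G) (u : Gz D) :
    (Psi D φ g (φ u)) = φ (MulAut.conjNormal (H := Gz D) g u) := by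
  haveI : (Gz D).Normal := normalClosure_normal
  simp [Psi, MulAut.congr]

lemma Psi_coe (g : G) (u : Gz D) :
    ((φ.symm (Psi D φ g (φ u)) : Gz D) : G) = g * u * g⁻¹ := by
  rw [Psi_apply, MulEquiv.symm_apply_apply]
  simp [MulAut.conjNormal_apply]

lemma Psi_fix_iff (g : G) (u : Gz D) : Psi D φ g (φ u) = φ u ↔ g * (u : G) = (u : G) * g := by
  constructor
  · intro h1
    have h2 := Psi_coe D φ g u
    rw [h1, MulEquiv.symm_apply_apply] at h2
    calc g * (u : G) = g * u * g⁻¹ * g := by group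
      _ = (u : G) * g := by rw [← h2]
  · intro h1
    apply φ.symm.injective
    apply Subtype.ext
    rw [Psi_coe, MulEquiv.symm_apply_apply, h1]
    group

lemma Psi_inner (z : Gz D) : Psi D φ (z : G) = MulAut.conj (φ z) := by
  ext x
  obtain ⟨u, rfl⟩ := φ.surjective x
  apply φ.symm.injective
  apply Subtype.ext
  rw [Psi_coe, MulAut.conj_apply, ← map_inv, ← map_mul, ← map_mul, MulEquiv.symm_apply_apply]
  simp

end psi

section injective

variable {K : Type} [Field K] [Fintype K] (D : Data G) (φ : Gz D ≃* PSL(2, K))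
  {s h : G} (hs : s ∈ (D.S : Subgroup G)) (hsR : s ∉ D.R) (hh : h * D.t * h⁻¹ = s)
  (hss : NS G) (hFT : FT G)

include hs hsR hh hss hFT in
theorem Psi_injective : Function.Injective (Psi D φ) := by
  haveI hGn : (Gz D).Normal := normalClosure_normal
  rw [← MonoidHom.ker_eq_bot_iff]
  refine no_exp_two hss (MonoidHom.normal_ker _) ?_
  intro x hx
  have hxG := sq_mem_Gz D hs hsR hh hss hFT x
  refine central_eq_one hss hGn hxG ?_
  intro u hu
  have h1 : ∀ v : Gz D, x * (v : G) = (v : G) * x := by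
    intro v
    rw [← Psi_fix_iff D φ]
    rw [MonoidHom.mem_ker.1 hx]
    rfl
  have h2 := h1 ⟨u, hu⟩
  have h3 : x * u = u * x := h2
  calc u * (x * x) = (u * x) * x := by group
    _ = (x * u) * x := by rw [h3]
    _ = x * (u * x) := by group
    _ = x * (x * u) := by rw [h3]
    _ = x * x * u := by group

end injective

end Cfsg.Agent.Lib.Zass.EvenPGL2
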