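import Cfsg.Agent.Lib.Zass.EvenPGL2

/-!
# No field automorphisms occur
-/

set_option autoImplicit false
set_option linter.unusedSectionVars false
set_option linter.style.haveILetI false

namespace Cfsg.Agent.Lib.Zass.EvenPGL3

open Subgroup Cfsg.Agent.Lib.Zass.EvenBasic Cfsg.Agent.Lib.Zass.EvenAB
  Cfsg.Agent.Lib.Zass.EvenSub Cfsg.Agent.Lib.Zass.EvenFT Cfsg.Agent.Lib.Zass.EvenCE2
  Cfsg.Agent.Lib.Zass.BSWDih Cfsg.Agent.Lib.Zass.BSWGroup Cfsg.Agent.Lib.Zass.EvenPlus
  Cfsg.Agent.Lib.Zass.EvenData Cfsg.Agent.Lib.Zass.EvenMinus Cfsg.Agent.Lib.Zass.EvenElem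
  Cfsg.Agent.Lib.Zass.EvenG0 Cfsg.Agent.Lib.Zass.EvenPGL1 Cfsg.Agent.Lib.Zass.EvenPGL2
  Cfsg.Agent.Lib.PSL2.Basic Cfsg.Agent.Lib.PSL2.AutPSL Cfsg.Agent.Lib.PSL2.OutPSL
open scoped MatrixGroups

universe u

variable {G : Type u} [Group G] [Finite G]

variable {K : Type} [Field K] [Fintype K] (p : ℕ) [Fact p.Prime] [CharP K p] (D : Data G)
  (φ : Gz D ≃* PSL(2, K)) {s h : G} (hs : s ∈ (D.S : Subgroup G)) (hsR : s ∉ D.R)
  (hh : h * D.t * h⁻¹ = s) (hii : HII G) (hss : NS G) (hFT : FT G) (h2 : (2 : K) ≠ 0)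

include hs hsR hh hii hss hFT h2 in
/-- Every element of `G` acts on `PSL(2, K)` without a field automorphism. -/
theorem tau_eq_one (g : G) : stdHom p (Psi D φ g) = 1 := by
  classical
  by_contra hσ
  set σ := stdHom p (Psi D φ g) with hσdef
  have hinner : ∀ z : Gz D, stdHom p (Psi D φ (z : G)) = 1 := by
    intro z
    rw [Psi_inner]
    exact stdHom_eq p (isStd_conj _)
  have hσ2 : σ * σ = 1 := by
    rw [hσdef, ← map_mul, ← map_mul]
    exact hinner ⟨g * g, sq_mem_Gz D hs hsR hh hss hFT g⟩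
  have hσσ : ∀ x : K, σ (σ x) = x := fun x => by
    have := congrArg (fun τ : K ≃+* K => τ x) hσ2
    exact this
  obtain ⟨m, a, hma⟩ := stdHom_spec p (Psi D φ g)
  set z : Gz D := φ.symm m with hz
  have hφz : φ z = m := by rw [hz, MulEquiv.apply_symm_apply]
  set g' : G := (z : G)⁻¹ * g with hg'
  have hΨ : Psi D φ g' = dbar a * fbar σ := by
    rw [hg', map_mul, map_inv, Psi_inner, hφz, hma]
    simp [mul_assoc]
    rfl
  have hτ' : stdHom p (Psi D φ g') = σ := by
    rw [hg', map_mul, map_mul, map_inv, map_inv, hinner]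
    simp [hσdef]
  have hact_x : ∀ t : K, Psi D φ g' (xb t) = xb ((a : K) * σ t) := by
    intro t
    rw [hΨ, MulAut.mul_apply, fbar_xb, dbar_xb]
  have hact_y : ∀ t : K, Psi D φ g' (yb t) = yb (((a⁻¹ : Kˣ) : K) * σ t) := by
    intro t
    rw [hΨ, MulAut.mul_apply, fbar_yb, dbar_yb]
  have hact_d : ∀ (c : K) (hc : c ≠ 0), Psi D φ g' (db c hc) = db (σ c) ((map_ne_zero σ).2 hc) := by
    intro c hc
    rw [hΨ, MulAut.mul_apply, fbar_db, dbar_db]
  obtain ⟨i, hi⟩ := exists_sqrt_neg_one h2 σ hσ hσ2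
  have hi0 : i ≠ 0 := by
    rintro rfl
    rw [mul_zero] at hi
    exact one_ne_zero (neg_eq_zero.1 hi.symm)
  have hσi : σ i = i ∨ σ i = -i := by
    have h3 : σ i * σ i = i * i := by
      rw [← map_mul, hi, map_neg, map_one]
    exact mul_self_eq_mul_self_iff.1 h3
  have hdbi : Psi D φ g' (db i hi0) = db i hi0 := by
    rw [hact_d]
    rcases hσi with h3 | h3
    · simp only [h3]
    · simp only [h3]
      exact db_neg i hi0
  set j : Gz D := φ.symm (db i hi0) with hj
  have hφj : φ j = db i hi0 := by rw [hj, MulEquiv.apply_symm_apply]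
  have hdbi2 : db i hi0 * db i hi0 = 1 := by
    rw [db_mul]
    simp only [hi]
    exact db_neg_one
  have hj2 : j * j = 1 := by
    apply φ.injective
    rw [map_mul, hφj, hdbi2, map_one]
  have hj1 : j ≠ 1 := by
    intro h3
    have h4 : db i hi0 = 1 := by
      rw [← hφj, h3, map_one]
    rcases db_eq_one_iff h4 with h5 | h5
    · rw [h5] at hi
      apply h2
      linear_combination hi
    · rw [h5] at hi
      apply h2
      linear_combination hi
  obtain ⟨g₁, hg₁G, hg₁j⟩ := conj_in_Gz D hs hsR hh hss hFT j.2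
    (congrArg Subtype.val hj2) (fun h3 => hj1 (Subtype.ext h3))
  have hg'j : g' * (j : G) = (j : G) * g' := by
    rw [← Psi_fix_iff D φ, hφj]
    exact hdbi
  have hC : ∀ c : G, c * (j : G) = (j : G) * c → g₁ * c * g₁⁻¹ ∈ centralizer ({D.t} : Set G) := by
    intro c hc
    rw [mem_centralizer_singleton_iff, ← hg₁j]
    calc g₁ * c * g₁⁻¹ * (g₁ * (j : G) * g₁⁻¹) = g₁ * (c * (j : G)) * g₁⁻¹ := by group
      _ = g₁ * ((j : G) * c) * g₁⁻¹ := by rw [hc]
      _ = g₁ * (j : G) * g₁⁻¹ * (g₁ * c * g₁⁻¹) := by group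
  have hs2 : s * s = 1 := (D.hout s hs hsR).1
  have hks : ∀ k ∈ D.K, (k * s) * (k * s) = 1 := by
    intro k hk
    have h3 := D.s_inv hs hsR hk
    calc k * s * (k * s) = k * (s * k * s⁻¹) * (s * s) := by group
      _ = 1 := by rw [h3, hs2]; group
  rcases D.C_le hs hsR (hC g' hg'j) with hK | ⟨k, hk, hgk⟩
  · -- `g'` centralizes the torus: `σ` fixes the squares
    apply hσ
    apply sigma_eq_one_of_squares h2 σ
    intro c hc
    by_cases hdc : db c hc * db c hc = 1
    · rw [db_mul] at hdc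
      rcases db_eq_one_iff hdc with h3 | h3
      · rw [h3, map_one]
      · rw [h3, map_neg, map_one]
    · set e : Gz D := φ.symm (db c hc) with he
      have hφe : φ e = db c hc := by rw [he, MulEquiv.apply_symm_apply]
      have hej : e * j = j * e := by
        apply φ.injective
        rw [map_mul, map_mul, hφe, hφj, db_mul, db_mul]
        simp only [mul_comm]
      have hej' : (e : G) * (j : G) = (j : G) * (e : G) := congrArg Subtype.val hej
      have hee : (e : G) * (e : G) ≠ 1 := by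
        intro h3
        apply hdc
        have h4 : e * e = 1 := Subtype.ext h3
        rw [← hφe, ← map_mul, h4, map_one]
      have hcomm : (g₁ * g' * g₁⁻¹) * (g₁ * (e : G) * g₁⁻¹) = (g₁ * (e : G) * g₁⁻¹) * (g₁ * g' * g₁⁻¹) := by
        rcases D.C_le hs hsR (hC _ hej') with hK' | ⟨k', hk', hek⟩
        · exact D.K_comm hK hK'
        · exfalso
          apply hee
          have h3 := hks k' hk'
          rw [← hek] at h3
          have h4 : (e : G) * (e : G) = g₁⁻¹ * ((g₁ * (e : G) * g₁⁻¹) * (g₁ * (e : G) * g₁⁻¹)) * g₁ := by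
            group
          rw [h4, h3]
          group
      have hg'e : g' * (e : G) = (e : G) * g' := by
        have h3 : g₁ * (g' * (e : G)) * g₁⁻¹ = g₁ * ((e : G) * g') * g₁⁻¹ := by
          calc g₁ * (g' * (e : G)) * g₁⁻¹ = (g₁ * g' * g₁⁻¹) * (g₁ * (e : G) * g₁⁻¹) := by group
            _ = (g₁ * (e : G) * g₁⁻¹) * (g₁ * g' * g₁⁻¹) := hcomm
            _ = g₁ * ((e : G) * g') * g₁⁻¹ := by group
        exact mul_left_cancel (mul_right_cancel h3)
      have h3 := (Psi_fix_iff D φ g' e).2 hg'e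
      rw [hφe, hact_d] at h3
      have h4 := db_eq_iff h3
      rw [map_mul]
      rcases h4 with h5 | h5
      · have h6 : σ c = c := by
          have : c = σ c := h5
          exact this.symm
        rw [h6]
      · have h6 : σ c = -c := by
          have h7 : c = - σ c := h5
          linear_combination h7
        rw [h6]
        ring
  · -- `g'` is an involution
    have hg''2 : (g₁ * g' * g₁⁻¹) * (g₁ * g' * g₁⁻¹) = 1 := by
      rw [hgk]
      exact hks k hk
    have hg'2 : g' * g' = 1 := by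
      have h3 : g' * g' = g₁⁻¹ * ((g₁ * g' * g₁⁻¹) * (g₁ * g' * g₁⁻¹)) * g₁ := by group
      rw [h3, hg''2]
      group
    have hg'1 : g' ≠ 1 := by
      intro h3
      rw [h3, map_one, map_one] at hτ'
      exact hσ hτ'.symm
    have hact2 : ∀ x : PSL(2, K), Psi D φ g' (Psi D φ g' x) = x := by
      intro x
      have h3 : Psi D φ (g' * g') x = x := by
        rw [hg'2, map_one]
        rfl
      rw [map_mul] at h3
      exact h3
    have haσ : (a : K) * σ (a : K) = 1 := by
      have h3 := hact2 (xb 1)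
      rw [hact_x, hact_x] at h3
      have h4 := xb_injective h3
      rw [map_one, mul_one] at h4
      exact h4
    have haσ' : ((a⁻¹ : Kˣ) : K) * σ ((a⁻¹ : Kˣ) : K) = 1 := by
      rw [Units.val_inv_eq_inv_val, map_inv₀, ← mul_inv, haσ, inv_one]
    obtain ⟨t₀, ht₀, hfix₀⟩ := exists_fixed σ hσ hσσ haσ
    obtain ⟨t₁, ht₁, hfix₁⟩ := exists_fixed σ hσ hσσ haσ'
    set u : Gz D := φ.symm (xb t₀) with hu
    set w : Gz D := φ.symm (yb t₁) with hw
    have hφu : φ u = xb t₀ := by rw [hu, MulEquiv.apply_symm_apply]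
    have hφw : φ w = yb t₁ := by rw [hw, MulEquiv.apply_symm_apply]
    have hgu : g' * (u : G) = (u : G) * g' := by
      rw [← Psi_fix_iff D φ, hφu, hact_x, hfix₀]
    have hgw : g' * (w : G) = (w : G) * g' := by
      rw [← Psi_fix_iff D φ, hφw, hact_y, hfix₁]
    have hp2 : p ≠ 2 := by
      rintro rfl
      apply h2
      have := CharP.cast_eq_zero K 2
      simpa using this
    have hppo : Odd p := (Fact.out : p.Prime).odd_of_ne_two hp2
    have hu_odd : Odd (orderOf (u : G)) := by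
      have h3 : orderOf (u : G) = orderOf (xb t₀) := by
        rw [Subgroup.orderOf_coe, ← φ.orderOf_eq u, hφu]
      rw [h3]
      have h4 : xb t₀ ^ p = 1 := by
        rw [xb_pow, CharP.cast_eq_zero K p, zero_mul]
        exact xb_zero
      exact Odd.of_dvd_nat hppo (orderOf_dvd_of_pow_eq_one h4)
    have hu1 : (u : G) ≠ 1 := by
      intro h3
      apply ht₀
      have h4 : u = 1 := Subtype.ext h3
      have h5 : xb t₀ = 1 := by rw [← hφu, h4, map_one]
      exact xb_injective (h5.trans xb_zero.symm)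
    have hN := (odd_norm_iff hii hg'2 hg'1 hu_odd hgu.symm hu1 (g := (w : G))).2 hgw.symm
    have hmem := conj_mem_of_norm hN
    obtain ⟨n, hn⟩ : ∃ n : ℕ, (u : G) ^ n = (w : G) * u * (w : G)⁻¹ :=
      Submonoid.mem_powers_iff _ _ |>.1 (mem_powers_iff_mem_zpowers.2 hmem)
    have h3 : u ^ n = w * u * w⁻¹ := Subtype.ext (by simpa using hn)
    have h4 := congrArg φ h3
    rw [map_pow, map_mul, map_mul, map_inv, hφu, hφw, xb_pow] at h4
    have h5 := conj_y_x_ne h4.symm
    exact mul_ne_zero ht₀ (mul_ne_zero ht₁ ht₁) h5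

end Cfsg.Agent.Lib.Zass.EvenPGL3
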