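import Cfsg.Agent.Lib.Zass.EvenCE2

/-!
# The case of commuting squares of `+` type cannot occur
-/

set_option autoImplicit false
set_option linter.unusedSectionVars false
set_option linter.style.haveILetI false

namespace Cfsg.Agent.Lib.Zass.EvenPlus

open Subgroup Matrix Cfsg.Agent.Lib.Zass.EvenBasic Cfsg.Agent.Lib.Zass.EvenAB
  Cfsg.Agent.Lib.Zass.EvenSub Cfsg.Agent.Lib.Zass.EvenFT Cfsg.Agent.Lib.Zass.EvenCE
  Cfsg.Agent.Lib.Zass.EvenCE2
open scoped MatrixGroups Pointwise

universe u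

variable {G : Type u} [Group G] [Finite G]

/-- The step up inside a Sylow `2`-subgroup. -/
theorem exists_norm_step (T : Sylow 2 G) (P₁ : Subgroup G) (hle : P₁ ≤ (T : Subgroup G)) {x : G}
    (hx : x ∈ (T : Subgroup G)) (hxP : x ∉ P₁) :
    ∃ g ∈ (T : Subgroup G), g ∉ P₁ ∧ g * g ∈ P₁ ∧ ∀ y ∈ P₁, g * y * g⁻¹ ∈ P₁ := by
  classical
  haveI : Fact (Nat.Prime 2) := ⟨Nat.prime_two⟩
  haveI : Group.IsNilpotent (T : Subgroup G) := T.isPGroup'.isNilpotent
  let Q : Subgroup (T : Subgroup G) := P₁.subgroupOf T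
  have hQ : Q < ⊤ := by
    rw [lt_top_iff_ne_top]
    intro h
    apply hxP
    have : (⟨x, hx⟩ : (T : Subgroup G)) ∈ Q := by rw [h]; exact mem_top _
    exact mem_subgroupOf.1 this
  have hnc := Group.normalizerCondition_of_isNilpotent (G := (T : Subgroup G)) Q hQ
  obtain ⟨g₀, hg₀n, hg₀Q⟩ := SetLike.exists_of_lt hnc
  obtain ⟨n, hn⟩ := T.isPGroup' g₀
  have hex : ∃ m, g₀ ^ 2 ^ m ∈ Q := ⟨n, by rw [hn]; exact one_mem _⟩
  have hm := Nat.find_spec hex
  have hmin := fun k => Nat.find_min hex (m := k)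
  set m := Nat.find hex
  cases hm0 : m with
  | zero =>
    rw [hm0] at hm
    exact absurd (by simpa using hm) hg₀Q
  | succ k =>
    have hk : g₀ ^ 2 ^ k ∉ Q := hmin k (by omega)
    rw [hm0, pow_succ, pow_mul, pow_two] at hm
    have hgn : g₀ ^ 2 ^ k ∈ normalizer (Q : Set (T : Subgroup G)) := pow_mem hg₀n _
    refine ⟨((g₀ ^ 2 ^ k : (T : Subgroup G)) : G), (g₀ ^ 2 ^ k).2, ?_, ?_, ?_⟩
    · intro h
      exact hk (mem_subgroupOf.2 h)
    · exact mem_subgroupOf.1 hm
    · intro y hy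
      have hy' : (⟨y, hle hy⟩ : (T : Subgroup G)) ∈ Q := mem_subgroupOf.2 hy
      have h2 := (Subgroup.mem_normalizer_iff.1 hgn _).1 hy'
      have h3 := mem_subgroupOf.1 h2
      simpa using h3

/-- A non-trivial odd-order element has a power of odd prime order. -/
theorem exists_prime_zp {y : G} (hy : Odd (orderOf y)) (hy1 : y ≠ 1) :
    ∃ y₁ ∈ zpowers y, ∃ p : ℕ, p.Prime ∧ orderOf y₁ = p ∧ Odd p := by
  have h0 : orderOf y ≠ 1 := by
    intro h
    exact hy1 (orderOf_eq_one_iff.1 h)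
  have hp := Nat.minFac_prime h0
  have hd := Nat.minFac_dvd (orderOf y)
  refine ⟨y ^ (orderOf y / (orderOf y).minFac), pow_mem (mem_zpowers y) _, (orderOf y).minFac, hp, ?_, ?_⟩
  · exact orderOf_pow_orderOf_div (orderOf_pos y).ne' hd
  · exact Odd.of_dvd_nat hy hd

/-- The configuration of commuting squares of `+` type does not occur. -/
theorem plus_false (hii : HII G) (hss : NS G) (hFT : FT G) {a b v w : G} (ha : a * a = 1)
    (ha1 : a ≠ 1) (hb : b * b = 1) (hb1 : b ≠ 1) (hab : a ≠ b) (hcomm : a * b = b * a)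
    (hv : v * v = a) (hw : w * w = b) (hbv : b * v = v * b) : False := by
  classical
  haveI : Fact (Nat.Prime 2) := ⟨Nat.prime_two⟩
  have hHb := lemmaB_iff hii ha ha1 hb hb1 hab hcomm hv hw hbv
  have hawv : a * w = w * a := by
    rw [← hv]
    exact sq_comm hii hb hb1 hw hbv.symm
  have hva : v * a = a * v := by rw [← hv]; group
  have hwb : w * b = b * w := by rw [← hw]; group
  have hvw : v * w = w * v := star_comm hii ha ha1 hb hb1 hab hv hw hbv.symm hawv.symm
  -- every square in `H` has centralizer `H`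
  have hsq : ∀ z u : G, u * u = z → z * z = 1 → z ≠ 1 → z * a = a * z →
      ∀ g : G, g * z = z * g ↔ g * a = a * g := by
    intro z u hu hz hz1 hza g
    by_cases hzae : z = a
    · rw [hzae]
    by_cases hzv : z * v = v * z
    · exact (lemmaB_iff hii ha ha1 hz hz1 (Ne.symm hzae) hza.symm hv hu hzv g).symm
    · exact (lemmaA hii ha ha1 hz hz1 (Ne.symm hzae) hza.symm hv hu hzv hb hb1 hab.symm hbv).elim
  -- one direction of the sign comparison
  have hpair1 : ∀ e f u₁ u₂ h : G, u₁ * u₁ = e → u₂ * u₂ = f → e * e = 1 → f * f = 1 → e ≠ 1 → f ≠ 1 →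
      e ≠ f → e * a = a * e → f * a = a * f → h * a = a * h → h * u₁ = u₁ * h → h * u₂ = u₂ * h := by
    intro e f u₁ u₂ h hu₁ hu₂ he hf he1 hf1 hef hea hfa hh hc1
    have hu₁e : u₁ * e = e * u₁ := by rw [← hu₁]; group
    have hu₂f : u₂ * f = f * u₂ := by rw [← hu₂]; group
    have hu₁H : u₁ * a = a * u₁ := (hsq e u₁ hu₁ he he1 hea u₁).1 hu₁e
    have hu₂H : u₂ * a = a * u₂ := (hsq f u₂ hu₂ hf hf1 hfa u₂).1 hu₂f
    have hu₁f : u₁ * f = f * u₁ := (hsq f u₂ hu₂ hf hf1 hfa u₁).2 hu₁H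
    have hu₂e : u₂ * e = e * u₂ := (hsq e u₁ hu₁ he he1 hea u₂).2 hu₂H
    have hc : u₁ * u₂ = u₂ * u₁ := star_comm hii he he1 hf hf1 hef hu₁ hu₂ hu₁f hu₂e
    have hefc : e * f = f * e := (hsq f u₂ hu₂ hf hf1 hfa e).2 hea
    have hq : (u₁ * u₂) * (u₁ * u₂) = e * f := by
      calc u₁ * u₂ * (u₁ * u₂) = u₁ * (u₂ * u₁) * u₂ := by group
        _ = u₁ * (u₁ * u₂) * u₂ := by rw [hc]
        _ = (u₁ * u₁) * (u₂ * u₂) := by group
        _ = e * f := by rw [hu₁, hu₂]
    have hef2 : (e * f) * (e * f) = 1 := by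
      calc e * f * (e * f) = e * (f * e) * f := by group
        _ = e * (e * f) * f := by rw [hefc]
        _ = (e * e) * (f * f) := by group
        _ = 1 := by rw [he, hf, one_mul]
    have hef1 : e * f ≠ 1 := by
      intro h3
      apply hef
      exact (eq_inv_of_mul_eq_one_left h3).trans (inv_eq_self hf)
    have hefa : (e * f) * a = a * (e * f) := by
      calc e * f * a = e * (f * a) := by group
        _ = e * (a * f) := by rw [hfa]
        _ = (e * a) * f := by group
        _ = (a * e) * f := by rw [hea]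
        _ = a * (e * f) := by group
    have hhf : h * f = f * h := (hsq f u₂ hu₂ hf hf1 hfa h).2 hh
    have hhef : h * (e * f) = (e * f) * h := (hsq _ _ hq hef2 hef1 hefa h).2 hh
    rcases sign hii hf hf1 hu₂ hhf with h2 | h2
    · calc h * u₂ = h * u₂ * h⁻¹ * h := by group
        _ = u₂ * h := by rw [h2]
    · exfalso
      have h1' : h * u₁ * h⁻¹ = u₁ := by rw [hc1]; group
      have h3 : h * (u₁ * u₂) * h⁻¹ = u₁ * u₂⁻¹ := by
        calc h * (u₁ * u₂) * h⁻¹ = (h * u₁ * h⁻¹) * (h * u₂ * h⁻¹) := by group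
          _ = u₁ * u₂⁻¹ := by rw [h1', h2]
      rcases sign hii hef2 hef1 hq hhef with h4 | h4
      · rw [h3] at h4
        apply hf1
        rw [← hu₂]
        have h5 : u₂⁻¹ = u₂ := mul_left_cancel h4
        calc u₂ * u₂ = u₂⁻¹ * u₂ := by rw [h5]
          _ = 1 := by group
      · exfalso
        rw [h3, _root_.mul_inv_rev] at h4
        have h5 : u₂⁻¹ * u₁⁻¹ = u₁⁻¹ * u₂⁻¹ := by
          rw [← _root_.mul_inv_rev, ← _root_.mul_inv_rev, hc]
        rw [h5] at h4
        have h6 : u₁ = u₁⁻¹ := mul_right_cancel h4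
        have h7 : u₁ * u₁ = u₁⁻¹ * u₁ := congrArg (· * u₁) h6
        apply he1
        rw [← hu₁, h7]
        group
  have hpair : ∀ e f u₁ u₂ h : G, u₁ * u₁ = e → u₂ * u₂ = f → e * e = 1 → f * f = 1 → e ≠ 1 → f ≠ 1 →
      e ≠ f → e * a = a * e → f * a = a * f → h * a = a * h → (h * u₁ = u₁ * h ↔ h * u₂ = u₂ * h) := by
    intro e f u₁ u₂ h hu₁ hu₂ he hf he1 hf1 hef hea hfa hh
    exact ⟨hpair1 e f u₁ u₂ h hu₁ hu₂ he hf he1 hf1 hef hea hfa hh,
      hpair1 f e u₂ u₁ h hu₂ hu₁ hf he hf1 he1 hef.symm hfa hea hh⟩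
  have hbH : b * a = a * b := hcomm.symm
  have hsign : ∀ e u h : G, u * u = e → e * e = 1 → e ≠ 1 → e * a = a * e → h * a = a * h →
      (h * u = u * h ↔ h * v = v * h) := by
    intro e u h hu he he1 hea hh
    by_cases hea' : e = a
    · have h1 := hpair a b u w h (hea' ▸ hu) hw ha hb ha1 hb1 hab rfl hbH hh
      have h2 := hpair a b v w h hv hw ha hb ha1 hb1 hab rfl hbH hh
      exact h1.trans h2.symm
    · exact hpair e a u v h hu hv he ha he1 ha1 hea' hea rfl hh
  -- the Sylow subgroup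
  have hv4 : v ^ 2 ^ 2 = 1 := by
    calc v ^ 2 ^ 2 = (v * v) * (v * v) := by
          rw [show (2 : ℕ) ^ 2 = 2 * 2 from rfl, pow_mul, pow_two, pow_two]
      _ = 1 := by rw [hv, ha]
  have hb2 : b ^ 2 ^ 1 = 1 := by simpa [pow_two] using hb
  have hPvb : IsPGroup 2 ↥(zpowers v ⊔ zpowers b) := by
    refine IsPGroup.to_sup_of_normal_right' (isPGroup_zpowers hv4) (isPGroup_zpowers hb2) ?_
    rw [zpowers_le]
    apply norm_of_conj_mem
    have : v * b * v⁻¹ = b := by rw [← hbv]; group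
    rw [this]
    exact mem_zpowers b
  obtain ⟨T, hT⟩ := hPvb.exists_le_sylow
  have hvT : v ∈ (T : Subgroup G) := hT (mem_sup_left (mem_zpowers v))
  have hbT : b ∈ (T : Subgroup G) := hT (mem_sup_right (mem_zpowers b))
  have haT : a ∈ (T : Subgroup G) := by
    rw [← hv]
    exact mul_mem hvT hvT
  have hTH : ∀ τ ∈ (T : Subgroup G), τ * a = a * τ := by
    by_contra hcon
    push Not at hcon
    obtain ⟨x, hxT, hxa⟩ := hcon
    set P₁ : Subgroup G := (T : Subgroup G) ⊓ centralizer ({a} : Set G) with hP₁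
    have hmemP : ∀ {y : G}, y ∈ P₁ ↔ y ∈ (T : Subgroup G) ∧ y * a = a * y := by
      intro y
      rw [hP₁, mem_inf, mem_centralizer_singleton_iff]
    have hxP : x ∉ P₁ := fun h => hxa (hmemP.1 h).2
    obtain ⟨g, hgT, hgP, hg2, hgn⟩ := exists_norm_step T P₁ inf_le_left hxT hxP
    have hga : g * a ≠ a * g := fun h => hgP (hmemP.2 ⟨hgT, h⟩)
    have haP : a ∈ P₁ := hmemP.2 ⟨haT, rfl⟩
    have hvP : v ∈ P₁ := hmemP.2 ⟨hvT, hva⟩
    set a₁ := g * a * g⁻¹ with ha₁
    set v₁ := g * v * g⁻¹ with hv₁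
    have ha₁P := hgn a haP
    have hv₁P := hgn v hvP
    have hv₁2 : v₁ * v₁ = a₁ := by
      rw [hv₁, ha₁, ← hv]
      group
    have ha₁2 : a₁ * a₁ = 1 := by
      rw [ha₁]
      calc g * a * g⁻¹ * (g * a * g⁻¹) = g * (a * a) * g⁻¹ := by group
        _ = 1 := by rw [ha]; group
    have ha₁1 : a₁ ≠ 1 := by
      intro h
      apply ha1
      have : a = g⁻¹ * a₁ * g := by rw [ha₁]; group
      rw [this, h]
      group
    have ha₁a : a₁ ≠ a := by
      intro h
      apply hga
      rw [ha₁] at h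
      calc g * a = g * a * g⁻¹ * g := by group
        _ = a * g := by rw [h]
    have ha₁H : a₁ * a = a * a₁ := (hmemP.1 ha₁P).2
    have hv₁H : v₁ * a = a * v₁ := (hmemP.1 hv₁P).2
    have hCa₁ := hsq a₁ v₁ hv₁2 ha₁2 ha₁1 ha₁H
    have hva₁ : v * a₁ = a₁ * v := (hCa₁ v).2 hva
    have hvv₁ : v * v₁ = v₁ * v :=
      star_comm hii ha ha1 ha₁2 ha₁1 (Ne.symm ha₁a) hv hv₁2 hva₁ hv₁H
    have hq : (v * v₁) * (v * v₁) = a * a₁ := by
      calc v * v₁ * (v * v₁) = v * (v₁ * v) * v₁ := by group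
        _ = v * (v * v₁) * v₁ := by rw [hvv₁]
        _ = (v * v) * (v₁ * v₁) := by group
        _ = a * a₁ := by rw [hv, hv₁2]
    have hb₁2 : (a * a₁) * (a * a₁) = 1 := by
      calc a * a₁ * (a * a₁) = a * (a₁ * a) * a₁ := by group
        _ = a * (a * a₁) * a₁ := by rw [ha₁H]
        _ = (a * a) * (a₁ * a₁) := by group
        _ = 1 := by rw [ha, ha₁2, one_mul]
    have hb₁1 : a * a₁ ≠ 1 := by
      intro h3
      apply ha₁a
      exact ((eq_inv_of_mul_eq_one_left h3).trans (inv_eq_self ha₁2)).symm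
    have hb₁a : (a * a₁) * a = a * (a * a₁) := by
      calc a * a₁ * a = a * (a₁ * a) := by group
        _ = a * (a * a₁) := by rw [ha₁H]
    have hCb₁ := hsq _ _ hq hb₁2 hb₁1 hb₁a
    apply hga
    refine (hCb₁ g).1 ?_
    have hg2a : (g * g) * a = a * (g * g) := (hmemP.1 hg2).2
    have h1 : g * a₁ * g⁻¹ = a := by
      rw [ha₁]
      calc g * (g * a * g⁻¹) * g⁻¹ = (g * g) * a * (g * g)⁻¹ := by group
        _ = a := by rw [hg2a]; group
    have h2 : g * (a * a₁) * g⁻¹ = a * a₁ := by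
      calc g * (a * a₁) * g⁻¹ = (g * a * g⁻¹) * (g * a₁ * g⁻¹) := by group
        _ = a₁ * a := by rw [h1]
        _ = a * a₁ := ha₁H
    calc g * (a * a₁) = g * (a * a₁) * g⁻¹ * g := by group
      _ = a * a₁ * g := by rw [h2]
  -- the abelian subgroup
  set M : Subgroup G := (T : Subgroup G) ⊓ centralizer ({v} : Set G) with hM
  have hmemM : ∀ {y : G}, y ∈ M ↔ y ∈ (T : Subgroup G) ∧ y * v = v * y := by
    intro y
    rw [hM, mem_inf, mem_centralizer_singleton_iff]
  have hMT : M ≤ (T : Subgroup G) := inf_le_left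
  have haM : a ∈ M := hmemM.2 ⟨haT, hva.symm⟩
  have hbM : b ∈ M := hmemM.2 ⟨hbT, hbv⟩
  have hvM : v ∈ M := hmemM.2 ⟨hvT, rfl⟩
  have hwH : w * a = a * w := hawv.symm
  -- centralizers of involutions of `M`
  have hE1 : ∀ z ∈ M, z * z = 1 → z ≠ 1 → ∀ g : G, g * z = z * g ↔ g * a = a * g := by
    intro z hzM hz hz1
    have hzT := hMT hzM
    have hza := hTH z hzT
    have hzv := (hmemM.1 hzM).2
    have hzw : z * w = w * z := (hsign b w z hw hb hb1 hbH hza).2 hzv
    have hHz : ∀ g : G, g * a = a * g → g * z = z * g := by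
      intro g hg
      have h1 := orbit_two hii ha ha1 hv hz hzv hg
      have h2 := orbit_two hii hb hb1 hw hz hzw ((hHb g).1 hg)
      have h3 : g * z * g⁻¹ = z := by
        rcases h1 with h1 | h1
        · exact h1
        rcases h2 with h2 | h2
        · exact h2
        exfalso
        apply hab
        exact mul_right_cancel (h1.symm.trans h2)
      calc g * z = g * z * g⁻¹ * g := by group
        _ = z * g := by rw [h3]
    by_cases hodd : ∃ y : G, Odd (orderOf y) ∧ y * z = z * y ∧ y ≠ 1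
    · obtain ⟨y, hyo, hyz, hy1⟩ := hodd
      obtain ⟨y₁, hy₁, p, hp, hy₁o, hpo⟩ := exists_prime_zp hyo hy1
      have hy₁z : y₁ * z = z * y₁ := by
        obtain ⟨k, rfl⟩ := mem_zpowers_iff.1 hy₁
        exact ((Commute.zpow_left (show Commute y z from hyz) k))
      have hy₁odd : Odd (orderOf y₁) := by rw [hy₁o]; exact hpo
      have hy₁1 : y₁ ≠ 1 := by
        intro h
        rw [h, orderOf_one] at hy₁o
        exact hp.one_lt.ne hy₁o
      have hcomp : ∀ e : G, e * e = 1 → e ≠ 1 → (∀ g : G, g * e = e * g ↔ g * a = a * g) →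
          y₁ * e = e * y₁ → ∀ g : G, g * z = z * g ↔ g * a = a * g := by
        intro e he he1 hCe hy₁e g
        rw [← hCe g]
        exact same_cent hii hz hz1 he he1 hy₁odd hy₁z hy₁e hy₁1
      have hsa := sign_prime hp hy₁o ha (odd_conj_mem hii hz hz1 hy₁odd hy₁z (hHz a rfl))
      have hsb := sign_prime hp hy₁o hb (odd_conj_mem hii hz hz1 hy₁odd hy₁z (hHz b hbH))
      have hcomm_of : ∀ {e : G}, e * y₁ * e⁻¹ = y₁ → y₁ * e = e * y₁ := by
        intro e h
        calc y₁ * e = e * y₁ * e⁻¹ * e := by rw [h]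
          _ = e * y₁ := by group
      rcases hsa with hsa | hsa
      · exact hcomp a ha ha1 (fun g => Iff.rfl) (hcomm_of hsa)
      rcases hsb with hsb | hsb
      · exact hcomp b hb hb1 (fun g => (hHb g).symm) (hcomm_of hsb)
      have hab2 : (v * w) * (v * w) = a * b := by
        calc v * w * (v * w) = v * (w * v) * w := by group
          _ = v * (v * w) * w := by rw [hvw]
          _ = (v * v) * (w * w) := by group
          _ = a * b := by rw [hv, hw]
      have habi : (a * b) * (a * b) = 1 := by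
        calc a * b * (a * b) = a * (b * a) * b := by group
          _ = a * (a * b) * b := by rw [hbH]
          _ = (a * a) * (b * b) := by group
          _ = 1 := by rw [ha, hb, one_mul]
      have hab1 : a * b ≠ 1 := by
        intro h3
        apply hab
        exact (eq_inv_of_mul_eq_one_left h3).trans (inv_eq_self hb)
      have haba : (a * b) * a = a * (a * b) := by
        calc a * b * a = a * (b * a) := by group
          _ = a * (a * b) := by rw [hbH]
      refine hcomp (a * b) habi hab1 (hsq _ _ hab2 habi hab1 haba) (hcomm_of ?_)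
      calc a * b * y₁ * (a * b)⁻¹ = a * (b * y₁ * b⁻¹) * a⁻¹ := by group
        _ = (a * y₁ * a⁻¹)⁻¹ := by rw [hsb]; group
        _ = y₁ := by rw [hsa]; group
    · push Not at hodd
      intro g
      refine ⟨fun hg => ?_, hHz g⟩
      have hTz : (T : Subgroup G) ≤ centralizer ({z} : Set G) := by
        intro τ hτ
        rw [mem_centralizer_singleton_iff]
        exact hHz τ (hTH τ hτ)
      have hP : IsPGroup 2 ↥(centralizer ({z} : Set G)) := by
        intro x
        have hx0 : orderOf x ≠ 0 := (orderOf_pos x).ne'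
        obtain ⟨k, m, hm, hkm⟩ := Nat.exists_eq_two_pow_mul_odd hx0
        refine ⟨k, ?_⟩
        have h1 : orderOf ((x : G) ^ 2 ^ k) = m := by
          have hxo : orderOf (x : G) = 2 ^ k * m := by
            rw [Subgroup.orderOf_coe]
            exact hkm
          rw [orderOf_pow' _ (by positivity), hxo]
          rw [Nat.gcd_eq_right (Dvd.intro _ rfl)]
          exact Nat.mul_div_cancel_left m (by positivity)
        have h2 : ((x : G) ^ 2 ^ k) * z = z * ((x : G) ^ 2 ^ k) := by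
          have h3 : Commute (x : G) z := mem_centralizer_singleton_iff.1 x.2
          exact h3.pow_left _
        have h3 := hodd _ (by rw [h1]; exact hm) h2
        apply Subtype.ext
        simpa using h3
      have h1 := T.is_maximal' hP hTz
      have h2 : g ∈ (T : Subgroup G) := by
        have : g ∈ centralizer ({z} : Set G) := mem_centralizer_singleton_iff.2 hg
        rw [h1] at this
        exact this
      exact hTH g h2
  -- `M` is abelian
  have hMab : ∀ x ∈ M, ∀ y ∈ M, x * y = y * x := by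
    refine comm_of_sub M ?_ ?_
    · intro x hx y hy
      by_cases hx1 : x = 1
      · subst hx1
        simp
      obtain ⟨n, hn⟩ := two_elt T (hMT hx)
      obtain ⟨e, hem, he2, he1⟩ := exists_inv_of_two hn hx1
      have heM : e ∈ M := (zpowers_le.2 hx) hem
      refine conj_mem_of_comm hii he2 he1 hem ?_
      exact (hE1 e heM he2 he1 y).2 (hTH y (hMT hy))
    · intro x hx y hy hxo _ hxy
      have hx4 : x * x * (x * x) = 1 := by
        have := pow_orderOf_eq_one x
        rw [hxo] at this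
        calc x * x * (x * x) = x ^ 4 := by
              rw [show (4 : ℕ) = 2 * 2 from rfl, pow_mul, pow_two, pow_two]
          _ = 1 := this
      have hxx1 : x * x ≠ 1 := by
        intro h
        have h1 : orderOf x ∣ 2 := orderOf_dvd_of_pow_eq_one (by rw [pow_two]; exact h)
        rw [hxo] at h1
        omega
      have h1 := (hsign (x * x) x y rfl hx4 hxx1 (hTH _ (mul_mem (hMT hx) (hMT hx)))
        (hTH y (hMT hy))).2 (hmemM.1 hy).2
      exact h1.symm
  -- the elements outside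
  have hE3 : ∀ x₁ ∈ (T : Subgroup G), ∀ x₂ ∈ (T : Subgroup G), x₁ ∉ M → x₂ ∉ M → x₁ * x₂ ∈ M := by
    intro x₁ h₁ x₂ h₂ hn₁ hn₂
    refine hmemM.2 ⟨mul_mem h₁ h₂, ?_⟩
    have hs₁ : x₁ * v * x₁⁻¹ = v⁻¹ := by
      rcases sign hii ha ha1 hv (hTH x₁ h₁) with h | h
      · exact absurd (hmemM.2 ⟨h₁, by
          calc x₁ * v = x₁ * v * x₁⁻¹ * x₁ := by group
            _ = v * x₁ := by rw [h]⟩) hn₁
      · exact h
    have hs₂ : x₂ * v * x₂⁻¹ = v⁻¹ := by
      rcases sign hii ha ha1 hv (hTH x₂ h₂) with h | h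
      · exact absurd (hmemM.2 ⟨h₂, by
          calc x₂ * v = x₂ * v * x₂⁻¹ * x₂ := by group
            _ = v * x₂ := by rw [h]⟩) hn₂
      · exact h
    have h3 : (x₁ * x₂) * v * (x₁ * x₂)⁻¹ = v := by
      calc x₁ * x₂ * v * (x₁ * x₂)⁻¹ = x₁ * (x₂ * v * x₂⁻¹) * x₁⁻¹ := by group
        _ = (x₁ * v * x₁⁻¹)⁻¹ := by rw [hs₂]; group
        _ = v := by rw [hs₁]; group
    calc x₁ * x₂ * v = x₁ * x₂ * v * (x₁ * x₂)⁻¹ * (x₁ * x₂) := by group
      _ = v * (x₁ * x₂) := by rw [h3]
  have hE2 : ∀ x ∈ (T : Subgroup G), x ∉ M → x * x = 1 ∧ ∃ w : G, w * a = a * w ∧ x * w ≠ w * x := by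
    intro x hx hxM
    have hxv : x * v ≠ v * x := fun h => hxM (hmemM.2 ⟨hx, h⟩)
    refine ⟨?_, v, hva, hxv⟩
    by_contra hxx
    have hζv : (x * x) * v = v * (x * x) := sq_comm hii ha ha1 hv (hTH x hx)
    have hζM : x * x ∈ M := hmemM.2 ⟨mul_mem hx hx, hζv⟩
    obtain ⟨n, hn⟩ := two_elt T (hMT hζM)
    obtain ⟨c, hcm, hc2, hc1⟩ := exists_inv_of_two hn hxx
    have hcM : c ∈ M := (zpowers_le.2 hζM) hcm
    have hcx : c ∈ zpowers x := by
      have : zpowers (x * x) ≤ zpowers x := zpowers_le.2 (mul_mem (mem_zpowers x) (mem_zpowers x))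
      exact this hcm
    have hCc := hE1 c hcM hc2 hc1
    obtain ⟨nx, hnx⟩ := two_elt T hx
    have hfin : ∀ e u : G, u * u = e → e * e = 1 → e ≠ 1 → e * a = a * e → c ≠ e → u * a = a * u →
        x * v = v * x := by
      intro e u hu he he1 hea hce hua
      have hCe := hsq e u hu he he1 hea
      have h1 : u * x * u⁻¹ ∈ zpowers x :=
        conj_mem_of_comm hii hc2 hc1 hcx ((hCc u).2 hua)
      have h2 : x * u * x⁻¹ ∈ zpowers u :=
        conj_mem_of_comm hii he he1 (sq_mem hu) ((hCe x).2 (hTH x hx))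
      have h3 := inter_triv hnx hcx (sq_mem hu) hc2 he hc1 he1 hce
      have h4 := comm_of_cross h1 h2 h3
      exact (hsign e u x hu he he1 hea (hTH x hx)).1 h4
    by_cases hca : c = a
    · exact hxv (hfin b w hw hb hb1 hbH (by rw [hca]; exact hab) hwH)
    · exact hxv (hfin a v hv ha ha1 rfl hca hva)
  obtain ⟨N, hNn, hNtop, hNT, F, _, _, A, _, _, hch, hA, ⟨φ⟩⟩ :=
    confE hii hss hFT T ha ha1 hb hb1 hab hTH M hMT haM hbM hMab hE1 hE2 hE3
  have hvN : v ∈ N := (hNT v hvT).2 hvM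
  have h4 : (⟨v, hvN⟩ : N) * ⟨v, hvN⟩ * (⟨v, hvN⟩ * ⟨v, hvN⟩) = 1 := by
    apply Subtype.ext
    simp only [Subgroup.coe_mul, Subgroup.coe_mk, Subgroup.coe_one]
    rw [hv, ha]
  haveI := hch
  have h5 := no_four hA φ h4
  apply ha1
  have h6 := congrArg Subtype.val h5
  simp only [Subgroup.coe_mul, Subgroup.coe_mk, Subgroup.coe_one] at h6
  rw [← hv]
  exact h6

end Cfsg.Agent.Lib.Zass.EvenPlus
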