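import Cfsg.Agent.Lib.Zass.EvenAB
import Cfsg.Agent.Lib.Zass.EvenDed

/-!
# The odd elements of the centralizer of an involution

Under `HII`, the elements of odd order of `C(a)` form a normal abelian subgroup `O`, and
`C(a) = O T` for a Sylow `2`-subgroup `T` inside `C(a)`.
-/

set_option autoImplicit false
set_option linter.unusedSectionVars false

namespace Cfsg.Agent.Lib.Zass.EvenSub

open Subgroup Cfsg.Agent.Lib.Zass.EvenBasic Cfsg.Agent.Lib.Zass.EvenAB Cfsg.Agent.Lib.Zass.EvenDed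

universe u

variable {G : Type u} [Group G] [Finite G]

theorem pow_mul_mem_zp {x d : G} (hd : d * x * d⁻¹ ∈ zpowers x) (n : ℕ) :
    ∃ x' ∈ zpowers x, (x * d) ^ n = x' * d ^ n := by
  have hN : d ∈ normalizer (zpowers x : Set G) := norm_of_conj_mem hd
  induction n with
  | zero => exact ⟨1, one_mem _, by simp⟩
  | succ n ih =>
    obtain ⟨x', hx', h⟩ := ih
    have hdn : d ^ n ∈ normalizer (zpowers x : Set G) := pow_mem hN n
    refine ⟨x' * (d ^ n * x * (d ^ n)⁻¹), mul_mem hx' (conj_mem_of_norm hdn), ?_⟩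
    rw [pow_succ, h, pow_succ]
    group

theorem odd_mul_of_norm {x d : G} (hx : Odd (orderOf x)) (hd : Odd (orderOf d))
    (hn : d * x * d⁻¹ ∈ zpowers x) : Odd (orderOf (x * d)) := by
  obtain ⟨x', hx', h⟩ := pow_mul_mem_zp hn (orderOf d)
  rw [pow_orderOf_eq_one, mul_one] at h
  have h1 : orderOf x' ∣ orderOf x := orderOf_dvd_of_mem_zpowers hx'
  have h2 : (x * d) ^ (orderOf d * orderOf x) = 1 := by
    rw [pow_mul, h, ← orderOf_dvd_iff_pow_eq_one]
    exact h1
  exact Odd.of_dvd_nat (hd.mul hx) (orderOf_dvd_of_pow_eq_one h2)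

/-- A subgroup all of whose cyclic subgroups are normal, without quaternion pairs, is abelian. -/
theorem comm_of_sub (L : Subgroup G) (hn : ∀ x ∈ L, ∀ y ∈ L, y * x * y⁻¹ ∈ zpowers x)
    (hQ : ∀ x ∈ L, ∀ y ∈ L, orderOf x = 4 → orderOf y = 4 → x * x = y * y → x * y = y * x) :
    ∀ x ∈ L, ∀ y ∈ L, x * y = y * x := by
  intro x hx y hy
  have h := dedekind_comm (P := L) (fun a b => ?_) (fun a b ha hb hab => ?_) ⟨x, hx⟩ ⟨y, hy⟩
  · exact congrArg Subtype.val h
  · obtain ⟨k, hk⟩ := mem_zpowers_iff.1 (hn a a.2 b b.2)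
    rw [mem_zpowers_iff]
    refine ⟨k, Subtype.ext ?_⟩
    simpa using hk
  · rw [Subgroup.orderOf_mk] at ha hb
    exact Subtype.ext (hQ a a.2 b b.2 (by simpa using ha) (by simpa using hb)
      (by simpa using congrArg Subtype.val hab))

section
variable (hii : HII G) {a : G} (ha : a * a = 1) (ha1 : a ≠ 1)

/-- The elements of odd order in `C(a)`. -/
def oddSub : Subgroup G where
  carrier := {y | y * a = a * y ∧ Odd (orderOf y)}
  mul_mem' := by
    rintro x y ⟨hx, hxo⟩ ⟨hy, hyo⟩
    refine ⟨?_, odd_mul_of_norm hxo hyo (odd_conj_mem hii ha ha1 hxo hx hy)⟩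
    calc x * y * a = x * (y * a) := by group
      _ = x * (a * y) := by rw [hy]
      _ = (x * a) * y := by group
      _ = (a * x) * y := by rw [hx]
      _ = a * (x * y) := by group
  one_mem' := ⟨by simp, by simp⟩
  inv_mem' := by
    rintro x ⟨hx, hxo⟩
    refine ⟨?_, by simpa using hxo⟩
    have : Commute x a := hx
    exact this.inv_left

theorem mem_oddSub {y : G} : y ∈ oddSub hii ha ha1 ↔ y * a = a * y ∧ Odd (orderOf y) := Iff.rfl

theorem oddSub_conj {y g : G} (hy : y ∈ oddSub hii ha ha1) (hg : g * a = a * g) :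
    g * y * g⁻¹ ∈ oddSub hii ha ha1 := by
  refine ⟨?_, ?_⟩
  · have h1 : Commute g a := hg
    have h2 : Commute y a := hy.1
    have h3 : Commute (g * y * g⁻¹) a := ((h1.mul_left h2).mul_left h1.inv_left)
    exact h3
  · have h4 : orderOf (g * y * g⁻¹) = orderOf y :=
      orderOf_injective (MulAut.conj g).toMonoidHom (MulAut.conj g).injective y
    rw [h4]
    exact hy.2

theorem oddSub_comm {x y : G} (hx : x ∈ oddSub hii ha ha1) (hy : y ∈ oddSub hii ha ha1) :
    x * y = y * x := by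
  refine comm_of_sub (oddSub hii ha ha1) (fun x hx y hy => ?_) (fun x hx y hy h4 _ _ => ?_) x hx y hy
  · exact odd_conj_mem hii ha ha1 hx.2 hx.1 hy.1
  · exfalso
    have := hx.2
    rw [h4] at this
    exact absurd this (by decide)

theorem odd_card_oddSub : Odd (Nat.card (oddSub hii ha ha1)) := by
  classical
  by_contra h
  rw [Nat.not_odd_iff_even] at h
  obtain ⟨x, hx⟩ := exists_prime_orderOf_dvd_card' 2 (even_iff_two_dvd.1 h)
  have h1 : Odd (orderOf (x : G)) := x.2.2
  rw [Subgroup.orderOf_coe, hx] at h1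
  exact absurd h1 (by decide)

/-- `C(a) = O T`. -/
theorem decomp (T : Sylow 2 G) (hT : ∀ τ ∈ (T : Subgroup G), τ * a = a * τ) {h : G}
    (hh : h * a = a * h) : ∃ y ∈ oddSub hii ha ha1, ∃ τ ∈ (T : Subgroup G), h = y * τ := by
  classical
  have : Fact (Nat.Prime 2) := ⟨Nat.prime_two⟩
  set C := centralizer ({a} : Set G) with hC
  have hmemC : ∀ {g : G}, g ∈ C ↔ g * a = a * g := by
    intro g
    rw [hC, mem_centralizer_singleton_iff]
  set O := oddSub hii ha ha1 with hO
  let O' : Subgroup C := O.subgroupOf C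
  have hO'n : O'.Normal := by
    constructor
    intro n hn g
    rw [mem_subgroupOf] at hn ⊢
    exact oddSub_conj hii ha ha1 hn (hmemC.1 g.2)
  have hOC : O ≤ C := fun y hy => hmemC.2 hy.1
  have hTC : (T : Subgroup G) ≤ C := fun τ hτ => hmemC.2 (hT τ hτ)
  have hp : IsPGroup 2 (C ⧸ O') := by
    intro g
    obtain ⟨c, rfl⟩ := QuotientGroup.mk_surjective g
    obtain ⟨k, m, hm, hkm⟩ := Nat.exists_eq_two_pow_mul_odd (orderOf_pos (c : G)).ne'
    refine ⟨k, ?_⟩
    rw [← QuotientGroup.mk_pow, QuotientGroup.eq_one_iff, mem_subgroupOf]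
    refine ⟨?_, ?_⟩
    · have h1 : Commute (c : G) a := hmemC.1 c.2
      have h2 : Commute ((c : G) ^ 2 ^ k) a := h1.pow_left _
      simpa using h2.eq
    · have h2 : (((c ^ 2 ^ k : C) : G)) ^ m = 1 := by
        push_cast
        rw [← pow_mul, ← hkm]
        exact pow_orderOf_eq_one _
      exact Odd.of_dvd_nat hm (orderOf_dvd_of_pow_eq_one h2)
  obtain ⟨j, hj⟩ := IsPGroup.iff_card.1 hp
  have hcardC : Nat.card C = 2 ^ j * Nat.card O' := by
    rw [← hj]
    exact O'.card_eq_card_quotient_mul_card_subgroup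
  have hO'card : Nat.card O' = Nat.card O := by
    exact Nat.card_congr (Subgroup.subgroupOfEquivOfLe hOC).toEquiv
  have hOodd : Odd (Nat.card O) := odd_card_oddSub hii ha ha1
  let T' : Subgroup C := (T : Subgroup G).subgroupOf C
  have hT'card : Nat.card T' = Nat.card (T : Subgroup G) :=
    Nat.card_congr (Subgroup.subgroupOfEquivOfLe hTC).toEquiv
  obtain ⟨i, hi⟩ := IsPGroup.iff_card.1 T.isPGroup'
  have hrel : (T : Subgroup G).relIndex C * C.index = (T : Subgroup G).index :=
    Subgroup.relIndex_mul_index hTC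
  have hidx : ¬ 2 ∣ T'.index := by
    intro h2
    apply T.not_dvd_index
    rw [← hrel]
    exact Dvd.dvd.mul_right h2 _
  have hcardC' : Nat.card C = 2 ^ i * T'.index := by
    rw [← hi, ← hT'card]
    exact (T'.card_mul_index).symm
  have hcop1 : Nat.Coprime (2 ^ i) (Nat.card O) :=
    Nat.Coprime.pow_left i (Nat.coprime_two_left.2 hOodd)
  have hcop2 : Nat.Coprime (2 ^ j) T'.index :=
    Nat.Coprime.pow_left j ((Nat.Prime.coprime_iff_not_dvd Nat.prime_two).2 hidx)
  have hij : 2 ^ i = 2 ^ j := by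
    apply Nat.dvd_antisymm
    · apply hcop1.dvd_of_dvd_mul_right
      rw [← hO'card, ← hcardC, hcardC']
      exact Dvd.intro _ rfl
    · apply hcop2.dvd_of_dvd_mul_right
      rw [← hcardC', hcardC]
      exact Dvd.intro _ rfl
  have hcompl : IsComplement' O' T' := by
    apply isComplement'_of_coprime
    · rw [hO'card, hT'card, hi, hij, hcardC, hO'card, mul_comm]
    · rw [hO'card, hT'card, hi]
      exact (Nat.Coprime.pow_left i (Nat.coprime_two_left.2 hOodd)).symm
  obtain ⟨⟨o, τ⟩, hoτ⟩ := hcompl.2 ⟨h, hmemC.2 hh⟩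
  refine ⟨o.1, mem_subgroupOf.1 o.2, τ.1, mem_subgroupOf.1 τ.2, ?_⟩
  have := congrArg Subtype.val hoτ
  simpa using this.symm

end

/-- A `2`-element having `e` as an involution in its cyclic group commutes with odd elements
commuting with `e`. -/
theorem comm_two_odd (hii : HII G) {e x y : G} {n : ℕ} (he : e * e = 1) (he1 : e ≠ 1)
    (hex : e ∈ zpowers x) (hx : x ^ 2 ^ n = 1) (hy : Odd (orderOf y)) (hye : y * e = e * y) :
    x * y = y * x := by
  have hxe : x * e = e * x := by
    obtain ⟨k, hk⟩ := mem_zpowers_iff.1 hex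
    rw [← hk]
    exact ((Commute.refl x).zpow_right k).eq
  refine comm_of_cross (conj_mem_of_comm hii he he1 hex hye)
    (odd_conj_mem hii he he1 hy hye hxe) ?_
  exact inter_triv_odd hx hy

/-- Every element of a Sylow `2`-subgroup is a `2`-element. -/
theorem two_elt (T : Sylow 2 G) {x : G} (hx : x ∈ (T : Subgroup G)) : ∃ n : ℕ, x ^ 2 ^ n = 1 := by
  obtain ⟨n, hn⟩ := T.isPGroup' ⟨x, hx⟩
  exact ⟨n, by simpa using congrArg Subtype.val hn⟩

end Cfsg.Agent.Lib.Zass.EvenSub
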