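import Mathlib
import Cfsg.Agent.Lib.Zass.CohAbs

/-!
# Ito's argument as integer linear algebra

Rows `C i : X → ℤ` with Gram matrix `δ + β f fᵀ`, permuted by complex conjugation (`τ` without fixed
points on the rows, `σ` on the columns), few columns (`|X| ≤ |ι| + β`) and a Frobenius–Schur vector
`n` (supported on real columns, entries `0, ±1`, with `C n = β f`): every row has a pure column.
-/

set_option autoImplicit false

namespace Cfsg.Agent.Lib.Zass.Ito1

open Finset Cfsg.Agent.Lib.Zass.CohAbs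

variable {X ι : Type*} [Fintype X] [DecidableEq X] [Fintype ι] [DecidableEq ι]

theorem pure_of_fs (C : ι → X → ℤ) (f : ι → ℤ) (deg : X → ℤ) (β : ℤ)
    (hgram : ∀ i j, ip (C i) (C j) = (if i = j then 1 else 0) + β * f i * f j)
    (hdeg : ∀ i j, ∑ x, (f j • C i - f i • C j) x * deg x = 0)
    (hdegpos : ∀ x, 0 < deg x) (hf : ∀ i, 0 < f i) (hC : ∀ i x, 0 ≤ C i x) (hβ : 0 < β)
    (σ : X → X) (τ : ι → ι) (hτσ : ∀ i x, C (τ i) (σ x) = C i x) (hfτ : ∀ i, f (τ i) = f i)
    (hττ : ∀ i, τ (τ i) = i) (hτ : ∀ i, τ i ≠ i)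
    (hcard : (Fintype.card X : ℤ) ≤ Fintype.card ι + β)
    (n : X → ℤ) (hn : ∀ x, n x ≠ 0 → σ x = x) (hn1 : ∀ x, n x * n x ≤ 1)
    (hfs : ∀ i, ∑ x, n x * C i x = β * f i) (l : ι) :
    ∃ x, ∀ i, C i x = if i = l then 1 else 0 := by
  classical
  -- the difference vectors
  set u : ι → X → ℤ := fun i => C i - C (τ i) with hu
  have huip : ∀ i j, j ≠ i → j ≠ τ i → ip (u i) (u j) = 0 := by
    intro i j h1 h2
    simp only [hu]
    rw [ip_sub_left, ip_sub_right, ip_sub_right, hgram, hgram, hgram, hgram, hfτ, hfτ]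
    have h3 : τ i ≠ τ j := fun h => h1 (by rw [← hττ j, ← h, hττ])
    have h4 : i ≠ τ j := fun h => h2 (by rw [h, hττ])
    rw [if_neg (Ne.symm h1), if_neg h4, if_neg (Ne.symm h2), if_neg h3]
    ring
  have hu2 : ∀ i, ip (u i) (u i) = 2 := by
    intro i
    simp only [hu]
    rw [ip_sub_left, ip_sub_right, ip_sub_right, hgram, hgram, hgram, hgram, hfτ, if_pos rfl, if_pos rfl,
      if_neg (Ne.symm (hτ i)), if_neg (hτ i)]
    ring
  have hu0 : ∀ i, ∑ x, u i x * deg x = 0 := by
    intro i
    have h1 := hdeg i (τ i)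
    rw [hfτ] at h1
    have h2 : ∑ x, (f i • C i - f i • C (τ i)) x * deg x = f i * ∑ x, u i x * deg x := by
      rw [Finset.mul_sum]
      refine Finset.sum_congr rfl fun x _ => ?_
      simp only [Pi.sub_apply, Pi.smul_apply, smul_eq_mul, hu]
      ring
    rw [h2] at h1
    exact (mul_eq_zero.mp h1).resolve_left (hf i).ne'
  have hex : ∀ i, ∃ a b, a ≠ b ∧ u i = unit a - unit b := fun i =>
    eq_unit_sub_unit_of_norm_two deg hdegpos (hu2 i) (hu0 i)
  choose a b hab hua using hex
  have hua1 : ∀ i, u i (a i) = 1 := by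
    intro i
    rw [hua]
    simp [unit, hab i]
  have hCa : ∀ i, 1 ≤ C i (a i) := by
    intro i
    have h1 := hua1 i
    have h2 := hC (τ i) (a i)
    simp only [hu, Pi.sub_apply] at h1
    linarith
  have huσ : ∀ i x, u i (σ x) = - u i x := by
    intro i x
    simp only [hu, Pi.sub_apply]
    have h1 := hτσ i x
    have h2 := hτσ (τ i) x
    rw [hττ] at h2
    rw [h1, h2]
    ring
  have hσa : ∀ i, σ (a i) ≠ a i := by
    intro i h
    have h1 := huσ i (a i)
    rw [h, hua1] at h1
    linarith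
  have hna : ∀ i, n (a i) = 0 := by
    intro i
    by_contra h
    exact hσa i (hn _ h)
  have hainj : Function.Injective a := by
    intro i j hij
    by_contra hne
    by_cases hjτ : j = τ i
    · -- `u (τ i) = - u i`
      have h1 : u j (a j) = - u i (a i) := by
        rw [← hij, hjτ]
        simp only [hu, Pi.sub_apply]
        rw [hττ]
        ring
      rw [hua1, hua1] at h1
      norm_num at h1
    · have h1 := huip i j (Ne.symm hne) hjτ
      have h2 : a i ≠ b j := by
        rw [hij]
        exact hab j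
      rw [hua i, hua j, ← hij, ip_sub_left, ip_sub_right, ip_sub_right, ip_unit_unit, ip_unit_unit,
        ip_unit_unit, ip_unit_unit, if_pos rfl, if_neg (hab i).symm, if_neg h2] at h1
      split_ifs at h1 <;> omega
  -- the real columns
  set R := univ.filter fun x => n x ≠ 0 with hR
  have haR : ∀ i, a i ∉ R := by
    intro i h
    exact (Finset.mem_filter.mp h).2 (hna i)
  have hRcard : (R.card : ℤ) ≤ β := by
    have hdisj : Disjoint R (univ.image a) := by
      rw [Finset.disjoint_right]
      intro x hx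
      obtain ⟨i, -, rfl⟩ := Finset.mem_image.mp hx
      exact haR i
    have h1 : R.card + (univ.image a).card ≤ Fintype.card X := by
      rw [← Finset.card_union_of_disjoint hdisj]
      exact Finset.card_le_univ _
    rw [Finset.card_image_of_injective _ hainj, Finset.card_univ] at h1
    have h2 : ((R.card + Fintype.card ι : ℕ) : ℤ) ≤ Fintype.card X := by exact_mod_cast h1
    push_cast at h2
    linarith
  -- Cauchy–Schwarz
  have hCS : ∀ i, β * (f i * f i) ≤ ∑ x ∈ R, C i x * C i x := by
    intro i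
    have h1 : ∑ x ∈ R, n x * C i x = β * f i := by
      rw [← hfs i]
      apply Finset.sum_subset (Finset.subset_univ _)
      intro x _ hx
      have : n x = 0 := by
        by_contra h
        exact hx (Finset.mem_filter.mpr ⟨Finset.mem_univ _, h⟩)
      rw [this, zero_mul]
    have h2 := Finset.sum_mul_sq_le_sq_mul_sq R n (C i)
    rw [h1] at h2
    have h3 : ∑ x ∈ R, n x ^ 2 ≤ β := by
      calc ∑ x ∈ R, n x ^ 2 ≤ ∑ _x ∈ R, (1 : ℤ) := Finset.sum_le_sum fun x _ => by
            rw [sq]; exact hn1 x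
        _ = R.card := by simp
        _ ≤ β := hRcard
    have h4 : 0 ≤ ∑ x ∈ R, C i x ^ 2 := Finset.sum_nonneg fun x _ => sq_nonneg _
    have h5 : (β * f i) ^ 2 ≤ β * ∑ x ∈ R, C i x ^ 2 :=
      h2.trans (mul_le_mul_of_nonneg_right h3 h4)
    have h6 : β * (β * (f i * f i)) ≤ β * ∑ x ∈ R, C i x ^ 2 := by
      calc β * (β * (f i * f i)) = (β * f i) ^ 2 := by ring
        _ ≤ _ := h5
    have h7 := le_of_mul_le_mul_left h6 hβ
    simpa [sq] using h7
  -- the complement of `R`
  have hrest : ∀ i, C i (a i) = 1 ∧ ∀ x, x ∉ R → x ≠ a i → C i x = 0 := by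
    intro i
    have h1 := hgram i i
    rw [if_pos rfl] at h1
    have h2 : ip (C i) (C i) = ∑ x ∈ R, C i x * C i x + ∑ x ∈ univ.filter (fun x => x ∉ R), C i x * C i x := by
      unfold ip
      rw [← Finset.sum_filter_add_sum_filter_not univ (fun x => x ∈ R)]
      congr 1
      apply Finset.sum_congr _ (fun _ _ => rfl)
      ext x
      simp
    have h3 := hCS i
    have h4 : ∑ x ∈ univ.filter (fun x => x ∉ R), C i x * C i x ≤ 1 := by
      have : β * f i * f i = β * (f i * f i) := by ring
      linarith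
    have hmem : a i ∈ univ.filter (fun x => x ∉ R) := by
      simp [haR i]
    rw [← Finset.add_sum_erase _ _ hmem] at h4
    have h5 : 0 ≤ ∑ x ∈ (univ.filter (fun x => x ∉ R)).erase (a i), C i x * C i x :=
      Finset.sum_nonneg fun x _ => mul_self_nonneg _
    have h6 := hCa i
    have h7 : C i (a i) * C i (a i) ≥ 1 := by nlinarith
    have h8 : ∑ x ∈ (univ.filter (fun x => x ∉ R)).erase (a i), C i x * C i x = 0 := by linarith
    refine ⟨by nlinarith, fun x hx hxa => ?_⟩
    have h9 := (Finset.sum_eq_zero_iff_of_nonneg (fun x _ => mul_self_nonneg (C i x))).mp h8 x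
      (Finset.mem_erase.mpr ⟨hxa, Finset.mem_filter.mpr ⟨Finset.mem_univ _, hx⟩⟩)
    exact mul_self_eq_zero.mp h9
  refine ⟨a l, fun i => ?_⟩
  by_cases hi : i = l
  · subst hi
    rw [if_pos rfl]
    exact (hrest i).1
  · rw [if_neg hi]
    exact (hrest i).2 _ (haR l) (fun h => hi (hainj h).symm)

end Cfsg.Agent.Lib.Zass.Ito1
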