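import Mathlib
import Cfsg.Agent.Lib.Zass.Rows4
import Cfsg.Agent.Lib.Zass.Ito1
import Cfsg.Agent.Lib.CharFS.Tri

/-!
# Ito's theorem: the character theoretic part
-/

set_option autoImplicit false
set_option linter.unusedSectionVars false
set_option linter.style.haveILetI false

namespace Cfsg.Agent.Lib.Zass.Ito2

open Cfsg Cfsg.Agent.Lib.Char.Induced Cfsg.Agent.Lib.Zass.Rows1 Cfsg.Agent.Lib.Zass.Rows2
  Cfsg.Agent.Lib.Zass.Rows3 Cfsg.Agent.Lib.Zass.Rows4 Cfsg.Agent.Lib.CharFS.Indicator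
  Cfsg.Agent.Lib.CharFS.IndicatorReal
open Cfsg.Agent.Lib.Char.Ortho (classInner_irr fintype_irr)
open scoped ComplexConjugate
open Finset
open scoped Classical

universe u

variable {G : Type u} [Group G] [Fintype G] {H B D : Subgroup G} [Fintype H] [Fintype D]

section Count

variable {χ₁ : IrrCharacter G} (hz : ZChar H B D)

include hz in
/-- Lower bound for the fibres of the map from classes of `H#` to classes of `G`. -/
theorem card_fiber_classes_ge {c : ConjClasses G}
    (hc : c ∈ (univ.erase (ConjClasses.mk (1 : H))).image (ConjClasses.map H.subtype)) :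
    Nat.card D ≤ ((univ.erase (ConjClasses.mk (1 : H))).filter fun y : ConjClasses H =>
      ConjClasses.map H.subtype y = c).card := by
  obtain ⟨y₀, hy₀, rfl⟩ := Finset.mem_image.mp hc
  obtain ⟨u₀, rfl⟩ := ConjClasses.mk_surjective y₀
  have hu₀ : (u₀ : G) ≠ 1 := by
    intro h
    apply (Finset.mem_erase.mp hy₀).1
    congr 1
    exact Subtype.ext h
  rw [Nat.card_eq_fintype_card, ← Finset.card_univ]
  refine Finset.card_le_card_of_injOn
    (fun d : D => ConjClasses.mk (conjHom hz (d : G) (hz.D_le d.2) u₀)) ?_ ?_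
  · intro d _
    simp only [Finset.coe_filter, Finset.mem_erase, Finset.mem_univ, and_true, Set.mem_ofPred_eq]
    constructor
    · intro h
      have h2 := ConjClasses.mk_eq_mk_iff_isConj.mp h
      have h3 : conjHom hz (d : G) (hz.D_le d.2) u₀ = 1 := isConj_one_right.mp h2.symm
      have h4 := congrArg Subtype.val h3
      simp only [conjHom_coe, OneMemClass.coe_one] at h4
      apply hu₀
      have h5 : (u₀ : G) = d * ((d : G)⁻¹ * u₀ * d) * (d : G)⁻¹ := by group
      rw [h5, h4]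
      group
    · apply ConjClasses.mk_eq_mk_iff_isConj.mpr
      refine isConj_iff.mpr ⟨d, ?_⟩
      simp only [conjHom_coe, Subgroup.coe_subtype]
      group
  · intro d _ d' _ h
    have h2 := ConjClasses.mk_eq_mk_iff_isConj.mp h
    obtain ⟨w, hw⟩ := isConj_iff.mp h2
    have hw' := congrArg Subtype.val hw
    simp only [Subgroup.coe_mul, conjHom_coe, InvMemClass.coe_inv] at hw'
    have hgB : (d' : G) * w * (d : G)⁻¹ ∈ B :=
      B.mul_mem (B.mul_mem (hz.D_le d'.2) (hz.H_le w.2)) (B.inv_mem (hz.D_le d.2))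
    have hcomm : ((d' : G) * w * (d : G)⁻¹) * u₀ = u₀ * ((d' : G) * w * (d : G)⁻¹) := by
      have h5 : (u₀ : G) = d' * ((d' : G)⁻¹ * u₀ * d') * (d' : G)⁻¹ := by group
      rw [← hw'] at h5
      calc ((d' : G) * w * (d : G)⁻¹) * u₀
          = d' * (w * ((d : G)⁻¹ * u₀ * d) * (w : G)⁻¹) * w * (d : G)⁻¹ := by group
        _ = u₀ * ((d' : G) * w * (d : G)⁻¹) := by
            rw [hw']
            group
    have hgH := hz.comm _ hgB u₀ u₀.2 hu₀ hcomm
    have hw2 : (d' : G) * (w : G)⁻¹ * (d' : G)⁻¹ ∈ H :=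
      hz.conj_mem d' (hz.D_le d'.2) _ (H.inv_mem w.2)
    have hdd : (d' : G) * (d : G)⁻¹ ∈ H := by
      have h5 := H.mul_mem hw2 hgH
      have h6 : (d' : G) * (w : G)⁻¹ * (d' : G)⁻¹ * ((d' : G) * w * (d : G)⁻¹) = d' * (d : G)⁻¹ := by
        group
      rwa [h6] at h5
    have hone := hz.inter _ hdd (D.mul_mem d'.2 (D.inv_mem d.2))
    apply Subtype.ext
    exact (mul_inv_eq_one.mp hone).symm

/-- The number of classes meeting `H`. -/
theorem card_meet_le :
    (univ.filter fun C : ConjClasses G => ¬ ∀ g : G, ConjClasses.mk g = C → g ∉ H).card ≤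
      Fintype.card (RT hz) + 1 := by
  set A' := (univ.erase (ConjClasses.mk (1 : H))) with hA'
  set M := (univ.filter fun C : ConjClasses G => ¬ ∀ g : G, ConjClasses.mk g = C → g ∉ H) with hM
  set ψ := ConjClasses.map (H.subtype) with hψ
  have h1 := Finset.mul_card_image_le_card (f := ψ) (s := A') (n := Nat.card D)
    (fun c hc => card_fiber_classes_ge hz hc)
  have h2 : A'.card + 1 = Nat.card (IrrCharacter H) := by
    rw [Cfsg.Agent.Lib.Char.CompleteCor.card_irr_eq_card_conjClasses, hA', Finset.card_erase_of_mem (mem_univ _),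
      Finset.card_univ, Nat.card_eq_fintype_card]
    have : 0 < Fintype.card (ConjClasses H) := Fintype.card_pos
    omega
  have h3 : Nat.card (IrrCharacter H) = Fintype.card (IT H) + 1 := by
    have h4 := sum_irr_H (fun _ : IrrCharacter H => (1 : ℕ))
    rw [Nat.card_eq_fintype_card (α := IrrCharacter H)]
    simp only [Finset.sum_const, Finset.card_univ, smul_eq_mul, mul_one] at h4
    omega
  rw [card_IT hz] at h3
  have h5 : A'.card = Nat.card D * Fintype.card (RT hz) := by omega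
  have hD : 0 < Nat.card D := Nat.card_pos
  have h7 : (A'.image ψ).card ≤ Fintype.card (RT hz) := by
    rw [h5] at h1
    exact Nat.le_of_mul_le_mul_left h1 hD
  have hsub : M ⊆ insert (ConjClasses.mk 1) (A'.image ψ) := by
    intro C hC
    simp only [hM, mem_filter, mem_univ, true_and] at hC
    push Not at hC
    obtain ⟨g, hg, hgH⟩ := hC
    by_cases hg1 : g = 1
    · subst hg1
      rw [← hg]
      exact Finset.mem_insert_self _ _
    · apply Finset.mem_insert_of_mem
      refine Finset.mem_image.mpr ⟨ConjClasses.mk (⟨g, hgH⟩ : H), ?_, ?_⟩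
      · rw [hA', Finset.mem_erase]
        refine ⟨?_, mem_univ _⟩
        intro h
        have h2 := ConjClasses.mk_eq_mk_iff_isConj.mp h
        have h3 : (⟨g, hgH⟩ : H) = 1 := isConj_one_right.mp h2.symm
        exact hg1 (congrArg Subtype.val h3)
      · rw [← hg]
        rfl
  have h8 := Finset.card_le_card hsub
  have h9 := Finset.card_insert_le (ConjClasses.mk (1 : G)) (A'.image ψ)
  omega

include hz in
/-- The number of columns, given the modular count. -/
theorem card_XT_le (hH : 1 < Nat.card H) (hY : YData H χ₁)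
    (hcount : Nat.card {C : ConjClasses G // ∀ g : G, ConjClasses.mk g = C → g ∉ H} ≤ Nat.card D) :
    (Fintype.card (XT H) : ℤ) ≤ Fintype.card (RT hz) + (Ks H χ₁).card := by
  have h1 := sum_irr_split hY hH (fun _ : IrrCharacter G => (1 : ℕ))
  simp only [Finset.sum_const, Finset.card_univ, smul_eq_mul, mul_one] at h1
  have h2 : Nat.card (IrrCharacter G) = Fintype.card (IrrCharacter G) := Nat.card_eq_fintype_card
  rw [Cfsg.Agent.Lib.Char.CompleteCor.card_irr_eq_card_conjClasses, Nat.card_eq_fintype_card] at h2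
  have h3 : Fintype.card (ConjClasses G) =
      (univ.filter fun C : ConjClasses G => ∀ g : G, ConjClasses.mk g = C → g ∉ H).card +
      (univ.filter fun C : ConjClasses G => ¬ ∀ g : G, ConjClasses.mk g = C → g ∉ H).card := by
    rw [← Finset.card_univ, Finset.card_filter_add_card_filter_not]
  have h4 : Nat.card {C : ConjClasses G // ∀ g : G, ConjClasses.mk g = C → g ∉ H} =
      (univ.filter fun C : ConjClasses G => ∀ g : G, ConjClasses.mk g = C → g ∉ H).card := by
    rw [Nat.card_eq_fintype_card, Fintype.card_subtype]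
  have h5 := card_meet_le hz
  have h6 := e_eq hz hH hY
  have h7 : Fintype.card (XT H) ≤ Fintype.card (RT hz) + (Ks H χ₁).card := by
    rw [h4] at hcount
    omega
  exact_mod_cast h7

end Count

section Conj

/-- Complex conjugation on irreducible characters. -/
noncomputable def conjI {A : Type*} [Group A] [Fintype A] (χ : IrrCharacter A) : IrrCharacter A :=
  ⟨fun g => conj ((χ : A → ℂ) g), Cfsg.Agent.Lib.Char.IndNormal.isIrrCharacter_conj χ.2⟩

theorem conjI_conjI {A : Type*} [Group A] [Fintype A] (χ : IrrCharacter A) : conjI (conjI χ) = χ := by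
  apply Subtype.ext
  funext g
  simp [conjI]

theorem conjI_one {A : Type*} [Group A] [Fintype A] : conjI (one A) = one A := by
  apply Subtype.ext
  funext g
  simp [conjI, one]

theorem classInner_conj_conj {A : Type*} [Group A] [Fintype A] (φ ψ : A → ℂ) :
    classInner (fun g => conj (φ g)) (fun g => conj (ψ g)) = conj (classInner φ ψ) := by
  rw [classInner_def, classInner_def, map_mul, map_sum]
  simp only [map_inv₀, Complex.conj_natCast, map_mul]

theorem mul_conj {θ : H → ℂ} (hθ : IsIrrCharacter H θ) {χ : G → ℂ} (hχ : IsCharacter G χ) :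
    mul (fun u => conj (θ u)) (fun g => conj (χ g)) = mul θ χ := by
  have h1 := mul_coe_res (Cfsg.Agent.Lib.Char.IndNormal.isIrrCharacter_conj hθ)
    (Cfsg.Agent.Lib.Char.Ortho.isCharacter_conj hχ)
  have h2 := mul_coe_res hθ hχ
  rw [classInner_conj_conj, ← h2, Complex.conj_natCast] at h1
  exact_mod_cast h1

theorem dg_conj {A : Type*} [Group A] [Fintype A] {θ : A → ℂ} (hθ : IsIrrCharacter A θ) :
    dg (fun g => conj (θ g)) = dg θ := by
  have h1 := dg_coe hθ
  show toN (conj (θ 1)) = _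
  rw [← h1, Complex.conj_natCast, toN_natCast]

/-- Complex conjugation on the columns. -/
noncomputable def σX (x : XT H) : XT H :=
  ⟨conjI x.1, by
    have h1 := mul_conj (one H).2 (Cfsg.Agent.Lib.Char.Basic.isCharacter_of_isIrrCharacter x.1.2)
    have h2 : (fun u : H => conj (((one H : IrrCharacter H) : H → ℂ) u)) = ((one H : IrrCharacter H) : H → ℂ) := by
      funext u
      simp [one]
    rw [h2, x.2] at h1
    exact h1⟩

/-- Complex conjugation on the nonprincipal characters. -/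
noncomputable def conjIT (θ : IT H) : IT H :=
  ⟨conjI θ.1, fun h => θ.2 (by rw [← conjI_conjI θ.1, h, conjI_one])⟩

theorem conjIT_conjIT (θ : IT H) : conjIT (conjIT θ) = θ :=
  Subtype.ext (conjI_conjI θ.1)

theorem cj_conj (hz : ZChar H B D) (θ : H → ℂ) {d : G} (hd : d ∈ B) :
    cj H (fun u => conj (θ u)) d = fun u => conj (cj H θ d u) := by
  rw [cj_eq_comp hz _ d hd, cj_eq_comp hz _ d hd]

theorem rel_conjIT (hz : ZChar H B D) {θ θ' : IT H} (h : (rowSetoid hz).r θ θ') :
    (rowSetoid hz).r (conjIT θ) (conjIT θ') := by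
  obtain ⟨d, hd, hh⟩ := h
  refine ⟨d, hd, ?_⟩
  show (fun u => conj (((θ'.1 : IrrCharacter H) : H → ℂ) u)) =
    cj H (fun u => conj (((θ.1 : IrrCharacter H) : H → ℂ) u)) d
  rw [cj_conj hz _ (hz.D_le hd), hh]

/-- Complex conjugation on the rows. -/
noncomputable def τR (hz : ZChar H B D) (i : RT hz) : RT hz :=
  Quotient.mk (rowSetoid hz) (conjIT (rep hz i))

theorem cC_τσ (hz : ZChar H B D) (i : RT hz) (x : XT H) : cC hz (τR hz i) (σX x) = cC hz i x := by
  have h1 := rel_mul hz (rep_rel hz (conjIT (rep hz i)))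
    (χ := fun g => conj (((x.1 : IrrCharacter G) : G → ℂ) g))
    (Cfsg.Agent.Lib.Char.Ortho.isCharacter_conj
      (Cfsg.Agent.Lib.Char.Basic.isCharacter_of_isIrrCharacter x.1.2))
  have h2 := mul_conj ((rep hz i).1).2
    (Cfsg.Agent.Lib.Char.Basic.isCharacter_of_isIrrCharacter x.1.2)
  unfold cC
  have h3 : mul (((rep hz (τR hz i)).1 : IrrCharacter H) : H → ℂ)
      (((σX x).1 : IrrCharacter G) : G → ℂ) =
      mul (((rep hz i).1 : IrrCharacter H) : H → ℂ) ((x.1 : IrrCharacter G) : G → ℂ) :=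
    h1.trans h2
  rw [h3]

theorem cf_τ (hz : ZChar H B D) (i : RT hz) : cf hz (τR hz i) = cf hz i := by
  unfold cf
  have h1 := rel_dg hz (rep_rel hz (conjIT (rep hz i)))
  have h2 := dg_conj ((rep hz i).1).2
  have h3 : dg (((rep hz (τR hz i)).1 : IrrCharacter H) : H → ℂ) =
      dg (((rep hz i).1 : IrrCharacter H) : H → ℂ) := h1.trans h2
  rw [h3]

theorem τ_τ (hz : ZChar H B D) (i : RT hz) : τR hz (τR hz i) = i := by
  have h1 := rel_conjIT hz (rep_rel hz (conjIT (rep hz i)))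
  rw [conjIT_conjIT] at h1
  have h2 : Quotient.mk (rowSetoid hz) (rep hz i) =
      Quotient.mk (rowSetoid hz) (conjIT (rep hz (τR hz i))) := Quotient.sound h1
  rw [mk_rep] at h2
  exact h2.symm

/-- In a group of odd order the function counting square roots is constant. -/
theorem sqrtCount_odd {K : Type*} [Group K] [Fintype K] (hK : Odd (Nat.card K)) (g : K) :
    sqrtCount K g = 1 := by
  have hc : (Nat.card K).Coprime 2 := Nat.coprime_two_right.mpr hK
  unfold sqrtCount
  have : (univ.filter fun x : K => x ^ 2 = g) = {(powCoprime hc).symm g} := by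
    ext x
    simp only [mem_filter, mem_univ, true_and, mem_singleton]
    constructor
    · rintro rfl
      exact ((powCoprime hc).symm_apply_apply x).symm
    · rintro rfl
      exact (powCoprime hc).apply_symm_apply g
  rw [this]
  simp

/-- A real valued irreducible character of a group of odd order is principal. -/
theorem real_irr_odd {K : Type*} [Group K] [Fintype K] (hK : Odd (Nat.card K)) {θ : K → ℂ}
    (hθ : IsIrrCharacter K θ) (hreal : ∀ g, conj (θ g) = θ g) : θ = fun _ => 1 := by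
  by_contra hne
  have h1 := classInner_sqrtCount (Cfsg.Agent.Lib.Char.Basic.isCharacter_of_isIrrCharacter hθ)
  have h2 : sqrtCount K = fun _ => 1 := funext (sqrtCount_odd hK)
  rw [h2, classInner_irr Cfsg.Agent.Lib.Char.IndNormal.isIrrCharacter_principal hθ,
    if_neg (Ne.symm hne)] at h1
  rcases Cfsg.Agent.Lib.CharFS.Tri.nu_of_real hθ hreal with h | h <;> rw [h] at h1 <;> norm_num at h1

theorem eq_one_of_sq_of_odd {K : Type*} [Group K] [Finite K] (hK : Odd (Nat.card K)) {x : K}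
    (hx : x * x = 1) : x = 1 := by
  have h1 : orderOf x ∣ 2 := orderOf_dvd_of_pow_eq_one (by rw [sq, hx])
  have h2 : orderOf x ∣ Nat.card K := orderOf_dvd_natCard x
  have h3 : Nat.Coprime 2 (Nat.card K) := Nat.coprime_two_left.mpr hK
  have h4 : orderOf x = 1 := Nat.eq_one_of_dvd_coprimes h3 h1 h2
  exact orderOf_eq_one_iff.mp h4

/-- Conjugation has no fixed point on the rows. -/
theorem τ_ne (hz : ZChar H B D) (hoddH : Odd (Nat.card H)) (hoddD : Odd (Nat.card D)) (i : RT hz) :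
    τR hz i ≠ i := by
  intro h
  set θ := rep hz i with hθ
  have h1 : (rowSetoid hz).r θ (conjIT θ) := by
    apply Quotient.exact
    rw [hθ, mk_rep]
    exact h.symm
  obtain ⟨d, hd, hh⟩ := h1
  have hh' : (fun u => conj (((θ.1 : IrrCharacter H) : H → ℂ) u)) =
      cj H ((θ.1 : IrrCharacter H) : H → ℂ) d := hh
  have hdB := hz.D_le hd
  have h2 : ((θ.1 : IrrCharacter H) : H → ℂ) = cj H (fun u => conj (((θ.1 : IrrCharacter H) : H → ℂ) u)) d := by
    rw [cj_conj hz _ hdB, ← hh']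
    funext u
    simp
  rw [hh', cj_cj hz _ hdB hdB] at h2
  have h3 : cj H ((θ.1 : IrrCharacter H) : H → ℂ) (d * d) = cj H ((θ.1 : IrrCharacter H) : H → ℂ) 1 := by
    rw [← h2, cj_self_one]
  have h4 := cj_injective hz θ.1.2 (IT_ne θ) (D.mul_mem hd hd) D.one_mem h3
  have h5 : (⟨d, hd⟩ : D) = 1 := eq_one_of_sq_of_odd hoddD (Subtype.ext h4)
  have h6 : d = 1 := congrArg Subtype.val h5
  subst h6
  rw [cj_self_one] at hh'
  exact IT_ne θ (real_irr_odd hoddH θ.1.2 (fun g => congrFun hh' g))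

end Conj

section FS

variable {χ₁ : IrrCharacter G} (hz : ZChar H B D)

/-- The Frobenius–Schur indicators as integers. -/
theorem exists_n : ∃ n : IrrCharacter G → ℤ, (∀ χ : IrrCharacter G, nu (χ : G → ℂ) = n χ) ∧ (∀ χ, n χ * n χ ≤ 1) ∧
    (∀ χ, n χ ≠ 0 → conjI χ = χ) ∧ n (one G) = 1 := by
  have h1 : ∀ χ : IrrCharacter G, ∃ m : ℤ, nu (χ : G → ℂ) = m := fun χ =>
    nu_eq_int (Cfsg.Agent.Lib.Char.Basic.isCharacter_of_isIrrCharacter χ.2)
  choose n hn using h1
  refine ⟨n, hn, ?_, ?_, ?_⟩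
  · intro χ
    by_cases hr : ∀ g, conj ((χ : G → ℂ) g) = (χ : G → ℂ) g
    · rcases Cfsg.Agent.Lib.CharFS.Tri.nu_of_real χ.2 hr with h | h
      · rw [hn χ] at h
        have : n χ = 1 := by exact_mod_cast h
        rw [this]
        norm_num
      · rw [hn χ] at h
        have : n χ = -1 := by exact_mod_cast h
        rw [this]
        norm_num
    · push Not at hr
      have h := Cfsg.Agent.Lib.CharFS.Tri.nu_of_not_real χ.2 hr
      rw [hn χ] at h
      have : n χ = 0 := by exact_mod_cast h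
      rw [this]
      norm_num
  · intro χ hχ
    have h0 : nu (χ : G → ℂ) ≠ 0 := by
      rw [hn χ]
      exact_mod_cast hχ
    apply Subtype.ext
    funext g
    exact conj_eq_of_nu_ne_zero χ.2 h0 g
  · have h := hn (one G)
    have h2 : nu ((one G : IrrCharacter G) : G → ℂ) = 1 := by
      simp only [nu, one, Finset.sum_const, Finset.card_univ, nsmul_eq_mul, mul_one,
        Nat.card_eq_fintype_card]
      exact inv_mul_cancel₀ (by exact_mod_cast Fintype.card_ne_zero)
    rw [h2] at h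
    exact_mod_cast h.symm

/-- The counting function in terms of the multiplicities. -/
theorem classInner_sqrtCount_res {n : IrrCharacter G → ℤ} (hn : ∀ χ : IrrCharacter G, nu (χ : G → ℂ) = n χ)
    {θ : H → ℂ} (hθ : IsIrrCharacter H θ) :
    classInner θ (fun u : H => sqrtCount G u) = ∑ χ : IrrCharacter G, (n χ : ℂ) * (mul θ (χ : G → ℂ) : ℂ) := by
  have h1 : ∀ χ : IrrCharacter G, (mul θ (χ : G → ℂ) : ℂ) =
      (Nat.card H : ℂ)⁻¹ * ∑ u : H, θ u * conj ((χ : G → ℂ) u) := fun χ =>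
    mul_coe_res hθ (Cfsg.Agent.Lib.Char.Basic.isCharacter_of_isIrrCharacter χ.2)
  simp only [h1]
  rw [classInner_def]
  have h2 : ∀ u : H, conj (sqrtCount G (u : G)) = ∑ χ : IrrCharacter G, (n χ : ℂ) * conj ((χ : G → ℂ) u) := by
    intro u
    rw [sqrtCount_eq_sum, map_sum]
    refine Finset.sum_congr rfl fun χ _ => ?_
    rw [hn χ, map_mul, map_intCast]
  simp only [h2, Finset.mul_sum]
  rw [Finset.sum_comm]
  refine Finset.sum_congr rfl fun χ _ => ?_
  refine Finset.sum_congr rfl fun u _ => ?_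
  ring

/-- The Frobenius–Schur relation. -/
theorem fs_sum {n : IrrCharacter G → ℤ} (hn : ∀ χ : IrrCharacter G, nu (χ : G → ℂ) = n χ)
    (hsq1 : sqrtCount G 1 = 1 + (Nat.card D : ℂ) * Nat.card H)
    (hsq : ∀ u ∈ H, u ≠ 1 → sqrtCount G u = 1)
    {θ : H → ℂ} (hθ : IsIrrCharacter H θ) :
    ∑ χ : IrrCharacter G, n χ * (mul θ (χ : G → ℂ) : ℤ) =
      (if θ = fun _ => 1 then 1 else 0) + (Nat.card D : ℤ) * dg θ := by
  have h1 := classInner_sqrtCount_res hn hθ
  have hF : (fun u : H => sqrtCount G u) = (fun _ => 1) + ((Nat.card D : ℂ) • rho H) := by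
    funext u
    simp only [Pi.add_apply, Pi.smul_apply, smul_eq_mul]
    by_cases hu : u = 1
    · subst hu
      rw [rho_one]
      exact hsq1
    · rw [rho_of_ne hu, mul_zero, add_zero]
      exact hsq u u.2 (fun h => hu (Subtype.ext h))
  rw [hF, Cfsg.Agent.Lib.Char.Ortho.classInner_add_right, Cfsg.Agent.Lib.Char.Ortho.classInner_smul_right,
    classInner_rho, classInner_irr hθ Cfsg.Agent.Lib.Char.IndNormal.isIrrCharacter_principal,
    Complex.conj_natCast, ← dg_coe hθ] at h1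
  have h2 : (((∑ χ : IrrCharacter G, n χ * (mul θ (χ : G → ℂ) : ℤ) : ℤ)) : ℂ) =
      (((if θ = fun _ => 1 then 1 else 0) + (Nat.card D : ℤ) * dg θ : ℤ) : ℂ) := by
    push_cast
    rw [← h1]
  exact_mod_cast h2

include hz in
/-- The Frobenius–Schur indicators of the characters with `H`-fixed vectors. -/
theorem n_eq_one {n : IrrCharacter G → ℤ} (hn : ∀ χ : IrrCharacter G, nu (χ : G → ℂ) = n χ) (hn1 : ∀ χ, n χ * n χ ≤ 1)
    (hnone : n (one G) = 1) (hH : 1 < Nat.card H) (hY : YData H χ₁)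
    (hsq1 : sqrtCount G 1 = 1 + (Nat.card D : ℂ) * Nat.card H)
    (hsq : ∀ u ∈ H, u ≠ 1 → sqrtCount G u = 1) :
    n χ₁ = 1 ∧ ∀ χ ∈ Ks H χ₁, n χ = 1 := by
  have h1 := fs_sum hn hsq1 hsq (one H).2
  rw [sum_irr_split hY hH, if_pos (by rfl), dg_one_H, mul_one_one, mul_one_chi1 hY, hnone] at h1
  have h3 : ∑ x : XT H, n x.1 * ((mul ((one H : IrrCharacter H) : H → ℂ) ((x.1 : IrrCharacter G) : G → ℂ) : ℕ) : ℤ) = 0 := by
    refine Finset.sum_eq_zero fun x _ => ?_
    rw [x.2]
    simp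
  rw [h3] at h1
  have h4 : ∑ χ ∈ Ks H χ₁, n χ * ((mul ((one H : IrrCharacter H) : H → ℂ) (χ : G → ℂ) : ℕ) : ℤ) =
      ∑ χ ∈ Ks H χ₁, 2 * n χ := by
    refine Finset.sum_congr rfl fun χ hχ => ?_
    obtain ⟨h5, h6⟩ := Ks_spec hY hχ
    rw [mul_of_res_eq_one_add_rho (one H).2 (Cfsg.Agent.Lib.Char.Basic.isCharacter_of_isIrrCharacter χ.2)
      h5 h6, dg_one_H]
    have h7 : (if ((one H : IrrCharacter H) : H → ℂ) = (fun _ => 1) then 1 else 0) = 1 := if_pos rfl
    rw [h7]
    push_cast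
    ring
  rw [h4, ← Finset.mul_sum] at h1
  have hle : ∀ χ, n χ ≤ 1 := fun χ => by nlinarith [hn1 χ]
  have h5 : ∑ χ ∈ Ks H χ₁, n χ ≤ (Ks H χ₁).card := by
    calc ∑ χ ∈ Ks H χ₁, n χ ≤ ∑ _χ ∈ Ks H χ₁, (1 : ℤ) := Finset.sum_le_sum fun χ _ => hle χ
      _ = (Ks H χ₁).card := by simp
  have he := e_eq hz hH hY
  rw [he] at h1
  push_cast at h1
  have h6 := hle χ₁
  have h7 : ∑ χ ∈ Ks H χ₁, n χ = (Ks H χ₁).card := by linarith
  refine ⟨by linarith, fun χ hχ => ?_⟩
  have h8 : ∑ χ ∈ Ks H χ₁, (1 - n χ) = 0 := by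
    rw [Finset.sum_sub_distrib, h7]
    simp
  have h9 := (Finset.sum_eq_zero_iff_of_nonneg (fun χ _ => by linarith [hle χ])).mp h8 χ hχ
  linarith

/-- The Frobenius–Schur vector on the columns. -/
theorem fs_X {n : IrrCharacter G → ℤ} (hn : ∀ χ : IrrCharacter G, nu (χ : G → ℂ) = n χ) (hn1 : ∀ χ, n χ * n χ ≤ 1)
    (hnone : n (one G) = 1) (hH : 1 < Nat.card H) (hY : YData H χ₁)
    (hsq1 : sqrtCount G 1 = 1 + (Nat.card D : ℂ) * Nat.card H)
    (hsq : ∀ u ∈ H, u ≠ 1 → sqrtCount G u = 1) (i : RT hz) :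
    ∑ x : XT H, n x.1 * cC hz i x = ((Ks H χ₁).card : ℤ) * cf hz i := by
  obtain ⟨hn2, hn3⟩ := n_eq_one hz hn hn1 hnone hH hY hsq1 hsq
  set θ := (rep hz i).1 with hθ
  have hθ1 := IT_ne (rep hz i)
  have h1 := fs_sum hn hsq1 hsq (θ := (θ : H → ℂ)) θ.2
  rw [sum_irr_split hY hH, if_neg hθ1, mul_one' θ.2 hθ1, mul_chi1 hY θ.2, hn2] at h1
  have h4 : ∑ χ ∈ Ks H χ₁, n χ * ((mul (θ : H → ℂ) (χ : G → ℂ) : ℕ) : ℤ) =
      ((Ks H χ₁).card : ℤ) * dg (θ : H → ℂ) := by
    rw [Finset.sum_congr rfl (g := fun _ => (dg (θ : H → ℂ) : ℤ))]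
    · simp
    · intro χ hχ
      rw [mul_of_mem_Ks hY θ.2 hθ1 hχ, hn3 χ hχ, one_mul]
  rw [h4] at h1
  have he := e_eq hz hH hY
  rw [he] at h1
  push_cast at h1
  have h5 : ∑ x : XT H, n x.1 * cC hz i x =
      ∑ x : XT H, n x.1 * ((mul (θ : H → ℂ) ((x.1 : IrrCharacter G) : G → ℂ) : ℕ) : ℤ) := rfl
  rw [h5]
  have h6 : cf hz i = (dg (θ : H → ℂ) : ℤ) := rfl
  rw [h6]
  linarith

include hz in
/-- **Ito's theorem**, character theoretic form. -/
theorem ito_bound (hH : 1 < Nat.card H) (hY : YData H χ₁) (he : 1 < Nat.card D)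
    (hoddH : Odd (Nat.card H)) (hoddD : Odd (Nat.card D))
    (hsq1 : sqrtCount G 1 = 1 + (Nat.card D : ℂ) * Nat.card H)
    (hsq : ∀ u ∈ H, u ≠ 1 → sqrtCount G u = 1)
    (hcount : Nat.card {C : ConjClasses G // ∀ g : G, ConjClasses.mk g = C → g ∉ H} ≤ Nat.card D)
    (hlin : ∃ θ : IT H, dg ((θ.1 : IrrCharacter H) : H → ℂ) = 1) :
    Nat.card H ≤ 2 * Nat.card D + 1 := by
  obtain ⟨n, hn, hn1, hnr, hnone⟩ := exists_n (G := G)
  obtain ⟨θ₀, hθ₀⟩ := hlin
  set l := Quotient.mk (rowSetoid hz) θ₀ with hl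
  have hlf : cf hz l = 1 := by
    rw [cf, rel_dg hz (rep_rel hz θ₀), hθ₀]
    rfl
  have hβ : (0 : ℤ) < (Ks H χ₁).card := by
    have := e_eq hz hH hY
    have h2 : 0 < (Ks H χ₁).card := by omega
    exact_mod_cast h2
  obtain ⟨x, hx⟩ := Cfsg.Agent.Lib.Zass.Ito1.pure_of_fs (cC hz) (cf hz) cdeg ((Ks H χ₁).card : ℤ)
    (hgram hz hH hY) (hdeg hz hH hY) cdeg_pos (cf_pos hz) (fun i x => by rw [cC]; omega) hβ
    σX (τR hz) (cC_τσ hz) (cf_τ hz) (τ_τ hz) (τ_ne hz hoddH hoddD)
    (card_XT_le hz hH hY hcount) (fun x => n x.1)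
    (fun x hx => Subtype.ext (hnr x.1 hx)) (fun x => hn1 x.1)
    (fs_X hz hn hn1 hnone hH hY hsq1 hsq) l
  exact bound_of_pure hz hH hY he hlf hx

end FS

end Cfsg.Agent.Lib.Zass.Ito2
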