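import Mathlib

/-!
# Brauer's lower bound for the number of simple modules (Külshammer's argument)

For a finite group `G` and an algebraically closed field `k` of characteristic `p`, the
`k`-algebra `k[G]` maps onto a product of `n` matrix algebras with nil kernel (Wedderburn–Artin),
and the number of conjugacy classes of elements of order prime to `p` is at most `n`.
-/

set_option autoImplicit false
set_option linter.style.haveILetI false
set_option linter.unusedSectionVars false

namespace Cfsg.Agent.Lib.Zass.Mod1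

open MonoidAlgebra

/-- Wedderburn–Artin for group algebras: a surjection onto a product of matrix algebras with nil
kernel. -/
theorem exists_wedderburn (k G : Type*) [Field k] [Group G] [Finite G] [IsAlgClosed k] :
    ∃ (n : ℕ) (d : Fin n → ℕ) (_ : ∀ i, NeZero (d i))
    (ρ : MonoidAlgebra k G →ₐ[k] Π i, Matrix (Fin (d i)) (Fin (d i)) k),
    Function.Surjective ρ ∧ ∃ N : ℕ, ∀ x, ρ x = 0 → x ^ N = 0 := by
  haveI : IsArtinianRing (MonoidAlgebra k G) := IsArtinianRing.of_finite k _
  let J := Ring.jacobson (MonoidAlgebra k G)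
  haveI : IsSemisimpleRing (MonoidAlgebra k G ⧸ J) := IsSemiprimaryRing.isSemisimpleRing
  obtain ⟨n, d, hd, ⟨e⟩⟩ :=
    IsSemisimpleRing.exists_algEquiv_pi_matrix_of_isAlgClosed k (MonoidAlgebra k G ⧸ J)
  obtain ⟨N, hN⟩ : IsNilpotent J := IsSemiprimaryRing.isNilpotent
  refine ⟨n, d, hd, e.toAlgHom.comp (Ideal.Quotient.mkₐ k J), ?_, N, ?_⟩
  · intro y
    obtain ⟨z, hz⟩ := Ideal.Quotient.mk_surjective (e.symm y)
    exact ⟨z, by simp [hz]⟩
  · intro x hx
    have h1 : Ideal.Quotient.mk J x = 0 := by
      have : e (Ideal.Quotient.mk J x) = 0 := hx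
      simpa using this
    have h2 : x ∈ J := Ideal.Quotient.eq_zero_iff_mem.mp h1
    have h3 : x ^ N ∈ J ^ N := Ideal.pow_mem_pow h2 N
    rw [hN] at h3
    simpa using h3

section SumFix

variable {X Γ R : Type*} [Fintype X] [Group Γ] [MulAction Γ X] [AddCommGroup R] {p : ℕ}

/-- The sum of an invariant function over a finite set acted on by a `p`-group, with values in a
group of exponent `p`, equals the sum over the fixed points. -/
theorem sum_eq_sum_fixed [Fact p.Prime] (hΓ : IsPGroup p Γ) (hR : ∀ r : R, p • r = 0)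
    (φ : X → R) (hφ : ∀ (γ : Γ) (x : X), φ (γ • x) = φ x) (s : Finset X)
    (hs : ∀ x, x ∈ s ↔ ∀ γ : Γ, γ • x = x) :
    ∑ x, φ x = ∑ x ∈ s, φ x := by
  classical
  have hcard : ∀ v : R, ((Finset.univ.filter fun x => φ x = v).card • v) =
      ((s.filter fun x => φ x = v).card • v) := by
    intro v
    let S : SubMulAction Γ X :=
      { carrier := {x | φ x = v}
        smul_mem' := fun γ x hx => by
          show φ (γ • x) = v
          rw [hφ]; exact hx }
    have hmod := hΓ.card_modEq_card_fixedPoints (α := S)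
    have h1 : Nat.card S = (Finset.univ.filter fun x => φ x = v).card := by
      rw [← Fintype.card_subtype, ← Nat.card_eq_fintype_card]
      rfl
    have h2 : Nat.card (MulAction.fixedPoints Γ S) = (s.filter fun x => φ x = v).card := by
      rw [← Fintype.card_coe, ← Nat.card_eq_fintype_card]
      refine Nat.card_congr
        { toFun := fun x => ⟨(x.1 : X), ?_⟩
          invFun := fun x => ⟨⟨(x.1 : X), (Finset.mem_filter.mp x.2).2⟩, ?_⟩
          left_inv := fun x => rfl
          right_inv := fun x => rfl }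
      · refine Finset.mem_filter.mpr ⟨(hs _).mpr fun γ => ?_, x.1.2⟩
        exact congrArg Subtype.val (x.2 γ)
      · intro γ
        apply Subtype.ext
        exact (hs _).mp (Finset.mem_filter.mp x.2).1 γ
    rw [h1, h2] at hmod
    have key : ∀ a : ℕ, a • v = (a % p) • v := fun a => by
      conv_lhs => rw [← Nat.div_add_mod a p, add_smul, mul_comm, mul_smul, hR, smul_zero, zero_add]
    rw [key, key (s.filter fun x => φ x = v).card, hmod]
  have h1 : ∑ x, φ x = ∑ v ∈ Finset.univ.image φ,
      ((Finset.univ.filter fun x => φ x = v).card • v) := by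
    simpa using (Finset.sum_comp (fun v : R => v) φ (s := (Finset.univ : Finset X)))
  have h2 : ∑ x ∈ s, φ x = ∑ v ∈ Finset.univ.image φ,
      ((s.filter fun x => φ x = v).card • v) := by
    have h3 := Finset.sum_comp (fun v : R => v) φ (s := s)
    rw [h3]
    apply Finset.sum_subset (Finset.image_subset_image (Finset.subset_univ s))
    intro v _ hv
    have : s.filter (fun x => φ x = v) = ∅ := by
      apply Finset.filter_eq_empty_iff.mpr
      intro x hx hxv
      exact hv (Finset.mem_image.mpr ⟨x, hx, hxv⟩)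
    rw [this, Finset.card_empty, zero_smul]
  rw [h1, h2]
  exact Finset.sum_congr rfl fun v _ => hcard v

end SumFix

section Words

variable {k G : Type*} [Field k] [Group G] [Fintype G] [DecidableEq G]

/-- The product of a word. -/
def wprod {n : ℕ} (w : Fin n → G) : G := (List.ofFn w).prod

/-- Expansion of a power in the group algebra. -/
theorem pow_eq_sum_words (a : G → k) (n : ℕ) :
    (∑ g, MonoidAlgebra.single g (a g)) ^ n =
      ∑ w : Fin n → G, MonoidAlgebra.single (wprod w) (∏ j, a (w j)) := by
  induction n with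
  | zero =>
    simp [wprod, MonoidAlgebra.one_def]
  | succ n ih =>
    rw [pow_succ', ih, Finset.sum_mul_sum]
    rw [← (Fin.consEquiv (fun _ : Fin (n+1) => G)).sum_comp, Fintype.sum_prod_type]
    refine Finset.sum_congr rfl fun g _ => Finset.sum_congr rfl fun w _ => ?_
    rw [MonoidAlgebra.single_mul_single]
    simp [wprod, Fin.prod_univ_succ, List.ofFn_succ, Fin.consEquiv]

/-- The linear functional attached to a function on the group. -/
noncomputable def trF (f : G → k) : MonoidAlgebra k G →ₗ[k] k :=
  (Finsupp.linearCombination k f) ∘ₗ (MonoidAlgebra.coeffLinearEquiv k).toLinearMap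

theorem trF_single (f : G → k) (g : G) (a : k) :
    trF f (MonoidAlgebra.single g a) = a * f g := by
  simp [trF]

theorem eq_sum_single (x : MonoidAlgebra k G) :
    x = ∑ g, MonoidAlgebra.single g (x.coeff g) := by
  conv_lhs => rw [← MonoidAlgebra.sum_coeff_single x]
  rw [Finsupp.sum_fintype]
  simp

theorem trF_apply (f : G → k) (x : MonoidAlgebra k G) :
    trF f x = ∑ g, x.coeff g * f g := by
  conv_lhs => rw [eq_sum_single x, map_sum]
  exact Finset.sum_congr rfl fun g _ => trF_single f g _

/-- One-step rotation of words. -/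
def rot (G : Type*) (m : ℕ) : Equiv.Perm (Fin (m + 1) → G) where
  toFun w := fun i => w (i + 1)
  invFun w := fun i => w (i - 1)
  left_inv w := by funext i; simp
  right_inv w := by funext i; simp

theorem rot_apply (m : ℕ) (w : Fin (m + 1) → G) (i : Fin (m + 1)) : rot G m w i = w (i + 1) := rfl

theorem rot_pow_apply (m n : ℕ) (w : Fin (m + 1) → G) (i : Fin (m + 1)) :
    ((rot G m) ^ n) w i = w (i + n • (1 : Fin (m + 1))) := by
  induction n generalizing i with
  | zero => simp
  | succ n ih =>
    rw [pow_succ', Equiv.Perm.mul_apply, rot_apply, ih, succ_nsmul]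
    congr 1
    abel

theorem rot_pow_card (m : ℕ) : (rot G m) ^ (m + 1) = 1 := by
  apply Equiv.ext
  intro w
  funext i
  rw [rot_pow_apply]
  have := card_nsmul_eq_zero (G := Fin (m + 1)) (x := 1)
  simp only [Fintype.card_fin] at this
  rw [this, add_zero]
  rfl

theorem wprod_rot (f : G → k) (hf : ∀ x y, f (x * y) = f (y * x)) (m : ℕ) (w : Fin (m + 1) → G) :
    f (wprod (rot G m w)) = f (wprod w) := by
  have h1 : wprod (rot G m w) = (List.ofFn fun i : Fin m => w i.succ).prod * w 0 := by
    unfold wprod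
    rw [List.ofFn_succ']
    simp only [List.concat_eq_append, List.prod_append, List.prod_cons, List.prod_nil, mul_one]
    congr 1
    · congr 1
      congr 1
      funext i
      rw [rot_apply, Fin.coeSucc_eq_succ]
    · rw [rot_apply]
      congr 1
      simp
  have h2 : wprod w = w 0 * (List.ofFn fun i : Fin m => w i.succ).prod := by
    unfold wprod
    rw [List.ofFn_succ, List.prod_cons]
  rw [h1, h2, hf]

/-- The Frobenius-type identity for a class function in characteristic `p`. -/
theorem trF_pow_char {p : ℕ} [Fact p.Prime] [CharP k p] (f : G → k)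
    (hf : ∀ x y, f (x * y) = f (y * x)) (x : MonoidAlgebra k G) :
    trF f (x ^ p) = ∑ g, (x.coeff g) ^ p * f (g ^ p) := by
  classical
  obtain ⟨m, hm⟩ : ∃ m, p = m + 1 := Nat.exists_eq_succ_of_ne_zero (Fact.out : p.Prime).ne_zero
  subst hm
  set a : G → k := fun g => x.coeff g with ha
  have hx : x = ∑ g, MonoidAlgebra.single g (a g) := eq_sum_single x
  have h1 : trF f (x ^ (m + 1)) = ∑ w : Fin (m + 1) → G, (∏ j, a (w j)) * f (wprod w) := by
    conv_lhs => rw [hx, pow_eq_sum_words, map_sum]
    exact Finset.sum_congr rfl fun w _ => trF_single f _ _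
  rw [h1]
  let φ : (Fin (m + 1) → G) → k := fun w => (∏ j, a (w j)) * f (wprod w)
  have hφ1 : ∀ w, φ (rot G m w) = φ w := by
    intro w
    show (∏ j, a (rot G m w j)) * f (wprod (rot G m w)) = (∏ j, a (w j)) * f (wprod w)
    rw [wprod_rot f hf]
    congr 1
    exact Equiv.prod_comp (Equiv.addRight (1 : Fin (m + 1))) (fun j => a (w j))
  let Γ := Subgroup.zpowers (rot G m)
  have hΓ : IsPGroup (m + 1) Γ := by
    intro γ
    obtain ⟨z, hz⟩ := γ.2
    refine ⟨1, ?_⟩
    apply Subtype.ext
    show γ.1 ^ ((m + 1) ^ 1) = 1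
    rw [← hz, pow_one, ← zpow_natCast, ← zpow_mul, mul_comm, zpow_mul, zpow_natCast, rot_pow_card,
      one_zpow]
  have hφ : ∀ (γ : Γ) (w : Fin (m + 1) → G), φ (γ • w) = φ w := by
    rintro ⟨γ, z, rfl⟩ w
    show φ (((rot G m) ^ z) w) = φ w
    induction z using Int.induction_on generalizing w with
    | zero => simp
    | succ n ih =>
      rw [zpow_add_one, Equiv.Perm.mul_apply, ih, hφ1]
    | pred n ih =>
      rw [zpow_sub_one, Equiv.Perm.mul_apply, ih]
      conv_rhs => rw [← Equiv.apply_symm_apply (rot G m) w, hφ1]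
      rfl
  have hR : ∀ r : k, (m + 1) • r = 0 := by
    intro r
    rw [nsmul_eq_mul]
    have : ((m + 1 : ℕ) : k) = 0 := CharP.cast_eq_zero k (m + 1)
    rw [this, zero_mul]
  let s : Finset (Fin (m + 1) → G) := Finset.univ.image fun g _ => g
  have hs : ∀ w, w ∈ s ↔ ∀ γ : Γ, γ • w = w := by
    intro w
    constructor
    · intro hw
      obtain ⟨g, -, rfl⟩ := Finset.mem_image.mp hw
      rintro ⟨γ, z, rfl⟩
      show ((rot G m) ^ z) _ = _
      have hfix : rot G m (fun _ => g) = fun _ => g := rfl
      have := Equiv.Perm.zpow_apply_eq_self_of_apply_eq_self hfix z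
      exact this
    · intro hw
      have h1 := hw ⟨rot G m, Subgroup.mem_zpowers _⟩
      have h2 : ∀ i, w (i + 1) = w i := fun i => congrFun h1 i
      have h3 : ∀ i : Fin (m + 1), w i = w 0 := by
        intro i
        induction i using Fin.induction with
        | zero => rfl
        | succ i ih =>
          rw [← Fin.coeSucc_eq_succ, h2]
          exact ih
      refine Finset.mem_image.mpr ⟨w 0, Finset.mem_univ _, ?_⟩
      funext i
      exact (h3 i).symm
  have := sum_eq_sum_fixed hΓ hR φ hφ s hs
  show ∑ w, φ w = _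
  rw [this]
  rw [Finset.sum_image]
  · refine Finset.sum_congr rfl fun g _ => ?_
    show (∏ j : Fin (m + 1), a g) * f (wprod fun _ => g) = _
    have hw : wprod (fun _ : Fin (m + 1) => g) = g ^ (m + 1) := by
      unfold wprod
      rw [List.ofFn_const, List.prod_replicate]
    rw [hw]
    simp [ha]
  · intro g _ g' _ h
    exact congrFun h 0

theorem class_pow {R : Type*} (f : G → R) (hf : ∀ x y, f (x * y) = f (y * x)) (n : ℕ) (x y : G) :
    f ((x * y) ^ n) = f ((y * x) ^ n) := by
  have h : (x * y) ^ n = x * ((y * x) ^ n * x⁻¹) := by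
    have := conj_pow (a := x) (b := y * x) (i := n)
    have e : x * (y * x) * x⁻¹ = x * y := by group
    rw [e] at this
    rw [this, mul_assoc]
  rw [h, hf]
  simp

/-- The Frobenius-type identity for `p^m`-th powers, for class functions with values in the prime
field. -/
theorem trF_pow_pow {p : ℕ} [Fact p.Prime] [CharP k p] (m : ℕ) (f : G → ZMod p)
    (hf : ∀ x y, f (x * y) = f (y * x)) (x : MonoidAlgebra k G) :
    trF (fun g => ZMod.castHom (dvd_refl p) k (f g)) (x ^ (p ^ m)) =
      ∑ g, (x.coeff g) ^ (p ^ m) * ZMod.castHom (dvd_refl p) k (f (g ^ (p ^ m))) := by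
  haveI : ExpChar k p := ExpChar.prime Fact.out
  induction m generalizing f x with
  | zero =>
    simp only [pow_zero, pow_one]
    exact trF_apply _ _
  | succ m ih =>
    set ι := ZMod.castHom (dvd_refl p) k with hι
    have hfr : ∀ c : ZMod p, (ι c) ^ (p ^ m) = ι c := by
      intro c
      rw [← map_pow, ZMod.pow_card_pow]
    have h1 : x ^ (p ^ (m + 1)) = (x ^ p) ^ (p ^ m) := by
      rw [pow_succ', pow_mul]
    rw [h1, ih f hf]
    set f' : G → ZMod p := fun g => f (g ^ (p ^ m)) with hf'
    have hf'c : ∀ a b, (fun g => ι (f' g)) (a * b) = (fun g => ι (f' g)) (b * a) := by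
      intro a b
      show ι (f ((a * b) ^ (p ^ m))) = ι (f ((b * a) ^ (p ^ m)))
      rw [class_pow f hf]
    have h2 := trF_pow_char (p := p) (fun g => ι (f' g)) hf'c x
    have h3 : ∑ g, ((x ^ p).coeff g) ^ (p ^ m) * ι (f (g ^ (p ^ m))) =
        (trF (fun g => ι (f' g)) (x ^ p)) ^ (p ^ m) := by
      rw [trF_apply, sum_pow_char_pow]
      refine Finset.sum_congr rfl fun g _ => ?_
      rw [mul_pow, hfr]
    rw [h3, h2, sum_pow_char_pow]
    refine Finset.sum_congr rfl fun g _ => ?_
    rw [mul_pow, hfr, ← pow_mul, ← pow_succ']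
    congr 2
    show f ((g ^ p) ^ (p ^ m)) = _
    rw [← pow_mul, ← pow_succ']

/-- A class function that is invariant under `g ↦ g ^ (p ^ M)` vanishes on elements `x` with
`x ^ (p ^ M) = 0`. -/
theorem trF_eq_zero {p : ℕ} [Fact p.Prime] [CharP k p] (M : ℕ) (f : G → ZMod p)
    (hf : ∀ x y, f (x * y) = f (y * x)) (hfq : ∀ g, f (g ^ (p ^ M)) = f g)
    (x : MonoidAlgebra k G) (hx : x ^ (p ^ M) = 0) :
    trF (fun g => ZMod.castHom (dvd_refl p) k (f g)) x = 0 := by
  haveI : ExpChar k p := ExpChar.prime Fact.out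
  have h := trF_pow_pow (k := k) M f hf x
  rw [hx, map_zero] at h
  replace h := h.symm
  have h2 : (trF (fun g => ZMod.castHom (dvd_refl p) k (f g)) x) ^ (p ^ M) = 0 := by
    rw [← h, trF_apply, sum_pow_char_pow]
    refine Finset.sum_congr rfl fun g _ => ?_
    rw [mul_pow, hfq, ← map_pow (ZMod.castHom (dvd_refl p) k), ZMod.pow_card_pow]
  exact pow_eq_zero_iff (pow_ne_zero _ (Fact.out : p.Prime).ne_zero) |>.mp h2

end Words

section Power

variable {G : Type*} [Group G] [Fintype G]

/-- A suitable power of `p`: it is the projection to the `p`-regular part. -/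
theorem exists_good_power (p : ℕ) [Fact p.Prime] (N : ℕ) :
    ∃ M : ℕ, N ≤ p ^ M ∧ ∀ g : G, (g ^ (p ^ M)) ^ (p ^ M) = g ^ (p ^ M) ∧
      (¬ p ∣ orderOf g → g ^ (p ^ M) = g) := by
  have hp : p.Prime := Fact.out
  obtain ⟨a, m, hm, hcard⟩ := Nat.exists_eq_pow_mul_and_not_dvd (n := Fintype.card G)
    Fintype.card_ne_zero p hp.ne_one
  have hcop : Nat.Coprime p m := (Nat.Prime.coprime_iff_not_dvd hp).mpr hm
  have hm0 : 0 < m := Nat.pos_of_ne_zero (by rintro rfl; exact hm (dvd_zero p))
  have hφ : 0 < m.totient := Nat.totient_pos.mpr hm0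
  set M := m.totient * (a + N) with hM
  have hMge : a + N ≤ M := by
    rw [hM]; exact Nat.le_mul_of_pos_left _ hφ
  set q := p ^ M with hq
  have hq1 : q ≡ 1 [MOD m] := by
    rw [hq, hM, pow_mul]
    have := (Nat.ModEq.pow_totient hcop).pow (a + N)
    simpa using this
  have hqa : p ^ a ∣ q := pow_dvd_pow p (by omega)
  have hqq : q * q ≡ q [MOD Fintype.card G] := by
    rw [hcard]
    have hc : Nat.Coprime (p ^ a) m := hcop.pow_left a
    apply (Nat.modEq_and_modEq_iff_modEq_mul hc).mp
    constructor
    · have h1 : q * q ≡ 0 [MOD p ^ a] := (Nat.modEq_zero_iff_dvd).mpr (hqa.mul_right q)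
      have h2 : q ≡ 0 [MOD p ^ a] := (Nat.modEq_zero_iff_dvd).mpr hqa
      exact h1.trans h2.symm
    · have := hq1.mul_left q
      simpa using this
  refine ⟨M, ?_, fun g => ⟨?_, fun hg => ?_⟩⟩
  · have h1 : N ≤ M := by omega
    exact h1.trans (Nat.lt_pow_self hp.one_lt).le
  · rw [← pow_mul]
    apply pow_eq_pow_iff_modEq.mpr
    exact Nat.ModEq.of_dvd orderOf_dvd_card hqq
  · have hd : orderOf g ∣ m := by
      have h1 : orderOf g ∣ p ^ a * m := hcard ▸ orderOf_dvd_card
      have hc : Nat.Coprime (orderOf g) (p ^ a) :=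
        Nat.Coprime.pow_right a ((Nat.Prime.coprime_iff_not_dvd hp).mpr hg).symm
      exact hc.dvd_of_dvd_mul_left h1
    have := pow_eq_pow_iff_modEq (x := g) (n := q) (m := 1) |>.mpr (Nat.ModEq.of_dvd hd hq1)
    simpa using this

end Power

section Matrices

variable {k A : Type*} [Field k] [Ring A] [Algebra k A] {n : ℕ} {d : Fin n → ℕ}
  [∀ i, NeZero (d i)]

/-- A linear functional on `A` that is a trace form, factors through a surjection onto a product of
matrix algebras, and vanishes on a lift of a primitive idempotent of each factor, is zero. -/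
theorem functional_eq_zero
    (ρ : A →ₐ[k] Π i, Matrix (Fin (d i)) (Fin (d i)) k) (hρ : Function.Surjective ρ)
    (F : A →ₗ[k] k) (hcomm : ∀ x y, F (x * y) = F (y * x)) (hker : ∀ x, ρ x = 0 → F x = 0)
    (E : Fin n → A) (hE : ∀ i, ρ (E i) = Pi.single i (Matrix.single 0 0 1))
    (hFE : ∀ i, F (E i) = 0) : F = 0 := by
  classical
  have hcongr : ∀ x y, ρ x = ρ y → F x = F y := by
    intro x y h
    have := hker (x - y) (by rw [map_sub, h, sub_self])
    rw [map_sub, sub_eq_zero] at this
    exact this
  choose e he using fun (t : Σ i, Fin (d i) × Fin (d i)) =>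
    hρ (Pi.single t.1 (Matrix.single t.2.1 t.2.2 1))
  have hdiag : ∀ i (a b : Fin (d i)), F (e ⟨i, a, b⟩) = 0 := by
    intro i a b
    have h1 : F (e ⟨i, a, b⟩) = F (e ⟨i, a, 0⟩ * e ⟨i, 0, b⟩) := by
      apply hcongr
      rw [map_mul, he, he, he, ← Pi.single_mul, Matrix.single_mul_single_same, one_mul]
    rw [h1, hcomm]
    by_cases hab : b = a
    · subst hab
      rw [hcongr _ (E i), hFE]
      rw [map_mul, he, he, hE, ← Pi.single_mul, Matrix.single_mul_single_same, one_mul]
    · apply hker
      rw [map_mul, he, he, ← Pi.single_mul, Matrix.single_mul_single_of_ne _ _ _ _ hab]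
      simp
  ext x
  have h2 : ρ x = ρ (∑ t : Σ i, Fin (d i) × Fin (d i), (ρ x t.1 t.2.1 t.2.2) • e t) := by
    rw [map_sum]
    simp only [map_smul, he]
    funext i
    rw [Fintype.sum_sigma, Finset.sum_apply]
    rw [Finset.sum_eq_single i]
    · rw [Finset.sum_apply]
      simp only [Pi.smul_apply, Pi.single_eq_same]
      conv_lhs => rw [Matrix.matrix_eq_sum_single (ρ x i)]
      rw [Fintype.sum_prod_type]
      simp [Matrix.smul_single]
    · intro j _ hj
      rw [Finset.sum_apply]
      simp [Pi.single_eq_of_ne hj.symm]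
    · simp
  rw [hcongr _ _ h2, map_sum]
  simp [hdiag]

end Matrices

section Main

variable {k G : Type*} [Field k] [Group G] [Fintype G] [DecidableEq G]

/-- **Brauer's inequality**: the number of conjugacy classes of elements of order prime to `p` is at
most the number of matrix factors of `k[G]` modulo its radical. -/
theorem card_regular_classes_le {p : ℕ} [Fact p.Prime] [CharP k p] {n : ℕ} {d : Fin n → ℕ}
    [∀ i, NeZero (d i)] (ρ : MonoidAlgebra k G →ₐ[k] Π i, Matrix (Fin (d i)) (Fin (d i)) k)
    (hρ : Function.Surjective ρ) {N : ℕ} (hN : ∀ x, ρ x = 0 → x ^ N = 0)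
    (S : Finset (ConjClasses G)) (hS : ∀ C ∈ S, ∀ g : G, ConjClasses.mk g = C → ¬ p ∣ orderOf g) :
    S.card ≤ n := by
  classical
  by_contra hlt
  push Not at hlt
  obtain ⟨M, hM, hq⟩ := exists_good_power (G := G) p N
  set q := p ^ M with hqdef
  -- the regular class functions
  let fC : ConjClasses G → G → ZMod p := fun C g => if ConjClasses.mk (g ^ q) = C then 1 else 0
  have hfC : ∀ C x y, fC C (x * y) = fC C (y * x) := by
    intro C x y
    have := class_pow (fun g => (if ConjClasses.mk g = C then (1 : ZMod p) else 0)) (by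
      intro a b
      have : ConjClasses.mk (a * b) = ConjClasses.mk (b * a) := by
        rw [ConjClasses.mk_eq_mk_iff_isConj]
        exact isConj_iff.mpr ⟨a⁻¹, by group⟩
      simp only [this]) q x y
    exact this
  have hfCq : ∀ C g, fC C (g ^ q) = fC C g := by
    intro C g
    show (if ConjClasses.mk ((g ^ q) ^ q) = C then (1 : ZMod p) else 0) = _
    rw [(hq g).1]
  let ι := ZMod.castHom (dvd_refl p) k
  let FC : ConjClasses G → (MonoidAlgebra k G →ₗ[k] k) := fun C => trF (fun g => ι (fC C g))
  have hFCker : ∀ C x, ρ x = 0 → FC C x = 0 := by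
    intro C x hx
    have hx0 : x ^ q = 0 := by
      have h1 := hN x hx
      calc x ^ q = x ^ N * x ^ (q - N) := by rw [← pow_add]; congr 1; omega
        _ = 0 := by rw [h1, zero_mul]
    exact trF_eq_zero M (fC C) (hfC C) (hfCq C) x hx0
  have hFCcomm : ∀ C x y, FC C (x * y) = FC C (y * x) := by
    intro C x y
    show trF _ _ = trF _ _
    conv_lhs => rw [eq_sum_single x, eq_sum_single y]
    conv_rhs => rw [eq_sum_single x, eq_sum_single y]
    simp only [Finset.sum_mul_sum, map_sum, MonoidAlgebra.single_mul_single, trF_single]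
    rw [Finset.sum_comm]
    refine Finset.sum_congr rfl fun g _ => Finset.sum_congr rfl fun g' _ => ?_
    rw [hfC C g g']
    ring
  choose E hE using fun i => hρ (Pi.single i (Matrix.single 0 0 1))
  -- the kernel of the evaluation is non-trivial
  let Ψ : (S → k) →ₗ[k] (Fin n → k) :=
    { toFun := fun c i => ∑ C : S, c C * FC C (E i)
      map_add' := by
        intro c c'
        funext i
        simp [add_mul, Finset.sum_add_distrib]
      map_smul' := by
        intro a c
        funext i
        simp [Finset.mul_sum, mul_assoc] }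
  have hker : LinearMap.ker Ψ ≠ ⊥ := by
    apply LinearMap.ker_ne_bot_of_finrank_lt
    simpa using hlt
  obtain ⟨c, hc, hc0⟩ := (Submodule.ne_bot_iff _).mp hker
  have hc' : ∀ i, ∑ C : S, c C * FC C (E i) = 0 := fun i => congrFun (LinearMap.mem_ker.mp hc) i
  let F : MonoidAlgebra k G →ₗ[k] k := ∑ C : S, c C • FC C
  have hFapp : ∀ x, F x = ∑ C : S, c C * FC C x := by
    intro x
    simp [F, LinearMap.sum_apply]
  have hF0 : F = 0 := by
    apply functional_eq_zero ρ hρ F ?_ ?_ E hE
    · intro i
      rw [hFapp]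
      exact hc' i
    · intro x y
      rw [hFapp, hFapp]
      exact Finset.sum_congr rfl fun C _ => by rw [hFCcomm]
    · intro x hx
      rw [hFapp]
      exact Finset.sum_eq_zero fun C _ => by rw [hFCker C x hx, mul_zero]
  apply hc0
  funext C₀
  obtain ⟨g₀, hg₀⟩ := ConjClasses.exists_rep C₀.1
  have hreg : g₀ ^ q = g₀ := (hq g₀).2 (hS C₀.1 C₀.2 g₀ hg₀)
  have h1 : F (MonoidAlgebra.single g₀ 1) = c C₀ := by
    rw [hFapp]
    rw [Finset.sum_eq_single C₀]
    · show c C₀ * trF _ _ = _
      rw [trF_single]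
      have : fC C₀.1 g₀ = 1 := by
        show (if ConjClasses.mk (g₀ ^ q) = C₀.1 then (1 : ZMod p) else 0) = 1
        rw [hreg, hg₀, if_pos rfl]
      rw [this]
      simp
    · intro C _ hC
      show c C * trF _ _ = _
      rw [trF_single]
      have : fC C.1 g₀ = 0 := by
        show (if ConjClasses.mk (g₀ ^ q) = C.1 then (1 : ZMod p) else 0) = 0
        rw [hreg, hg₀, if_neg]
        intro h
        exact hC (Subtype.ext h.symm)
      rw [this]
      simp
    · simp
  rw [← h1, hF0]
  simp

end Main

end Cfsg.Agent.Lib.Zass.Mod1
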