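import Mathlib
import Cfsg.Agent.Lib.Zass.Mod1

/-!
# Simple modules in defining characteristic for a group with a split BN-pair of rank one

We count the simple `k[G]`-modules of a group `G = HD ⊔ HtD` (`H` a `p`-group, `D` of odd order
inverted by the involution `t`) : there are at most `|D| + 1` of them.
-/

set_option autoImplicit false
set_option linter.style.haveILetI false
set_option linter.unusedSectionVars false

namespace Cfsg.Agent.Lib.Zass.Mod2

open Cfsg.Agent.Lib.Zass.Mod1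

section Fixed

variable {k V Γ : Type*} [Field k] [AddCommGroup V] [Module k V] [Group Γ] [Finite Γ]

/-- A `p`-group acting linearly on a non-zero vector space of characteristic `p` has a non-zero fixed
vector. -/
theorem exists_fixed {p : ℕ} [Fact p.Prime] [CharP k p] (hΓ : IsPGroup p Γ) [Nontrivial V]
    (π : Γ →* Module.End k V) : ∃ v : V, v ≠ 0 ∧ ∀ γ, π γ v = v := by
  classical
  haveI := Fintype.ofFinite Γ
  obtain ⟨w, hw⟩ := exists_ne (0 : V)
  let ι := ZMod.castHom (dvd_refl p) k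
  let f : (Γ → ZMod p) →+ V :=
    { toFun := fun c => ∑ γ, ι (c γ) • π γ w
      map_zero' := by simp
      map_add' := fun c c' => by simp [add_smul, Finset.sum_add_distrib] }
  let W : AddSubgroup V := f.range
  have hst : ∀ (γ₀ : Γ) (x : V), x ∈ W → π γ₀ x ∈ W := by
    rintro γ₀ x ⟨c, rfl⟩
    refine ⟨fun γ => c (γ₀⁻¹ * γ), ?_⟩
    show ∑ γ, ι (c (γ₀⁻¹ * γ)) • π γ w = π γ₀ (∑ γ, ι (c γ) • π γ w)
    rw [map_sum, ← Equiv.sum_comp (Equiv.mulLeft γ₀)]
    refine Finset.sum_congr rfl fun γ _ => ?_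
    simp [map_mul]
  letI : MulAction Γ W :=
    { smul := fun γ x => ⟨π γ x, hst γ x x.2⟩
      one_smul := fun x => Subtype.ext (by
        show π 1 (x : V) = x
        simp)
      mul_smul := fun a b x => Subtype.ext (by
        show π (a * b) (x : V) = π a (π b x)
        simp [map_mul]) }
  haveI : Finite W := by
    have : Finite f.range := inferInstance
    exact this
  have hcard : p ∣ Nat.card W := by
    have h1 : Nat.card W ∣ Nat.card (Γ → ZMod p) := AddSubgroup.card_range_dvd f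
    have h2 : Nat.card (Γ → ZMod p) = p ^ Fintype.card Γ := by
      rw [Nat.card_eq_fintype_card]
      simp [ZMod.card]
    rw [h2] at h1
    obtain ⟨j, -, hj⟩ := (Nat.dvd_prime_pow (Fact.out : p.Prime)).mp h1
    rw [hj]
    apply dvd_pow_self
    rintro rfl
    rw [pow_zero] at hj
    have hmem : w ∈ W := by
      refine ⟨fun γ => if γ = 1 then 1 else 0, ?_⟩
      show ∑ γ, ι (if γ = 1 then 1 else 0) • π γ w = w
      rw [Finset.sum_eq_single 1]
      · simp
      · intro γ _ hγ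
        simp [hγ]
      · simp
    have hss : Subsingleton W := (Nat.card_eq_one_iff_unique.mp hj).1
    have : (⟨w, hmem⟩ : W) = 0 := Subsingleton.elim _ _
    exact hw (congrArg Subtype.val this)
  have h0 : (0 : W) ∈ MulAction.fixedPoints Γ W := by
    intro γ
    apply Subtype.ext
    show π γ 0 = 0
    simp
  obtain ⟨b, hb, hne⟩ := hΓ.exists_fixed_point_of_prime_dvd_card_of_fixed_point W hcard h0
  refine ⟨b, fun h => hne (Subtype.ext h.symm), fun γ => ?_⟩
  exact congrArg Subtype.val (hb γ)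

/-- A common eigenvector of a commuting family of operators. -/
theorem exists_common_eigen [IsAlgClosed k] [FiniteDimensional k V] {ι : Type*} (s : Finset ι)
    (T : ι → Module.End k V) (hc : ∀ i j, T i * T j = T j * T i) (W : Submodule k V) (hW : W ≠ ⊥)
    (hst : ∀ i, ∀ x ∈ W, T i x ∈ W) :
    ∃ v ∈ W, v ≠ 0 ∧ ∀ i ∈ s, ∃ μ : k, T i v = μ • v := by
  classical
  induction s using Finset.induction_on generalizing W with
  | empty =>
    obtain ⟨v, hv, hv0⟩ := (Submodule.ne_bot_iff _).mp hW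
    exact ⟨v, hv, hv0, by simp⟩
  | insert i₀ s _ ih =>
    haveI : Nontrivial W := Submodule.nontrivial_iff_ne_bot.mpr hW
    obtain ⟨μ, hμ⟩ := Module.End.exists_eigenvalue ((T i₀).restrict (hst i₀))
    obtain ⟨z, hz⟩ := hμ.exists_hasEigenvector
    have hz1 : T i₀ (z : V) = μ • (z : V) := by
      have := hz.apply_eq_smul
      exact congrArg Subtype.val this
    have hz0 : (z : V) ≠ 0 := fun h => hz.2 (Subtype.ext h)
    let W₀ : Submodule k V := W ⊓ Module.End.eigenspace (T i₀) μ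
    have hW₀ : W₀ ≠ ⊥ := by
      apply (Submodule.ne_bot_iff _).mpr
      refine ⟨z, ⟨z.2, ?_⟩, hz0⟩
      exact Module.End.mem_eigenspace_iff.mpr hz1
    obtain ⟨v, hv, hv0, hv1⟩ := ih W₀ hW₀ (by
      intro i x hx
      refine ⟨hst i x hx.1, ?_⟩
      have hx2 : T i₀ x = μ • x := Module.End.mem_eigenspace_iff.mp hx.2
      apply Module.End.mem_eigenspace_iff.mpr
      have h1 : T i₀ (T i x) = T i (T i₀ x) := by
        have := congrArg (fun A : Module.End k V => A x) (hc i₀ i)
        simpa using this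
      rw [h1, hx2, map_smul])
    refine ⟨v, hv.1, hv0, ?_⟩
    intro i hi
    rcases Finset.mem_insert.mp hi with rfl | hi
    · exact ⟨μ, Module.End.mem_eigenspace_iff.mp hv.2⟩
    · exact hv1 i hi

end Fixed

/-- The axioms of a split BN-pair of rank one, in the form used here. -/
structure RankOne {G : Type*} [Group G] (p : ℕ) (H D : Subgroup G) (t : G) : Prop where
  htt : t * t = 1
  tD : ∀ d ∈ D, t * d * t = d⁻¹
  DH : ∀ d ∈ D, ∀ u ∈ H, d * u * d⁻¹ ∈ H
  bruhat : ∀ g : G, (∃ u ∈ H, ∃ b ∈ D, g = u * b) ∨ (∃ u ∈ H, ∃ w ∈ H, ∃ b ∈ D, g = u * t * w * b)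
  form : ∀ w ∈ H, w ≠ 1 → ∃ α ∈ H, ∃ y ∈ D, ∃ α' ∈ H, t * w * t = α * y * t * α'
  uniq : ∀ α ∈ H, ∀ y ∈ D, ∀ α' ∈ H, ∀ β ∈ H, ∀ z ∈ D, ∀ β' ∈ H,
    α * y * t * α' = β * z * t * β' → y = z
  pg : IsPGroup p H
  oddD : Odd (Nat.card D)
  ntH : H ≠ ⊥

section Rep

open scoped Classical

variable {G : Type*} [Group G] [Fintype G] {p : ℕ} [Fact p.Prime] {H D : Subgroup G} {t : G}

theorem RankOne.comm (hR : RankOne p H D t) {d d' : G} (hd : d ∈ D) (hd' : d' ∈ D) :
    d * d' = d' * d := by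
  have h1 := hR.tD _ (D.mul_mem hd hd')
  have h2 : t * (d * d') * t = (t * d * t) * (t * d' * t) := by
    have : t * d * t * (t * d' * t) = t * d * (t * t) * d' * t := by group
    rw [this, hR.htt]
    group
  rw [h2, hR.tD d hd, hR.tD d' hd'] at h1
  have h3 : (d * d')⁻¹ = (d' * d)⁻¹ := by
    rw [← h1, mul_inv_rev]
  exact inv_injective h3

theorem RankOne.mul_t (hR : RankOne p H D t) {d : G} (hd : d ∈ D) : d * t = t * d⁻¹ := by
  have h1 := hR.tD d hd
  calc d * t = (t * t) * d * t := by rw [hR.htt, one_mul]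
    _ = t * (t * d * t) := by group
    _ = t * d⁻¹ := by rw [h1]

variable {k V : Type*} [Field k] [AddCommGroup V] [Module k V]

/-- The sum of the elements of `H`, as an operator. -/
noncomputable def xH (π : G →* Module.End k V) (H : Subgroup G) : Module.End k V :=
  ∑ u : H, π u

theorem xH_apply (π : G →* Module.End k V) (z : V) : xH π H z = ∑ u : H, π u z := by
  simp [xH, LinearMap.sum_apply]

theorem xH_left (π : G →* Module.End k V) {α : G} (hα : α ∈ H) (z : V) :
    π α (xH π H z) = xH π H z := by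
  rw [xH_apply, map_sum, ← Equiv.sum_comp (Equiv.mulLeft (⟨α, hα⟩ : H))
    (fun u : H => π (u : G) z)]
  refine Finset.sum_congr rfl fun u _ => ?_
  simp [map_mul]

theorem xH_right (π : G →* Module.End k V) {α : G} (hα : α ∈ H) (z : V) :
    xH π H (π α z) = xH π H z := by
  rw [xH_apply, xH_apply, ← Equiv.sum_comp (Equiv.mulRight (⟨α, hα⟩ : H))
    (fun u : H => π (u : G) z)]
  refine Finset.sum_congr rfl fun u _ => ?_
  simp [map_mul]

theorem card_zero [CharP k p] (hp : IsPGroup p H) (hH : H ≠ ⊥) : ((Nat.card H : ℕ) : k) = 0 := by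
  obtain ⟨n, hn⟩ := IsPGroup.iff_card.mp hp
  have h1 : n ≠ 0 := by
    rintro rfl
    rw [pow_zero] at hn
    exact hH (Subgroup.eq_bot_of_card_eq H hn)
  rw [hn]
  have : ((p : ℕ) : k) = 0 := CharP.cast_eq_zero k p
  rw [Nat.cast_pow, this, zero_pow h1]

theorem xH_fixed [CharP k p] (hp : IsPGroup p H) (hH : H ≠ ⊥) (π : G →* Module.End k V) {z : V}
    (hz : ∀ u ∈ H, π u z = z) : xH π H z = 0 := by
  have h : ∀ u : H, π (u : G) z = z := fun u => hz u u.2
  rw [xH_apply]
  simp only [h]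
  rw [Finset.sum_const, Finset.card_univ, ← Nat.card_eq_fintype_card, ← Nat.cast_smul_eq_nsmul k,
    card_zero hp hH, zero_smul]

/-- A functional fixed by `H` kills the image of the sum of `H`. -/
theorem ell_xH [CharP k p] (hp : IsPGroup p H) (hH : H ≠ ⊥) (π : G →* Module.End k V)
    (ℓ : Module.Dual k V) (hℓ : ∀ u ∈ H, ∀ z, ℓ (π u z) = ℓ z) (z : V) : ℓ (xH π H z) = 0 := by
  have h : ∀ u : H, ℓ (π (u : G) z) = ℓ z := fun u => hℓ u u.2 z
  rw [xH_apply, map_sum]
  simp only [h]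
  rw [Finset.sum_const, Finset.card_univ, ← Nat.card_eq_fintype_card, ← Nat.cast_smul_eq_nsmul k,
    card_zero hp hH, zero_smul]

theorem xH_D (hDH : ∀ d ∈ D, ∀ u ∈ H, d * u * d⁻¹ ∈ H) (π : G →* Module.End k V) {d : G}
    (hd : d ∈ D) (z : V) : π d (xH π H z) = xH π H (π d z) := by
  rw [xH_apply, map_sum, xH_apply]
  let e : H ≃ H :=
    { toFun := fun u => ⟨d * u * d⁻¹, hDH d hd u u.2⟩
      invFun := fun u => ⟨d⁻¹ * u * d⁻¹⁻¹, hDH d⁻¹ (D.inv_mem hd) u u.2⟩
      left_inv := fun u => Subtype.ext (by simp [mul_assoc])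
      right_inv := fun u => Subtype.ext (by simp [mul_assoc]) }
  rw [← Equiv.sum_comp e (fun u : H => π (u : G) (π d z))]
  refine Finset.sum_congr rfl fun u _ => ?_
  show π d (π (u : G) z) = π (d * u * d⁻¹) (π d z)
  have : d * (u : G) * d⁻¹ * d = d * u := by group
  rw [← Module.End.mul_apply, ← map_mul, ← Module.End.mul_apply, ← map_mul, this]

theorem RankOne.exists_Y (hR : RankOne p H D t) : ∃ Y : H → D, ∀ w : H, (w : G) ≠ 1 →
    ∃ α ∈ H, ∃ α' ∈ H, t * w * t = α * (Y w : G) * t * α' := by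
  have : ∀ w : H, ∃ y : D, (w : G) ≠ 1 → ∃ α ∈ H, ∃ α' ∈ H, t * w * t = α * (y : G) * t * α' := by
    intro w
    by_cases hw : (w : G) = 1
    · exact ⟨1, fun h => absurd hw h⟩
    · obtain ⟨α, hα, y, hy, α', hα', h⟩ := hR.form w w.2 hw
      exact ⟨⟨y, hy⟩, fun _ => ⟨α, hα, α', hα', h⟩⟩
  choose Y hY using this
  exact ⟨Y, hY⟩

/-- The character sum of the Bruhat torus part. -/
noncomputable def Ssum (ν : D →* k) (Y : H → D) : k := ∑ w ∈ Finset.univ.erase (1 : H), ν (Y w)⁻¹

theorem Ssum_conj (hR : RankOne p H D t) {Y : H → D}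
    (hY : ∀ w : H, (w : G) ≠ 1 → ∃ α ∈ H, ∃ α' ∈ H, t * w * t = α * (Y w : G) * t * α')
    (ν : D →* k) (d : D) : Ssum ν Y = ν d * ν d * Ssum ν Y := by
  have hd := d.2
  have hdi := D.inv_mem hd
  let e : H ≃ H :=
    { toFun := fun u => ⟨d * u * (d : G)⁻¹, hR.DH d hd u u.2⟩
      invFun := fun u => ⟨(d : G)⁻¹ * u * (d : G)⁻¹⁻¹, hR.DH _ hdi u u.2⟩
      left_inv := fun u => Subtype.ext (by simp [mul_assoc])
      right_inv := fun u => Subtype.ext (by simp [mul_assoc]) }
  have he : ∀ w : H, (w : G) ≠ 1 → Y (e w) = d⁻¹ * Y w * d⁻¹ := by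
    intro w hw
    have hew : ((e w : H) : G) ≠ 1 := by
      intro h
      apply hw
      have h2 : (d : G) * w * (d : G)⁻¹ = 1 := h
      have h3 : (w : G) = (d : G)⁻¹ * ((d : G) * w * (d : G)⁻¹) * d := by group
      rw [h3, h2]
      group
    obtain ⟨α, hα, α', hα', h1⟩ := hY w hw
    obtain ⟨β, hβ, β', hβ', h2⟩ := hY (e w) hew
    apply Subtype.ext
    have h3 : t * ((e w : H) : G) * t = t * (d : G) * t * (t * w * t) * (t * (d : G)⁻¹ * t) := by
      show t * ((d : G) * w * (d : G)⁻¹) * t = _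
      have : t * (d : G) * t * (t * w * t) * (t * (d : G)⁻¹ * t)
          = t * d * (t * t) * w * (t * t) * (d : G)⁻¹ * t := by group
      rw [this, hR.htt]
      group
    rw [hR.tD d hd, hR.tD _ hdi, inv_inv, h1] at h3
    have h4 : (d : G)⁻¹ * (α * (Y w : G) * t * α') * d
        = ((d : G)⁻¹ * α * (d : G)⁻¹⁻¹) * ((d : G)⁻¹ * (Y w : G) * (d : G)⁻¹) * t
          * ((d : G)⁻¹ * α' * (d : G)⁻¹⁻¹) := by
      have h5 : (d : G)⁻¹ * t = t * d := by
        have := hR.mul_t hdi
        rwa [inv_inv] at this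
      have : ((d : G)⁻¹ * α * (d : G)⁻¹⁻¹) * ((d : G)⁻¹ * (Y w : G) * (d : G)⁻¹) * t
          * ((d : G)⁻¹ * α' * (d : G)⁻¹⁻¹)
          = (d : G)⁻¹ * α * (Y w : G) * ((d : G)⁻¹ * t) * (d : G)⁻¹ * α' * d := by group
      rw [this, h5]
      group
    rw [h4, h2] at h3
    exact hR.uniq β hβ _ (Y (e w)).2 β' hβ' _ (hR.DH _ hdi α hα) _
      (D.mul_mem (D.mul_mem hdi (Y w).2) hdi) _ (hR.DH _ hdi α' hα') h3
  have h1 : ∑ w ∈ Finset.univ.erase (1 : H), ν (Y w)⁻¹
      = ∑ w ∈ Finset.univ.erase (1 : H), ν (Y (e w))⁻¹ := by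
    symm
    refine Finset.sum_equiv e ?_ (fun _ _ => rfl)
    intro w
    simp only [Finset.mem_erase, Finset.mem_univ, and_true, ne_eq]
    constructor
    · intro hw h
      apply hw
      apply Subtype.ext
      have h2 : (d : G) * w * (d : G)⁻¹ = 1 := congrArg Subtype.val h
      have h3 : (w : G) = (d : G)⁻¹ * ((d : G) * w * (d : G)⁻¹) * d := by group
      rw [h3, h2]
      simp
    · intro hw h
      apply hw
      rw [h]
      apply Subtype.ext
      show (d : G) * (1 : H) * (d : G)⁻¹ = ((1 : H) : G)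
      simp
  unfold Ssum
  conv_lhs => rw [h1]
  rw [Finset.mul_sum]
  refine Finset.sum_congr rfl fun w hw => ?_
  have hw1 : (w : G) ≠ 1 := by
    intro h
    exact (Finset.mem_erase.mp hw).1 (Subtype.ext h)
  rw [he w hw1]
  have : (d⁻¹ * Y w * d⁻¹)⁻¹ = d * (Y w)⁻¹ * d := by group
  rw [this, map_mul, map_mul]
  ring

theorem Ssum_eq_zero (hR : RankOne p H D t) {Y : H → D}
    (hY : ∀ w : H, (w : G) ≠ 1 → ∃ α ∈ H, ∃ α' ∈ H, t * w * t = α * (Y w : G) * t * α')
    (ν : D →* k) (hν : ν ≠ 1) : Ssum ν Y = 0 := by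
  obtain ⟨d, hd⟩ : ∃ d, ν d ≠ 1 := by
    by_contra hcon
    push Not at hcon
    exact hν (MonoidHom.ext fun d => by simpa using hcon d)
  have h2 : ν d * ν d ≠ 1 := by
    intro h
    apply hd
    obtain ⟨m, hm⟩ := hR.oddD
    have h3 : (ν d) ^ (Nat.card D) = 1 := by
      rw [← map_pow, pow_card_eq_one', map_one]
    rw [hm, pow_succ, pow_mul, sq, h, one_pow, one_mul] at h3
    exact h3
  have h3 := Ssum_conj hR hY ν d
  have h4 : (1 - ν d * ν d) * Ssum ν Y = 0 := by
    rw [sub_mul, one_mul, ← h3, sub_self]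
  rcases mul_eq_zero.mp h4 with h5 | h5
  · exact absurd (sub_eq_zero.mp h5).symm h2
  · exact h5

theorem Ssum_one [CharP k p] (hR : RankOne p H D t) (Y : H → D) :
    Ssum (1 : D →* k) Y = -1 := by
  unfold Ssum
  simp only [MonoidHom.one_apply, Finset.sum_const, mul_one, nsmul_eq_mul]
  rw [Finset.card_erase_of_mem (Finset.mem_univ _), Finset.card_univ]
  have h1 : 1 ≤ Fintype.card H := Fintype.card_pos
  rw [Nat.cast_sub h1, ← Nat.card_eq_fintype_card, card_zero hR.pg hR.ntH]
  simp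

section Computation

variable (π : G →* Module.End k V)

theorem key_w {w α α' y : G} (hform : t * w * t = α * y * t * α') {z : V} (hα' : π α' z = z) :
    π t (π w (π t z)) = π α (π y (π t z)) := by
  have h1 : π t (π w (π t z)) = π (t * w * t) z := by
    simp [map_mul]
  rw [h1, hform]
  simp [map_mul, hα']

theorem char_t (hR : RankOne p H D t) {ν : D →* k} {z : V}
    (hz : ∀ d : D, π d z = ν d • z) (d : D) :
    π d (π t z) = ν d⁻¹ • π t z := by
  have h1 : π (d : G) (π t z) = π (d * t) z := by simp [map_mul]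
  rw [h1, hR.mul_t d.2, map_mul, Module.End.mul_apply]
  have := hz d⁻¹
  rw [Subgroup.coe_inv] at this
  rw [this, map_smul]

theorem char_T (hR : RankOne p H D t) {ν : D →* k} {z : V}
    (hz : ∀ d : D, π d z = ν d • z) (d : D) :
    π d (xH π H (π t z)) = ν d⁻¹ • xH π H (π t z) := by
  rw [xH_D hR.DH π d.2, char_t π hR hz, map_smul]

theorem t_xH_t (z : V) : π t (xH π H (π t z)) = ∑ w : H, π t (π w (π t z)) := by
  rw [xH_apply, map_sum]

theorem tt_apply (hR : RankOne p H D t) (z : V) : π t (π t z) = z := by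
  have : π t (π t z) = π (t * t) z := by simp [map_mul]
  rw [this, hR.htt]
  simp

theorem TT [CharP k p] (hR : RankOne p H D t) {Y : H → D}
    (hY : ∀ w : H, (w : G) ≠ 1 → ∃ α ∈ H, ∃ α' ∈ H, t * w * t = α * (Y w : G) * t * α')
    {ν : D →* k} {z : V} (hzH : ∀ u ∈ H, π u z = z) (hz : ∀ d : D, π d z = ν d • z) :
    xH π H (π t (xH π H (π t z))) = Ssum ν Y • xH π H (π t z) := by
  rw [t_xH_t, map_sum, ← Finset.add_sum_erase Finset.univ _ (Finset.mem_univ (1 : H))]
  have h1 : xH π H (π t (π ((1 : H) : G) (π t z))) = 0 := by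
    rw [Subgroup.coe_one, map_one, Module.End.one_apply, tt_apply π hR]
    exact xH_fixed hR.pg hR.ntH π hzH
  rw [h1, zero_add, Ssum, Finset.sum_smul]
  refine Finset.sum_congr rfl fun w hw => ?_
  have hw1 : (w : G) ≠ 1 := by
    intro h
    exact (Finset.mem_erase.mp hw).1 (Subtype.ext h)
  obtain ⟨α, hα, α', hα', h⟩ := hY w hw1
  rw [key_w π h (hzH α' hα'), xH_right π hα, ← xH_D hR.DH π (Y w).2, ← char_T π hR hz]

theorem ell_t_T [CharP k p] (hR : RankOne p H D t) {Y : H → D}
    (hY : ∀ w : H, (w : G) ≠ 1 → ∃ α ∈ H, ∃ α' ∈ H, t * w * t = α * (Y w : G) * t * α')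
    {ν : D →* k} {z : V} (hzH : ∀ u ∈ H, π u z = z) (hz : ∀ d : D, π d z = ν d • z)
    (ℓ : Module.Dual k V) (hℓ : ∀ u ∈ H, ∀ z, ℓ (π u z) = ℓ z) :
    ℓ (π t (xH π H (π t z))) = ℓ z + Ssum ν Y * ℓ (π t z) := by
  rw [t_xH_t, map_sum, ← Finset.add_sum_erase Finset.univ _ (Finset.mem_univ (1 : H))]
  have h1 : ℓ (π t (π ((1 : H) : G) (π t z))) = ℓ z := by
    rw [Subgroup.coe_one, map_one, Module.End.one_apply, tt_apply π hR]
  rw [h1, Ssum, Finset.sum_mul]
  congr 1
  refine Finset.sum_congr rfl fun w hw => ?_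
  have hw1 : (w : G) ≠ 1 := by
    intro h
    exact (Finset.mem_erase.mp hw).1 (Subtype.ext h)
  obtain ⟨α, hα, α', hα', h⟩ := hY w hw1
  rw [key_w π h (hzH α' hα'), hℓ α hα, char_t π hR hz, map_smul, smul_eq_mul]

end Computation

section Signature

variable [CharP k p] [IsAlgClosed k] [FiniteDimensional k V] [Nontrivial V]

theorem exists_H_D_eigen (hR : RankOne p H D t) (π : G →* Module.End k V) :
    ∃ (ν : D →* k) (v : V), v ≠ 0 ∧ (∀ u ∈ H, π u v = v) ∧ ∀ d : D, π d v = ν d • v := by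
  let W : Submodule k V :=
    { carrier := {z | ∀ u ∈ H, π u z = z}
      add_mem' := fun {a b} ha hb u hu => by rw [map_add, ha u hu, hb u hu]
      zero_mem' := fun u _ => map_zero _
      smul_mem' := fun c z hz u hu => by rw [map_smul, hz u hu] }
  have hW : W ≠ ⊥ := by
    obtain ⟨v, hv, hv1⟩ := exists_fixed hR.pg (π.comp H.subtype)
    apply (Submodule.ne_bot_iff _).mpr
    exact ⟨v, fun u hu => hv1 ⟨u, hu⟩, hv⟩
  have hst : ∀ d : D, ∀ x ∈ W, π d x ∈ W := by
    intro d x hx u hu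
    have h1 := hx _ (hR.DH _ (D.inv_mem d.2) u hu)
    have h2 : (u : G) * d = d * ((d : G)⁻¹ * u * (d : G)⁻¹⁻¹) := by group
    rw [← Module.End.mul_apply, ← map_mul, h2, map_mul, Module.End.mul_apply, h1]
  obtain ⟨v, hv, hv0, heig⟩ := exists_common_eigen (Finset.univ : Finset D) (fun d : D => π d)
    (fun d d' => by rw [← map_mul, ← map_mul, hR.comm d.2 d'.2]) W hW hst
  choose μ hμ using fun d : D => heig d (Finset.mem_univ d)
  have hinj : Function.Injective fun c : k => c • v := smul_left_injective k hv0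
  let ν : D →* k :=
    { toFun := μ
      map_one' := by
        apply hinj
        show μ 1 • v = (1 : k) • v
        rw [← hμ 1, one_smul]
        simp
      map_mul' := fun a b => by
        apply hinj
        show μ (a * b) • v = (μ a * μ b) • v
        have h1 : π ((a * b : D) : G) v = π a (π b v) := by simp [map_mul]
        rw [← hμ (a * b), h1, hμ b, map_smul, hμ a, smul_smul, mul_comm] }
  exact ⟨ν, v, hv0, hv, hμ⟩

theorem exists_ell (hR : RankOne p H D t) (π : G →* Module.End k V) :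
    ∃ ℓ : Module.Dual k V, ℓ ≠ 0 ∧ ∀ u ∈ H, ∀ z, ℓ (π u z) = ℓ z := by
  obtain ⟨w, hw⟩ := exists_ne (0 : V)
  haveI : Nontrivial (Module.Dual k V) := by
    obtain ⟨ψ, hψ⟩ : ∃ ψ : Module.Dual k V, ψ w ≠ 0 := by
      by_contra hcon
      push Not at hcon
      exact hw ((Module.forall_dual_apply_eq_zero_iff k w).mp hcon)
    exact ⟨ψ, 0, fun h => hψ (by rw [h]; simp)⟩
  let π' : H →* Module.End k (Module.Dual k V) :=
    { toFun := fun u => (π ((u : G)⁻¹)).dualMap
      map_one' := by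
        ext ℓ z
        simp
      map_mul' := fun a b => by
        ext ℓ z
        simp [map_mul, LinearMap.dualMap_apply] }
  obtain ⟨ℓ, hℓ, hℓ1⟩ := exists_fixed hR.pg π'
  refine ⟨ℓ, hℓ, fun u hu z => ?_⟩
  have h1 := hℓ1 ⟨u, hu⟩⁻¹
  have h2 := congrArg (fun f : Module.Dual k V => f z) h1
  simpa [π', LinearMap.dualMap_apply] using h2

/-- The signature of an irreducible representation. -/
theorem exists_signature (hR : RankOne p H D t) (π : G →* Module.End k V)
    (hirr : ∀ w : V, w ≠ 0 → ∀ z : V, ∃ c : G → k, ∑ g, c g • π g w = z) :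
    ∃ (ν : D →* k) (v : V) (ℓ : Module.Dual k V), v ≠ 0 ∧ ℓ ≠ 0 ∧ (∀ u ∈ H, π u v = v) ∧
      (∀ d : D, π d v = ν d • v) ∧ (∀ u ∈ H, ∀ z, ℓ (π u z) = ℓ z) ∧
      (ν ≠ 1 → ℓ v = 0) ∧ (ν = 1 → ℓ v = 0 ∨ ℓ v = ℓ (π t v)) := by
  obtain ⟨ν, v, hv0, hvH, hvD⟩ := exists_H_D_eigen hR π
  obtain ⟨ℓ, hℓ0, hℓ⟩ := exists_ell hR π
  obtain ⟨Y, hY⟩ := hR.exists_Y
  have hrel := ell_t_T π hR hY hvH hvD ℓ hℓ
  have hTT := TT π hR hY hvH hvD
  set w := xH π H (π t v) with hw
  have hwH : ∀ u ∈ H, π u w = w := fun u hu => xH_left π hu _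
  have hwD : ∀ d : D, π d w = ν d⁻¹ • w := fun d => char_T π hR hvD d
  by_cases hν : ν = 1
  · -- trivial character
    subst hν
    rw [Ssum_one hR Y] at hTT hrel
    by_cases hw0 : w = 0
    · refine ⟨1, v, ℓ, hv0, hℓ0, hvH, hvD, hℓ, fun h => absurd rfl h, fun _ => Or.inr ?_⟩
      rw [hw0, map_zero, map_zero] at hrel
      linear_combination -hrel
    · refine ⟨1, w, ℓ, hw0, hℓ0, hwH, ?_, hℓ, fun h => absurd rfl h, fun _ => Or.inl ?_⟩
      · intro d
        rw [hwD]
        simp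
      · exact ell_xH hR.pg hR.ntH π ℓ hℓ _
  · -- non-trivial character
    have hS := Ssum_eq_zero hR hY ν hν
    rw [hS, zero_smul] at hTT
    rw [hS, zero_mul, add_zero] at hrel
    by_cases hw0 : w = 0
    · refine ⟨ν, v, ℓ, hv0, hℓ0, hvH, hvD, hℓ, fun _ => ?_, fun h => absurd h hν⟩
      rw [← hrel, hw0, map_zero, map_zero]
    · -- `w ≠ 0` is impossible
      exfalso
      apply hw0
      have hTw : xH π H (π t w) = 0 := hTT
      -- `T` kills everything
      have hTg : ∀ g : G, xH π H (π t (π g w)) = 0 := by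
        intro g
        rcases hR.bruhat g with ⟨u, hu, b, hb, rfl⟩ | ⟨u, hu, w', hw', b, hb, rfl⟩
        · have h1 : π (u * b) w = ν (⟨b, hb⟩ : D)⁻¹ • w := by
            rw [map_mul, Module.End.mul_apply, hwD ⟨b, hb⟩, map_smul, hwH u hu]
          rw [h1, map_smul, map_smul, hTw, smul_zero]
        · have h1 : π (u * t * w' * b) w = ν (⟨b, hb⟩ : D)⁻¹ • π u (π t w) := by
            rw [map_mul, map_mul, map_mul, Module.End.mul_apply, Module.End.mul_apply,
              Module.End.mul_apply, hwD ⟨b, hb⟩, map_smul, map_smul, map_smul, hwH w' hw']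
          rw [h1, map_smul, map_smul]
          by_cases hu1 : u = 1
          · subst hu1
            rw [map_one, Module.End.one_apply, tt_apply π hR, xH_fixed hR.pg hR.ntH π hwH, smul_zero]
          · obtain ⟨α, hα, y, hy, α', hα', hform⟩ := hR.form u hu hu1
            rw [key_w π hform (hwH α' hα'), xH_right π hα, ← xH_D hR.DH π hy, hTw, map_zero,
              smul_zero]
      have hall : ∀ z : V, xH π H (π t z) = 0 := by
        intro z
        obtain ⟨c, hc⟩ := hirr w hw0 z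
        rw [← hc, map_sum, map_sum]
        refine Finset.sum_eq_zero fun g _ => ?_
        rw [map_smul, map_smul, hTg, smul_zero]
      exact hall v

end Signature

end Rep

section Main

open scoped Classical

variable {k G : Type*} [Field k] [IsAlgClosed k] [Group G] [Fintype G] {p : ℕ} [Fact p.Prime]
  [CharP k p] {H D : Subgroup G} {t : G}

/-- Two representations with proportional matrix coefficients cannot be jointly surjective. -/
theorem line_contra {n : ℕ} {V : Fin n → Type*} [∀ i, AddCommGroup (V i)] [∀ i, Module k (V i)]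
    (σ : ∀ i, MonoidAlgebra k G →ₐ[k] Module.End k (V i))
    (hσ : ∀ f : ∀ i, Module.End k (V i), ∃ x, ∀ i, σ i x = f i)
    {i j : Fin n} (hij : i ≠ j) (v : ∀ i, V i) (ℓ : ∀ i, Module.Dual k (V i))
    (hv : ∀ i, v i ≠ 0) (hℓ : ∀ i, ℓ i ≠ 0) (c : Fin n → k)
    (hline : ∀ g : G, ∃ κ : k, ℓ i (σ i (MonoidAlgebra.single g 1) (v i)) = κ * c i ∧
      ℓ j (σ j (MonoidAlgebra.single g 1) (v j)) = κ * c j) : False := by
  choose κ hκ using hline
  have hex : ∀ i : Fin n, ∃ f : Module.End k (V i), ℓ i (f (v i)) = 1 := by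
    intro i
    obtain ⟨z, hz⟩ : ∃ z, ℓ i z ≠ 0 := by
      by_contra hcon
      push Not at hcon
      exact hℓ i (LinearMap.ext hcon)
    obtain ⟨ψ, hψ⟩ : ∃ ψ : Module.Dual k (V i), ψ (v i) ≠ 0 := by
      by_contra hcon
      push Not at hcon
      exact hv i ((Module.forall_dual_apply_eq_zero_iff k (v i)).mp hcon)
    refine ⟨((ψ (v i))⁻¹ * (ℓ i z)⁻¹) • ψ.smulRight z, ?_⟩
    simp only [LinearMap.smul_apply, LinearMap.smulRight_apply, map_smul, smul_eq_mul]
    field_simp
  have hexp : ∀ (a : Fin n) (x : MonoidAlgebra k G),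
      ℓ a (σ a x (v a)) = ∑ g, x.coeff g * ℓ a (σ a (MonoidAlgebra.single g 1) (v a)) := by
    intro a x
    conv_lhs => rw [eq_sum_single x]
    rw [map_sum, LinearMap.sum_apply, map_sum]
    refine Finset.sum_congr rfl fun g _ => ?_
    have : (MonoidAlgebra.single g (x.coeff g) : MonoidAlgebra k G)
        = x.coeff g • MonoidAlgebra.single g 1 := by simp
    rw [this, map_smul, LinearMap.smul_apply, map_smul, smul_eq_mul]
  -- the element that is `f` on `i` and `0` on `j`, and conversely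
  have hsep : ∀ a b : Fin n, a ≠ b → ∃ x : MonoidAlgebra k G,
      ℓ a (σ a x (v a)) = 1 ∧ ℓ b (σ b x (v b)) = 0 := by
    intro a b hab
    obtain ⟨f, hf⟩ := hex a
    obtain ⟨x, hx⟩ := hσ (fun e => if h : e = a then h ▸ f else 0)
    refine ⟨x, ?_, ?_⟩
    · rw [hx a]
      simpa using hf
    · rw [hx b, dif_neg hab.symm]
      simp
  obtain ⟨x, hx1, hx2⟩ := hsep i j hij
  obtain ⟨y, hy1, hy2⟩ := hsep j i hij.symm
  rw [hexp] at hx1 hx2 hy1 hy2
  simp only [fun g => (hκ g).1, fun g => (hκ g).2, ← mul_assoc, ← Finset.sum_mul] at hx1 hx2 hy1 hy2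
  have hci : c i ≠ 0 := by
    rintro h
    rw [h, mul_zero] at hx1
    exact zero_ne_one hx1
  have hcj : c j ≠ 0 := by
    rintro h
    rw [h, mul_zero] at hy1
    exact zero_ne_one hy1
  rcases mul_eq_zero.mp hx2 with h | h
  · rw [h, zero_mul] at hx1
    exact zero_ne_one hx1
  · exact hcj h

/-- **The number of simple modules** of a group with a split BN-pair of rank one is at most
`|D| + 1`. -/
theorem card_factors_le (hR : RankOne p H D t) {n : ℕ} {d : Fin n → ℕ} [∀ i, NeZero (d i)]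
    (ρ : MonoidAlgebra k G →ₐ[k] Π i, Matrix (Fin (d i)) (Fin (d i)) k)
    (hρ : Function.Surjective ρ) : n ≤ Nat.card D + 1 := by
  -- the representations
  let V : Fin n → Type _ := fun i => Fin (d i) → k
  let σ : ∀ i, MonoidAlgebra k G →ₐ[k] Module.End k (V i) := fun i =>
    (Matrix.toLinAlgEquiv' (R := k) (n := Fin (d i))).toAlgHom.comp
      ((Pi.evalAlgHom k (fun i => Matrix (Fin (d i)) (Fin (d i)) k) i).comp ρ)
  have hσ : ∀ f : ∀ i, Module.End k (V i), ∃ x, ∀ i, σ i x = f i := by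
    intro f
    obtain ⟨x, hx⟩ := hρ fun i => (Matrix.toLinAlgEquiv' (R := k) (n := Fin (d i))).symm (f i)
    refine ⟨x, fun i => ?_⟩
    show Matrix.toLinAlgEquiv' ((ρ x) i) = f i
    rw [hx]
    simp
  let π : ∀ i, G →* Module.End k (V i) := fun i =>
    (σ i).toMonoidHom.comp (MonoidAlgebra.of k G)
  have hπσ : ∀ i g, π i g = σ i (MonoidAlgebra.single g 1) := fun i g => rfl
  haveI : ∀ i, Nontrivial (V i) := fun i => by
    haveI : Nonempty (Fin (d i)) := ⟨0⟩
    exact inferInstanceAs (Nontrivial (Fin (d i) → k))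
  have hirr : ∀ i, ∀ w : V i, w ≠ 0 → ∀ z : V i, ∃ c : G → k, ∑ g, c g • π i g w = z := by
    intro i w hw z
    obtain ⟨ψ, hψ⟩ : ∃ ψ : Module.Dual k (V i), ψ w ≠ 0 := by
      by_contra hcon
      push Not at hcon
      exact hw ((Module.forall_dual_apply_eq_zero_iff k w).mp hcon)
    obtain ⟨x, hx⟩ := hσ (fun e => if h : e = i then h ▸ ((ψ w)⁻¹ • ψ.smulRight z) else 0)
    have hx1 : σ i x = (ψ w)⁻¹ • ψ.smulRight z := by
      rw [hx i]
      simp
    refine ⟨fun g => x.coeff g, ?_⟩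
    have h2 : σ i x w = z := by
      rw [hx1]
      simp only [LinearMap.smul_apply, LinearMap.smulRight_apply]
      rw [smul_smul, inv_mul_cancel₀ hψ, one_smul]
    rw [← h2]
    conv_rhs => rw [eq_sum_single x]
    rw [map_sum, LinearMap.sum_apply]
    refine Finset.sum_congr rfl fun g _ => ?_
    have : (MonoidAlgebra.single g (x.coeff g) : MonoidAlgebra k G)
        = x.coeff g • MonoidAlgebra.single g 1 := by simp
    rw [this, map_smul, LinearMap.smul_apply, hπσ]
  choose ν v ℓ hv hℓ hvH hvD hℓH hν1 hν2 using fun i => exists_signature hR (π i) (hirr i)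
  have hform1 : ∀ (a : Fin n) (u b : G) (hu : u ∈ H) (hb : b ∈ D),
      ℓ a (π a (u * b) (v a)) = ν a ⟨b, hb⟩ * ℓ a (v a) := by
    intro a u b hu hb
    rw [map_mul, Module.End.mul_apply, hℓH a u hu, hvD a ⟨b, hb⟩, map_smul, smul_eq_mul]
  have hform2 : ∀ (a : Fin n) (u w b : G) (hu : u ∈ H) (hw : w ∈ H) (hb : b ∈ D),
      ℓ a (π a (u * t * w * b) (v a)) = ν a ⟨b, hb⟩ * ℓ a (π a t (v a)) := by
    intro a u w b hu hw hb
    rw [map_mul, map_mul, map_mul, Module.End.mul_apply, Module.End.mul_apply,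
      Module.End.mul_apply, hℓH a u hu, hvD a ⟨b, hb⟩, map_smul, map_smul, map_smul, hvH a w hw,
      smul_eq_mul]
  let c : Fin n → Option (D →* k) := fun i => if ℓ i (v i) ≠ 0 then none else some (ν i)
  have hinj : Function.Injective c := by
    intro i j hc
    by_contra hij
    by_cases hi : ℓ i (v i) = 0 <;> by_cases hj : ℓ j (v j) = 0
    · -- both vanish
      have hνν : ν i = ν j := by
        have h : c i = c j := hc
        simp only [c, hi, hj, ne_eq, not_true_eq_false, if_false] at h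
        exact Option.some.inj h
      refine line_contra σ hσ hij v ℓ hv hℓ (fun a => ℓ a (π a t (v a))) fun g => ?_
      rcases hR.bruhat g with ⟨u, hu, b, hb, rfl⟩ | ⟨u, hu, w, hw, b, hb, rfl⟩
      · refine ⟨0, ?_, ?_⟩
        · rw [← hπσ, hform1 i u b hu hb, hi]
          simp
        · rw [← hπσ, hform1 j u b hu hb, hj]
          simp
      · refine ⟨ν i ⟨b, hb⟩, ?_, ?_⟩
        · rw [← hπσ, hform2 i u w b hu hw hb]
        · rw [← hπσ, hform2 j u w b hu hw hb, hνν]
    · have h : c i = c j := hc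
      simp [c, hi, hj] at h
    · have h : c i = c j := hc
      simp [c, hi, hj] at h
    · -- neither vanishes
      have hone : ∀ a, ℓ a (v a) ≠ 0 → ν a = 1 := by
        intro a ha
        by_contra hne
        exact ha (hν1 a hne)
      have hst : ∀ a, ℓ a (v a) ≠ 0 → ℓ a (v a) = ℓ a (π a t (v a)) := by
        intro a ha
        exact (hν2 a (hone a ha)).resolve_left ha
      refine line_contra σ hσ hij v ℓ hv hℓ (fun a => ℓ a (v a)) fun g => ?_
      refine ⟨1, ?_, ?_⟩
      · rcases hR.bruhat g with ⟨u, hu, b, hb, rfl⟩ | ⟨u, hu, w, hw, b, hb, rfl⟩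
        · rw [← hπσ, hform1 i u b hu hb, hone i hi]
          simp
        · rw [← hπσ, hform2 i u w b hu hw hb, hone i hi, ← hst i hi]
          simp
      · rcases hR.bruhat g with ⟨u, hu, b, hb, rfl⟩ | ⟨u, hu, w, hw, b, hb, rfl⟩
        · rw [← hπσ, hform1 j u b hu hb, hone j hj]
          simp
        · rw [← hπσ, hform2 j u w b hu hw hb, hone j hj, ← hst j hj]
          simp
  let s : Finset (D →* k) := Finset.univ.image ν
  have hcard : (Finset.univ : Finset (Fin n)).card ≤ (Finset.insertNone s).card := by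
    refine Finset.card_le_card_of_injOn c ?_ hinj.injOn
    intro i _
    rw [Finset.mem_coe, Finset.mem_insertNone]
    intro b hb
    have h : c i = some b := hb
    simp only [c] at h
    split_ifs at h with h1
    exact Finset.mem_image.mpr ⟨i, Finset.mem_univ _, Option.some.inj h⟩
  rw [Finset.card_univ, Fintype.card_fin, Finset.card_insertNone] at hcard
  have hs : s.card ≤ Nat.card D := by
    have hli := linearIndependent_monoidHom D k
    have h2 := hli.comp (Subtype.val : s → (D →* k)) Subtype.val_injective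
    have h3 := h2.fintype_card_le_finrank
    rw [Module.finrank_fintype_fun_eq_card, Fintype.card_coe] at h3
    rwa [Nat.card_eq_fintype_card]
  omega

end Main

end Cfsg.Agent.Lib.Zass.Mod2
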