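import Mathlib
import Cfsg.Agent.Lib.Zass.Mod2
import Cfsg.Agent.Lib.Zass.OddSimple

/-!
# The modular count for Zassenhaus groups

If the kernel `H` of a point stabiliser of a Zassenhaus group is a `p`-group and two-point stabilisers
have odd order `e`, then at most `e` conjugacy classes avoid `H`.
-/

set_option autoImplicit false
set_option linter.style.haveILetI false
set_option linter.unusedSectionVars false

namespace Cfsg.Agent.Lib.Zass.Mod3

open MulAction Cfsg Cfsg.Agent.Lib.Zass.Basic Cfsg.Agent.Lib.Zass.Invol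
  Cfsg.Agent.Lib.Zass.OddSimple Cfsg.Agent.Lib.Zass.Mod1 Cfsg.Agent.Lib.Zass.Mod2

universe u v

variable {G : Type u} {Ω : Type v} [Group G] [MulAction G Ω] (hZ : IsZassenhausGroup G Ω) [Finite Ω]
  [IsSimpleGroup G]

include hZ

theorem rankOne {p : ℕ} [Fact p.Prime] {a b : Ω} (hab : a ≠ b)
    (hodd : Odd (Nat.card ↥(stabilizer G a ⊓ stabilizer G b)))
    (hp : IsPGroup p (kernel hZ a)) :
    ∃ t : G, RankOne p (kernel hZ a) (stabilizer G a ⊓ stabilizer G b) t := by
  have hO := odd_all hZ hab hodd
  obtain ⟨t, htt, hta, htb⟩ := exists_swap hZ hab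
  have hti : t⁻¹ = t := inv_eq_of_mul_eq_one_left htt
  have hinv : ∀ d ∈ stabilizer G a ⊓ stabilizer G b, t * d * t = d⁻¹ := by
    intro d hd
    have := inverted hZ hO hab hta htb hd
    rwa [hti] at this
  have hbr : ∀ g : G, g • a ≠ a → ∃ u ∈ kernel hZ a, ∃ w ∈ kernel hZ a,
      ∃ x ∈ stabilizer G a ⊓ stabilizer G b, g = u * t * w * x := by
    intro g hga
    obtain ⟨u, hu, huc⟩ := exists_kernel_smul hZ (a := a) (c := b) (d := g • a) hab.symm hga
    have hy : (t * u⁻¹ * g) • a = a := by
      rw [mul_smul, mul_smul, ← huc, inv_smul_smul, htb]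
    obtain ⟨w, hw, x, hxa, hxb, hyx⟩ := exists_decomp hZ hab hy
    refine ⟨u, hu, w, hw, x, ⟨hxa, hxb⟩, ?_⟩
    have h1 : u * t * w * x = u * t * (w * x) := by group
    rw [h1, ← hyx]
    have h2 : u * t * (t * u⁻¹ * g) = u * (t * t) * u⁻¹ * g := by group
    rw [h2, htt]
    group
  refine ⟨t, ?_⟩
  exact
    { htt := htt
      tD := hinv
      DH := fun d hd u hu => conj_mem_kernel_of_fix hZ hd.1 hu
      bruhat := by
        intro g
        by_cases hga : g • a = a
        · obtain ⟨u, hu, x, hxa, hxb, rfl⟩ := exists_decomp hZ hab hga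
          exact Or.inl ⟨u, hu, x, ⟨hxa, hxb⟩, rfl⟩
        · exact Or.inr (hbr g hga)
      form := by
        intro w hw hw1
        have hga : (t * w * t) • a ≠ a := by
          rw [mul_smul, mul_smul, hta]
          intro h
          have h2 := congrArg (fun c : Ω => t • c) h
          simp only [hta] at h2
          rw [← mul_smul, htt, one_smul] at h2
          exact smul_ne_of_kernel hZ hab.symm hw hw1 h2
        obtain ⟨u, hu, w', hw', x, hx, h⟩ := hbr _ hga
        have hxi : x⁻¹ ∈ stabilizer G a ⊓ stabilizer G b := Subgroup.inv_mem _ hx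
        refine ⟨u, hu, x⁻¹, hxi, x⁻¹ * w' * x, ?_, ?_⟩
        · have := conj_mem_kernel_of_fix hZ (g := x⁻¹) hxi.1 hw'
          simpa using this
        · rw [h]
          have h2 : t * x = x⁻¹ * t := by
            have := hinv x hx
            rw [← this]
            have : t * x * t * t = t * x * (t * t) := by group
            rw [this, htt, mul_one]
          have h3 : u * x⁻¹ * t * (x⁻¹ * w' * x) = u * (x⁻¹ * t) * x⁻¹ * w' * x := by group
          rw [h3, ← h2]
          group
      uniq := by
        intro α hα y hy α' hα' β hβ z hz β' hβ' h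
        have h1 : α • b = β • b := by
          have := congrArg (fun g : G => g • a) h
          have hyb : y • b = b := hy.2
          have hzb : z • b = b := hz.2
          simp only [mul_smul, kernel_smul hZ hα', kernel_smul hZ hβ', hta, hyb, hzb] at this
          exact this
        have h2 : α = β := kernel_eq_of_smul_eq hZ hab.symm hα hβ h1
        subst h2
        have h3 : y * t * α' = z * t * β' := by
          have h4 : α * y * t * α' = α * (y * t * α') := by group
          have h5 : α * z * t * β' = α * (z * t * β') := by group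
          rw [h4, h5] at h
          exact mul_left_cancel h
        have hzy : z⁻¹ * y ∈ stabilizer G a ⊓ stabilizer G b :=
          Subgroup.mul_mem _ (Subgroup.inv_mem _ hz) hy
        have h6 : (z⁻¹ * y)⁻¹ = β' * α'⁻¹ := by
          rw [← hinv _ hzy]
          have h7 : t * (z⁻¹ * y) * t = t * z⁻¹ * (y * t) := by group
          rw [h7]
          have h8 : y * t = z * t * β' * α'⁻¹ := by
            rw [← h3]
            group
          rw [h8]
          have h9 : t * z⁻¹ * (z * t * β' * α'⁻¹) = (t * t) * β' * α'⁻¹ := by group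
          rw [h9, htt, one_mul]
        have hmem : (z⁻¹ * y)⁻¹ ∈ kernel hZ a := by
          rw [h6]
          exact Subgroup.mul_mem _ hβ' (Subgroup.inv_mem _ hα')
        have hinD : (z⁻¹ * y)⁻¹ ∈ stabilizer G a ⊓ stabilizer G b := Subgroup.inv_mem _ hzy
        have h1' : (z⁻¹ * y)⁻¹ = 1 := by
          by_contra hne
          exact hab.symm (kernel_fix hZ hmem hne hinD.2)
        have h2' : z⁻¹ * y = 1 := inv_eq_one.mp h1'
        exact (inv_mul_eq_one.mp h2').symm
      pg := hp
      oddD := hodd
      ntH := kernel_ne_bot hZ a }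

/-- Elements of a class avoiding the `p`-group kernel have order prime to `p`. -/
theorem not_dvd_order {p : ℕ} [Fact p.Prime] {a : Ω} (hp : IsPGroup p (kernel hZ a)) {g : G}
    (hg : ∀ x : G, x * g * x⁻¹ ∉ kernel hZ a) : ¬ p ∣ orderOf g := by
  classical
  haveI := finite_of_finite hZ
  have hpp : p.Prime := Fact.out
  obtain ⟨k, hk⟩ := IsPGroup.iff_card.mp hp
  have hk0 : k ≠ 0 := by
    rintro rfl
    rw [pow_zero] at hk
    exact kernel_ne_bot hZ a (Subgroup.eq_bot_of_card_eq _ hk)
  have hpk : p ∣ Nat.card (kernel hZ a) := by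
    rw [hk]
    exact dvd_pow_self p hk0
  -- `p` does not divide the two-point stabilisers
  have hpe : ∀ c d : Ω, c ≠ d → ¬ p ∣ Nat.card ↥(stabilizer G c ⊓ stabilizer G d) := by
    intro c d hcd hdvd
    obtain ⟨b, hb⟩ := exists_other hZ a
    rw [card_two_point_eq hZ hcd hb] at hdvd
    have h1 := hdvd.trans (card_two_point_dvd hZ hb)
    have h2 : 0 < Nat.card (kernel hZ a) := Nat.card_pos
    have h3 : Nat.card (kernel hZ a) = (Nat.card (kernel hZ a) - 1) + 1 := by omega
    have h4 : p ∣ 1 := by
      have := (Nat.dvd_add_right h1).mp (h3 ▸ hpk)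
      exact this
    exact hpp.one_lt.ne' (Nat.dvd_one.mp h4)
  -- elements fixing two points have order prime to `p`
  have hfix2 : ∀ {z : G} {c d : Ω}, c ≠ d → z • c = c → z • d = d → ¬ p ∣ orderOf z := by
    intro z c d hcd hc hd hdvd
    have hm : z ∈ stabilizer G c ⊓ stabilizer G d := ⟨hc, hd⟩
    have h1 : orderOf (⟨z, hm⟩ : ↥(stabilizer G c ⊓ stabilizer G d)) = orderOf z :=
      Subgroup.orderOf_mk z hm
    have h2 := orderOf_dvd_natCard (⟨z, hm⟩ : ↥(stabilizer G c ⊓ stabilizer G d))
    rw [h1] at h2
    exact hpe c d hcd (hdvd.trans h2)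
  intro hdvd
  set z := g ^ (orderOf g / p) with hz
  have hzo : orderOf z = p := orderOf_pow_orderOf_div (orderOf_pos g).ne' hdvd
  -- `z` has a fixed point
  have hΓ : IsPGroup p (Subgroup.zpowers z) := by
    apply IsPGroup.of_card (n := 1)
    rw [Nat.card_zpowers, hzo, pow_one]
  have hcard : ¬ p ∣ Nat.card Ω := by
    rw [← card_kernel_add_one hZ a]
    intro h
    have h4 : p ∣ 1 := (Nat.dvd_add_right hpk).mp h
    exact hpp.one_lt.ne' (Nat.dvd_one.mp h4)
  obtain ⟨c, hc⟩ := hΓ.nonempty_fixed_point_of_prime_not_dvd_card Ω hcard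
  have hzc : z • c = c := hc ⟨z, Subgroup.mem_zpowers z⟩
  have hz_only : ∀ d, z • d = d → d = c := by
    intro d hd
    by_contra hne
    exact hfix2 hne hd hzc (by rw [hzo])
  have hcomm : g * z = z * g := (Commute.pow_right (Commute.refl g) _)
  have hgc : g • c = c := by
    apply hz_only
    rw [← mul_smul, ← hcomm, mul_smul, hzc]
  have hg_only : ∀ d, g • d = d → d = c := by
    intro d hd
    by_contra hne
    exact hfix2 hne hd hgc hdvd
  have hmem : g ∈ kernel hZ c := mem_kernel_of hZ hgc hg_only
  haveI := pretransitive hZ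
  obtain ⟨x, hx⟩ := MulAction.exists_smul_eq G c a
  have := conj_mem_kernel hZ x hmem
  rw [hx] at this
  exact hg x this

/-- **The modular count**: if the kernel is a `p`-group then at most `e` conjugacy classes avoid the
kernel. -/
theorem card_avoid_le {p : ℕ} [Fact p.Prime] {a b : Ω} (hab : a ≠ b)
    (hodd : Odd (Nat.card ↥(stabilizer G a ⊓ stabilizer G b)))
    (hp : IsPGroup p (kernel hZ a)) :
    Nat.card {C : ConjClasses G // ∀ g : G, ConjClasses.mk g = C → g ∉ kernel hZ a} ≤
      Nat.card ↥(stabilizer G a ⊓ stabilizer G b) := by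
  classical
  haveI := finite_of_finite hZ
  haveI := Fintype.ofFinite G
  obtain ⟨t, hR⟩ := rankOne hZ hab hodd hp
  let k := AlgebraicClosure (ZMod p)
  obtain ⟨n, d, hd, ρ, hρ, N, hN⟩ := exists_wedderburn k G
  haveI := hd
  have hn := card_factors_le hR ρ hρ
  let S : Finset (ConjClasses G) :=
    insert (ConjClasses.mk 1)
      (Finset.univ.filter fun C => ∀ g : G, ConjClasses.mk g = C → g ∉ kernel hZ a)
  have hS : ∀ C ∈ S, ∀ g : G, ConjClasses.mk g = C → ¬ p ∣ orderOf g := by
    intro C hC g hg
    rcases Finset.mem_insert.mp hC with rfl | hC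
    · have : g = 1 := by
        rw [ConjClasses.mk_eq_mk_iff_isConj] at hg
        exact isConj_one_right.mp hg.symm
      rw [this, orderOf_one]
      exact fun h => (Fact.out : p.Prime).one_lt.ne' (Nat.dvd_one.mp h)
    · have hC' := (Finset.mem_filter.mp hC).2
      apply not_dvd_order hZ hp
      intro x
      apply hC'
      rw [← hg, ConjClasses.mk_eq_mk_iff_isConj]
      exact (isConj_iff.mpr ⟨x, rfl⟩).symm
  have h1 := card_regular_classes_le (p := p) ρ hρ hN S hS
  have h2 : S.card = (Finset.univ.filter fun C : ConjClasses G =>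
      ∀ g : G, ConjClasses.mk g = C → g ∉ kernel hZ a).card + 1 := by
    apply Finset.card_insert_of_notMem
    intro h
    exact (Finset.mem_filter.mp h).2 1 rfl (Subgroup.one_mem _)
  rw [Nat.card_eq_fintype_card, Fintype.card_subtype]
  omega

end Cfsg.Agent.Lib.Zass.Mod3
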