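import Mathlib
import Cfsg.Agent.Lib.Zass.Rows2
import Cfsg.Agent.Lib.Char.GL2Irr
import Cfsg.Agent.Lib.Char.QuotRep

/-!
# Degrees of the irreducible characters of a nilpotent group

If `θ` is an irreducible character of a finite nilpotent group of degree `x > 1` then the sum of the
squares of the degrees of the irreducible characters of degree `< x` is at least `x²`.
-/

set_option autoImplicit false
set_option linter.unusedSectionVars false
set_option linter.style.haveILetI false

namespace Cfsg.Agent.Lib.Zass.Rows6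

open Cfsg Cfsg.Agent.Lib.Char.Induced Cfsg.Agent.Lib.Zass.Rows2
open Cfsg.Agent.Lib.Char.Ortho (fintype_irr)
open scoped ComplexConjugate
open Finset
open scoped Classical

universe u

/-- Mass of the irreducible characters of degree `< t`. -/
noncomputable def massBelow (K : Type*) [Group K] [Finite K] (t : ℕ) : ℕ :=
  ∑ θ ∈ univ.filter (fun θ : IrrCharacter K => dg (θ : K → ℂ) < t), dg (θ : K → ℂ) * dg (θ : K → ℂ)

/-- Sum of squares of degrees. -/
theorem sum_dg_sq (K : Type*) [Group K] [Finite K] :
    ∑ θ : IrrCharacter K, dg (θ : K → ℂ) * dg (θ : K → ℂ) = Nat.card K := by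
  haveI := Fintype.ofFinite K
  have h1 := Cfsg.Agent.Lib.Char.CompleteCor.sum_sq_degrees (G := K)
  have h2 : ((∑ θ : IrrCharacter K, dg (θ : K → ℂ) * dg (θ : K → ℂ) : ℕ) : ℂ) = (Nat.card K : ℂ) := by
    rw [← h1]
    push_cast
    refine Finset.sum_congr rfl fun θ _ => ?_
    rw [dg_coe θ.2, sq]
  exact_mod_cast h2

/-- Irreducible characters inflate along a surjection. -/
theorem massBelow_le_of_surjective {K K' : Type*} [Group K] [Finite K] [Group K'] [Finite K']
    (q : K →* K') (hq : Function.Surjective q) (t : ℕ) : massBelow K' t ≤ massBelow K t := by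
  set infl : IrrCharacter K' → IrrCharacter K := fun θ =>
    ⟨fun x => (θ : K' → ℂ) (q x), Cfsg.Agent.Lib.Char.Basic.isIrrCharacter_comp_surjective θ.2 q hq⟩ with hinfl
  have hdg : ∀ θ : IrrCharacter K', dg ((infl θ : IrrCharacter K) : K → ℂ) = dg (θ : K' → ℂ) := by
    intro θ
    simp only [hinfl, dg, map_one]
  have hinj : Function.Injective infl := by
    intro θ θ' h
    apply Subtype.ext
    funext y
    obtain ⟨x, rfl⟩ := hq y
    exact congrFun (congrArg Subtype.val h) x
  rw [massBelow, massBelow]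
  calc ∑ θ ∈ univ.filter (fun θ : IrrCharacter K' => dg (θ : K' → ℂ) < t), dg (θ : K' → ℂ) * dg (θ : K' → ℂ)
      = ∑ θ ∈ (univ.filter (fun θ : IrrCharacter K' => dg (θ : K' → ℂ) < t)).image infl,
          dg (θ : K → ℂ) * dg (θ : K → ℂ) := by
        rw [Finset.sum_image (fun _ _ _ _ h => hinj h)]
        refine Finset.sum_congr rfl fun θ _ => ?_
        rw [hdg]
    _ ≤ _ := by
        refine Finset.sum_le_sum_of_subset ?_
        intro θ hθ
        obtain ⟨θ', hθ', rfl⟩ := Finset.mem_image.mp hθ
        simp only [mem_filter, mem_univ, true_and] at hθ' ⊢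
        rw [hdg]
        exact hθ'

/-- `x² ≤ [K : M]` for `M` central. -/
theorem dg_sq_le_index {K : Type*} [Group K] [Finite K] {θ : K → ℂ} (hθ : IsIrrCharacter K θ)
    (M : Subgroup K) (hM : ∀ z ∈ M, ∀ g : K, g * z = z * g) : dg θ * dg θ ≤ M.index := by
  classical
  haveI := Fintype.ofFinite K
  have h1 := Cfsg.Agent.Lib.Char.Ortho.classInner_irr_self hθ
  rw [Cfsg.Agent.Lib.Char.Induced.classInner_def] at h1
  have hKpos : (0 : ℝ) < Nat.card K := by exact_mod_cast Nat.card_pos
  -- real form
  have h2 : ∑ g : K, ‖θ g‖ ^ 2 = (Nat.card K : ℝ) := by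
    have h3 : ∑ g : K, θ g * conj (θ g) = (Nat.card K : ℂ) := by
      have hc : (Nat.card K : ℂ) ≠ 0 := natCard_ne_zero_complex
      field_simp at h1
      linear_combination h1
    have h4 : ∀ g : K, θ g * conj (θ g) = ((‖θ g‖ ^ 2 : ℝ) : ℂ) := by
      intro g
      rw [Complex.mul_conj, Complex.normSq_eq_norm_sq]
    simp_rw [h4] at h3
    exact_mod_cast h3
  -- the values on `M`
  have h5 : ∀ z : M, ‖θ (z : K)‖ ^ 2 = ((dg θ * dg θ : ℕ) : ℝ) := by
    intro z
    have h6 := Cfsg.Agent.Lib.Char.GL2Irr.norm_of_central hθ (z : K) (fun g => hM z z.2 g)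
    rw [h6, ← dg_coe hθ]
    push_cast
    simp
    ring
  have h7 : ∑ z : M, ‖θ (z : K)‖ ^ 2 ≤ ∑ g : K, ‖θ g‖ ^ 2 := by
    have h8 : ∑ z : M, ‖θ (z : K)‖ ^ 2 = ∑ g ∈ univ.filter (fun g : K => g ∈ M), ‖θ g‖ ^ 2 := by
      symm
      refine Finset.sum_subtype _ (by simp) _
    rw [h8]
    exact Finset.sum_le_sum_of_subset_of_nonneg (Finset.filter_subset _ _) (fun _ _ _ => by positivity)
  simp_rw [h5] at h7
  rw [h2, Finset.sum_const, Finset.card_univ, nsmul_eq_mul, ← Nat.card_eq_fintype_card] at h7
  have h9 : Nat.card M * (dg θ * dg θ) ≤ Nat.card K := by exact_mod_cast h7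
  rw [← Subgroup.card_mul_index M] at h9
  exact Nat.le_of_mul_le_mul_left h9 Nat.card_pos

/-- **The degree lemma for nilpotent groups.** -/
theorem sq_le_massBelow : ∀ (n : ℕ) (K : Type u) [Group K] [Finite K] [Group.IsNilpotent K],
    Nat.card K = n → ∀ θ : IrrCharacter K, 1 < dg (θ : K → ℂ) →
      dg (θ : K → ℂ) * dg (θ : K → ℂ) ≤ massBelow K (dg (θ : K → ℂ)) := by
  intro n
  induction n using Nat.strong_induction_on with
  | _ n ih =>
    intro K _ _ _ hn θ hθ
    -- the group is nontrivial
    have hnt : Nontrivial K := by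
      by_contra hcon
      rw [not_nontrivial_iff_subsingleton] at hcon
      have h1 := sum_dg_sq K
      have h2 : Nat.card K = 1 := Nat.card_of_subsingleton 1
      have h3 : dg (θ : K → ℂ) * dg (θ : K → ℂ) ≤ ∑ θ : IrrCharacter K, dg (θ : K → ℂ) * dg (θ : K → ℂ) :=
        Finset.single_le_sum (f := fun θ : IrrCharacter K => dg (θ : K → ℂ) * dg (θ : K → ℂ))
          (fun _ _ => Nat.zero_le _) (mem_univ θ)
      rw [h1, h2] at h3
      nlinarith
    -- a central element of prime order
    have hZ : Nontrivial (Subgroup.center K) :=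
      (Subgroup.nontrivial_iff_ne_bot _).mpr (Group.IsNilpotent.center_ne_bot K)
    obtain ⟨z, hz⟩ := exists_ne (1 : Subgroup.center K)
    obtain ⟨p, hp, hpz⟩ := Nat.exists_prime_and_dvd (n := orderOf z) (by
      rw [Ne, orderOf_eq_one_iff]
      exact hz)
    -- the subgroup `M`
    set w : K := ((z : K)) ^ (orderOf z / p) with hw
    have hwc : ∀ g : K, g * w = w * g := by
      intro g
      have h1 : w ∈ Subgroup.center K := Subgroup.pow_mem _ z.2 _
      exact (Subgroup.mem_center_iff.mp h1 g)
    have hw1 : w ≠ 1 := by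
      intro h
      have h1 : z ^ (orderOf z / p) = 1 := by
        apply Subtype.ext
        simpa [hw] using h
      have h2 := orderOf_dvd_of_pow_eq_one h1
      have h3 := Nat.le_of_dvd (Nat.div_pos (Nat.le_of_dvd (orderOf_pos z) hpz) hp.pos) h2
      have h4 := Nat.div_lt_self (orderOf_pos z) hp.one_lt
      omega
    set M : Subgroup K := Subgroup.zpowers w with hM
    have hMc : ∀ y ∈ M, ∀ g : K, g * y = y * g := by
      intro y hy g
      obtain ⟨k, rfl⟩ := Subgroup.mem_zpowers_iff.mp hy
      exact (Commute.zpow_right (hwc g) k)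
    haveI hMn : M.Normal := by
      constructor
      intro y hy g
      have := hMc y hy g
      have h1 : g * y * g⁻¹ = y := by rw [this]; group
      rw [h1]
      exact hy
    have hMne : 1 < Nat.card M := by
      rw [Finite.one_lt_card_iff_nontrivial]
      exact ⟨⟨w, Subgroup.mem_zpowers w⟩, 1, fun h => hw1 (congrArg Subtype.val h)⟩
    have hcardQ : Nat.card (K ⧸ M) < n := by
      have h1 : Nat.card K = Nat.card M * Nat.card (K ⧸ M) := (Subgroup.card_mul_index M).symm
      rw [← hn, h1]
      have h2 : 0 < Nat.card (K ⧸ M) := Nat.card_pos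
      nlinarith
    have hq := massBelow_le_of_surjective (QuotientGroup.mk' M) (QuotientGroup.mk'_surjective M)
    set x := dg (θ : K → ℂ) with hx
    by_cases hall : ∀ θ' : IrrCharacter (K ⧸ M), dg (θ' : K ⧸ M → ℂ) < x
    · -- all the characters of the quotient are below
      have h1 : massBelow (K ⧸ M) x = Nat.card (K ⧸ M) := by
        rw [massBelow, Finset.filter_true_of_mem (fun θ' _ => hall θ')]
        exact sum_dg_sq _
      have h2 := dg_sq_le_index θ.2 M hMc
      calc x * x ≤ M.index := h2
        _ = Nat.card (K ⧸ M) := rfl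
        _ = massBelow (K ⧸ M) x := h1.symm
        _ ≤ massBelow K x := hq x
    · -- choose a character of the quotient of minimal degree at least `x`
      push Not at hall
      have hne : (univ.filter fun θ' : IrrCharacter (K ⧸ M) => x ≤ dg (θ' : K ⧸ M → ℂ)).Nonempty := by
        obtain ⟨θ', hθ'⟩ := hall
        exact ⟨θ', by simpa using hθ'⟩
      obtain ⟨θ₁, hθ₁, hmin⟩ := Finset.exists_min_image _ (fun θ' : IrrCharacter (K ⧸ M) => dg (θ' : K ⧸ M → ℂ)) hne
      simp only [mem_filter, mem_univ, true_and] at hθ₁ hmin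
      set x₁ := dg (θ₁ : K ⧸ M → ℂ) with hx₁
      have h3 := ih (Nat.card (K ⧸ M)) hcardQ (K ⧸ M) rfl θ₁ (by omega)
      -- the characters of degree `< x₁` are of degree `< x`
      have h4 : massBelow (K ⧸ M) x₁ ≤ massBelow (K ⧸ M) x := by
        rw [massBelow, massBelow]
        refine Finset.sum_le_sum_of_subset ?_
        intro θ' hθ'
        simp only [mem_filter, mem_univ, true_and] at hθ' ⊢
        by_contra hcon
        push Not at hcon
        have := hmin θ' hcon
        omega
      calc x * x ≤ x₁ * x₁ := Nat.mul_le_mul hθ₁ hθ₁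
        _ ≤ massBelow (K ⧸ M) x₁ := h3
        _ ≤ massBelow (K ⧸ M) x := h4
        _ ≤ massBelow K x := hq x

end Cfsg.Agent.Lib.Zass.Rows6
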