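import Mathlib
import Cfsg.Agent.Lib.Zass.Rows6

/-!
# The irreducible characters of a direct product; mass below a degree
-/

set_option autoImplicit false
set_option linter.unusedSectionVars false
set_option linter.style.haveILetI false

namespace Cfsg.Agent.Lib.Zass.Rows7

open Cfsg Cfsg.Agent.Lib.Char.Induced Cfsg.Agent.Lib.Zass.Rows2 Cfsg.Agent.Lib.Zass.Rows6
open Cfsg.Agent.Lib.Char.Ortho (fintype_irr classInner_irr)
open scoped ComplexConjugate
open Finset
open scoped Classical

universe u

variable {A C : Type*} [Group A] [Finite A] [Group C] [Finite C]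

/-- The tensor product of two functions. -/
def tens (α : A → ℂ) (β : C → ℂ) : A × C → ℂ := fun p => α p.1 * β p.2

theorem tens_isChar {α : A → ℂ} {β : C → ℂ} (hα : IsCharacter A α) (hβ : IsCharacter C β) :
    IsCharacter (A × C) (tens α β) :=
  Cfsg.Agent.Lib.Char.Basic.isCharacter_mul
    (Cfsg.Agent.Lib.Char.Basic.isCharacter_comp_hom hα (MonoidHom.fst A C))
    (Cfsg.Agent.Lib.Char.Basic.isCharacter_comp_hom hβ (MonoidHom.snd A C))

theorem classInner_tens [Fintype A] [Fintype C] (α α' : A → ℂ) (β β' : C → ℂ) :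
    classInner (tens α β) (tens α' β') = classInner α α' * classInner β β' := by
  simp only [classInner_def]
  rw [Fintype.sum_prod_type, Nat.card_prod]
  push_cast
  rw [mul_mul_mul_comm, Finset.sum_mul_sum]
  congr 1
  · rw [mul_inv, mul_comm]
  · refine Finset.sum_congr rfl fun a _ => Finset.sum_congr rfl fun c _ => ?_
    simp only [tens, map_mul]
    ring

theorem tens_isIrr {α : A → ℂ} {β : C → ℂ} (hα : IsIrrCharacter A α) (hβ : IsIrrCharacter C β) :
    IsIrrCharacter (A × C) (tens α β) := by
  haveI := Fintype.ofFinite A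
  haveI := Fintype.ofFinite C
  refine Cfsg.Agent.Lib.Char.Ortho.isIrrCharacter_of_classInner_self_eq_one
    (tens_isChar (Cfsg.Agent.Lib.Char.Basic.isCharacter_of_isIrrCharacter hα)
      (Cfsg.Agent.Lib.Char.Basic.isCharacter_of_isIrrCharacter hβ)) ?_
  rw [classInner_tens, Cfsg.Agent.Lib.Char.Ortho.classInner_irr_self hα,
    Cfsg.Agent.Lib.Char.Ortho.classInner_irr_self hβ, mul_one]

theorem tens_inj {α α' : A → ℂ} {β β' : C → ℂ} (hα : IsIrrCharacter A α) (hα' : IsIrrCharacter A α')
    (hβ : IsIrrCharacter C β) (hβ' : IsIrrCharacter C β') (h : tens α β = tens α' β') :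
    α = α' ∧ β = β' := by
  haveI := Fintype.ofFinite A
  haveI := Fintype.ofFinite C
  have h1 := classInner_tens α α' β β'
  rw [← h, classInner_tens, Cfsg.Agent.Lib.Char.Ortho.classInner_irr_self hα,
    Cfsg.Agent.Lib.Char.Ortho.classInner_irr_self hβ, mul_one] at h1
  rw [classInner_irr hα hα', classInner_irr hβ hβ'] at h1
  by_cases h2 : α = α'
  · by_cases h3 : β = β'
    · exact ⟨h2, h3⟩
    · rw [if_neg h3] at h1
      simp at h1
  · rw [if_neg h2] at h1
    simp at h1

theorem dg_tens (α : A → ℂ) (β : C → ℂ) (hα : IsIrrCharacter A α) (hβ : IsIrrCharacter C β) :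
    dg (tens α β) = dg α * dg β := by
  have h1 : tens α β 1 = ((dg α * dg β : ℕ) : ℂ) := by
    push_cast
    rw [dg_coe hα, dg_coe hβ]
    rfl
  rw [dg, h1, toN_natCast]

/-- The map on irreducible characters. -/
noncomputable def irrProd (p : IrrCharacter A × IrrCharacter C) : IrrCharacter (A × C) :=
  ⟨tens (p.1 : A → ℂ) (p.2 : C → ℂ), tens_isIrr p.1.2 p.2.2⟩

theorem irrProd_inj : Function.Injective (irrProd (A := A) (C := C)) := by
  rintro ⟨α, β⟩ ⟨α', β'⟩ h
  have h1 := congrArg Subtype.val h
  obtain ⟨h2, h3⟩ := tens_inj α.2 α'.2 β.2 β'.2 h1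
  rw [Prod.mk.injEq]
  exact ⟨Subtype.ext h2, Subtype.ext h3⟩

theorem dg_irrProd (p : IrrCharacter A × IrrCharacter C) :
    dg ((irrProd p : IrrCharacter (A × C)) : A × C → ℂ) = dg (p.1 : A → ℂ) * dg (p.2 : C → ℂ) :=
  dg_tens _ _ p.1.2 p.2.2

theorem irrProd_surj : Function.Surjective (irrProd (A := A) (C := C)) := by
  intro θ
  by_contra hcon
  push Not at hcon
  have h1 := sum_dg_sq (A × C)
  have h2 := sum_dg_sq A
  have h3 := sum_dg_sq C
  rw [Nat.card_prod, ← h2, ← h3, Finset.sum_mul_sum] at h1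
  have h4 : ∑ p ∈ (univ : Finset (IrrCharacter A × IrrCharacter C)).image irrProd,
      dg (p : A × C → ℂ) * dg (p : A × C → ℂ) =
      ∑ a : IrrCharacter A, ∑ c : IrrCharacter C, dg (a : A → ℂ) * dg (a : A → ℂ) *
        (dg (c : C → ℂ) * dg (c : C → ℂ)) := by
    rw [Finset.sum_image (fun _ _ _ _ h => irrProd_inj h), Fintype.sum_prod_type]
    refine Finset.sum_congr rfl fun a _ => Finset.sum_congr rfl fun c _ => ?_
    rw [dg_irrProd]
    ring
  have h5 : θ ∉ (univ : Finset (IrrCharacter A × IrrCharacter C)).image irrProd := by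
    simp only [mem_image, mem_univ, true_and, not_exists]
    exact hcon
  have h6 := Finset.sum_le_sum_of_subset (f := fun p : IrrCharacter (A × C) => dg (p : A × C → ℂ) * dg (p : A × C → ℂ))
    (Finset.subset_univ (insert θ ((univ : Finset (IrrCharacter A × IrrCharacter C)).image irrProd)))
  rw [Finset.sum_insert h5, h4, h1] at h6
  have h7 := dg_pos θ.2
  have h8 : 0 < dg (θ : A × C → ℂ) * dg (θ : A × C → ℂ) := Nat.mul_pos h7 h7
  omega

/-- The mass of a set of pairs. -/
theorem sum_pairs_le (S : Finset (IrrCharacter A × IrrCharacter C)) (t : ℕ)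
    (hS : ∀ p ∈ S, dg (p.1 : A → ℂ) * dg (p.2 : C → ℂ) < t) :
    ∑ p ∈ S, (dg (p.1 : A → ℂ) * dg (p.1 : A → ℂ)) * (dg (p.2 : C → ℂ) * dg (p.2 : C → ℂ)) ≤
      massBelow (A × C) t := by
  rw [massBelow]
  calc ∑ p ∈ S, (dg (p.1 : A → ℂ) * dg (p.1 : A → ℂ)) * (dg (p.2 : C → ℂ) * dg (p.2 : C → ℂ))
      = ∑ q ∈ S.image irrProd, dg (q : A × C → ℂ) * dg (q : A × C → ℂ) := by
        rw [Finset.sum_image (fun _ _ _ _ h => irrProd_inj h)]
        refine Finset.sum_congr rfl fun p _ => ?_
        rw [dg_irrProd]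
        ring
    _ ≤ _ := by
        refine Finset.sum_le_sum_of_subset ?_
        intro q hq
        obtain ⟨p, hp, rfl⟩ := Finset.mem_image.mp hq
        simp only [mem_filter, mem_univ, true_and]
        rw [dg_irrProd]
        exact hS p hp

/-- `massBelow` on a subset defined by bound on the two factors. -/
theorem mul_massBelow_le (x y t : ℕ) (h : ∀ a b, a < x → b < y → a * b < t) :
    massBelow A x * massBelow C y ≤ massBelow (A × C) t := by
  rw [massBelow, massBelow, Finset.sum_mul_sum, ← Finset.sum_product']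
  refine sum_pairs_le _ t ?_
  intro p hp
  simp only [mem_product, mem_filter, mem_univ, true_and] at hp
  exact h _ _ hp.1 hp.2

theorem massBelow_mono (K : Type*) [Group K] [Finite K] {s t : ℕ} (h : s ≤ t) :
    massBelow K s ≤ massBelow K t := by
  rw [massBelow, massBelow]
  refine Finset.sum_le_sum_of_subset ?_
  intro θ hθ
  simp only [mem_filter, mem_univ, true_and] at hθ ⊢
  omega

/-- The main estimate for a product. -/
theorem mass_prod {A C : Type u} [Group A] [Finite A] [Group C] [Finite C] [Group.IsNilpotent A]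
    [Group.IsNilpotent C] (e : ℕ) (he : 1 ≤ e)
    (hνA : e + 1 ≤ massBelow A 2) (hνC : e + 1 ≤ massBelow C 2)
    (hν : (e + 1) * (2 * e + 1) ≤ massBelow A 2 * massBelow C 2)
    (θ : IrrCharacter (A × C)) (hθ : 1 < dg (θ : A × C → ℂ)) :
    e * (2 * dg (θ : A × C → ℂ) + 1) + 1 < massBelow (A × C) (dg (θ : A × C → ℂ)) := by
  obtain ⟨⟨α₀, β₀⟩, rfl⟩ := irrProd_surj θ
  rw [dg_irrProd] at hθ ⊢
  simp only at hθ ⊢
  set x := dg (α₀ : A → ℂ) with hx
  set y := dg (β₀ : C → ℂ) with hy
  have hxp : 0 < x := dg_pos α₀.2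
  have hyp : 0 < y := dg_pos β₀.2
  by_cases hx1 : x = 1
  · -- `x = 1`, `y > 1`
    have hy1 : 1 < y := by
      rw [hx1, one_mul] at hθ
      exact hθ
    rw [hx1, one_mul]
    have h1 := sq_le_massBelow _ C rfl β₀ hy1
    rw [← hy] at h1
    have h2 : massBelow C 2 ≤ massBelow C y := massBelow_mono C hy1
    have h3 := mul_massBelow_le (A := A) (C := C) 2 y y (fun a b ha hb => by
      have : a ≤ 1 := by omega
      calc a * b ≤ 1 * b := Nat.mul_le_mul_right _ this
        _ = b := one_mul b
        _ < y := hb)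
    refine lt_of_lt_of_le ?_ h3
    by_cases hye : y ≤ e
    · have h4 : (e + 1) * (2 * e + 1) ≤ massBelow A 2 * massBelow C y :=
        hν.trans (Nat.mul_le_mul_left _ h2)
      nlinarith
    · have h4 : (e + 1) * (y * y) ≤ massBelow A 2 * massBelow C y := Nat.mul_le_mul hνA h1
      have hy2 : e + 1 ≤ y := by omega
      nlinarith
  · have hx2 : 1 < x := by omega
    have h1 := sq_le_massBelow _ A rfl α₀ hx2
    rw [← hx] at h1
    have h2 : massBelow A 2 ≤ massBelow A x := massBelow_mono A hx2
    by_cases hy1 : y = 1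
    · -- `y = 1`, `x > 1`
      rw [hy1, mul_one]
      have h3 := mul_massBelow_le (A := A) (C := C) x 2 x (fun a b ha hb => by
        have : b ≤ 1 := by omega
        calc a * b ≤ a * 1 := Nat.mul_le_mul_left _ this
          _ = a := mul_one a
          _ < x := ha)
      refine lt_of_lt_of_le ?_ h3
      by_cases hxe : x ≤ e
      · have h4 : (e + 1) * (2 * e + 1) ≤ massBelow A x * massBelow C 2 :=
          hν.trans (Nat.mul_le_mul_right _ h2)
        nlinarith
      · have h4 : (x * x) * (e + 1) ≤ massBelow A x * massBelow C 2 := Nat.mul_le_mul h1 hνC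
        have hx3 : e + 1 ≤ x := by omega
        nlinarith
    · -- both at least two
      have hy2 : 1 < y := by omega
      have h3 := sq_le_massBelow _ C rfl β₀ hy2
      rw [← hy] at h3
      have h4 : massBelow C 2 ≤ massBelow C y := massBelow_mono C hy2
      -- the pairs
      set U := univ.filter (fun α : IrrCharacter A => dg (α : A → ℂ) < x) with hU
      set V := univ.filter (fun β : IrrCharacter C => dg (β : C → ℂ) < y) with hV
      have hβ₀ : β₀ ∉ V := by
        simp [hV, hy]
      have hα₀ : α₀ ∉ U := by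
        simp [hU, hx]
      set S : Finset (IrrCharacter A × IrrCharacter C) :=
        U ×ˢ (insert β₀ V) ∪ ({α₀} : Finset (IrrCharacter A)) ×ˢ V with hS
      have hdis : Disjoint (U ×ˢ (insert β₀ V)) (({α₀} : Finset (IrrCharacter A)) ×ˢ V) := by
        rw [Finset.disjoint_left]
        rintro ⟨a, b⟩ h1 h2
        simp only [mem_product, mem_singleton] at h1 h2
        rw [h2.1] at h1
        exact hα₀ h1.1
      have hsum := sum_pairs_le S (x * y) (by
        rintro ⟨a, b⟩ hp
        simp only [hS, mem_union, mem_product, mem_insert, mem_singleton] at hp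
        rcases hp with ⟨h5, h6 | h6⟩ | ⟨h5, h6⟩
        · rw [h6]
          simp only [hU, mem_filter, mem_univ, true_and] at h5
          exact Nat.mul_lt_mul_of_lt_of_le h5 le_rfl hyp
        · simp only [hU, mem_filter, mem_univ, true_and] at h5
          simp only [hV, mem_filter, mem_univ, true_and] at h6
          exact Nat.mul_lt_mul_of_lt_of_le h5 h6.le hyp
        · rw [h5]
          simp only [hV, mem_filter, mem_univ, true_and] at h6
          exact Nat.mul_lt_mul_of_le_of_lt le_rfl h6 hxp)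
      refine lt_of_lt_of_le ?_ hsum
      rw [hS, Finset.sum_union hdis, Finset.sum_product, Finset.sum_product]
      simp only [Finset.sum_insert hβ₀, Finset.sum_singleton, ← Finset.mul_sum, Finset.sum_add_distrib,
        ← Finset.sum_mul]
      have hUm : ∑ a ∈ U, dg (a : A → ℂ) * dg (a : A → ℂ) = massBelow A x := rfl
      have hVm : ∑ b ∈ V, dg (b : C → ℂ) * dg (b : C → ℂ) = massBelow C y := rfl
      rw [hUm, hVm, ← hx, ← hy]
      set NA := massBelow A x with hNA
      set NC := massBelow C y with hNC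
      have hNAe : e + 1 ≤ NA := hνA.trans h2
      have hNCe : e + 1 ≤ NC := hνC.trans h4
      have h5 : (e + 1) * (y * y) ≤ NA * (y * y) := Nat.mul_le_mul_right _ hNAe
      have h6 : (x * x) * (e + 1) ≤ (x * x) * NC := Nat.mul_le_mul_left _ hNCe
      have h7 : (e + 1) * (e + 1) ≤ NA * NC := Nat.mul_le_mul hNAe hNCe
      have h8 : 2 * (x * y) ≤ x * x + y * y := by
        nlinarith [sq_nonneg ((x : ℤ) - y), Nat.zero_le (x * y)]
      have h9 : (e + 1) * (2 * (x * y)) ≤ (e + 1) * (x * x + y * y) := Nat.mul_le_mul_left _ h8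
      nlinarith

end Cfsg.Agent.Lib.Zass.Rows7
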