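import Mathlib
import Cfsg.Agent.Lib.Zass.Rows7
import Cfsg.Agent.Lib.Zass.Rows5
import Cfsg.Agent.Lib.Char.LinearChars

/-!
# Feit's theorem for kernels which are not `p`-groups
-/

set_option autoImplicit false
set_option linter.unusedSectionVars false
set_option linter.style.haveILetI false

namespace Cfsg.Agent.Lib.Zass.Rows8

open MulAction Cfsg Cfsg.Agent.Lib.Char.Induced Cfsg.Agent.Lib.Zass.Rows1 Cfsg.Agent.Lib.Zass.Rows2
  Cfsg.Agent.Lib.Zass.Rows3 Cfsg.Agent.Lib.Zass.Rows4 Cfsg.Agent.Lib.Zass.Rows5
  Cfsg.Agent.Lib.Zass.Rows6 Cfsg.Agent.Lib.Zass.Rows7 Cfsg.Agent.Lib.Zass.Basic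
open Cfsg.Agent.Lib.Char.Ortho (classInner_irr fintype_irr)
open scoped ComplexConjugate
open Finset
open scoped Classical

universe u v

/-- A finite nilpotent group which is not a `p`-group splits as a direct product of factors of
coprime orders. -/
theorem exists_split (K : Type u) [Group K] [Finite K] [Group.IsNilpotent K]
    (hnp : ∀ p : ℕ, p.Prime → ¬ IsPGroup p K) :
    ∃ (A C : Type u) (_ : Group A) (_ : Group C) (_ : K ≃* A × C),
      Nat.Coprime (Nat.card A) (Nat.card C) ∧ 1 < Nat.card A ∧ 1 < Nat.card C := by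
  have hK1 : Nat.card K ≠ 1 := by
    intro h
    apply hnp 2 Nat.prime_two
    exact IsPGroup.of_card (n := 0) (by simpa using h)
  obtain ⟨p, hp, hpd⟩ := Nat.exists_prime_and_dvd hK1
  haveI hpf : Fact p.Prime := ⟨hp⟩
  have hn : ∀ {q : ℕ} [Fact q.Prime] (P : Sylow q K), (P : Subgroup K).Normal := fun P =>
    Sylow.normal_of_normalizerCondition Group.normalizerCondition_of_isNilpotent P
  set E := Sylow.directProductOfNormal (G := K) hn with hE
  have hpmem : p ∈ (Nat.card K).primeFactors :=
    Nat.mem_primeFactors.mpr ⟨hp, hpd, Nat.card_pos.ne'⟩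
  set p₀ : (Nat.card K).primeFactors := ⟨p, hpmem⟩ with hp₀
  let F : (Nat.card K).primeFactors → Type u := fun q => ∀ P : Sylow (q : ℕ) K, P
  let E₂ : (∀ q, F q) ≃* F p₀ × (∀ q : {q // q ≠ p₀}, F q.1) :=
    { Equiv.piSplitAt p₀ F with
      map_mul' := fun _ _ => rfl }
  let φ : K ≃* F p₀ × (∀ q : {q // q ≠ p₀}, F q.1) := E.symm.trans E₂
  have hcardK : Nat.card K = Nat.card (F p₀) * Nat.card (∀ q : {q // q ≠ p₀}, F q.1) :=
    (Nat.card_congr φ.toEquiv).trans (Nat.card_prod _ _)
  set v := (Nat.card K).factorization p with hv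
  have hA : Nat.card (F p₀) = p ^ v := by
    have hU : Unique (Sylow p K) := Sylow.unique_of_normal default (hn default)
    exact (Nat.card_congr (@Equiv.piUnique _ hU (fun P : Sylow p K => ↥P))).trans
      (Sylow.card_eq_multiplicity _)
  have hpC : ¬ p ∣ Nat.card (∀ q : {q // q ≠ p₀}, F q.1) := by
    intro h
    have h1 : p ^ (v + 1) ∣ Nat.card K := by
      rw [hcardK, hA, pow_succ]
      exact Nat.mul_dvd_mul_left _ h
    exact Nat.pow_succ_factorization_not_dvd Nat.card_pos.ne' hp h1
  refine ⟨F p₀, ∀ q : {q // q ≠ p₀}, F q.1, inferInstance, inferInstance, φ, ?_, ?_, ?_⟩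
  · rw [hA]
    exact Nat.Coprime.pow_left _ ((Nat.Prime.coprime_iff_not_dvd hp).mpr hpC)
  · rw [hA]
    have hv1 : 1 ≤ v := (hp.dvd_iff_one_le_factorization Nat.card_pos.ne').mp hpd
    calc 1 < p := hp.one_lt
      _ = p ^ 1 := (pow_one p).symm
      _ ≤ p ^ v := Nat.pow_le_pow_right hp.pos hv1
  · by_contra hcon
    have h1 : Nat.card (∀ q : {q // q ≠ p₀}, F q.1) = 1 := by
      have h2 : 0 < Nat.card (∀ q : {q // q ≠ p₀}, F q.1) := by
        apply Nat.pos_of_ne_zero
        intro h0
        rw [h0, mul_zero] at hcardK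
        exact Nat.card_pos.ne' hcardK
      omega
    apply hnp p hp
    apply IsPGroup.of_card (n := v)
    rw [hcardK, h1, mul_one, hA]

/-- The linear characters as a count. -/
theorem massBelow_two (K : Type*) [Group K] [Finite K] :
    massBelow K 2 = Nat.card {χ : IrrCharacter K // (χ : K → ℂ) 1 = 1} := by
  rw [massBelow, Nat.card_eq_fintype_card, Fintype.card_subtype, Finset.card_eq_sum_ones]
  have h1 : ∀ θ : IrrCharacter K, dg (θ : K → ℂ) < 2 ↔ (θ : K → ℂ) 1 = 1 := by
    intro θ
    have hp := dg_pos θ.2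
    have hc := dg_coe θ.2
    constructor
    · intro h
      have : dg (θ : K → ℂ) = 1 := by omega
      rw [← hc, this]
      simp
    · intro h
      have : dg (θ : K → ℂ) = 1 := by
        rw [h] at hc
        exact_mod_cast hc
      omega
  rw [Finset.filter_congr (fun θ _ => h1 θ)]
  refine Finset.sum_congr rfl fun θ hθ => ?_
  simp only [mem_filter, mem_univ, true_and] at hθ
  have hc := dg_coe θ.2
  have : dg (θ : K → ℂ) = 1 := by
    rw [hθ] at hc
    exact_mod_cast hc
  rw [this]

/-- More than one linear character. -/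
theorem one_lt_massBelow_two (K : Type*) [Group K] [Finite K] [Group.IsNilpotent K] [Nontrivial K] :
    1 < massBelow K 2 := by
  rw [massBelow_two, Cfsg.Agent.Lib.Char.LinearChars.card_linear_chars]
  have h1 : commutator K < ⊤ := Group.IsSolvable.commutator_lt_top_of_nontrivial K
  have h2 : (commutator K).index ≠ 1 := by
    intro h
    rw [Subgroup.index_eq_one] at h
    exact h1.ne h
  have h3 : (commutator K).index ≠ 0 := Subgroup.index_ne_zero_of_finite
  omega

theorem massBelow_two_dvd (K : Type*) [Group K] [Finite K] : massBelow K 2 ∣ Nat.card K := by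
  rw [massBelow_two, Cfsg.Agent.Lib.Char.LinearChars.card_linear_chars]
  exact Subgroup.index_dvd_card _

section Dpart

variable {G : Type u} [Group G] [Fintype G] {H B D : Subgroup G} [Fintype H] [Fintype D]

/-- Transport of irreducible characters along an isomorphism. -/
noncomputable def irrTrans {K L : Type*} [Group K] [Group L] [Finite K] [Finite L] (φ : K ≃* L) (θ : IrrCharacter K) :
    IrrCharacter L :=
  ⟨fun y => (θ : K → ℂ) (φ.symm y), Cfsg.Agent.Lib.Char.Basic.isIrrCharacter_comp_surjective θ.2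
    φ.symm.toMonoidHom φ.symm.surjective⟩

theorem dg_irrTrans {K L : Type*} [Group K] [Group L] [Finite K] [Finite L] (φ : K ≃* L) (θ : IrrCharacter K) :
    dg ((irrTrans φ θ : IrrCharacter L) : L → ℂ) = dg (θ : K → ℂ) := by
  simp [irrTrans, dg]

/-- The key count: the linear characters of a factor `A` of `H` form an orbit family. -/
theorem massBelow_factor {A C : Type u} [Group A] [Finite A] [Group C] [Finite C]
    (hz : ZChar H B D) (φ : H ≃* A × C) (hcop : Nat.Coprime (Nat.card A) (Nat.card C)) :
    ∃ m : ℕ, massBelow A 2 = 1 + Nat.card D * m := by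
  classical
  haveI := Fintype.ofFinite A
  set pr : H →* A := (MonoidHom.fst A C).comp φ.toMonoidHom with hpr
  have hprs : Function.Surjective pr := by
    intro a
    refine ⟨φ.symm (a, 1), ?_⟩
    simp [hpr]
  -- the family in `IT H`
  set P : IT H → Prop := fun θ => dg ((θ.1 : IrrCharacter H) : H → ℂ) = 1 ∧
    ∀ x : H, x ^ Nat.card C = 1 → ((θ.1 : IrrCharacter H) : H → ℂ) x = 1 with hP
  -- it is `D`-invariant
  have hinv1 : ∀ θ θ' : IT H, (rowSetoid hz).r θ θ' → P θ → P θ' := by
    rintro θ θ' ⟨d, hd, hh⟩ ⟨h1, h2⟩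
    refine ⟨by rw [rel_dg hz ⟨d, hd, hh⟩]; exact h1, ?_⟩
    intro x hx
    rw [hh, cj_eq_comp hz _ _ (hz.D_le hd)]
    apply h2
    rw [← map_pow, hx, map_one]
  have hinv : ∀ θ θ' : IT H, (rowSetoid hz).r θ θ' → (if P θ' then 1 else 0) = (if P θ then 1 else 0) := by
    intro θ θ' h
    have h1 : P θ ↔ P θ' := ⟨hinv1 θ θ' h, hinv1 θ' θ ((rowSetoid hz).symm h)⟩
    simp only [h1]
  have hsum := sum_IT hz (fun θ : IT H => if P θ then 1 else 0) hinv
  refine ⟨∑ i : RT hz, if P (rep hz i) then 1 else 0, ?_⟩
  rw [smul_eq_mul] at hsum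
  rw [← hsum]
  -- a bijection between nonprincipal linear characters of `A` and the family
  set T := (univ.filter fun α : IrrCharacter A => dg (α : A → ℂ) = 1).erase (one A) with hT
  have hdgone : dg ((one A : IrrCharacter A) : A → ℂ) = 1 := by
    have := toN_natCast 1
    simpa [dg, one] using this
  have hTc : massBelow A 2 = 1 + T.card := by
    have h1 : massBelow A 2 = (univ.filter fun α : IrrCharacter A => dg (α : A → ℂ) = 1).card := by
      rw [massBelow, Finset.card_eq_sum_ones]
      have h2 : (univ.filter fun α : IrrCharacter A => dg (α : A → ℂ) < 2) =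
          univ.filter fun α : IrrCharacter A => dg (α : A → ℂ) = 1 := by
        ext α
        have := dg_pos α.2
        simp only [mem_filter, mem_univ, true_and]
        omega
      rw [h2]
      refine Finset.sum_congr rfl fun α hα => ?_
      simp only [mem_filter, mem_univ, true_and] at hα
      rw [hα]
    rw [h1, hT, Finset.card_erase_of_mem (by simp [hdgone])]
    have h3 : 0 < (univ.filter fun α : IrrCharacter A => dg (α : A → ℂ) = 1).card :=
      Finset.card_pos.mpr ⟨one A, by simp [hdgone]⟩
    omega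
  rw [hTc]
  congr 1
  rw [← Finset.card_filter]
  -- the bijection
  have hone : ∀ α : IrrCharacter A, dg (α : A → ℂ) = 1 → (α : A → ℂ) 1 = 1 := by
    intro α hα
    have := dg_coe α.2
    rw [hα] at this
    simpa using this.symm
  refine Finset.card_bij (fun α hα => (⟨⟨fun x => (α : A → ℂ) (pr x),
    Cfsg.Agent.Lib.Char.Basic.isIrrCharacter_comp_surjective α.2 pr hprs⟩, ?_⟩ : IT H)) ?_ ?_ ?_
  · intro h
    have h1 : (fun x => (α : A → ℂ) (pr x)) = fun _ => 1 := congrArg Subtype.val h
    have hαT := hα
    rw [hT, Finset.mem_erase] at hαT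
    apply hαT.1
    apply Subtype.ext
    funext a
    obtain ⟨x, rfl⟩ := hprs a
    exact congrFun h1 x
  · intro α hα
    rw [hT, Finset.mem_erase] at hα
    have hα1 : dg (α : A → ℂ) = 1 := by
      simpa using hα.2
    simp only [mem_filter, mem_univ, true_and, hP]
    constructor
    · simp only [dg, map_one]
      exact hα1
    · intro x hx
      -- the `A`-part of `x` is trivial
      have h1 : (pr x) ^ Nat.card C = 1 := by
        rw [← map_pow, hx, map_one]
      have h2 : (pr x) ^ Nat.card A = 1 := pow_card_eq_one'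
      have h3 : pr x = 1 := by
        have h4 := (pow_gcd_eq_one (a := pr x) (m := Nat.card A) (n := Nat.card C)).mpr ⟨h2, h1⟩
        rw [hcop.gcd_eq_one, pow_one] at h4
        exact h4
      simp only [h3]
      exact hone α hα1
  · intro α hα α' hα' h
    have h1 : (fun x => (α : A → ℂ) (pr x)) = fun x => (α' : A → ℂ) (pr x) :=
      congrArg (fun t : IT H => ((t.1 : IrrCharacter H) : H → ℂ)) h
    apply Subtype.ext
    funext a
    obtain ⟨x, rfl⟩ := hprs a
    exact congrFun h1 x
  · intro θ hθ
    simp only [mem_filter, mem_univ, true_and, hP] at hθ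
    obtain ⟨hd1, htriv⟩ := hθ
    -- decompose `θ`
    obtain ⟨⟨α, β⟩, hαβ⟩ := irrProd_surj (irrTrans φ θ.1)
    have hdg : dg (α : A → ℂ) * dg (β : C → ℂ) = 1 := by
      rw [← dg_irrProd (α, β), hαβ, dg_irrTrans]
      exact hd1
    have hα1 : dg (α : A → ℂ) = 1 := Nat.eq_one_of_mul_eq_one_right hdg
    have hβ1 : dg (β : C → ℂ) = 1 := Nat.eq_one_of_mul_eq_one_left hdg
    have hval : ∀ x : H, ((θ.1 : IrrCharacter H) : H → ℂ) x = (α : A → ℂ) (φ x).1 * (β : C → ℂ) (φ x).2 := by
      intro x
      have h1 := congrFun (congrArg Subtype.val hαβ) (φ x)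
      simp only [irrProd, irrTrans, tens, MulEquiv.symm_apply_apply] at h1
      exact h1.symm
    have hβt : ∀ c : C, (β : C → ℂ) c = 1 := by
      intro c
      have h1 : (φ.symm (1, c)) ^ Nat.card C = 1 := by
        rw [← map_pow]
        simp [pow_card_eq_one']
      have h2 := htriv _ h1
      rw [hval] at h2
      simp only [MulEquiv.apply_symm_apply] at h2
      rw [hone α hα1, one_mul] at h2
      exact h2
    have hαne : α ≠ one A := by
      intro h
      apply θ.2
      apply Subtype.ext
      funext x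
      rw [hval, h, hβt]
      simp [one]
    refine ⟨α, ?_, ?_⟩
    · rw [hT, Finset.mem_erase]
      exact ⟨hαne, by simpa using hα1⟩
    · apply Subtype.ext
      apply Subtype.ext
      funext x
      rw [hval, hβt, mul_one]
      rfl

/-- The bounds for a factor. -/
theorem massBelow_factor_ge {A C : Type u} [Group A] [Finite A] [Group C] [Finite C]
    [Group.IsNilpotent A] [Nontrivial A]
    (hz : ZChar H B D) (φ : H ≃* A × C) (hcop : Nat.Coprime (Nat.card A) (Nat.card C))
    (hodd : Odd (Nat.card D)) :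
    Nat.card D + 1 ≤ massBelow A 2 ∧ (Odd (Nat.card A) → 2 * Nat.card D + 1 ≤ massBelow A 2) := by
  obtain ⟨m, hm⟩ := massBelow_factor hz φ hcop
  have h1 := one_lt_massBelow_two A
  have hmp : 1 ≤ m := by
    by_contra h
    have : m = 0 := by omega
    rw [this] at hm
    omega
  constructor
  · rw [hm]
    nlinarith
  · intro hA
    have h2 : Odd (massBelow A 2) := Odd.of_dvd_nat hA (massBelow_two_dvd A)
    have h3 : Even (Nat.card D * m) := by
      rw [hm] at h2
      by_contra h4
      rw [Nat.not_even_iff_odd] at h4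
      have := Odd.add_odd odd_one h4
      exact (Nat.not_even_iff_odd.mpr h2) this
    have h4 : Even m := by
      rcases Nat.even_mul.mp h3 with h5 | h5
      · exact absurd h5 (Nat.not_even_iff_odd.mpr hodd)
      · exact h5
    have h5 : 2 ≤ m := by
      obtain ⟨k, hk⟩ := h4
      omega
    rw [hm]
    nlinarith

end Dpart

section Main

variable {G : Type u} {Ω : Type v} [Group G] [MulAction G Ω] [Fintype G] [Fintype Ω]

/-- **Feit's theorem for non-`p`-group kernels.** -/
theorem feit_not_pgroup (hZ : IsZassenhausGroup G Ω) [IsSimpleGroup G] {a b : Ω} (hab : a ≠ b)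
    (hodd : Odd (Nat.card ↥(stabilizer G a ⊓ stabilizer G b : Subgroup G)))
    (hnp : ∀ p : ℕ, p.Prime → ¬ IsPGroup p (kernel hZ a)) :
    Fintype.card Ω - 2 ≤ 2 * Nat.card ↥(stabilizer G a ⊓ stabilizer G b : Subgroup G) := by
  set D := (stabilizer G a ⊓ stabilizer G b : Subgroup G) with hD
  set H := kernel hZ a with hH
  haveI hnil : Group.IsNilpotent H := kernel_nilpotent hZ a
  haveI : Fintype H := Fintype.ofFinite _
  haveI : Fintype D := Fintype.ofFinite _
  have hz : ZChar H (stabilizer G a) D := zchar hZ hab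
  obtain ⟨A, C, _, _, φ, hcop, hA1, hC1⟩ := exists_split H hnp
  haveI : Finite A := by
    have : Finite (A × C) := Finite.of_equiv H φ.toEquiv
    exact Finite.of_surjective (Prod.fst : A × C → A) Prod.fst_surjective
  haveI : Finite C := by
    have : Finite (A × C) := Finite.of_equiv H φ.toEquiv
    exact Finite.of_surjective (Prod.snd : A × C → C) Prod.snd_surjective
  haveI : Group.IsNilpotent A := Group.nilpotent_of_surjective
    ((MonoidHom.fst A C).comp φ.toMonoidHom) (by
      intro a'
      refine ⟨φ.symm (a', 1), ?_⟩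
      simp)
  haveI : Group.IsNilpotent C := Group.nilpotent_of_surjective
    ((MonoidHom.snd A C).comp φ.toMonoidHom) (by
      intro c'
      refine ⟨φ.symm (1, c'), ?_⟩
      simp)
  haveI : Nontrivial A := Finite.one_lt_card_iff_nontrivial.mp hA1
  haveI : Nontrivial C := Finite.one_lt_card_iff_nontrivial.mp hC1
  set e := Nat.card D with he
  have hA := massBelow_factor_ge hz φ hcop hodd
  have hC := massBelow_factor_ge hz (φ.trans (MulEquiv.prodComm (M := A) (N := C))) hcop.symm hodd
  have he1 : 1 ≤ e := Nat.card_pos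
  -- one of the factors has odd order
  have hprod : (e + 1) * (2 * e + 1) ≤ massBelow A 2 * massBelow C 2 := by
    have hoddc : Odd (Nat.card A) ∨ Odd (Nat.card C) := by
      by_contra hcon
      push Not at hcon
      rw [Nat.not_odd_iff_even, Nat.not_odd_iff_even] at hcon
      have h1 : 2 ∣ Nat.gcd (Nat.card A) (Nat.card C) :=
        Nat.dvd_gcd hcon.1.two_dvd hcon.2.two_dvd
      rw [hcop.gcd_eq_one] at h1
      omega
    rcases hoddc with h | h
    · calc (e + 1) * (2 * e + 1) = (2 * e + 1) * (e + 1) := by ring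
        _ ≤ massBelow A 2 * massBelow C 2 := Nat.mul_le_mul (hA.2 h) hC.1
    · exact Nat.mul_le_mul hA.1 (hC.2 h)
  refine feit_zass hZ hab hodd ?_ ?_
  · -- linear characters
    have h1 : massBelow H 2 = (univ.filter fun θ : IrrCharacter H => dg (θ : H → ℂ) = 1).card := by
      rw [massBelow, Finset.card_eq_sum_ones]
      have h2 : (univ.filter fun α : IrrCharacter H => dg (α : H → ℂ) < 2) =
          univ.filter fun α : IrrCharacter H => dg (α : H → ℂ) = 1 := by
        ext α
        have := dg_pos α.2
        simp only [mem_filter, mem_univ, true_and]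
        omega
      rw [h2]
      refine Finset.sum_congr rfl fun α hα => ?_
      simp only [mem_filter, mem_univ, true_and] at hα
      rw [hα]
    rw [← h1]
    have h3 := mul_massBelow_le (A := A) (C := C) 2 2 2 (fun a b ha hb => by
      have h4 : a ≤ 1 := by omega
      have h5 : b ≤ 1 := by omega
      calc a * b ≤ 1 * 1 := Nat.mul_le_mul h4 h5
        _ < 2 := by norm_num)
    have h4 : massBelow (A × C) 2 ≤ massBelow H 2 := massBelow_le_of_surjective φ.toMonoidHom φ.surjective 2
    have h5 : (e + 1) * (e + 1) ≤ massBelow A 2 * massBelow C 2 := Nat.mul_le_mul hA.1 hC.1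
    nlinarith
  · intro θ hθ
    have h1 := mass_prod e he1 hA.1 hC.1 hprod (irrTrans φ θ) (by rw [dg_irrTrans]; exact hθ)
    rw [dg_irrTrans] at h1
    have h2 : massBelow (A × C) (dg (θ : H → ℂ)) ≤ massBelow H (dg (θ : H → ℂ)) :=
      massBelow_le_of_surjective φ.toMonoidHom φ.surjective _
    exact lt_of_lt_of_le h1 h2

end Main

end Cfsg.Agent.Lib.Zass.Rows8
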