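import Mathlib
import Cfsg.Agent.Lib.Zass.Ito2
import Cfsg.Agent.Lib.Zass.Mod3
import Cfsg.Agent.Lib.Zass.Rows8
import Cfsg.Agent.Lib.Char.GlaubOver

/-!
# Feit's inequality for simple Zassenhaus groups
-/

set_option autoImplicit false
set_option linter.unusedSectionVars false
set_option linter.style.haveILetI false

namespace Cfsg.Agent.Lib.Zass.Ito3

open MulAction Cfsg Cfsg.Agent.Lib.Char.Induced Cfsg.Agent.Lib.Zass.Rows1 Cfsg.Agent.Lib.Zass.Rows2
  Cfsg.Agent.Lib.Zass.Rows3 Cfsg.Agent.Lib.Zass.Rows4 Cfsg.Agent.Lib.Zass.Rows5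
  Cfsg.Agent.Lib.Zass.Rows6 Cfsg.Agent.Lib.Zass.Rows7 Cfsg.Agent.Lib.Zass.Rows8
  Cfsg.Agent.Lib.Zass.Basic Cfsg.Agent.Lib.CharFS.Indicator Cfsg.Agent.Lib.Zass.Ito2
open Cfsg.Agent.Lib.Char.Ortho (classInner_irr fintype_irr)
open scoped ComplexConjugate
open Finset
open scoped Classical

universe u v

section Sq

variable {G : Type u} [Group G] [Fintype G] {H B D : Subgroup G} [Fintype H] [Fintype D]

/-- A non-identity element of `H` has a unique square root. -/
theorem sqrtCount_eq_one (hz : ZChar H B D) (hoddH : Odd (Nat.card H)) (hoddD : Odd (Nat.card D)) {u : G}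
    (hu : u ∈ H) (hu1 : u ≠ 1) : sqrtCount G u = 1 := by
  have hc : (Nat.card H).Coprime 2 := Nat.coprime_two_right.mpr hoddH
  have hroot : ∀ y : G, y ^ 2 = u → y ∈ H := by
    intro y hy
    have hyB : y ∈ B := by
      apply hz.mem_of_conj u hu hu1 y
      have : y⁻¹ * u * y = u := by
        rw [← hy]
        group
      rw [this]
      exact hu
    obtain ⟨w, hw, d, hd, rfl⟩ := hz.decomp y hyB
    have hdB := hz.D_le hd
    have h1 : w * (d * w * d⁻¹) ∈ H := H.mul_mem hw (hz.conj_mem d hdB w hw)
    have h2 : d * d = (w * (d * w * d⁻¹))⁻¹ * u := by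
      rw [← hy, sq]
      group
    have h3 : d * d ∈ H := by
      rw [h2]
      exact H.mul_mem (H.inv_mem h1) hu
    have h4 := hz.inter _ h3 (D.mul_mem hd hd)
    have h5 : (⟨d, hd⟩ : D) = 1 := eq_one_of_sq_of_odd hoddD (Subtype.ext h4)
    have h6 : d = 1 := congrArg Subtype.val h5
    rw [h6, mul_one]
    exact hw
  unfold sqrtCount
  have : (univ.filter fun x : G => x ^ 2 = u) = {(((powCoprime hc).symm ⟨u, hu⟩ : H) : G)} := by
    ext x
    simp only [mem_filter, mem_univ, true_and, mem_singleton]
    constructor
    · intro hx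
      have hxH := hroot x hx
      have h1 : powCoprime hc (⟨x, hxH⟩ : H) = ⟨u, hu⟩ := by
        apply Subtype.ext
        exact hx
      rw [← h1, Equiv.symm_apply_apply]
    · rintro rfl
      have h1 := (powCoprime hc).apply_symm_apply ⟨u, hu⟩
      exact congrArg Subtype.val h1
  rw [this]
  simp

/-- The value at the identity. -/
theorem sqrtCount_one_eq {n : ℕ} (hn : Nat.card {z : G // z * z = 1 ∧ z ≠ 1} = n) :
    sqrtCount G 1 = 1 + (n : ℂ) := by
  unfold sqrtCount
  have h1 : (univ.filter fun x : G => x ^ 2 = 1) =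
      insert 1 (univ.filter fun z : G => z * z = 1 ∧ z ≠ 1) := by
    ext x
    simp only [mem_filter, mem_univ, true_and, mem_insert]
    rw [sq]
    constructor
    · intro h
      by_cases hx : x = 1
      · exact Or.inl hx
      · exact Or.inr ⟨h, hx⟩
    · rintro (rfl | h)
      · simp
      · exact h.1
  rw [h1, Finset.card_insert_of_notMem (by simp)]
  rw [Nat.card_eq_fintype_card, Fintype.card_subtype] at hn
  rw [hn]
  push_cast
  ring

end Sq

section Linear

/-- Counting the linear characters. -/
theorem card_dg_one (K : Type*) [Group K] [Finite K] :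
    (univ.filter fun θ : IrrCharacter K => dg (θ : K → ℂ) = 1).card = (commutator K).index := by
  rw [← Cfsg.Agent.Lib.Char.LinearChars.card_linear_chars, Nat.card_eq_fintype_card,
    Fintype.card_subtype]
  congr 1
  ext θ
  simp only [mem_filter, mem_univ, true_and]
  have hc := dg_coe θ.2
  constructor
  · intro h
    rw [← hc, h]
    simp
  · intro h
    rw [h] at hc
    exact_mod_cast hc

end Linear

variable {G : Type u} {Ω : Type v} [Group G] [MulAction G Ω]

section Main

variable [Fintype G] [Fintype Ω]

/-- **Ito's theorem** : the kernel cannot be a `p`-group with `p` odd when `h - 1 > 2 e`. -/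
theorem ito (hZ : IsZassenhausGroup G Ω) [IsSimpleGroup G] {a b : Ω} (hab : a ≠ b)
    (hodd : Odd (Nat.card ↥(stabilizer G a ⊓ stabilizer G b : Subgroup G)))
    {p : ℕ} [Fact p.Prime] (hp2 : p ≠ 2) (hp : IsPGroup p (kernel hZ a)) :
    Fintype.card Ω - 2 ≤ 2 * Nat.card ↥(stabilizer G a ⊓ stabilizer G b : Subgroup G) := by
  by_contra hcon
  push Not at hcon
  set D := (stabilizer G a ⊓ stabilizer G b : Subgroup G) with hD
  set H := kernel hZ a with hH
  haveI : Fintype H := Fintype.ofFinite _
  haveI : Fintype D := Fintype.ofFinite _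
  have hz : ZChar H (stabilizer G a) D := zchar hZ hab
  obtain ⟨χ₁, hne, hπ⟩ := exists_chi1 hZ hab
  have hlt' : Nat.card D < Fintype.card Ω - 2 := by omega
  have hY : YData H χ₁ := yData hZ hab hodd hlt' hπ
  have hcardH : Nat.card H + 1 = Fintype.card Ω := by
    rw [hH, card_kernel_add_one, Nat.card_eq_fintype_card]
  have hHm : 1 < Nat.card H := by omega
  have he : 1 < Nat.card D := by
    have h1 : 1 ≤ Nat.card D := Nat.card_pos
    rcases hodd with ⟨k, hk⟩
    by_contra h2
    have h3 : Nat.card D = 1 := by omega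
    have h4 := two_point_ne_bot hZ hab
    apply h4
    exact Subgroup.eq_bot_of_card_eq D h3
  have hoddH : Odd (Nat.card H) := by
    obtain ⟨k, hk⟩ := IsPGroup.iff_card.mp hp
    rw [hk]
    have hpo : Odd p := (Fact.out : p.Prime).odd_of_ne_two hp2
    exact hpo.pow
  have hO := Cfsg.Agent.Lib.Zass.OddSimple.odd_all hZ hab hodd
  have hinv := (Cfsg.Agent.Lib.Zass.OddSimple.card_invol hZ hO hab).2 (Nat.not_even_iff_odd.mpr hoddH)
  have hsq1 : sqrtCount G 1 = 1 + (Nat.card D : ℂ) * Nat.card H := by
    rw [sqrtCount_one_eq hinv]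
    push_cast
    rfl
  have hsq : ∀ u ∈ H, u ≠ 1 → sqrtCount G u = 1 := fun u hu hu1 =>
    sqrtCount_eq_one hz hoddH hodd hu hu1
  have hcount := Cfsg.Agent.Lib.Zass.Mod3.card_avoid_le hZ hab hodd hp
  have hlin : ∃ θ : IT H, dg ((θ.1 : IrrCharacter H) : H → ℂ) = 1 := by
    haveI : Group.IsNilpotent H := kernel_nilpotent hZ a
    haveI : Nontrivial H := (Subgroup.nontrivial_iff_ne_bot _).mpr (kernel_ne_bot hZ a)
    have h1 := one_lt_massBelow_two H
    by_contra hcon2
    push Not at hcon2
    have h2 : massBelow H 2 = 1 := by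
      rw [massBelow, Finset.sum_eq_single (one H)]
      · rw [dg_one_H]
      · intro θ hθ hθ1
        simp only [mem_filter, mem_univ, true_and] at hθ
        have h3 := hcon2 ⟨θ, hθ1⟩
        have h4 := dg_pos θ.2
        exfalso
        apply h3
        show dg (θ : H → ℂ) = 1
        omega
      · intro h
        exfalso
        apply h
        simp only [mem_filter, mem_univ, true_and]
        rw [dg_one_H]
        norm_num
    omega
  have hb := ito_bound hz hHm hY he hoddH hodd hsq1 hsq hcount hlin
  omega

/-- **Feit's inequality** for simple Zassenhaus groups. -/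
theorem feit_simple (hZ : IsZassenhausGroup G Ω) [IsSimpleGroup G] {a b : Ω} (hab : a ≠ b)
    (hodd : Odd (Nat.card ↥(stabilizer G a ⊓ stabilizer G b : Subgroup G))) :
    Fintype.card Ω - 2 ≤ 2 * Nat.card ↥(stabilizer G a ⊓ stabilizer G b : Subgroup G) ∨
      (IsPGroup 2 (kernel hZ a) ∧ (∃ u v : kernel hZ a, u * v ≠ v * u) ∧
        (commutator (kernel hZ a)).index ≤
          4 * Nat.card ↥(stabilizer G a ⊓ stabilizer G b : Subgroup G) ^ 2 + 1) := by
  by_contra hcon
  push Not at hcon
  obtain ⟨hd, hcon⟩ := hcon
  set e := Nat.card ↥(stabilizer G a ⊓ stabilizer G b : Subgroup G) with he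
  by_cases hpg : ∃ p : ℕ, p.Prime ∧ IsPGroup p (kernel hZ a)
  · obtain ⟨p, hpp, hp⟩ := hpg
    haveI : Fact p.Prime := ⟨hpp⟩
    by_cases hp2 : p = 2
    · subst hp2
      by_cases hnab : ∃ u v : kernel hZ a, u * v ≠ v * u
      · have hidx := hcon hp hnab
        -- the coherence argument
        have hle : Fintype.card Ω - 2 ≤ 2 * e := by
          refine feit_zass hZ hab hodd ?_ ?_
          · rw [card_dg_one]
            nlinarith [Nat.card_pos (α := ↥(stabilizer G a ⊓ stabilizer G b : Subgroup G))]
          · intro θ hθ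
            set f := dg (θ : kernel hZ a → ℂ) with hf
            have hsum : ∑ θ' ∈ univ.filter (fun θ' : IrrCharacter (kernel hZ a) => dg (θ' : kernel hZ a → ℂ) < f),
                dg (θ' : kernel hZ a → ℂ) * dg (θ' : kernel hZ a → ℂ) = massBelow (kernel hZ a) f := rfl
            rw [hsum]
            -- `f` divides a power of two
            obtain ⟨d, hd1, hd0, hdd⟩ := Cfsg.Agent.Lib.Char.GlaubOver.exists_degree_dvd θ.2
            have hfd : f = d := by
              have h1 := dg_coe θ.2
              rw [hd1] at h1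
              exact_mod_cast h1
            rw [← hfd] at hdd
            obtain ⟨k, hk⟩ := IsPGroup.iff_card.mp hp
            rw [hk] at hdd
            have he1 : 1 < e := by
              have h1 : 1 ≤ e := Nat.card_pos
              rcases hodd with ⟨k, hk⟩
              by_contra h2
              have h3 : e = 1 := by omega
              have h4 := two_point_ne_bot hZ hab
              apply h4
              exact Subgroup.eq_bot_of_card_eq _ h3
            have hmass : (commutator (kernel hZ a)).index ≤ massBelow (kernel hZ a) f := by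
              rw [← Cfsg.Agent.Lib.Char.LinearChars.card_linear_chars, ← massBelow_two]
              exact massBelow_mono _ hθ
            rcases lt_trichotomy f (2 * e) with hlt | heq | hgt
            · have h1 : e * (2 * f + 2) ≤ e * (4 * e) := Nat.mul_le_mul_left e (by omega)
              nlinarith
            · exfalso
              have h1 : e ∣ 2 ^ k := Dvd.dvd.trans (Dvd.intro_left 2 rfl) (heq ▸ hdd)
              have h2 : Nat.Coprime e (2 ^ k) := (Nat.coprime_two_right.mpr hodd).pow_right k
              have h3 := Nat.Coprime.eq_one_of_dvd h2 h1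
              omega
            · have hnil : Group.IsNilpotent (kernel hZ a) := kernel_nilpotent hZ a
              have h1 := sq_le_massBelow _ (kernel hZ a) rfl θ hθ
              have h2 : 2 * e + 1 ≤ f := hgt
              have h3 : (2 * e + 1) * f ≤ f * f := Nat.mul_le_mul_right f h2
              nlinarith
        omega
      · push Not at hnab
        have hle := feit_abelian hZ hab hodd (fun x hx y hy => by
          have := hnab ⟨x, hx⟩ ⟨y, hy⟩
          exact congrArg Subtype.val this)
        omega
    · have := ito hZ hab hodd hp2 hp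
      omega
  · push Not at hpg
    have := feit_not_pgroup hZ hab hodd hpg
    omega

end Main

end Cfsg.Agent.Lib.Zass.Ito3
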